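import Cfsg.Agent.Lib.Golay.Co0Basic

/-! Order of the automorphism group of the lattice. -/

set_option autoImplicit false
set_option maxRecDepth 100000

namespace CfsgLib.Golay

open Cfsg
open scoped Pointwise

/-- The base point. -/
def pinf : GolayPt := pt 23

theorem ncard_code_avoid :
    {c : Finset GolayPt | c ∈ supports (golayCode : Set (GolayPt → ZMod 2)) ∧ pinf ∉ c}.ncard = 2048 := by
  have h : (codeList.filter fun m => !m.testBit 23).length = 2048 := by decide +kernel
  rw [← h]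
  refine ncard_mset_list (fun m hm => isCode_lt (mem_codeList.1 (List.mem_filter.1 hm).1))
    (codeList_nodup.filter _) fun s => ?_
  simp only [Set.mem_setOf_eq, List.mem_filter, mem_codeList, mem_supports_iff]
  constructor
  · rintro ⟨⟨m, hm, rfl⟩, hp⟩
    refine ⟨m, ⟨hm, ?_⟩, rfl⟩
    rw [pinf, mem_mset, idx_pt (by norm_num)] at hp
    simpa using hp
  · rintro ⟨m, ⟨hm, hb⟩, rfl⟩
    refine ⟨⟨m, hm, rfl⟩, ?_⟩
    rw [pinf, mem_mset, idx_pt (by norm_num)]
    simpa using hb

theorem card_stab_vec8 : Nat.card (MulAction.stabilizer Co0 (vec8 pinf)) = 10200960 * 2048 := by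
  classical
  let P := MulAction.stabilizer M24 pinf
  let C := {c : Finset GolayPt // c ∈ supports (golayCode : Set (GolayPt → ZMod 2)) ∧ pinf ∉ c}
  have hfix : ∀ (σ : P) (c : C), monoCo0 σ.1.1 σ.1.2 c.1 c.2.1 • vec8 pinf = vec8 pinf := by
    rintro ⟨σ, hσ⟩ ⟨c, hc, hp⟩
    refine Subtype.ext ?_
    rw [monoCo0_smul]
    funext i
    have hs : (σ : Equiv.Perm GolayPt).symm i = pinf ↔ i = pinf := by
      rw [Equiv.symm_apply_eq, show (σ : Equiv.Perm GolayPt) pinf = pinf from hσ]
    simp only [signedPerm, vec8, Pi.single_apply, hs]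
    by_cases hi : i = pinf
    · subst hi; simp [hp]
    · simp [hi]
  let Φ : P × C → MulAction.stabilizer Co0 (vec8 pinf) := fun x => ⟨_, hfix x.1 x.2⟩
  have hΦ : Function.Bijective Φ := by
    constructor
    · rintro ⟨σ, c⟩ ⟨τ, d⟩ h
      obtain ⟨h1, h2⟩ := monoCo0_inj (hσ := σ.1.2) (hτ := τ.1.2) (hc := c.2.1) (hd := d.2.1)
        (congrArg Subtype.val h)
      exact Prod.ext (Subtype.ext (Subtype.ext h1)) (Subtype.ext h2)
    · rintro ⟨g, hg⟩
      obtain ⟨σ, hσ, c, hc, rfl⟩ := co0_monomial g fun v hv => co0_fix_std g hg v hv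
      have e := congrArg (fun v : leechLattice => (v : GolayPt → ℤ)) hg
      simp only [monoCo0_smul] at e
      have e1 := congrFun e pinf
      simp only [signedPerm, vec8, Pi.single_apply, if_true] at e1
      have hp : pinf ∉ c ∧ σ pinf = pinf := by
        by_cases hs : σ.symm pinf = pinf
        · refine ⟨fun hc' => ?_, by rw [Equiv.symm_apply_eq] at hs; exact hs.symm⟩
          simp [hs, hc'] at e1
        · simp [hs] at e1
      exact ⟨(⟨⟨σ, hσ⟩, hp.2⟩, ⟨c, hc, hp.1⟩), rfl⟩
  have hC : Nat.card C = 2048 := by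
    rw [← ncard_code_avoid, ← Nat.card_coe_set_eq]; rfl
  obtain ⟨χ⟩ := stab1_equiv pinf
  rw [← Nat.card_eq_of_bijective Φ hΦ, Nat.card_prod, hC, Nat.card_congr χ.toEquiv, card_fix23]

theorem orbit_vec8 : MulAction.orbit Co0 (vec8 pinf) = {v : leechLattice | leechR.q v = 8} := by
  ext v
  constructor
  · rintro ⟨g, rfl⟩
    show leechR.q (g • vec8 pinf) = 8
    rw [co0_q, vec8_q]
  · intro hv; exact co0_trans8 (vec8_q pinf) hv

theorem card_Co0 : Nat.card Co0 = 8315553613086720000 := by
  rw [← (MulAction.stabilizer Co0 (vec8 pinf)).card_mul_index, MulAction.index_stabilizer,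
    orbit_vec8, card_stab_vec8, leech_counts.c8]

instance co0_finite : Finite Co0 := Nat.finite_of_card_ne_zero (by rw [card_Co0]; norm_num)

end CfsgLib.Golay
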