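import Cfsg.Agent.Lib.Golay.Mathieu
import Cfsg.Agent.Lib.Golay.ChainOct

/-! Transitivity of `M24` on octads, dodecads and tuples; sharp transitivity of `M12`;
transport of stabilisers by conjugation. -/

set_option autoImplicit false
set_option maxRecDepth 100000

namespace CfsgLib.Golay

open Cfsg
open scoped Pointwise

theorem conj_smul_iff {G β : Type*} [Group G] [MulAction G β] (g x : G) (b : β) :
    (g * x * g⁻¹) • g • b = g • b ↔ x • b = b := by
  rw [mul_smul, inv_smul_smul, mul_smul, smul_left_cancel_iff]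

theorem trans_of_base {G β : Type*} [Group G] [MulAction G β] {b x y : β} {g k : G}
    (hg : g • b = x) (hk : k • b = y) : ∃ h : G, h • x = y :=
  ⟨k * g⁻¹, by rw [mul_smul, ← hg, inv_smul_smul, hk]⟩

/-- A subgroup of `M24` conjugate to a given subgroup of the symmetric group is isomorphic to it. -/
theorem conj_equiv (g : M24) {H : Subgroup M24} {K : Subgroup (Equiv.Perm GolayPt)} (hK : K ≤ M24)
    (h : ∀ x : M24, x ∈ H ↔ ((g * x * g⁻¹ : M24) : Equiv.Perm GolayPt) ∈ K) :
    Nonempty (H ≃* K) := by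
  refine ⟨(MulEquiv.subgroupMap (MulAut.conj g) H).trans
    ((MulEquiv.subgroupCongr ?_).trans (Subgroup.subgroupOfEquivOfLe hK))⟩
  ext y
  rw [Subgroup.mem_map, Subgroup.mem_subgroupOf]
  constructor
  · rintro ⟨x, hx, rfl⟩; exact (h x).1 hx
  · intro hy
    have e : g * (g⁻¹ * y * g) * g⁻¹ = y := by group
    exact ⟨g⁻¹ * y * g, (h _).2 (by rwa [e]), e⟩

/-- Membership in a one-mask stabiliser. -/
theorem mem_fixMasks_one {m : ℕ} {x : M24} :
    (x : Equiv.Perm GolayPt) ∈ fixMasks [m] ↔ x • mset m = mset m := by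
  simp only [mem_fixMasks, List.forall_mem_singleton, SetLike.coe_mem, true_and]; rfl

/-- The stabiliser of one mask, as a point stabiliser of `M24`. -/
def stabMaskEquiv (m : ℕ) : MulAction.stabilizer M24 (mset m) ≃ fixMasks [m] where
  toFun s := ⟨s.1.1, mem_fixMasks_one.2 (MulAction.mem_stabilizer_iff.1 s.2)⟩
  invFun s := ⟨⟨s.1, s.2.1⟩, MulAction.mem_stabilizer_iff.2 (mem_fixMasks_one.1 s.2)⟩
  left_inv _ := rfl
  right_inv _ := rfl

theorem M24_trans_octads {o o' : Finset GolayPt} (ho : o ∈ octads) (ho' : o' ∈ octads) :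
    ∃ g : M24, g • o = o' := by
  have hx : mset octMask ∈ octads :=
    mem_octads_iff.2 ⟨octMask, mem_octList.2 (by decide +kernel), rfl⟩
  have key := exists_smul_eq_of_card (G := M24) (S := octads) (Set.toFinite _) (x := mset octMask)
    (fun g => M24_smul_octad g.2 hx)
    (by rw [card_M24, octads_ncard, Nat.card_congr (stabMaskEquiv octMask), card_fixOct])
  obtain ⟨g, hg⟩ := key o ho
  obtain ⟨k, hk⟩ := key o' ho'
  exact trans_of_base hg hk

theorem M24_trans_dodecads {d d' : Finset GolayPt} (hd : d ∈ dodecads) (hd' : d' ∈ dodecads) :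
    ∃ g : M24, g • d = d' := by
  have key := exists_smul_eq_of_card (G := M24) (S := dodecads) (Set.toFinite _) (x := mset sqMask)
    (fun g => M24_smul_dodecad g.2 sqMask_mem)
    (by rw [card_M24, dodecads_ncard, Nat.card_congr (stabMaskEquiv sqMask),
      show [sqMask] = X12 from rfl, card_fix12])
  obtain ⟨g, hg⟩ := key d hd
  obtain ⟨k, hk⟩ := key d' hd'
  exact trans_of_base hg hk

/-- Number of `k`-tuples of distinct elements of a finite set. -/
theorem ncard_embeddings {α : Type*} [DecidableEq α] (S : Finset α) (k : ℕ) :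
    {x : Fin k ↪ α | ∀ i, x i ∈ S}.ncard = S.card.descFactorial k := by
  rw [← Nat.card_coe_set_eq]
  refine (Nat.card_congr
    { toFun := fun x => ⟨fun i => (⟨x.1 i, x.2 i⟩ : S), fun i j h => x.1.injective
        (congrArg Subtype.val h)⟩
      invFun := fun y => ⟨⟨fun i => (y i).1, fun i j h => y.injective (Subtype.ext h)⟩,
        fun i => (y i).2⟩
      left_inv := fun x => rfl
      right_inv := fun y => rfl } : _ = Nat.card (Fin k ↪ S)).trans ?_
  rw [Nat.card_eq_fintype_card, Fintype.card_embedding_eq, Fintype.card_fin, Fintype.card_coe]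

/-- Tuple of the listed point numbers. -/
theorem M24_five_trans (x y : Fin 5 ↪ GolayPt) : ∃ g : M24, g • x = y := by
  let base : Fin 5 → GolayPt := fun i => pt ([23, 0, 1, 2, 3].getD i.val 0)
  have hinj : Function.Injective base := by decide +kernel
  have key := exists_smul_eq_of_card (G := M24) (S := (Set.univ : Set (Fin 5 ↪ GolayPt)))
    Set.finite_univ (x := ⟨base, hinj⟩) (fun _ => Set.mem_univ _) (by
      rw [card_M24, Set.ncard_univ, Nat.card_eq_fintype_card, Fintype.card_embedding_eq]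
      have hc : chainOK [8, 4, 2, 1, 8388608] (chainM24Levels.drop 5) chainM24Fin = true := by
        decide +kernel
      have e : Nat.card (MulAction.stabilizer M24 (⟨base, hinj⟩ : Fin 5 ↪ GolayPt)) = 48 := by
        refine (Nat.card_congr (β := fixMasks [8, 4, 2, 1, 8388608]) ?_).trans
          (by rw [card_fixMasks hc]; decide +kernel)
        have hiff : ∀ σ : Equiv.Perm GolayPt, σ ∈ fixMasks [8, 4, 2, 1, 8388608] ↔
            σ ∈ M24 ∧ ∀ i, σ (base i) = base i := fun σ => by
          rw [show ([8, 4, 2, 1, 8388608] : List ℕ) = [Nat.shiftLeft 1 3, Nat.shiftLeft 1 2,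
            Nat.shiftLeft 1 1, Nat.shiftLeft 1 0, Nat.shiftLeft 1 23] from rfl]
          simp only [mem_fixMasks_bit (show (3 : ℕ) < 24 by norm_num),
            mem_fixMasks_bit (show (2 : ℕ) < 24 by norm_num),
            mem_fixMasks_bit (show (1 : ℕ) < 24 by norm_num),
            mem_fixMasks_bit (show (0 : ℕ) < 24 by norm_num),
            mem_fixMasks_bit (show (23 : ℕ) < 24 by norm_num), fixMasks_nil]
          constructor
          · rintro ⟨⟨⟨⟨⟨h, a⟩, b⟩, c⟩, d⟩, e⟩
            refine ⟨h, fun i => ?_⟩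
            fin_cases i
            exacts [a, b, c, d, e]
          · rintro ⟨h, hf⟩
            exact ⟨⟨⟨⟨⟨h, hf 0⟩, hf 1⟩, hf 2⟩, hf 3⟩, hf 4⟩
        exact
          { toFun := fun s => ⟨s.1.1, (hiff _).2 ⟨s.1.2, fun i =>
              DFunLike.congr_fun (MulAction.mem_stabilizer_iff.1 s.2) i⟩⟩
            invFun := fun s => ⟨⟨s.1, ((hiff _).1 s.2).1⟩,
              MulAction.mem_stabilizer_iff.2 (DFunLike.ext _ _ ((hiff _).1 s.2).2)⟩
            left_inv := fun _ => rfl
            right_inv := fun _ => rfl }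
      rw [e]; decide +kernel)
  obtain ⟨g, hg⟩ := key x (Set.mem_univ _)
  obtain ⟨k, hk⟩ := key y (Set.mem_univ _)
  exact trans_of_base hg hk

theorem M24_isMultiplyPretransitive : MulAction.IsMultiplyPretransitive M24 GolayPt 5 :=
  ⟨M24_five_trans⟩

/-- Two points are carried to two given points. -/
theorem M24_two {p q p' q' : GolayPt} (h : p ≠ q) (h' : p' ≠ q') :
    ∃ g : M24, g • p = p' ∧ g • q = q' := by
  obtain ⟨g, hg⟩ := twoTrans_fix24.trans p (Finset.mem_univ _) q (Finset.mem_univ _) p'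
    (Finset.mem_univ _) q' (Finset.mem_univ _) h h'
  exact ⟨⟨g.1, fixMasks_le _ g.2⟩, hg⟩

/-- Any point is carried to any other. -/
theorem M24_one (p q : GolayPt) : ∃ g : M24, g • p = q := by
  obtain ⟨a, ha⟩ := exists_ne p
  obtain ⟨b, hb⟩ := exists_ne q
  obtain ⟨g, hg, -⟩ := M24_two (Ne.symm ha) (Ne.symm hb)
  exact ⟨g, hg⟩

/-- Sharp 5-transitivity of the stabiliser of a dodecad on its points. -/
theorem dodecad_sharp {d : Finset GolayPt} (hd : d ∈ dodecads) (x y : Fin 5 ↪ GolayPt)
    (hx : ∀ i, x i ∈ d) (hy : ∀ i, y i ∈ d) :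
    ∃! g : MulAction.stabilizer M24 d, ∀ i, ((g : M24) : Equiv.Perm GolayPt) (x i) = y i := by
  obtain ⟨c, hc⟩ := M24_trans_dodecads sqMask_mem hd
  -- reduce to the standard dodecad
  have std : ∀ x y : Fin 5 ↪ GolayPt, (∀ i, x i ∈ mset sqMask) → (∀ i, y i ∈ mset sqMask) →
      ∃ g : fixMasks X12, g • x = y := by
    let base : Fin 5 → GolayPt := fun i => pt i.val
    have hinj : Function.Injective base := by decide +kernel
    have hb : ∀ i, base i ∈ mset sqMask := by decide +kernel
    have key := exists_smul_eq_of_card (G := fixMasks X12)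
      (S := {x : Fin 5 ↪ GolayPt | ∀ i, x i ∈ mset sqMask}) (Set.toFinite _) (x := ⟨base, hinj⟩)
      (fun g i => fix12_maps g (hb i)) (by
        rw [card_fix12, ncard_embeddings, card_mset]
        have e : MulAction.stabilizer (fixMasks X12) (⟨base, hinj⟩ : Fin 5 ↪ GolayPt) = ⊥ := by
          rw [Subgroup.eq_bot_iff_forall]
          intro σ hσ
          exact Subtype.ext (faith_fix12 σ.2 fun i hi =>
            DFunLike.congr_fun (MulAction.mem_stabilizer_iff.1 hσ) ⟨i, hi⟩)
        rw [e, Subgroup.card_bot]; decide +kernel)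
    intro x y hx hy
    obtain ⟨g, hg⟩ := key x hx
    obtain ⟨k, hk⟩ := key y hy
    exact trans_of_base hg hk
  have hback : ∀ z : Fin 5 ↪ GolayPt, (∀ i, z i ∈ d) → ∀ i, c⁻¹ • z i ∈ mset sqMask := by
    intro z hz i
    have := hz i
    rw [← hc, ← Finset.inv_smul_mem_iff] at this
    exact this
  obtain ⟨g, hg⟩ := std (c⁻¹ • x) (c⁻¹ • y) (hback x hx) (hback y hy)
  have hgfix : (⟨g.1, g.2.1⟩ : M24) • mset sqMask = mset sqMask :=
    mem_fixMasks_one.1 (show ((⟨g.1, g.2.1⟩ : M24) : Equiv.Perm GolayPt) ∈ fixMasks [sqMask] from g.2)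
  refine ⟨⟨c * ⟨g.1, g.2.1⟩ * c⁻¹, ?_⟩, fun i => ?_, ?_⟩
  · rw [MulAction.mem_stabilizer_iff, ← hc, conj_smul_iff, hgfix]
  · have := DFunLike.congr_fun hg i
    show (c * (⟨g.1, g.2.1⟩ : M24) * c⁻¹) • x i = y i
    rw [mul_smul, mul_smul, smul_eq_iff_eq_inv_smul]
    exact this
  · rintro ⟨k, hk⟩ hkx
    rw [MulAction.mem_stabilizer_iff] at hk
    apply Subtype.ext
    show k = c * (⟨g.1, g.2.1⟩ : M24) * c⁻¹
    obtain ⟨u, hu⟩ := std ⟨fun i => pt i.val, by decide +kernel⟩ (c⁻¹ • x)
      (by decide +kernel) (hback x hx)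
    have hu' : ∀ i : Fin 5, u.1 (pt i.val) = (c⁻¹ : M24) • x i := fun i => DFunLike.congr_fun hu i
    let t : M24 := (⟨g.1, g.2.1⟩ : M24)⁻¹ * (c⁻¹ * k * c)
    let u' : M24 := ⟨u.1, u.2.1⟩
    have hd0 : c⁻¹ • d = mset sqMask := by rw [← hc, inv_smul_smul]
    have ht : ((u'⁻¹ * t * u' : M24) : Equiv.Perm GolayPt) ∈ fixMasks X12 := by
      have e1 : u' • mset sqMask = mset sqMask :=
        mem_fixMasks_one.1 (show ((u' : M24) : Equiv.Perm GolayPt) ∈ fixMasks [sqMask] from u.2)
      have e2 : t • mset sqMask = mset sqMask := by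
        simp only [t, mul_smul, hc, hk, hd0]
        exact inv_smul_eq_iff.2 hgfix.symm
      rw [show X12 = [sqMask] from rfl, mem_fixMasks_one, mul_smul, mul_smul, e1, e2]
      exact inv_smul_eq_iff.2 e1.symm
    have h1 : u'⁻¹ * t * u' = 1 := by
      apply Subtype.ext
      refine faith_fix12 ht fun i hi => ?_
      show (u'⁻¹ * t * u') • pt i = pt i
      rw [mul_smul, mul_smul, inv_smul_eq_iff]
      show t • u.1 (pt i) = u.1 (pt i)
      rw [hu' ⟨i, hi⟩]
      simp only [t, mul_smul, smul_inv_smul]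
      rw [inv_smul_eq_iff]
      exact (congrArg (c⁻¹ • ·) (hkx ⟨i, hi⟩)).trans (DFunLike.congr_fun hg ⟨i, hi⟩).symm
    have h2 : t = 1 := by
      have : t = u' * (u'⁻¹ * t * u') * u'⁻¹ := by group
      rw [this, h1]; group
    rw [inv_mul_eq_one] at h2
    rw [h2]; group

end CfsgLib.Golay
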