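import Cfsg.Agent.Lib.Golay.Co0Simple
import Cfsg.Agent.Lib.Golay.Co0Order
import Cfsg.Agent.Lib.Golay.Orbits

/-!
The monomial group is a maximal subgroup of `Co0`.

A subgroup containing it permutes the classes of norm 8 vectors; the orbit of the standard class
has length congruent to 1 modulo 23, and all classes other than the standard one and the 3542
classes of shape `(±4^4)` are moved by the sign changes in orbits of length divisible by 16.
-/

set_option autoImplicit false
set_option maxRecDepth 100000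

namespace CfsgLib.Golay

open Cfsg
open scoped Pointwise

/-- The classes modulo `2L`. -/
def Cl : Type := Fin 24 → ZMod 2

instance : Fintype Cl := inferInstanceAs (Fintype (Fin 24 → ZMod 2))

/-- The class of a lattice vector. -/
noncomputable def clsOf (x : leechLattice) : Cl := leechR.cls x

theorem clsOf_eq {x y : leechLattice} : clsOf x = clsOf y ↔ leechR.cls x = leechR.cls y := Iff.rfl

/-- A representative of a class. -/
noncomputable def clsRep (c : Cl) : leechLattice :=
  leechR.crd.symm fun i => ((c i).val : ℤ)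

theorem clsOf_rep (c : Cl) : clsOf (clsRep c) = c := by
  funext i
  simp [clsOf, clsRep, Rootless.cls]

noncomputable instance : MulAction Co0 Cl where
  smul g c := clsOf (g • clsRep c)
  one_smul c := by
    show clsOf ((1 : Co0) • clsRep c) = c
    rw [one_smul, clsOf_rep]
  mul_smul g h c := by
    show clsOf ((g * h) • clsRep c) = clsOf (g • clsRep (clsOf (h • clsRep c)))
    rw [mul_smul, clsOf_eq]
    exact co0_cls g (clsOf_eq.1 (clsOf_rep _)).symm

theorem smul_clsOf (g : Co0) (x : leechLattice) : g • clsOf x = clsOf (g • x) := by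
  show clsOf (g • clsRep (clsOf x)) = clsOf (g • x)
  rw [clsOf_eq]
  exact co0_cls g (clsOf_eq.1 (clsOf_rep _))

attribute [irreducible] clsOf clsRep

theorem card_pts : Fintype.card GolayPt = 24 := by simp

/-! ### Five-point restrictions of code words -/

/-- The code words meeting five points in none or all of them. -/
theorem ncard_code_five {P : Finset GolayPt} (hP : P.card = 5) :
    {c : Finset GolayPt | c ∈ supports (golayCode : Set (GolayPt → ZMod 2)) ∧
      (c ∩ P = ∅ ∨ c ∩ P = P)}.ncard = 256 := by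
  classical
  let e : Fin 5 ↪ GolayPt :=
    ((finCongr hP.symm).trans P.equivFin.symm).toEmbedding.trans (Function.Embedding.subtype _)
  have he : Finset.univ.image e = P := by
    ext q
    simp only [Finset.mem_image, Finset.mem_univ, true_and]
    constructor
    · rintro ⟨i, rfl⟩; exact (((finCongr hP.symm).trans P.equivFin.symm) i).2
    · intro h
      exact ⟨((finCongr hP.symm).trans P.equivFin.symm).symm ⟨q, h⟩, by simp [e]⟩
  obtain ⟨g, hg⟩ := M24_five_trans ⟨fun i : Fin 5 => pt i.val, by decide +kernel⟩ e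
  have hP' : g • mset 31 = P := by
    have e31 : mset 31 = Finset.univ.image (fun i : Fin 5 => pt i.val) := by decide +kernel
    rw [e31, ← he, ← hg]
    ext q
    simp [Finset.mem_smul_finset, Function.Embedding.smul_apply]
  have hsup : ∀ (k : M24) (c : Finset GolayPt),
      c ∈ supports (golayCode : Set (GolayPt → ZMod 2)) →
      k • c ∈ supports (golayCode : Set (GolayPt → ZMod 2)) := fun k c hc =>
    mem_M24_iff.1 k.2 c hc
  have himg : {c : Finset GolayPt | c ∈ supports (golayCode : Set (GolayPt → ZMod 2)) ∧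
      (c ∩ P = ∅ ∨ c ∩ P = P)} = (fun c : Finset GolayPt => g • c) ''
      {c : Finset GolayPt | c ∈ supports (golayCode : Set (GolayPt → ZMod 2)) ∧
        (c ∩ mset 31 = ∅ ∨ c ∩ mset 31 = mset 31)} := by
    ext c
    simp only [Set.mem_setOf_eq, Set.mem_image]
    constructor
    · rintro ⟨h1, h2⟩
      refine ⟨g⁻¹ • c, ⟨hsup _ _ h1, ?_⟩, smul_inv_smul g c⟩
      rw [show mset 31 = g⁻¹ • P by rw [← hP', inv_smul_smul], ← Finset.smul_finset_inter]
      exact h2.imp (fun h => by rw [h, Finset.smul_finset_empty]) (fun h => by rw [h])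
    · rintro ⟨d, ⟨h1, h2⟩, rfl⟩
      refine ⟨hsup _ _ h1, ?_⟩
      rw [← hP', ← Finset.smul_finset_inter]
      exact h2.imp (fun h => by rw [h, Finset.smul_finset_empty]) (fun h => by rw [h])
  rw [himg, Set.ncard_image_of_injective _ (MulAction.injective g)]
  have h : (codeList.filter fun m => m &&& 31 == 0 || m &&& 31 == 31).length = 256 := by
    decide +kernel
  rw [← h]
  refine ncard_mset_list (fun m hm => isCode_lt (mem_codeList.1 (List.mem_filter.1 hm).1))
    (codeList_nodup.filter _) fun s => ?_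
  simp only [Set.mem_setOf_eq, List.mem_filter, mem_codeList, mem_supports_iff, Bool.or_eq_true,
    beq_iff_eq]
  constructor
  · rintro ⟨⟨m, hm, rfl⟩, hc⟩
    refine ⟨m, ⟨hm, ?_⟩, rfl⟩
    have hlt : m &&& 31 < 16777216 := lt_of_le_of_lt Nat.and_le_right (by norm_num)
    rw [← mset_and, ← mset_zero] at hc
    exact hc.imp (mset_inj hlt (by norm_num)) (mset_inj hlt (by norm_num))
  · rintro ⟨m, ⟨hm, hc⟩, rfl⟩
    refine ⟨⟨m, hm, rfl⟩, ?_⟩
    rw [← mset_and]
    exact hc.imp (fun h => by rw [h, mset_zero]) (fun h => by rw [h])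

theorem weight_cases {w : Finset GolayPt}
    (h : w ∈ supports (golayCode : Set (GolayPt → ZMod 2))) :
    w.card = 0 ∨ w.card = 8 ∨ w.card = 12 ∨ w.card = 16 ∨ w.card = 24 := by
  obtain ⟨m, hm, rfl⟩ := mem_supports_iff.1 h
  rw [card_mset]
  exact isCode_weights hm

/-! ### Shapes -/

/-- The shape `(±4^4, 0^20)`. -/
def Shape44 (x : GolayPt → ℤ) : Prop :=
  (∀ i, x i = 0 ∨ x i = 4 ∨ x i = -4) ∧ (Finset.univ.filter fun i => x i ≠ 0).card = 4

theorem norm8_quads {b : GolayPt → ℤ} (hn : ∑ i, b i ^ 2 = 4) :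
    Shape44 (fun i => 4 * b i) ∨
      ∃ (i : GolayPt) (s : ℤ), (s = 8 ∨ s = -8) ∧ (fun i => 4 * b i) = Pi.single i s := by
  classical
  have hle : ∀ i, b i ^ 2 ≤ 4 := fun i => by
    rw [← hn]
    exact Finset.single_le_sum (fun j _ => sq_nonneg (b j)) (Finset.mem_univ i)
  have hb : ∀ i, -2 ≤ b i ∧ b i ≤ 2 := fun i => by
    constructor <;> nlinarith [hle i]
  by_cases h2 : ∃ i, b i = 2 ∨ b i = -2
  · obtain ⟨i, hi⟩ := h2
    have hrest : ∀ j, j ≠ i → b j = 0 := by
      intro j hj
      have h := Finset.sum_le_sum_of_subset_of_nonneg (f := fun k => b k ^ 2)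
        (Finset.subset_univ {i, j}) (fun k _ _ => sq_nonneg (b k))
      rw [Finset.sum_pair (Ne.symm hj), hn] at h
      rcases hi with e | e <;> rw [e] at h <;> nlinarith [sq_nonneg (b j)]
    refine Or.inr ⟨i, 4 * b i, by rcases hi with e | e <;> omega, funext fun j => ?_⟩
    by_cases hj : j = i
    · subst hj; simp
    · simp [hj, hrest j hj]
  · push Not at h2
    have hv : ∀ i, b i = 0 ∨ b i = 1 ∨ b i = -1 := fun i => by
      obtain ⟨u, v⟩ := hb i
      obtain ⟨p, q⟩ := h2 i
      omega
    refine Or.inl ⟨fun i => by rcases hv i with e | e | e <;> simp [e], ?_⟩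
    have hs : ∑ i, b i ^ 2 = ((Finset.univ.filter fun i => 4 * b i ≠ 0).card : ℤ) := by
      rw [Finset.card_eq_sum_ones, Nat.cast_sum, Finset.sum_filter]
      refine Finset.sum_congr rfl fun i _ => ?_
      rcases hv i with e | e | e <;> simp [e]
    rw [hn] at hs
    exact_mod_cast hs.symm

theorem shape44_quads {x : GolayPt → ℤ} (h : Shape44 x) :
    ∃ b : GolayPt → ℤ, x = (fun i => 4 * b i) ∧ (∑ i, b i ^ 2 = 4) ∧ (2 : ℤ) ∣ ∑ i, b i := by
  classical
  refine ⟨fun i => x i / 4, funext fun i => by rcases h.1 i with e | e | e <;> simp [e], ?_, ?_⟩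
  · have hs : ∑ i, (x i / 4) ^ 2 = ((Finset.univ.filter fun i => x i ≠ 0).card : ℤ) := by
      rw [Finset.card_eq_sum_ones, Nat.cast_sum, Finset.sum_filter]
      refine Finset.sum_congr rfl fun i _ => ?_
      rcases h.1 i with e | e | e <;> simp [e]
    rw [hs, h.2]; norm_num
  · show (((2 : ℕ) : ℤ)) ∣ ∑ i, x i / 4
    rw [← ZMod.intCast_zmod_eq_zero_iff_dvd, Int.cast_sum]
    have hs : ∑ i, ((x i / 4 : ℤ) : ZMod 2) = ((Finset.univ.filter fun i => x i ≠ 0).card : ℕ) := by
      rw [Finset.card_eq_sum_ones, Nat.cast_sum, Finset.sum_filter]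
      refine Finset.sum_congr rfl fun i _ => ?_
      rcases h.1 i with e | e | e <;> simp [e]
    rw [hs, h.2]; decide

theorem shape44_mem {x : GolayPt → ℤ} (h : Shape44 x) :
    x ∈ leechLattice ∧ sqNorm x = 64 := by
  obtain ⟨b, rfl, h1, h2⟩ := shape44_quads h
  constructor
  · rw [show (fun i => 4 * b i) = fun i => 2 * ((fun i => 2 * b i) i) by funext i; ring,
      even_mem_iff]
    refine ⟨?_, ?_⟩
    · rw [show mod2 (fun i => 2 * b i) = 0 by
        funext i; simp [mod2, show (2 : ZMod 2) = 0 from rfl]]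
      exact Submodule.zero_mem _
    · rw [← Finset.mul_sum]
      obtain ⟨k, hk⟩ := h2
      exact ⟨k, by rw [hk]; ring⟩
  · simp only [sqNorm, mul_pow]
    rw [← Finset.mul_sum, h1]
    norm_num

/-- Every vector of norm 8 congruent to one of shape `(±4^4)` has that shape. -/
theorem shape44_closed {x y : leechLattice} (hx : Shape44 (x : GolayPt → ℤ))
    (hy : leechR.q y = 8) (h : leechR.cls y = leechR.cls x) : Shape44 (y : GolayPt → ℤ) := by
  classical
  obtain ⟨b, hb, b1, -⟩ := shape44_quads hx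
  obtain ⟨z, hz, e⟩ := exists_two_smul_iff.1 h
  have hyv : ∀ i, (y : GolayPt → ℤ) i = 4 * b i + 2 * z i := fun i => by
    have h1 := congrFun e i
    rw [hb] at h1
    simp only [Pi.sub_apply, Pi.smul_apply, two_smul] at h1
    omega
  have hn : ∑ i, (y : GolayPt → ℤ) i ^ 2 = 64 := by
    have := (leech_q_iff y 8).1 hy
    simpa [sqNorm] using this
  have heven : ∀ i, z i % 2 = 0 := by
    rcases parity_cases hz with h0 | h1
    · exact h0
    · exfalso
      have hge : ∀ i, 4 ≤ (y : GolayPt → ℤ) i ^ 2 := fun i => by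
        have h1 := h1 i
        rw [hyv i]
        have : (2 * b i + z i) % 2 = 1 := by omega
        nlinarith [mul_self_nonneg (2 * b i + z i), sq_nonneg (2 * b i + z i - 1),
          show 1 ≤ (2 * b i + z i) ^ 2 by
            rcases lt_or_gt_of_ne (show 2 * b i + z i ≠ 0 by omega) with h | h <;> nlinarith]
      have := Finset.sum_le_sum (fun i (_ : i ∈ (Finset.univ : Finset GolayPt)) => hge i)
      rw [Finset.sum_const, Finset.card_univ, card_pts, hn] at this
      norm_num at this
  let b' : GolayPt → ℤ := fun i => b i + z i / 2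
  have hyb : (y : GolayPt → ℤ) = fun i => 4 * b' i := funext fun i => by
    have := heven i
    rw [hyv i]; simp only [b']; omega
  have hb' : ∑ i, b' i ^ 2 = 4 := by
    rw [hyb] at hn
    simp only [mul_pow] at hn
    rw [← Finset.mul_sum] at hn
    omega
  rw [hyb]
  rcases norm8_quads hb' with h44 | ⟨i, s, hs, hs'⟩
  · exact h44
  · exfalso
    have hstd : (y : GolayPt → ℤ) ∈ stdCross := ⟨i, s, hs, hyb.trans hs'⟩
    have hx8 : leechR.q x = 8 := (leech_q_iff x 8).2 (by rw [(shape44_mem hx).2]; norm_num)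
    have hxs := (mem_std_iff x pinf).2 ⟨hx8, h.symm.trans ((mem_std_iff y pinf).1 hstd).2⟩
    obtain ⟨j, t, -, hj⟩ := hxs
    have h4 := hx.2
    rw [hj] at h4
    have : (Finset.univ.filter fun k => (Pi.single j t : GolayPt → ℤ) k ≠ 0) ⊆ {j} := by
      intro k hk
      simp only [Finset.mem_filter, Pi.single_apply] at hk
      simp only [Finset.mem_singleton]
      by_contra hne
      simp [hne] at hk
    have := Finset.card_le_card this
    rw [Finset.card_singleton] at this
    omega

theorem shape44_sign (c : Finset GolayPt) {x : GolayPt → ℤ} (h : Shape44 x) :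
    Shape44 (signedPerm (1 : M24) c x) := by
  have e : ∀ i, signedPerm (1 : M24) c x i = if i ∈ c then -x i else x i := fun i => by
    simp only [signedPerm, OneMemClass.coe_one, Equiv.Perm.one_symm, Equiv.Perm.one_apply]
  refine ⟨fun i => ?_, ?_⟩
  · rw [e i]
    rcases h.1 i with a | a | a <;> split_ifs <;> simp [a]
  · rw [← h.2]
    refine congrArg Finset.card (Finset.filter_congr fun i _ => ?_)
    rw [e i]
    split_ifs <;> simp

/-! ### The class types -/

/-- The classes of shape `(±4^4)`. -/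
def cls44 : Set Cl := clsOf '' {x : leechLattice | Shape44 (x : GolayPt → ℤ)}

theorem q_shape44 {x : leechLattice} (h : Shape44 (x : GolayPt → ℤ)) : leechR.q x = 8 :=
  (leech_q_iff x 8).2 (by rw [(shape44_mem h).2]; norm_num)

theorem ncard_signed_four {α : Type*} [Fintype α] [DecidableEq α] :
    {x : α → ℤ | (∀ i, x i = 0 ∨ x i = 4 ∨ x i = -4) ∧
      (Finset.univ.filter fun i => x i ≠ 0).card = 4}.ncard = (Fintype.card α).choose 4 * 16 := by
  classical
  let D : Finset (Σ _ : Finset α, Finset α) :=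
    (Finset.powersetCard 4 (Finset.univ : Finset α)).sigma fun T => T.powerset
  let F : (Σ _ : Finset α, Finset α) → α → ℤ := fun p i =>
    if i ∈ p.2 then -4 else if i ∈ p.1 then 4 else 0
  have hD : D.card = (Fintype.card α).choose 4 * 16 := by
    rw [Finset.card_sigma, Finset.sum_congr rfl (g := fun _ => 16) (fun T hT => by
      rw [Finset.card_powerset, (Finset.mem_powersetCard.1 hT).2]; norm_num), Finset.sum_const,
      Finset.card_powersetCard, Finset.card_univ, smul_eq_mul]
  rw [← hD, ← Set.ncard_coe_finset D]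
  symm
  refine Set.ncard_congr (fun p _ => F p) ?_ ?_ ?_
  · rintro ⟨T, c⟩ hp
    simp only [D, Finset.coe_sigma, Finset.mem_coe, Set.mem_sigma_iff, Finset.mem_powersetCard,
      Finset.mem_powerset] at hp
    refine ⟨fun i => by simp only [F]; split_ifs <;> simp, ?_⟩
    rw [← hp.1.2]
    congr 1
    ext i
    simp only [F, Finset.mem_filter, Finset.mem_univ, true_and]
    by_cases hc : i ∈ c
    · simp [hc, hp.2 hc]
    · by_cases hT : i ∈ T <;> simp [hc, hT]
  · rintro ⟨T, c⟩ ⟨T', c'⟩ hp hp' he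
    simp only [D, Finset.coe_sigma, Finset.mem_coe, Set.mem_sigma_iff, Finset.mem_powersetCard,
      Finset.mem_powerset] at hp hp'
    have hc : c = c' := by
      ext i
      have := congrFun he i
      simp only [F] at this
      split_ifs at this with a b <;> simp_all
    subst hc
    have hT : T = T' := by
      ext i
      have := congrFun he i
      simp only [F] at this
      by_cases h : i ∈ c
      · simp [hp.2 h, hp'.2 h]
      · simp only [h, if_false] at this
        split_ifs at this with a b <;> simp_all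
    subst hT
    rfl
  · intro x hx
    refine ⟨⟨Finset.univ.filter fun i => x i ≠ 0, Finset.univ.filter fun i => x i = -4⟩, ?_, ?_⟩
    · simp only [D, Finset.coe_sigma, Finset.mem_coe, Set.mem_sigma_iff, Finset.mem_powersetCard,
        Finset.mem_powerset]
      refine ⟨⟨Finset.subset_univ _, hx.2⟩, fun i hi => ?_⟩
      simp only [Finset.mem_filter, Finset.mem_univ, true_and] at hi ⊢
      omega
    · funext i
      simp only [F, Finset.mem_filter, Finset.mem_univ, true_and]
      rcases hx.1 i with e | e | e <;> simp [e]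

theorem ncard_shape44 : {x : leechLattice | Shape44 (x : GolayPt → ℤ)}.ncard = 170016 := by
  rw [ncard_subtype_leech Shape44]
  have e : {x : GolayPt → ℤ | x ∈ leechLattice ∧ Shape44 x} = {x : GolayPt → ℤ | Shape44 x} :=
    Set.ext fun x => ⟨fun h => h.2, fun h => ⟨(shape44_mem h).1, h⟩⟩
  rw [e]
  refine (ncard_signed_four (α := GolayPt)).trans ?_
  rw [card_pts]
  decide +kernel

theorem ncard_cls44 : cls44.ncard = 3542 := by
  classical
  let F : Finset leechLattice := (Set.finite_of_ncard_pos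
    (by rw [ncard_shape44]; norm_num : 0 < {x : leechLattice | Shape44 (x : GolayPt → ℤ)}.ncard)).toFinset
  have hF : ∀ x, x ∈ F ↔ Shape44 (x : GolayPt → ℤ) := fun x => by simp [F]
  have hT : cls44 = ↑(F.image clsOf) := by
    ext c; simp [cls44, hF]
  have hcard : F.card = 170016 := by
    rw [← ncard_shape44, ← Set.ncard_coe_finset]
    congr 1
    ext x; simp [hF]
  have hsum := Finset.card_eq_sum_card_image clsOf F
  rw [Finset.sum_congr rfl (g := fun _ => 48) (fun c hc => ?_), Finset.sum_const, hcard,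
    smul_eq_mul] at hsum
  · rw [hT, Set.ncard_coe_finset]; omega
  · obtain ⟨x, hx, rfl⟩ := Finset.mem_image.1 hc
    rw [← leech_counts.structure.2 x (q_shape44 ((hF x).1 hx)), ← Set.ncard_coe_finset]
    congr 1
    ext y
    simp only [Finset.coe_filter, Set.mem_setOf_eq, hF, clsOf_eq]
    exact ⟨fun h => ⟨q_shape44 h.1, h.2⟩, fun h => ⟨shape44_closed ((hF x).1 hx) h.1 h.2, h.2⟩⟩

theorem code_signs_four {T c : Finset GolayPt} (hT : T.card = 4) (hc : c ⊆ T) :
    ∃ d ∈ supports (golayCode : Set (GolayPt → ZMod 2)), d ∩ T = c := by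
  classical
  obtain ⟨s, hs⟩ := Finset.card_pos.1 (show 0 < (Tᶜ).card by
    rw [Finset.card_compl, card_pts, hT]; norm_num)
  rw [Finset.mem_compl] at hs
  have h5 : (insert s T).card = 5 := by rw [Finset.card_insert_of_notMem hs, hT]
  let e : Fin 5 ↪ GolayPt :=
    ((finCongr h5.symm).trans (insert s T).equivFin.symm).toEmbedding.trans
      (Function.Embedding.subtype _)
  obtain ⟨g, hg⟩ := M24_five_trans ⟨fun i : Fin 5 => pt i.val, by decide +kernel⟩ e
  have hall : ∀ m < 32, ∃ d ∈ codeList, d &&& 31 = m := by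
    have : (List.range 32).all (fun m => codeList.any fun d => d &&& 31 == m) = true := by
      decide +kernel
    intro m hm
    have h := List.all_eq_true.1 this m (List.mem_range.2 hm)
    simpa [List.any_eq_true] using h
  have hmem : ∀ q ∈ T, ∃ i : Fin 5, g • pt i.val = q := by
    intro q hq
    refine ⟨((finCongr h5.symm).trans (insert s T).equivFin.symm).symm
      ⟨q, Finset.mem_insert_of_mem hq⟩, ?_⟩
    have h1 := DFunLike.congr_fun hg (((finCongr h5.symm).trans (insert s T).equivFin.symm).symm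
      ⟨q, Finset.mem_insert_of_mem hq⟩)
    rw [Function.Embedding.smul_apply] at h1
    exact h1.trans (by simp [e])
  let S : Finset GolayPt := (mset 31).filter fun q => g • q ∈ c
  obtain ⟨m, hm, hmS⟩ := exists_mset S
  have hsub : m &&& 31 = m := by
    refine mset_inj (lt_of_le_of_lt Nat.and_le_left hm) hm ?_
    rw [mset_and, hmS]
    exact Finset.inter_eq_left.2 (Finset.filter_subset _ _)
  obtain ⟨d, hd, hd'⟩ := hall m (by rw [← hsub]; exact Nat.lt_succ_of_le Nat.and_le_right)
  refine ⟨g • mset d, mem_M24_iff.1 g.2 _ (mem_supports_iff.2 ⟨d, mem_codeList.1 hd, rfl⟩), ?_⟩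
  ext q
  rw [Finset.mem_inter]
  by_cases hq : q ∈ T
  · obtain ⟨i, rfl⟩ := hmem q hq
    rw [Finset.smul_mem_smul_finset_iff]
    have h31 : pt i.val ∈ mset 31 :=
      (show ∀ j : Fin 5, pt j.val ∈ mset 31 by decide +kernel) i
    have e1 : pt i.val ∈ mset d ↔ pt i.val ∈ mset m := by
      rw [← hd', mset_and, Finset.mem_inter]; simp [h31]
    rw [e1, hmS]
    simp [S, h31, hq]
  · simp only [hq, and_false, false_iff]
    exact fun h => hq (hc h)

theorem N0_trans44 {x y : leechLattice} (hx : Shape44 (x : GolayPt → ℤ))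
    (hy : Shape44 (y : GolayPt → ℤ)) : ∃ g ∈ N0, g • x = y := by
  classical
  set S := Finset.univ.filter fun i => (x : GolayPt → ℤ) i ≠ 0 with hSdef
  set T := Finset.univ.filter fun i => (y : GolayPt → ℤ) i ≠ 0 with hTdef
  obtain ⟨s, hs⟩ := Finset.card_pos.1 (show 0 < (Sᶜ).card by
    rw [Finset.card_compl, card_pts, hx.2]; norm_num)
  obtain ⟨t, ht⟩ := Finset.card_pos.1 (show 0 < (Tᶜ).card by
    rw [Finset.card_compl, card_pts, hy.2]; norm_num)
  rw [Finset.mem_compl] at hs ht
  have h5 : (insert s S).card = 5 := by rw [Finset.card_insert_of_notMem hs, hx.2]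
  have h5' : (insert t T).card = 5 := by rw [Finset.card_insert_of_notMem ht, hy.2]
  obtain ⟨e⟩ : Nonempty (↥(insert s S) ≃ ↥(insert t T)) :=
    ⟨Finset.equivOfCardEq (h5.trans h5'.symm)⟩
  let e' : ↥(insert s S) ≃ ↥(insert t T) :=
    e.trans (Equiv.swap (e ⟨s, Finset.mem_insert_self _ _⟩) ⟨t, Finset.mem_insert_self _ _⟩)
  have he' : e' ⟨s, Finset.mem_insert_self _ _⟩ = ⟨t, Finset.mem_insert_self _ _⟩ := by simp [e']
  let u : Fin 5 ↪ GolayPt :=
    ((finCongr h5.symm).trans (insert s S).equivFin.symm).toEmbedding.trans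
      (Function.Embedding.subtype _)
  let v : Fin 5 ↪ GolayPt :=
    (((finCongr h5.symm).trans (insert s S).equivFin.symm).trans e').toEmbedding.trans
      (Function.Embedding.subtype _)
  obtain ⟨σ, hσ⟩ := M24_five_trans u v
  have hmap : ∀ q (hq : q ∈ insert s S), σ • q = (e' ⟨q, hq⟩ : GolayPt) := by
    intro q hq
    have h1 := DFunLike.congr_fun hσ
      (((finCongr h5.symm).trans (insert s S).equivFin.symm).symm ⟨q, hq⟩)
    rw [Function.Embedding.smul_apply] at h1
    simpa [u, v] using h1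
  have hS : ∀ q ∈ S, σ • q ∈ T := by
    intro q hq
    have hq' : q ∈ insert s S := Finset.mem_insert_of_mem hq
    rw [hmap q hq']
    rcases Finset.mem_insert.1 (e' ⟨q, hq'⟩).2 with h | h
    · exfalso
      have : e' ⟨q, hq'⟩ = e' ⟨s, Finset.mem_insert_self _ _⟩ := by
        rw [he']; exact Subtype.ext h
      exact hs (Subtype.mk.inj (e'.injective this) ▸ hq)
    · exact h
  have hST : σ • S = T := by
    refine Finset.eq_of_subset_of_card_le (fun q hq => ?_) (by rw [Finset.card_smul_finset, hx.2, hy.2])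
    obtain ⟨p, hp, rfl⟩ := Finset.mem_smul_finset.1 hq
    exact hS p hp
  obtain ⟨d, hd, hdT⟩ := code_signs_four hy.2
    (show T.filter (fun i => (x : GolayPt → ℤ) ((σ : Equiv.Perm GolayPt).symm i) ≠
      (y : GolayPt → ℤ) i) ⊆ T from Finset.filter_subset _ _)
  refine ⟨monoCo0 σ σ.2 d hd, mono_mem_N0 σ d hd, Subtype.ext ?_⟩
  rw [monoCo0_smul]
  funext i
  have hiff : (σ : Equiv.Perm GolayPt).symm i ∈ S ↔ i ∈ T := by
    rw [← hST]
    constructor
    · intro h
      have h2 := Finset.smul_mem_smul_finset (a := σ) h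
      rwa [M24_smul_pt, Equiv.apply_symm_apply] at h2
    · intro h
      obtain ⟨p, hp, rfl⟩ := Finset.mem_smul_finset.1 h
      rwa [M24_smul_pt, Equiv.symm_apply_apply]
  simp only [signedPerm]
  by_cases hi : i ∈ T
  · have hi' := hiff.2 hi
    have hxi : (x : GolayPt → ℤ) ((σ : Equiv.Perm GolayPt).symm i) ≠ 0 :=
      (Finset.mem_filter.1 hi').2
    have hyi : (y : GolayPt → ℤ) i ≠ 0 := (Finset.mem_filter.1 hi).2
    have hdi : i ∈ d ↔
        (x : GolayPt → ℤ) ((σ : Equiv.Perm GolayPt).symm i) ≠ (y : GolayPt → ℤ) i := by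
      have h := Finset.ext_iff.1 hdT i
      exact ⟨fun a => (Finset.mem_filter.1 (h.1 (Finset.mem_inter.2 ⟨a, hi⟩))).2,
        fun a => (Finset.mem_inter.1 (h.2 (Finset.mem_filter.2 ⟨hi, a⟩))).1⟩
    rcases hx.1 ((σ : Equiv.Perm GolayPt).symm i) with a | a | a <;>
      rcases hy.1 i with b | b | b <;> simp_all
  · have hyi : (y : GolayPt → ℤ) i = 0 := by
      by_contra h; exact hi (Finset.mem_filter.2 ⟨Finset.mem_univ _, h⟩)
    have hxi : (x : GolayPt → ℤ) ((σ : Equiv.Perm GolayPt).symm i) = 0 := by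
      by_contra h; exact hi (hiff.1 (Finset.mem_filter.2 ⟨Finset.mem_univ _, h⟩))
    simp [hxi, hyi]

/-! ### Sign orbits on the other classes -/

theorem sign_fix_five {x : leechLattice} (hx : leechR.q x = 8)
    (h0 : clsOf x ≠ clsOf (vec8 pinf)) (h44 : clsOf x ∉ cls44) :
    ∃ P : Finset GolayPt, P.card = 5 ∧
      ∀ (c : Finset GolayPt) (hc : c ∈ supports (golayCode : Set (GolayPt → ZMod 2))),
        sign0 c hc • clsOf x = clsOf x → c ∩ P = ∅ ∨ c ∩ P = P := by
  classical
  have hn : ∑ i, (x : GolayPt → ℤ) i ^ 2 = 64 := by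
    have := (leech_q_iff x 8).1 hx
    simpa [sqNorm] using this
  have hfix : ∀ (c : Finset GolayPt) (hc : c ∈ supports (golayCode : Set (GolayPt → ZMod 2))),
      sign0 c hc • clsOf x = clsOf x →
      (fun i => if i ∈ c then (x : GolayPt → ℤ) i else 0) ∈ leechLattice := by
    intro c hc h
    rw [smul_clsOf, clsOf_eq] at h
    obtain ⟨z, hz, e⟩ := exists_two_smul_iff.1 h.symm
    convert hz using 1
    funext i
    have h1 := congrFun e i
    rw [sign0, monoCo0_smul] at h1
    simp only [Pi.sub_apply, Pi.smul_apply, signedPerm, OneMemClass.coe_one, Equiv.Perm.one_symm,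
      Equiv.Perm.one_apply, two_smul] at h1
    split_ifs at h1 ⊢ <;> omega
  rcases parity_cases x.2 with hev | hodd
  swap
  · obtain ⟨P, -, hP⟩ := Finset.exists_subset_card_eq
      (show 5 ≤ (Finset.univ : Finset GolayPt).card by rw [Finset.card_univ, card_pts]; norm_num)
    refine ⟨P, hP, fun c hc h => ?_⟩
    rcases parity_cases (hfix c hc h) with a | a
    · left
      ext i
      have h1 := a i
      have h2 := hodd i
      simp only [Finset.mem_inter, Finset.notMem_empty, iff_false, not_and]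
      intro hi
      simp [hi] at h1
      omega
    · right
      refine Finset.inter_eq_right.2 fun i _ => ?_
      by_contra hi
      have h1 := a i
      simp [hi] at h1
  let a : GolayPt → ℤ := fun i => (x : GolayPt → ℤ) i / 2
  have hxa : (x : GolayPt → ℤ) = fun i => 2 * a i := funext fun i => by
    have := hev i; simp only [a]; omega
  have ha : ∑ i, a i ^ 2 = 16 := by
    rw [hxa] at hn
    simp only [mul_pow] at hn
    rw [← Finset.mul_sum] at hn
    omega
  set w := support₂ (mod2 a) with hw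
  have hmem : (fun i => 2 * a i) ∈ leechLattice := by rw [← hxa]; exact x.2
  have hwc : w ∈ supports (golayCode : Set (GolayPt → ZMod 2)) :=
    mem_supports_word.2 (even_mem_iff.1 hmem).1
  have hsub : ∀ (c : Finset GolayPt) (hc : c ∈ supports (golayCode : Set (GolayPt → ZMod 2))),
      sign0 c hc • clsOf x = clsOf x →
      w ∩ c ∈ supports (golayCode : Set (GolayPt → ZMod 2)) := by
    intro c hc h
    have h1 := hfix c hc h
    rw [show (fun i => if i ∈ c then (x : GolayPt → ℤ) i else 0) =
        fun i => 2 * (fun j => if j ∈ c then a j else 0) i by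
      funext i; rw [hxa]; split_ifs with hi <;> simp [hi], even_mem_iff] at h1
    convert mem_supports_word.2 h1.1 using 1
    ext i
    rw [Finset.mem_inter, hw, mem_support_mod2, mem_support_mod2]
    by_cases hi : i ∈ c <;> simp [hi]
  have hcases := weight_cases hwc
  rcases Nat.eq_zero_or_pos w.card with h00 | hpos
  · exfalso
    rw [Finset.card_eq_zero] at h00
    have hev2 : ∀ i, a i % 2 = 0 := fun i => by
      by_contra h
      have : i ∈ w := by rw [hw, mem_support_mod2]; omega
      simp [h00] at this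
    let b : GolayPt → ℤ := fun i => a i / 2
    have hxb : (x : GolayPt → ℤ) = fun i => 4 * b i := funext fun i => by
      have := hev2 i; rw [hxa]; simp only [b]; omega
    have hb : ∑ i, b i ^ 2 = 4 := by
      rw [hxb] at hn
      simp only [mul_pow] at hn
      rw [← Finset.mul_sum] at hn
      omega
    rcases norm8_quads hb with h | ⟨i, s, hs, he⟩
    · exact h44 ⟨x, show Shape44 (x : GolayPt → ℤ) by rw [hxb]; exact h, rfl⟩
    · exact h0 (clsOf_eq.2 ((mem_std_iff x pinf).1 ⟨i, s, hs, hxb.trans he⟩).2)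
  have h24 : w.card ≠ 24 := by
    intro h
    have hwu : w = Finset.univ := by
      refine Finset.eq_univ_of_card _ ?_
      rw [h, card_pts]
    have hge : ∀ i, 1 ≤ a i ^ 2 := fun i => by
      have h1 : i ∈ w := by rw [hwu]; exact Finset.mem_univ _
      rw [hw, mem_support_mod2] at h1
      rcases lt_or_gt_of_ne (show a i ≠ 0 by omega) with h | h <;> nlinarith
    have := Finset.sum_le_sum (fun i (_ : i ∈ (Finset.univ : Finset GolayPt)) => hge i)
    rw [Finset.sum_const, Finset.card_univ, card_pts, ha] at this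
    norm_num at this
  obtain ⟨w', hw'c, hw'n, hw'sub⟩ : ∃ w' ∈ supports (golayCode : Set (GolayPt → ZMod 2)),
      (w'.card = 8 ∨ w'.card = 12) ∧
      ∀ (c : Finset GolayPt) (hc : c ∈ supports (golayCode : Set (GolayPt → ZMod 2))),
        sign0 c hc • clsOf x = clsOf x →
        w' ∩ c ∈ supports (golayCode : Set (GolayPt → ZMod 2)) := by
    by_cases h12 : w.card ≤ 12
    · exact ⟨w, hwc, by omega, hsub⟩
    · refine ⟨symmDiff Finset.univ w, symmDiff_mem_supports univ_mem_supports hwc, ?_,
        fun c hc h => ?_⟩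
      · have e : symmDiff Finset.univ w = wᶜ := by
          ext i; simp [Finset.mem_symmDiff]
        rw [e, Finset.card_compl, card_pts]
        omega
      · have e : symmDiff Finset.univ w ∩ c = symmDiff c (w ∩ c) := by
          ext i; simp [Finset.mem_symmDiff]; tauto
        rw [e]
        exact symmDiff_mem_supports hc (hsub c hc h)
  obtain ⟨P, hP, hPc⟩ := Finset.exists_subset_card_eq (show 5 ≤ w'.card by omega)
  refine ⟨P, hPc, fun c hc h => ?_⟩
  have hu := hw'sub c hc h
  have hdiff : w' \ c ∈ supports (golayCode : Set (GolayPt → ZMod 2)) := by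
    have e : w' \ c = symmDiff w' (w' ∩ c) := by
      ext i; simp [Finset.mem_symmDiff]; tauto
    rw [e]; exact symmDiff_mem_supports hw'c hu
  have h1 := weight_cases hu
  have h2 := weight_cases hdiff
  have h3 := Finset.card_sdiff_add_card_inter w' c
  rcases (show (w' ∩ c).card = 0 ∨ (w' \ c).card = 0 by omega) with hh | hh
  · left
    rw [Finset.card_eq_zero] at hh
    exact Finset.subset_empty.1 (hh ▸ fun i hi => by
      rw [Finset.mem_inter] at hi ⊢; exact ⟨hP hi.2, hi.1⟩)
  · right
    rw [Finset.card_eq_zero, Finset.sdiff_eq_empty_iff_subset] at hh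
    exact Finset.inter_eq_right.2 (hP.trans hh)

/-! ### The sign changes -/

/-- The group of sign changes. -/
def signGrp : Subgroup Co0 where
  carrier := {g | ∃ c hc, g = sign0 c hc}
  one_mem' := ⟨∅, empty_code, by
    rw [← sign0_sq ∅ empty_code, sign0_mul]; exact sign0_congr (symmDiff_self _)⟩
  mul_mem' := by
    rintro _ _ ⟨c, hc, rfl⟩ ⟨d, hd, rfl⟩
    exact ⟨_, _, sign0_mul c d hc hd⟩
  inv_mem' := by
    rintro _ ⟨c, hc, rfl⟩
    exact ⟨c, hc, inv_eq_of_mul_eq_one_right (sign0_sq c hc)⟩

theorem signGrp_le : signGrp ≤ N0 := by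
  rintro _ ⟨c, hc, rfl⟩
  exact sign0_mem_N0 c hc

theorem sign0_inj {c d : Finset GolayPt}
    {hc : c ∈ supports (golayCode : Set (GolayPt → ZMod 2))}
    {hd : d ∈ supports (golayCode : Set (GolayPt → ZMod 2))} (h : sign0 c hc = sign0 d hd) :
    c = d := (monoCo0_inj h).2

theorem card_signGrp : Nat.card signGrp = 4096 := by
  have e : Nat.card {c : Finset GolayPt // c ∈ supports (golayCode : Set (GolayPt → ZMod 2))} =
      Nat.card signGrp :=
    Nat.card_eq_of_bijective
      (fun c => (⟨sign0 c.1 c.2, c.1, c.2, rfl⟩ : signGrp))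
      ⟨fun c d h => Subtype.ext (sign0_inj (hc := c.2) (hd := d.2) (congrArg Subtype.val h)), by
        rintro ⟨_, c, hc, rfl⟩; exact ⟨⟨c, hc⟩, rfl⟩⟩
  rw [← e]
  have h : {c : Finset GolayPt | c ∈ supports (golayCode : Set (GolayPt → ZMod 2))}.ncard = 4096 := by
    rw [show (4096 : ℕ) = codeList.length by simp [codeList]]
    refine ncard_mset_list (fun m hm => isCode_lt (mem_codeList.1 hm)) codeList_nodup fun s => ?_
    simp only [Set.mem_setOf_eq, mem_supports_iff, mem_codeList]
  rw [← h, ← Nat.card_coe_set_eq]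
  rfl

theorem sixteen_dvd_sign_orbit {x : leechLattice} (hx : leechR.q x = 8)
    (h0 : clsOf x ≠ clsOf (vec8 pinf)) (h44 : clsOf x ∉ cls44) :
    16 ∣ (MulAction.orbit signGrp (clsOf x)).ncard := by
  classical
  obtain ⟨P, hP, hfix⟩ := sign_fix_five hx h0 h44
  set St := MulAction.stabilizer signGrp (clsOf x) with hSt
  have hle : Nat.card St ≤ 256 := by
    rw [← ncard_code_five hP, ← Nat.card_coe_set_eq]
    refine Nat.card_le_card_of_injective (fun g : St => ⟨g.1.2.choose, g.1.2.choose_spec.1, ?_⟩) ?_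
    · refine hfix _ g.1.2.choose_spec.1 ?_
      rw [← g.1.2.choose_spec.2]
      exact g.2
    · intro g h e
      have e' : g.1.2.choose = h.1.2.choose := congrArg Subtype.val e
      refine Subtype.ext (Subtype.ext ?_)
      rw [g.1.2.choose_spec.2, h.1.2.choose_spec.2]
      exact sign0_congr e'
  have hmul := Subgroup.card_mul_index St
  rw [card_signGrp] at hmul
  have hdvd : St.index ∣ 2 ^ 12 := ⟨Nat.card St, by rw [mul_comm, hmul]; norm_num⟩
  obtain ⟨j, -, hjv⟩ := (Nat.dvd_prime_pow Nat.prime_two).1 hdvd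
  have h4 : 4 ≤ j := by
    by_contra hlt
    have h8 : St.index ≤ 2 ^ 3 := hjv ▸ Nat.pow_le_pow_right (by norm_num) (by omega)
    nlinarith
  rw [← MulAction.index_stabilizer, ← hSt, hjv]
  exact ⟨2 ^ (j - 4), by rw [show (16 : ℕ) = 2 ^ 4 from rfl, ← pow_add]; congr 1; omega⟩

/-! ### Maximality -/

theorem dvd_ncard_of_orbits {G α : Type*} [Group G] [MulAction G α] [Finite α] {d : ℕ} {B : Set α}
    (hB : ∀ (g : G), ∀ b ∈ B, g • b ∈ B) (hd : ∀ b ∈ B, d ∣ (MulAction.orbit G b).ncard) :
    d ∣ B.ncard := by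
  classical
  let P : SubMulAction G α := ⟨B, fun g {b} hb => hB g b hb⟩
  haveI : Fintype α := Fintype.ofFinite α
  rw [← Nat.card_coe_set_eq]
  show d ∣ Nat.card P
  rw [Nat.card_congr (MulAction.selfEquivSigmaOrbits G P), Nat.card_sigma]
  refine Finset.dvd_sum fun q _ => ?_
  rw [Nat.card_coe_set_eq, ← Set.ncard_image_of_injective _ Subtype.val_injective]
  have e : Subtype.val '' MulAction.orbit G q.out = MulAction.orbit G (q.out : α) := by
    ext a
    simp only [Set.mem_image, MulAction.mem_orbit_iff]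
    constructor
    · rintro ⟨_, ⟨g, rfl⟩, rfl⟩; exact ⟨g, rfl⟩
    · rintro ⟨g, rfl⟩; exact ⟨g • q.out, ⟨g, rfl⟩, rfl⟩
  rw [e]
  exact hd _ q.out.2

theorem isCoatom_N0 : IsCoatom N0 := by
  classical
  refine ⟨fun h => by have := index_N0; rw [h, Subgroup.index_top] at this; norm_num at this,
    fun K hK => ?_⟩
  set c0 := clsOf (vec8 pinf) with hc0
  set O := MulAction.orbit K c0 with hOdef
  have hst : MulAction.stabilizer K c0 = N0.subgroupOf K := by
    ext g
    rw [MulAction.mem_stabilizer_iff, Subgroup.mem_subgroupOf, mem_classStab, ← clsOf_eq,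
      ← smul_clsOf]
    rfl
  have hcard : O.ncard = N0.relIndex K := by
    rw [hOdef, ← MulAction.index_stabilizer, hst]; rfl
  have hmul : N0.relIndex K * K.index = 8292375 := by
    rw [Subgroup.relIndex_mul_index hK.le, index_N0]
  have hne : O.ncard ≠ 1 := by
    rw [hcard, ne_eq, Subgroup.relIndex_eq_one]
    exact not_le_of_gt hK
  have hq : ∀ c ∈ O, ∃ x, leechR.q x = 8 ∧ clsOf x = c := by
    rintro _ ⟨g, rfl⟩
    exact ⟨(g : Co0) • vec8 pinf, by rw [co0_q, vec8_q], (smul_clsOf _ _).symm⟩
  have hinv : ∀ g ∈ K, ∀ c ∈ O, g • c ∈ O := by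
    rintro g hg _ ⟨h, rfl⟩
    refine ⟨⟨g, hg⟩ * h, ?_⟩
    simp only [Subgroup.smul_def, Subgroup.coe_mul, mul_smul]
  -- congruence modulo 23
  haveI : Fact (Nat.Prime 23) := ⟨by norm_num⟩
  let P := Subgroup.zpowers g23
  have hPK : P ≤ K := Subgroup.zpowers_le.2 (hK.le g23_mem_N0)
  letI : MulAction P O :=
    { smul := fun g c => ⟨(g : Co0) • c.1, hinv g (hPK g.2) c c.2⟩
      one_smul := fun c => Subtype.ext (one_smul Co0 c.1)
      mul_smul := fun g h c => Subtype.ext (mul_smul (g : Co0) (h : Co0) c.1) }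
  have h23 : O.ncard ≡ 1 [MOD 23] := by
    have hP : IsPGroup 23 P := IsPGroup.of_card (n := 1) (by rw [Nat.card_zpowers, orderOf_g23]; rfl)
    have := hP.card_modEq_card_fixedPoints O
    rw [Nat.card_coe_set_eq] at this
    convert this using 1
    symm
    rw [Nat.card_eq_one_iff_exists]
    have hbase : ∀ g : P, (g : Co0) • c0 = c0 := fun g => by
      rw [hc0, smul_clsOf, clsOf_eq]
      exact (Subgroup.zpowers_le.2 g23_mem_N0 g.2 : (g : Co0) ∈ N0)
    refine ⟨⟨⟨c0, MulAction.mem_orbit_self _⟩, fun g => Subtype.ext (hbase g)⟩, ?_⟩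
    rintro ⟨⟨c, hc⟩, hfix⟩
    obtain ⟨x, hx, rfl⟩ := hq c hc
    refine Subtype.ext (Subtype.ext (clsOf_eq.2 (g23_fixed_class hx ?_)))
    have h1 : g23 • clsOf x = clsOf x :=
      congrArg Subtype.val (hfix ⟨g23, Subgroup.mem_zpowers _⟩)
    rwa [smul_clsOf, clsOf_eq] at h1
  -- congruence modulo 16
  have hA : cls44 ∩ O = ∅ ∨ cls44 ⊆ O := by
    rcases Set.eq_empty_or_nonempty (cls44 ∩ O) with h | ⟨_, ⟨x, hx, rfl⟩, hxO⟩
    · exact Or.inl h
    · refine Or.inr ?_
      rintro _ ⟨y, hy, rfl⟩
      obtain ⟨g, hg, rfl⟩ := N0_trans44 hx hy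
      rw [← smul_clsOf]
      exact hinv g (hK.le hg) _ hxO
  set B := O \ ({c0} ∪ cls44) with hB
  have hBdvd : 16 ∣ B.ncard := by
    refine dvd_ncard_of_orbits (G := signGrp) (fun g b hb => ?_) fun b hb => ?_
    · obtain ⟨c, hc, hgc⟩ := g.2
      refine ⟨hinv g (hK.le (signGrp_le g.2)) b hb.1, ?_⟩
      show (g : Co0) • b ∉ _
      rintro (h | ⟨x, hx, h⟩)
      · refine hb.2 (Or.inl ?_)
        have hg0 : (g : Co0) • c0 = c0 := by
          rw [hc0, smul_clsOf, clsOf_eq]; exact signGrp_le g.2
        exact MulAction.injective (g : Co0) (h.trans hg0.symm)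
      · refine hb.2 (Or.inr ⟨(g : Co0)⁻¹ • x, ?_, ?_⟩)
        · show Shape44 _
          rw [hgc, inv_eq_of_mul_eq_one_right (sign0_sq c hc), sign0, monoCo0_smul]
          exact shape44_sign c hx
        · rw [← smul_clsOf, h, inv_smul_smul]
    · obtain ⟨x, hx, rfl⟩ := hq b hb.1
      exact sixteen_dvd_sign_orbit hx (fun h => hb.2 (Or.inl h)) (fun h => hb.2 (Or.inr h))
  have hc0O : c0 ∈ O := MulAction.mem_orbit_self _
  have hc044 : c0 ∉ cls44 := by
    rintro ⟨x, hx, h⟩
    have := shape44_closed hx (vec8_q pinf) (clsOf_eq.1 h).symm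
    have := this.2
    revert this
    decide +kernel
  have hsplit : O.ncard = B.ncard + 1 + (cls44 ∩ O).ncard := by
    have hdis : Disjoint ({c0} : Set Cl) (cls44 ∩ O) :=
      Set.disjoint_singleton_left.2 fun h => hc044 h.1
    have e : O = B ∪ ({c0} ∪ cls44 ∩ O) := by
      ext c
      simp only [hB, Set.mem_union, Set.mem_sdiff, Set.mem_singleton_iff, Set.mem_inter_iff]
      constructor
      · intro h; by_cases a : c = c0 <;> by_cases b : c ∈ cls44 <;> simp [h, a, b]
      · rintro (h | rfl | h)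
        exacts [h.1, hc0O, h.2]
    have hdis' : Disjoint B ({c0} ∪ cls44 ∩ O) :=
      Set.disjoint_left.2 fun c h h' => h.2 (h'.imp id And.left)
    conv_lhs => rw [e]
    rw [Set.ncard_union_eq hdis', Set.ncard_union_eq hdis, Set.ncard_singleton, ← add_assoc]
  have hA' : (cls44 ∩ O).ncard = 0 ∨ (cls44 ∩ O).ncard = 3542 := by
    rcases hA with h | h
    · left; rw [h, Set.ncard_empty]
    · right; rw [Set.inter_eq_left.2 h, ncard_cls44]
  have hdiv : O.ncard ∈ Nat.divisors 8292375 :=
    Nat.mem_divisors.2 ⟨⟨K.index, by rw [hcard, hmul]⟩, by norm_num⟩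
  have hmem : O.ncard = 1 ∨ O.ncard = 875 ∨ O.ncard = 2025 ∨ O.ncard = 4095 ∨ O.ncard = 9477 ∨
      O.ncard = 8292375 := by
    have hdvd : O.ncard ∣ 3 ^ 6 * (5 ^ 3 * (7 * 13)) := Nat.dvd_of_mem_divisors hdiv
    obtain ⟨a, r, ha, hr, hk⟩ := exists_dvd_and_dvd_of_dvd_mul hdvd
    obtain ⟨b, s, hb, hs, hk'⟩ := exists_dvd_and_dvd_of_dvd_mul hr
    obtain ⟨u, v, hu, hv, hk''⟩ := exists_dvd_and_dvd_of_dvd_mul hs
    obtain ⟨i, hi, rfl⟩ := (Nat.dvd_prime_pow Nat.prime_three).1 ha
    obtain ⟨j, hj, rfl⟩ := (Nat.dvd_prime_pow Nat.prime_five).1 hb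
    have h : O.ncard % 23 = 1 := h23
    subst hk' hk''
    rw [hk] at h ⊢
    rcases (Nat.dvd_prime (by norm_num : Nat.Prime 7)).1 hu with rfl | rfl <;>
      rcases (Nat.dvd_prime (by norm_num : Nat.Prime 13)).1 hv with rfl | rfl <;>
      interval_cases i <;> interval_cases j <;> revert h <;> norm_num
  obtain ⟨q, hq16⟩ := hBdvd
  have hfull : O.ncard = 8292375 := by omega
  rw [hcard] at hfull
  rw [hfull] at hmul
  exact Subgroup.index_eq_one.1 (by omega)

end CfsgLib.Golay
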