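import Cfsg.Agent.Lib.Golay.Trans
import Cfsg.Agent.Lib.Golay.GenData
import Cfsg.Prelude.Def_Spor_Mathieu

/-! The Mathieu groups of `Def_Sporadic_a` / `Def_Spor_Mathieu`: orders, simplicity,
double transitivity. -/

set_option autoImplicit false
set_option maxRecDepth 100000

namespace CfsgLib.Golay

open Cfsg
open scoped Pointwise

/-- Mask of the dodecad of squares. -/
def sqMask : ℕ := qrMasks.getD 0 0

theorem squareDodecad_eq : Spor.squareDodecad = mset sqMask := by
  rw [← support_mword]
  exact congrArg support₂ (qrWord_eq 0)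

theorem sqMask_mem : mset sqMask ∈ dodecads :=
  mem_dodecads_iff.2 ⟨sqMask, mem_dodList.2 (by decide +kernel), rfl⟩

/-- Default level. -/
def noLevel : Level := (0, [], [])

theorem mem_fixMasks_bit {i : ℕ} (hi : i < 24) {X : List ℕ} {σ : Equiv.Perm GolayPt} :
    σ ∈ fixMasks (Nat.shiftLeft 1 i :: X) ↔ σ ∈ fixMasks X ∧ σ (pt i) = pt i :=
  mem_fixMasks_cons hi

/-- The stabiliser of the extra point. -/
abbrev X23 : List ℕ := [8388608]
/-- The stabiliser of the extra point and `0`. -/
abbrev X22 : List ℕ := [1, 8388608]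
/-- The stabiliser of three points. -/
abbrev X21 : List ℕ := [2, 1, 8388608]
/-- The stabiliser of the dodecad of squares. -/
abbrev X12 : List ℕ := [sqMask]
/-- The stabiliser of the dodecad of squares and `0`. -/
abbrev X11 : List ℕ := [1, sqMask]

theorem chain23 : chainOK X23 (chainM24Levels.drop 1) chainM24Fin = true := by decide +kernel
theorem chain22 : chainOK X22 (chainM24Levels.drop 2) chainM24Fin = true := by decide +kernel
theorem chain21 : chainOK X21 (chainM24Levels.drop 3) chainM24Fin = true := by decide +kernel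
theorem chain12 : chainOK X12 chainM12Levels chainM12Fin = true := by decide +kernel
theorem chain11 : chainOK X11 (chainM12Levels.drop 1) chainM12Fin = true := by decide +kernel

theorem card_M24 : Nat.card M24 = 244823040 := by
  rw [← fixMasks_nil]; exact card_fixM24

theorem card_fix23 : Nat.card (fixMasks X23) = 10200960 := by
  rw [card_fixMasks chain23]; decide +kernel

theorem card_fix22 : Nat.card (fixMasks X22) = 443520 := by
  rw [card_fixMasks chain22]; decide +kernel

theorem card_fix21 : Nat.card (fixMasks X21) = 20160 := by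
  rw [card_fixMasks chain21]; decide +kernel

theorem card_fix12 : Nat.card (fixMasks X12) = 95040 := by
  rw [card_fixMasks chain12]; decide +kernel

theorem card_fix11 : Nat.card (fixMasks X11) = 7920 := by
  rw [card_fixMasks chain11]; decide +kernel

theorem eq_one_of_fix_all {X : List ℕ} {m : ℕ} (σ : fixMasks X)
    (h : ∀ a ∈ mset m, σ • a = a) (rest : ∀ q, q ∉ mset m → (σ : Equiv.Perm GolayPt) q = q) :
    σ = 1 := by
  apply Subtype.ext
  refine Equiv.ext fun q => ?_
  by_cases hq : q ∈ mset m
  · exact h q hq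
  · exact rest q hq

theorem isSimple_fix23 : IsSimpleGroup (fixMasks X23) := by
  refine isSimple_fixMasks (lv := chainM24Levels.getD 1 noLevel)
    (lv' := chainM24Levels.getD 2 noLevel) (L := chainM24Levels.drop 3) (fin := chainM24Fin)
    (init := M23genInit) (ops := M23genOps) (p := 23) chain23 (by decide +kernel) ?_
    (by norm_num) (by decide +kernel) (by decide +kernel) (by decide +kernel) (by decide +kernel)
    M23gen_ok
  intro σ h
  refine eq_one_of_fix_all σ h fun q hq => ?_
  have : ∀ q : GolayPt, q ∉ mset (orbMask (chainM24Levels.getD 1 noLevel).1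
      (chainM24Levels.getD 1 noLevel).2.1) → q = pt 23 := by decide +kernel
  rw [this q hq]
  exact ((mem_fixMasks_bit (by norm_num : 23 < 24) (X := [])).1 σ.2).2

theorem isSimple_fix22 : IsSimpleGroup (fixMasks X22) := by
  refine isSimple_fixMasks (lv := chainM24Levels.getD 2 noLevel)
    (lv' := chainM24Levels.getD 3 noLevel) (L := chainM24Levels.drop 4) (fin := chainM24Fin)
    (init := M22genInit) (ops := M22genOps) (p := 11) chain22 (by decide +kernel) ?_
    (by norm_num) (by decide +kernel) (by decide +kernel) (by decide +kernel) (by decide +kernel)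
    M22gen_ok
  intro σ h
  refine eq_one_of_fix_all σ h fun q hq => ?_
  have : ∀ q : GolayPt, q ∉ mset (orbMask (chainM24Levels.getD 2 noLevel).1
      (chainM24Levels.getD 2 noLevel).2.1) → q = pt 23 ∨ q = pt 0 := by decide +kernel
  obtain ⟨h1, h2⟩ := (mem_fixMasks_bit (by norm_num : 0 < 24) (X := X23)).1 σ.2
  rcases this q hq with rfl | rfl
  · exact ((mem_fixMasks_bit (by norm_num : 23 < 24) (X := [])).1 h1).2
  · exact h2

theorem isSimple_fix21 : IsSimpleGroup (fixMasks X21) := by
  refine isSimple_fixMasks (lv := chainM24Levels.getD 3 noLevel)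
    (lv' := chainM24Levels.getD 4 noLevel) (L := chainM24Levels.drop 5) (fin := chainM24Fin)
    (init := M21genInit) (ops := M21genOps) (p := 7) chain21 (by decide +kernel) ?_
    (by norm_num) (by decide +kernel) (by decide +kernel) (by decide +kernel) (by decide +kernel)
    M21gen_ok
  intro σ h
  refine eq_one_of_fix_all σ h fun q hq => ?_
  have : ∀ q : GolayPt, q ∉ mset (orbMask (chainM24Levels.getD 3 noLevel).1
      (chainM24Levels.getD 3 noLevel).2.1) → q = pt 23 ∨ q = pt 0 ∨ q = pt 1 := by decide +kernel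
  obtain ⟨h1, h2⟩ := (mem_fixMasks_bit (by norm_num : 1 < 24) (X := X22)).1 σ.2
  obtain ⟨h3, h4⟩ := (mem_fixMasks_bit (by norm_num : 0 < 24) (X := X23)).1 h1
  rcases this q hq with rfl | rfl | rfl
  · exact ((mem_fixMasks_bit (by norm_num : 23 < 24) (X := [])).1 h3).2
  · exact h4
  · exact h2

theorem faith_fix12 {σ : Equiv.Perm GolayPt} (hσ : σ ∈ fixMasks X12)
    (h : ∀ i < 5, σ (pt i) = pt i) : σ = 1 := by
  have hc : chainOK [16, 8, 4, 2, 1, sqMask] (chainM12Levels.drop 5) chainM12Fin = true := by
    decide +kernel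
  have h1 := card_fixMasks hc
  rw [show chainCard (chainM12Levels.drop 5) = 1 by decide +kernel] at h1
  have : σ ∈ fixMasks [16, 8, 4, 2, 1, sqMask] := by
    rw [show ([16, 8, 4, 2, 1, sqMask] : List ℕ) = [Nat.shiftLeft 1 4, Nat.shiftLeft 1 3,
      Nat.shiftLeft 1 2, Nat.shiftLeft 1 1, Nat.shiftLeft 1 0, sqMask] from rfl]
    simp only [mem_fixMasks_bit (show (4 : ℕ) < 24 by norm_num),
      mem_fixMasks_bit (show (3 : ℕ) < 24 by norm_num), mem_fixMasks_bit (show (2 : ℕ) < 24 by norm_num),
      mem_fixMasks_bit (show (1 : ℕ) < 24 by norm_num), mem_fixMasks_bit (show (0 : ℕ) < 24 by norm_num)]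
    exact ⟨⟨⟨⟨⟨hσ, h 0 (by norm_num)⟩, h 1 (by norm_num)⟩, h 2 (by norm_num)⟩, h 3 (by norm_num)⟩,
      h 4 (by norm_num)⟩
  rwa [Subgroup.card_eq_one.1 h1, Subgroup.mem_bot] at this

theorem isSimple_fix11 : IsSimpleGroup (fixMasks X11) := by
  refine isSimple_fixMasks (lv := chainM12Levels.getD 1 noLevel)
    (lv' := chainM12Levels.getD 2 noLevel) (L := chainM12Levels.drop 3) (fin := chainM12Fin)
    (init := M11genInit) (ops := M11genOps) (p := 11) chain11 (by decide +kernel) ?_
    (by norm_num) (by decide +kernel) (by decide +kernel) (by decide +kernel) (by decide +kernel)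
    M11gen_ok
  intro σ h
  obtain ⟨h1, h2⟩ := (mem_fixMasks_bit (by norm_num : 0 < 24) (X := X12)).1 σ.2
  apply Subtype.ext
  refine faith_fix12 h1 fun i hi => ?_
  rcases i with _ | i
  · exact h2
  · have : ∀ i < 4, pt (i + 1) ∈ mset (orbMask (chainM12Levels.getD 1 noLevel).1
        (chainM12Levels.getD 1 noLevel).2.1) := by decide +kernel
    exact h _ (this i (by omega))

theorem fix12_maps (σ : fixMasks X12) {a : GolayPt} (ha : a ∈ mset sqMask) :
    σ • a ∈ mset sqMask := by
  have := σ.2.2 sqMask (by simp)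
  rw [← this]
  exact Finset.smul_mem_smul_finset ha

theorem twoTrans_fix12 : TwoTransOn (fixMasks X12) (mset sqMask) := by
  have h : chainOK X12 (chainM12Levels.getD 0 noLevel :: chainM12Levels.getD 1 noLevel ::
      chainM12Levels.drop 2) chainM12Fin = true := chain12
  obtain ⟨h1, h2⟩ := chainOK_level h
  have hS : orbMask (chainM12Levels.getD 0 noLevel).1 (chainM12Levels.getD 0 noLevel).2.1 = sqMask := by
    decide +kernel
  have htt := level_twoTrans h1 (chainOK_level h2).1 (by decide +kernel)
  rw [hS] at htt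
  refine ⟨fun g a ha => fix12_maps g ha, htt, fun σ hσ => ?_⟩
  apply Subtype.ext
  refine faith_fix12 σ.2 fun i hi => ?_
  have : ∀ i < 5, pt i ∈ mset sqMask := by decide +kernel
  exact hσ _ (this i hi)

/-- Point stabiliser inside a `fixMasks` group. -/
def stabEquiv {X : List ℕ} {i : ℕ} (hi : i < 24) :
    MulAction.stabilizer (fixMasks X) (pt i) ≃* fixMasks (Nat.shiftLeft 1 i :: X) where
  toFun s := ⟨s.1.1, (mem_fixMasks_cons hi).2 ⟨s.1.2, MulAction.mem_stabilizer_iff.1 s.2⟩⟩
  invFun s := ⟨⟨s.1, ((mem_fixMasks_cons hi).1 s.2).1⟩,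
    MulAction.mem_stabilizer_iff.2 ((mem_fixMasks_cons hi).1 s.2).2⟩
  left_inv _ := rfl
  right_inv _ := rfl
  map_mul' _ _ := rfl

theorem isSimple_fix12 : IsSimpleGroup (fixMasks X12) := by
  refine isSimple_of_stabilizer twoTrans_fix12 (a := pt 0) (p := 2) (q := 3) ?_ ?_
    Nat.prime_two Nat.prime_three (by norm_num) ?_ ?_
  · decide +kernel
  · haveI := isSimple_fix11
    exact (stabEquiv (by norm_num : 0 < 24)).isSimpleGroup
  · rw [card_mset]; decide +kernel
  · rw [card_mset]; decide +kernel

theorem twoTrans_fix24 : TwoTransOn (fixMasks []) (Finset.univ : Finset GolayPt) := by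
  have h : chainOK [] (chainM24Levels.getD 0 noLevel :: chainM24Levels.getD 1 noLevel ::
      chainM24Levels.drop 2) chainM24Fin = true := chainM24_ok
  obtain ⟨h1, h2⟩ := chainOK_level h
  have hS : mset (orbMask (chainM24Levels.getD 0 noLevel).1 (chainM24Levels.getD 0 noLevel).2.1) =
      Finset.univ := by decide +kernel
  have htt := level_twoTrans h1 (chainOK_level h2).1 (by decide +kernel)
  rw [hS] at htt
  exact ⟨fun _ _ _ => Finset.mem_univ _, htt,
    fun σ hσ => Subtype.ext (Equiv.ext fun q => hσ q (Finset.mem_univ q))⟩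

theorem isSimple_fix24 : IsSimpleGroup (fixMasks []) := by
  refine isSimple_of_stabilizer twoTrans_fix24 (a := pt 23) (p := 2) (q := 3) (Finset.mem_univ _) ?_
    Nat.prime_two Nat.prime_three (by norm_num) ?_ ?_
  · haveI := isSimple_fix23
    exact (stabEquiv (by norm_num : 23 < 24)).isSimpleGroup
  · simp
  · simp

theorem isSimple_M24 : IsSimpleGroup M24 := by
  haveI := isSimple_fix24
  exact (MulEquiv.subgroupCongr fixMasks_nil).symm.isSimpleGroup

theorem sporM23_eq : Spor.M23 = fixMasks X23 := by
  ext σ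
  rw [show X23 = [Nat.shiftLeft 1 23] from rfl, mem_fixMasks_bit (by norm_num : 23 < 24),
    fixMasks_nil]
  rfl

theorem sporM22_eq : Spor.M22 = fixMasks X22 := by
  ext σ
  rw [show X22 = Nat.shiftLeft 1 0 :: X23 from rfl, mem_fixMasks_bit (by norm_num : 0 < 24),
    ← sporM23_eq]
  rfl

theorem sporM12_eq : Spor.M12 = fixMasks X12 := by
  ext σ
  simp [Spor.M12, mem_fixMasks, squareDodecad_eq]

theorem sporM11_eq : Spor.M11 = fixMasks X11 := by
  ext σ
  rw [show X11 = Nat.shiftLeft 1 0 :: X12 from rfl, mem_fixMasks_bit (by norm_num : 0 < 24),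
    ← sporM12_eq]
  rfl

theorem card_sporM23 : Nat.card Spor.M23 = 10200960 := by rw [sporM23_eq]; exact card_fix23
theorem card_sporM22 : Nat.card Spor.M22 = 443520 := by rw [sporM22_eq]; exact card_fix22
theorem card_sporM12 : Nat.card Spor.M12 = 95040 := by rw [sporM12_eq]; exact card_fix12
theorem card_sporM11 : Nat.card Spor.M11 = 7920 := by rw [sporM11_eq]; exact card_fix11

theorem isSimple_sporM23 : IsSimpleGroup Spor.M23 := by rw [sporM23_eq]; exact isSimple_fix23
theorem isSimple_sporM22 : IsSimpleGroup Spor.M22 := by rw [sporM22_eq]; exact isSimple_fix22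
theorem isSimple_sporM12 : IsSimpleGroup Spor.M12 := by rw [sporM12_eq]; exact isSimple_fix12
theorem isSimple_sporM11 : IsSimpleGroup Spor.M11 := by rw [sporM11_eq]; exact isSimple_fix11

end CfsgLib.Golay
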