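import Cfsg.Agent.Lib.Golay.FischerPolarLambda
import Cfsg.Agent.Lib.Geom.HermNorm
import Cfsg.Agent.S1631

/-!
Lines with five points: the unitary groups over the field of four elements.
-/

set_option autoImplicit false

namespace CfsgLib.FischerPolar

open Subgroup CfsgLib.Trans3 CfsgLib.FischerOdd CfsgLib.MaxSub
open scoped _root_.Classical
open Cfsg.Agent.S1631 (act IsTr su_ext act_mul exists_tr tr_comm_or_braid tr_sq closure_tr isU two_zero hF')

/-! ### The field -/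

section Field

variable {F : Type} [Field F] [Fintype F] (hF : Fintype.card F = 4)

/-- The prime field inside `F`. -/
noncomputable def fi (t : ZMod 2) : F := if t = 0 then 0 else 1

include hF in
theorem exists_omega : ∃ ω : F, ω * ω = ω + 1 := by
  obtain ⟨a, ha0, ha1⟩ : ∃ a : F, a ≠ 0 ∧ a ≠ 1 := by
    by_contra h
    push Not at h
    have hsub : (Finset.univ : Finset F) ⊆ {0, 1} := fun a _ => by
      by_cases ha : a = 0
      · simp [ha]
      · simp [h a ha]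
    have h1 := Finset.card_le_card hsub
    rw [Finset.card_univ, hF] at h1
    exact absurd (h1.trans Finset.card_le_two) (by norm_num)
  have h3 := FiniteField.pow_card_sub_one_eq_one a ha0
  rw [hF] at h3
  have h : (a - 1) * (a * a + a + 1) = 0 := by
    have : a ^ 3 = 1 := h3
    linear_combination this
  have h2 := (mul_eq_zero.1 h).resolve_left (sub_ne_zero.2 ha1)
  exact ⟨a, by linear_combination h2 - (a + 1) * two_zero hF⟩

variable {ω : F} (hω : ω * ω = ω + 1)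

theorem fi_zero : (fi 0 : F) = 0 := if_pos rfl

theorem fi_one : (fi 1 : F) = 1 := if_neg one_ne_zero

include hF in
theorem fi_add (a b : ZMod 2) : (fi (a + b) : F) = fi a + fi b := by
  rcases (by decide : ∀ t : ZMod 2, t = 0 ∨ t = 1) a with rfl | rfl <;>
    rcases (by decide : ∀ t : ZMod 2, t = 0 ∨ t = 1) b with rfl | rfl <;>
    simp [fi, show (1 : ZMod 2) + 1 = 0 from rfl]
  linear_combination -(two_zero hF)

theorem fi_mul (a b : ZMod 2) : (fi (a * b) : F) = fi a * fi b := by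
  rcases (by decide : ∀ t : ZMod 2, t = 0 ∨ t = 1) a with rfl | rfl <;>
    rcases (by decide : ∀ t : ZMod 2, t = 0 ∨ t = 1) b with rfl | rfl <;>
    simp [fi]

/-- An element of `F` from its two coordinates. -/
noncomputable def el (ω : F) (p : ZMod 2 × ZMod 2) : F := fi p.1 + ω * fi p.2

include hF hω in
theorem el_bijective : Function.Bijective (el ω) := by
  have h0 : ω ≠ 0 := fun e => by
    rw [e, zero_mul, zero_add] at hω
    exact zero_ne_one hω
  have h1 : ω ≠ 1 := fun e => by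
    rw [e, one_mul] at hω
    exact one_ne_zero (left_eq_add.1 hω)
  refine (Fintype.bijective_iff_injective_and_card _).2 ⟨fun p q e => ?_, by
    rw [Fintype.card_prod, ZMod.card, hF]⟩
  obtain ⟨a, b⟩ := p
  obtain ⟨c, d⟩ := q
  have key : ∀ s t : ZMod 2, fi s + ω * fi t = 0 → s = 0 ∧ t = 0 := by
    intro s t h
    rcases (by decide : ∀ t : ZMod 2, t = 0 ∨ t = 1) s with rfl | rfl <;>
      rcases (by decide : ∀ t : ZMod 2, t = 0 ∨ t = 1) t with rfl | rfl
    · exact ⟨rfl, rfl⟩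
    · simp [fi] at h; exact absurd h h0
    · simp [fi] at h
    · simp [fi] at h
      exact absurd (show ω = 1 by linear_combination h - two_zero hF) h1
  obtain ⟨e1, e2⟩ := key (a + c) (b + d) (by
    rw [fi_add hF, fi_add hF]
    simp only [el] at e
    linear_combination e + (fi c + ω * fi d) * two_zero hF)
  have hz : ∀ s t : ZMod 2, s + t = 0 → s = t := by decide
  rw [hz _ _ e1, hz _ _ e2]

theorem el_zero : el ω (0, 0) = 0 := by simp [el, fi]

include hF in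
theorem el_add (p q : ZMod 2 × ZMod 2) : el ω (p + q) = el ω p + el ω q := by
  simp only [el, Prod.fst_add, Prod.snd_add, fi_add hF]; ring

include hF hω in
theorem el_mul (a b c d : ZMod 2) :
    el ω (a, b) * el ω (c, d) = el ω (a * c + b * d, a * d + b * c + b * d) := by
  simp only [el, fi_add hF, fi_mul]
  linear_combination fi b * fi d * hω

include hF hω in
theorem el_sq (a b : ZMod 2) : el ω (a, b) ^ 2 = el ω (a + b, b) := by
  rw [sq, el_mul hF hω]
  congr 1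
  revert a b; decide

end Field

variable {G : Type*} [Group G] [Finite G] {D : Set G}

/-! ### The space over `F` -/

section Space

variable (P : Frame D) {F : Type} [Field F] [Fintype F]

/-- Multiplication by an element of the prime field. -/
noncomputable def Frame.tw (t : ZMod 2) (w : ↥P.W) : ↥P.W := if t = 0 then 0 else w

theorem Frame.tw_add (t : ZMod 2) (w v : ↥P.W) : P.tw t (w + v) = P.tw t w + P.tw t v := by
  unfold Frame.tw; split_ifs <;> simp

theorem Frame.add_tw (s t : ZMod 2) (w : ↥P.W) : P.tw (s + t) w = P.tw s w + P.tw t w := by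
  rcases (by decide : ∀ t : ZMod 2, t = 0 ∨ t = 1) s with rfl | rfl <;>
    rcases (by decide : ∀ t : ZMod 2, t = 0 ∨ t = 1) t with rfl | rfl <;>
    simp [Frame.tw, show (1 : ZMod 2) + 1 = 0 from rfl, P.add_self_eq]

theorem Frame.tw_tw (s t : ZMod 2) (w : ↥P.W) : P.tw s (P.tw t w) = P.tw (s * t) w := by
  rcases (by decide : ∀ t : ZMod 2, t = 0 ∨ t = 1) s with rfl | rfl <;>
    rcases (by decide : ∀ t : ZMod 2, t = 0 ∨ t = 1) t with rfl | rfl <;>
    simp [Frame.tw]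

theorem Frame.J_tw (t : ZMod 2) (w : ↥P.W) : P.J (P.tw t w) = P.tw t (P.J w) := by
  unfold Frame.tw; split_ifs <;> simp [P.J_zero]

theorem Frame.beta_tw (t : ZMod 2) (w v : ↥P.W) : P.beta (P.tw t w) v = t * P.beta w v := by
  rcases (by decide : ∀ t : ZMod 2, t = 0 ∨ t = 1) t with rfl | rfl <;>
    simp [Frame.tw, P.beta_zero_left]

/-- The Hermitian form. -/
noncomputable def Frame.herm (ω : F) (w v : ↥P.W) : F := el ω (P.beta w (P.J v), P.beta w v)

variable (hF : Fintype.card F = 4) {ω : F} (hω : ω * ω = ω + 1)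

theorem Frame.J_three (v : ↥P.W) : P.J (P.J (P.J v)) = v := by
  rw [P.J_J v, P.J_add, P.J_J v, add_comm (P.J v) v, add_assoc, P.add_self_eq, add_zero]

theorem Frame.beta_left_J (w v : ↥P.W) : P.beta w (P.J (P.J v)) = P.beta (P.J w) v := by
  rw [← P.beta_J w (P.J (P.J v)), P.J_three]

include hF in
theorem Frame.herm_add (u w v : ↥P.W) : P.herm ω (u + w) v = P.herm ω u v + P.herm ω w v := by
  unfold Frame.herm
  rw [← el_add hF, P.beta_add_left, P.beta_add_left]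
  rfl

include hF hω in
theorem Frame.herm_conj (w v : ↥P.W) : P.herm ω w v ^ 2 = P.herm ω v w := by
  unfold Frame.herm
  rw [el_sq hF hω]
  congr 1
  rw [P.beta_symm v (P.J w), P.beta_symm v w, P.beta_J_left, add_comm]

theorem Frame.herm_self (w : ↥P.W) : P.herm ω w w = fi (P.quad2 w) := by
  simp [Frame.herm, el, P.beta_self, P.beta_self_J, fi]

theorem Frame.herm_eq_zero {w v : ↥P.W} (hF : Fintype.card F = 4) (hω : ω * ω = ω + 1) :
    P.herm ω w v = 0 ↔ P.beta w (P.J v) = 0 ∧ P.beta w v = 0 := by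
  rw [Frame.herm, ← el_zero (ω := ω), (el_bijective hF hω).1.eq_iff, Prod.mk.injEq]

theorem Frame.herm_eq_one {w v : ↥P.W} (hF : Fintype.card F = 4) (hω : ω * ω = ω + 1) :
    P.herm ω w v = 1 ↔ P.beta w (P.J v) = 1 ∧ P.beta w v = 0 := by
  rw [Frame.herm, show (1 : F) = el ω (1, 0) by simp [el, fi], (el_bijective hF hω).1.eq_iff,
    Prod.mk.injEq]

theorem Frame.exists_adjacent : ∃ u v c d, P.Rep u ∧ P.Rep v ∧ P.Mate u c ∧ P.Mate v d ∧
    P.beta (P.gen u c) (P.gen v d) = 1 := by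
  obtain ⟨u, hu⟩ := P.rep_nonempty
  obtain ⟨p, q, r, -, -, -, hall⟩ := P.mate_exists hu
  have hp := (hall p).2 (Or.inl rfl)
  by_contra h
  refine P.gen_ne_zero hu hp (P.nondeg fun b c hb hc => ?_)
  by_contra h1
  exact h ⟨u, b, p, c, hu, hb, hp, hc, by
    revert h1; generalize P.beta (P.gen u p) (P.gen b c) = t; revert t; decide⟩

include hF hω in
/-- Coordinates for the Hermitian space. -/
theorem Frame.exists_coord : ∃ m : ℕ, 2 ≤ m ∧ ∃ Ψ : ↥P.W → (Fin m → F),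
    Function.Bijective Ψ ∧ (∀ w v, Ψ (w + v) = Ψ w + Ψ v) ∧ (∀ w, Ψ (P.J w) = ω • Ψ w) ∧
      ∀ w v, Cfsg.hermForm m F 2 (Ψ w) (Ψ v) = P.herm ω w v := by
  haveI : Finite ↥P.W := Finite.of_surjective P.psi P.psi_surjective
  obtain ⟨cd, hcd⟩ := (el_bijective hF hω).2.hasRightInverse
  have hel : ∀ p, cd (el ω p) = p := fun p => (el_bijective hF hω).1 (hcd _)
  have cadd : ∀ a b, cd (a + b) = cd a + cd b := fun a b => (el_bijective hF hω).1 (by
    rw [el_add hF, hcd, hcd, hcd])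
  have cmul : ∀ a b, cd (a * b) = ((cd a).1 * (cd b).1 + (cd a).2 * (cd b).2,
      (cd a).1 * (cd b).2 + (cd a).2 * (cd b).1 + (cd a).2 * (cd b).2) := fun a b =>
    (el_bijective hF hω).1 (by rw [hcd, ← el_mul hF hω, Prod.mk.eta, Prod.mk.eta, hcd, hcd])
  have c1 : cd 1 = (1, 0) := by
    rw [show (1 : F) = el ω (1, 0) by simp [el, fi], hel]
  have c0 : cd 0 = (0, 0) := by rw [← el_zero (ω := ω), hel]
  letI : SMul F ↥P.W := ⟨fun a w => P.tw (cd a).1 w + P.tw (cd a).2 (P.J w)⟩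
  have hsm : ∀ (a : F) (w : ↥P.W), a • w = P.tw (cd a).1 w + P.tw (cd a).2 (P.J w) :=
    fun _ _ => rfl
  letI : Module F ↥P.W :=
    { one_smul := fun w => by rw [hsm, c1]; simp [Frame.tw]
      mul_smul := fun a b w => by
        simp only [hsm, cmul, P.add_tw, P.tw_add, P.J_add, P.J_tw, P.tw_tw, P.J_J]
        abel
      smul_zero := fun a => by rw [hsm, P.J_zero]; simp [Frame.tw]
      smul_add := fun a u v => by rw [hsm, hsm, hsm, P.J_add, P.tw_add, P.tw_add]; abel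
      add_smul := fun a b w => by
        rw [hsm, hsm, hsm, cadd, Prod.fst_add, Prod.snd_add, P.add_tw, P.add_tw]; abel
      zero_smul := fun w => by rw [hsm, c0]; simp [Frame.tw] }
  have hJ : ∀ w : ↥P.W, ω • w = P.J w := fun w => by
    rw [hsm, show ω = el ω (0, 1) by simp [el, fi], hel]; simp [Frame.tw]
  have hlin : ∀ (a : F) (w v : ↥P.W), P.herm ω (a • w) v = a * P.herm ω w v := by
    intro a w v
    conv_rhs => rw [← hcd a]
    obtain ⟨⟨s, t⟩, e⟩ : ∃ p, p = cd a := ⟨_, rfl⟩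
    unfold Frame.herm
    rw [hsm, ← e, el_mul hF hω, P.beta_add_left, P.beta_add_left, P.beta_tw, P.beta_tw, P.beta_tw,
      P.beta_tw, P.beta_J w v, P.beta_J_left]
    congr 1
    ext <;> ring
  let σ : F →+* F := (qConj (hF' hF)).toRingHom
  have hσ : ∀ a, σ a = a ^ 2 := fun a => qConj_apply (hF' hF) a
  have hσ2 : ∀ a, σ (σ a) = a := fun a => qConj_qConj (hF' hF) a
  have hσn : σ ≠ RingHom.id F := fun e => by
    have h := hσ ω
    rw [e, RingHom.id_apply, sq, hω] at h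
    exact one_ne_zero (left_eq_add.1 h)
  let B : ↥P.W →ₛₗ[σ] ↥P.W →ₗ[F] F := LinearMap.mk₂'ₛₗ σ (RingHom.id F)
    (fun u v => P.herm ω v u)
    (fun u u' v => by
      rw [← P.herm_conj hF hω, P.herm_add hF, ← P.herm_conj hF hω u v,
        ← P.herm_conj hF hω u' v, ← hσ, map_add, hσ, hσ])
    (fun c u v => by
      rw [← P.herm_conj hF hω, hlin, ← hσ, map_mul, hσ (P.herm ω u v), P.herm_conj hF hω]; rfl)
    (fun u v v' => P.herm_add hF v v' u)
    (fun c u v => hlin c v u)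
  have hB : ∀ u v, B u v = P.herm ω v u := fun _ _ => rfl
  haveI : Module.Finite F ↥P.W := Module.Finite.of_finite
  obtain ⟨b, hb⟩ := CfsgLib.Geom.exists_orthonormal_basis hσn hσ2 (Module.finrank F ↥P.W) B
    (fun u v => by rw [hB, hB, hσ, P.herm_conj hF hω])
    (fun x hx => P.nondeg fun c d _ _ => by
      have h := hx (P.gen c d)
      rw [hB, P.herm_eq_zero hF hω] at h
      rw [P.beta_symm]; exact h.2) rfl
  refine ⟨Module.finrank F ↥P.W, ?_, fun w => b.equivFun w, b.equivFun.bijective,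
    fun w v => map_add _ w v, fun w => by rw [← hJ]; exact map_smul _ _ _, fun w v => ?_⟩
  · by_contra hlt
    obtain ⟨v₀, hv₀⟩ := finrank_le_one_iff.1 (show Module.finrank F ↥P.W ≤ 1 by omega)
    obtain ⟨u, v, c, d, hu, hv, hc, hd, h1⟩ := P.exists_adjacent
    obtain ⟨a, ha⟩ := hv₀ (P.gen u c)
    obtain ⟨a', ha'⟩ := hv₀ (P.gen v d)
    have h2 : P.herm ω v₀ v₀ = 0 := by
      have h3 : P.herm ω (P.gen u c) (P.gen u c) = 0 := by
        rw [P.herm_self, P.quad2_gen hu hc, fi_zero]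
      rw [← ha, hlin, ← P.herm_conj hF hω, hlin] at h3
      have ha0 : a ≠ 0 := fun e => P.gen_ne_zero hu hc (by rw [← ha, e, zero_smul])
      rcases mul_eq_zero.1 h3 with h3 | h3
      · exact absurd h3 ha0
      rcases mul_eq_zero.1 (eq_zero_of_pow_eq_zero h3) with h3 | h3
      exacts [absurd h3 ha0, h3]
    have h4 : P.herm ω (P.gen u c) (P.gen v d) = 0 := by
      rw [← ha, ← ha', hlin, ← P.herm_conj hF hω, hlin, h2]; ring
    rw [((P.herm_eq_zero hF hω).1 h4).2] at h1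
    exact zero_ne_one h1
  · rw [← hB v w]
    conv_rhs => rw [← b.sum_equivFun v, ← b.sum_equivFun w]
    simp only [map_sum, LinearMap.sum_apply, LinearMap.map_smulₛₗ, LinearMap.smul_apply,
      RingHom.id_apply, smul_eq_mul, hb, mul_ite, mul_one, mul_zero, Finset.sum_ite_eq',
      Finset.mem_univ, if_true, hσ, Cfsg.hermForm]

/-- An isotropic vector is a generator. -/
theorem Frame.exists_gen {w : ↥P.W} (hq : P.quad2 w = 0) (hw : w ≠ 0) :
    ∃ b c, P.Rep b ∧ P.Mate b c ∧ P.gen b c = w := by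
  obtain ⟨g, rfl⟩ := P.psi_surjective w
  obtain ⟨g', hg', hl⟩ : ∃ g', P.psi g' = P.psi g ∧ P.lam g' = 0 := by
    rcases (by decide : ∀ t : ZMod 2, t = 0 ∨ t + 1 = 0) (P.lam g) with h | h
    · exact ⟨g, rfl, h⟩
    · exact ⟨P.xQ * g, by rw [P.psi_mul, P.psi_xQ, zero_add], by rw [P.lam_xQ_mul, h]⟩
  rcases P.sig_cases ((P.lam_eq_zero_iff g').2 ⟨hg' ▸ hq, hl⟩) with e | ⟨b, c, hb, hc, e⟩
  · exact absurd (by rw [← hg', e, P.psi_one]) hw
  · exact ⟨b, c, hb, hc, by rw [← hg', e, P.psi_sig hb hc.1]⟩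

theorem Frame.gen_orbit {b c c' : G} (hb : P.Rep b) (hc : P.Mate b c) (hc' : P.Mate b c') :
    P.gen b c' = P.gen b c ∨ P.gen b c' = P.J (P.gen b c) ∨
      P.gen b c' = P.J (P.J (P.gen b c)) := by
  obtain ⟨h1, -, -, -, -, hall⟩ := P.nxt_spec hb hc
  rw [P.J_gen hb hc, P.J_gen hb h1]
  rcases hall c' hc' with e | e | e <;> simp [e]

theorem Frame.class_commute {b b' z z' : G} (hb : P.Rep b) (hb' : P.Rep b')
    (hz : z ∈ Cl D P.x b) (hz' : z' ∈ Cl D P.x b') : Commute z z' ↔ Commute b b' := by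
  constructor
  · intro h
    exact ((hz.2 b' hb'.1).2 ((hz'.2 z hz.1).2 h).symm).symm
  · intro h
    exact (hz'.2 z hz.1).1 ((hz.2 b' hb'.1).1 h.symm).symm

include hF hω in
theorem Frame.herm_gen {u v c d : G} (hu : P.Rep u) (hv : P.Rep v) (hc : P.Mate u c)
    (hd : P.Mate v d) : P.herm ω (P.gen u c) (P.gen v d) = 0 ↔ Commute u v := by
  rw [P.herm_eq_zero hF hω, P.J_gen hv hd]
  refine ⟨fun ⟨h1, h2⟩ => ?_, fun h => ⟨P.beta_gen_commute hu hc hv (P.nxt_spec hv hd).1 h,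
    P.beta_gen_commute hu hc hv hd h⟩⟩
  by_contra huv
  rw [P.beta_gen_adj hu hc hv (P.nxt_spec hv hd).1 huv] at h1
  rw [P.beta_gen_adj hu hc hv hd huv] at h2
  by_cases e : d = th u v c
  · rw [if_neg (e ▸ (P.nxt_spec hv hd).2.1)] at h1
    exact one_ne_zero h1
  · rw [if_neg e] at h2
    exact one_ne_zero h2

include hF hω in
theorem Frame.herm_gen_fixed {b c : G} (hb : P.Rep b) (hc : P.Mate b c) (g : ↥(Qg D P.x)) :
    P.herm ω (P.psi g) (P.gen b c) = 0 ↔ ¬ P.Moves g b := by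
  rw [P.herm_eq_zero hF hω, P.J_gen hb hc, P.fixed_iff hb]
  refine ⟨fun ⟨h1, h2⟩ d hd => ?_, fun h => ⟨h _ (P.nxt_spec hb hc).1, h c hc⟩⟩
  have hs := P.beta_gen_sum hb hc (P.psi g)
  rw [h1, h2, zero_add, zero_add] at hs
  rcases (P.nxt_spec hb hc).2.2.2.2.2 d hd with rfl | rfl | rfl <;> assumption

include hF hω in
theorem Frame.herm_gen_mate {b c : G} (hb : P.Rep b) (hc : P.Mate b c) (g : ↥(Qg D P.x)) :
    P.herm ω (P.psi g) (P.gen b c) = 1 ↔ c = (g : G) * b * (g : G)⁻¹ := by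
  rw [P.herm_eq_one hF hω, P.J_gen hb hc]
  constructor
  · rintro ⟨h1, h2⟩
    have hm : P.Moves g b := (P.moves_iff hb g).2 ⟨_, (P.nxt_spec hb hc).1, h1⟩
    rw [P.beta_moved hb hc hm] at h2
    by_contra hne
    rw [if_neg hne] at h2
    exact one_ne_zero h2
  · intro e
    have hm : P.Moves g b := by rw [Frame.Moves, ← e]; exact hc.2
    rw [P.beta_moved hb (P.nxt_spec hb hc).1 hm, P.beta_moved hb hc hm, if_pos e,
      if_neg (e ▸ (P.nxt_spec hb hc).2.1)]
    exact ⟨rfl, rfl⟩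

theorem Frame.commute_mate_image {b c : G} (hb : P.Rep b) (hc : c ∈ Cl D P.x b)
    (g : ↥(Qg D P.x)) :
    Commute c ((g : G) * P.f * (g : G)⁻¹) ↔ c = (g : G) * b * (g : G)⁻¹ := by
  refine ⟨fun h => ?_, fun e => e ▸ (commute_conj_iff _ _ _).2 hb.2⟩
  obtain ⟨s, -, hu⟩ := P.setting.existsUnique_rep P.hx hb.1
    (class_conj_mem P.setting.isClass (g : G) P.hf) (P.image_not_commute g)
  exact (hu c ⟨hc, h.symm⟩).trans
    (hu _ ⟨P.setting.qg_conj_cl P.hx g.2 (mem_cl_self hb.1),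
      ((commute_conj_iff _ _ _).2 hb.2).symm⟩).symm

include P hF hω in
/-- The vectors of the members. -/
theorem Frame.exists_vector : ∃ n : ℕ, 4 ≤ n ∧ ∃ V : G → (Fin n → F),
    (∀ d ∈ D, V d ≠ 0) ∧
    (∀ d ∈ D, ∀ d' ∈ D, Commute d d' ↔ Cfsg.hermForm n F 2 (V d) (V d') = 0) ∧
    ∀ v, v ≠ 0 → Cfsg.hermForm n F 2 v v = 0 → ∃ d ∈ D, ∃ a : F, v = a • V d := by
  obtain ⟨m, hm, Ψ, hΨ, hΨadd, hΨJ, hΨh⟩ := P.exists_coord hF hω
  have h2 := two_zero hF
  have hU := isU (n := m + 2) hF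
  obtain ⟨vec, evec⟩ : ∃ vec : F → ↥P.W → F → (Fin (m + 2) → F), vec = fun α w γ =>
      Fin.cons (α + ω * γ) (Fin.cons (α + (ω + 1) * γ) (Ψ w)) := ⟨_, rfl⟩
  have hvec : ∀ α w γ α' w' γ', Cfsg.hermForm (m + 2) F 2 (vec α w γ) (vec α' w' γ') =
      α * γ' ^ 2 + γ * α' ^ 2 + P.herm ω w w' := by
    intro α w γ α' w' γ'
    rw [evec, ← hΨh w w']
    simp only [Cfsg.hermForm, Fin.sum_univ_succ, Fin.cons_zero, Fin.cons_succ]
    linear_combination γ * γ' ^ 2 * hω +
      (α * α' ^ 2 + γ * α' ^ 2 * ω + α * α' * γ' * (2 * ω + 1) +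
        γ * α' * γ' * (2 * ω ^ 2 + 2 * ω + 1) + α * γ' ^ 2 * (ω ^ 2 + ω) +
        γ * γ' ^ 2 * (ω ^ 3 + ω ^ 2 + 2 * ω + 1)) * h2
  have hΨ0 : Ψ 0 = 0 := by
    have := hΨadd 0 0
    rw [add_zero] at this
    exact left_eq_add.1 this
  have hvec0 : ∀ α w γ, vec α w γ = 0 → α = 0 ∧ w = 0 ∧ γ = 0 := by
    intro α w γ e
    rw [evec] at e
    have e0 := congrFun e 0
    have e1 := congrFun e (Fin.succ 0)
    have e2 : Ψ w = 0 := funext fun i => by
      have := congrFun e (Fin.succ (Fin.succ i))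
      simpa using this
    simp only [Fin.cons_zero, Fin.cons_succ, Pi.zero_apply] at e0 e1
    have hγ : γ = 0 := by linear_combination e1 - e0
    refine ⟨by rw [hγ] at e0; simpa using e0, hΨ.1 (e2.trans hΨ0.symm), hγ⟩
  have hsurj : ∀ v : Fin (m + 2) → F, ∃ α w γ, v = vec α w γ := by
    intro v
    obtain ⟨w, hw⟩ := hΨ.2 fun i => v (Fin.succ (Fin.succ i))
    refine ⟨v 0 - ω * (v (Fin.succ 0) - v 0), w, v (Fin.succ 0) - v 0, ?_⟩
    rw [evec]
    funext i
    refine Fin.cases ?_ (Fin.cases ?_ fun i => ?_) i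
    · simp
    · simp; ring
    · simp [hw]
  obtain ⟨al, eal⟩ : ∃ al : ↥(Qg D P.x) → F, al = fun g => el ω (P.lam g, P.quad2 (P.psi g)) :=
    ⟨_, rfl⟩
  -- the cases
  obtain ⟨Cs, eCs⟩ : ∃ Cs : G → (Fin (m + 2) → F) → Prop, Cs = fun d v =>
      (d = P.x ∧ v = vec 1 0 0) ∨
      (P.Rep d ∧ v = vec 0 (P.gen d (P.lbl d 0)) 0) ∨
      (∃ b, P.Rep b ∧ P.Mate b d ∧ v = vec 1 (P.gen b d) 0) ∨
      ∃ g : ↥(Qg D P.x), d = (g : G) * P.f * (g : G)⁻¹ ∧ v = vec (al g) (P.psi g) 1 := ⟨_, rfl⟩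
  have hex : ∀ d ∈ D, ∃ v, Cs d v := by
    intro d hd
    rw [eCs]
    by_cases hdx : d = P.x
    · exact ⟨_, Or.inl ⟨hdx, rfl⟩⟩
    by_cases hc : Commute P.x d
    · obtain ⟨b, hb, hbd⟩ := P.exists_rep (a := d) ⟨hd, hdx, hc⟩
      by_cases hdb : d = b
      · exact ⟨_, Or.inr (Or.inl ⟨hdb ▸ hb, rfl⟩)⟩
      · exact ⟨_, Or.inr (Or.inr (Or.inl ⟨b, hb, ⟨cl_symm ⟨hd, hdx, hc⟩ hbd, hdb⟩, rfl⟩))⟩
    · obtain ⟨g, hg, e⟩ := P.setting.qg_trans P.four P.hx P.hf P.hxf hd hc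
      exact ⟨_, Or.inr (Or.inr (Or.inr ⟨⟨g, hg⟩, e.symm, rfl⟩))⟩
  have hnz : ∀ d v, Cs d v → v ≠ 0 := by
    intro d v h e
    rw [eCs] at h
    rcases h with ⟨-, rfl⟩ | ⟨hb, rfl⟩ | ⟨b, -, -, rfl⟩ | ⟨g, -, rfl⟩
    · exact one_ne_zero (hvec0 _ _ _ e).1
    · exact P.gen_ne_zero hb (P.lbl_mate hb 0) (hvec0 _ _ _ e).2.1
    · exact one_ne_zero (hvec0 _ _ _ e).1
    · exact one_ne_zero (hvec0 _ _ _ e).2.2
  have hcl : ∀ {u v : Fin (m + 2) → F}, Cfsg.hermForm (m + 2) F 2 u v = 0 ↔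
      Cfsg.hermForm (m + 2) F 2 v u = 0 := fun {u v} =>
    ⟨herm_eq_zero_comm hU, herm_eq_zero_comm hU⟩
  have hz0 : ∀ w, P.herm ω 0 w = 0 := fun w => by
    simp [Frame.herm, P.beta_zero_left, el, fi]
  have hflip : ∀ {w v : ↥P.W}, P.herm ω w v = 1 ↔ P.herm ω v w = 1 := by
    intro w v
    constructor <;> intro h <;> rw [← P.herm_conj hF hω, h, one_pow]
  have hflip0 : ∀ {w v : ↥P.W}, P.herm ω w v = 0 ↔ P.herm ω v w = 0 := by
    intro w v
    constructor <;> intro h <;> rw [← P.herm_conj hF hω, h, zero_pow two_ne_zero]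
  have hneg : ∀ {a : F}, 1 + a = 0 ↔ a = 1 := fun {a} =>
    ⟨fun h => by linear_combination h - h2, fun h => by rw [h]; linear_combination h2⟩
  have himg : ∀ g g' : ↥(Qg D P.x),
      Commute ((g : G) * P.f * (g : G)⁻¹) ((g' : G) * P.f * (g' : G)⁻¹) ↔
      Cfsg.hermForm (m + 2) F 2 (vec (al g) (P.psi g) 1) (vec (al g') (P.psi g') 1) = 0 := by
    intro g g'
    rw [hvec, eal]
    simp only [one_pow, mul_one, one_mul]
    rw [el_sq hF hω, Frame.herm, ← el_add hF, ← el_add hF, ← el_zero (ω := ω),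
      (el_bijective hF hω).1.eq_iff]
    have hS : Commute ((g : G) * P.f * (g : G)⁻¹) ((g' : G) * P.f * (g' : G)⁻¹) ↔
        P.Sig (g⁻¹ * g') := by
      rw [Frame.Sig, ← commute_conj_iff (g : G)⁻¹, Subgroup.coe_mul, Subgroup.coe_inv]
      rw [show (g : G)⁻¹ * ((g : G) * P.f * (g : G)⁻¹) * (g : G)⁻¹⁻¹ = P.f by group,
        show (g : G)⁻¹ * ((g' : G) * P.f * (g' : G)⁻¹) * (g : G)⁻¹⁻¹ =
          (g : G)⁻¹ * g' * P.f * ((g : G)⁻¹ * g')⁻¹ by group]
    have e : P.psi g⁻¹ = P.psi g := by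
      have h1 := P.psi_mul g⁻¹ g
      rw [inv_mul_cancel, P.psi_one] at h1
      rw [eq_neg_of_add_eq_zero_left h1.symm, neg_eq_of_add_eq_zero_right (P.add_self_eq _)]
    rw [hS, P.lam_eq_zero_iff, P.psi_mul, e, P.quad2_add, P.lam_mul, P.lam_inv, e, Prod.mk_add_mk,
      Prod.mk_add_mk, Prod.mk.injEq, P.beta_symm (P.psi g) (P.J (P.psi g')), P.beta_J_left,
      P.beta_symm (P.psi g') (P.psi g)]
    generalize P.quad2 (P.psi g) = q
    generalize P.quad2 (P.psi g') = q'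
    generalize P.lam g = l
    generalize P.lam g' = l'
    generalize P.beta (P.psi g) (P.psi g') = β
    generalize P.beta (P.psi g') (P.J (P.psi g)) = γ
    revert q q' l l' β γ
    decide
  have hcomm : ∀ d v d' v', Cs d v → Cs d' v' →
      (Commute d d' ↔ Cfsg.hermForm (m + 2) F 2 v v' = 0) := by
    intro d v d' v' h h'
    have hxc : ∀ {b z}, P.Rep b → z ∈ Cl D P.x b → Commute P.x z := fun _ hz => hz.1.2.2
    rw [eCs] at h h'
    rcases h with ⟨rfl, rfl⟩ | ⟨hb, rfl⟩ | ⟨b, hb, hc, rfl⟩ | ⟨g, rfl, rfl⟩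
    · rcases h' with ⟨rfl, rfl⟩ | ⟨hb', rfl⟩ | ⟨b', hb', hc', rfl⟩ | ⟨g', rfl, rfl⟩
      · simp [hvec, hz0]
      · simp [hvec, hz0, hb'.1.2.2]
      · simp [hvec, hz0, hc'.1.1.2.2]
      · simp [hvec, hz0, P.image_not_commute g']
    · rcases h' with ⟨rfl, rfl⟩ | ⟨hb', rfl⟩ | ⟨b', hb', hc', rfl⟩ | ⟨g', rfl, rfl⟩
      · rw [hcl, hvec]; simp [hz0, hb.1.2.2.symm]
      · rw [hvec, ← P.herm_gen hF hω hb hb' (P.lbl_mate hb 0) (P.lbl_mate hb' 0)]; simp
      · rw [hvec, P.class_commute hb hb' (mem_cl_self hb.1) hc'.1,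
          ← P.herm_gen hF hω hb hb' (P.lbl_mate hb 0) hc']
        simp
      · rw [hvec, P.commute_image_iff hb, ← P.herm_gen_fixed hF hω hb (P.lbl_mate hb 0),
          hflip0]
        simp
    · rcases h' with ⟨rfl, rfl⟩ | ⟨hb', rfl⟩ | ⟨b', hb', hc', rfl⟩ | ⟨g', rfl, rfl⟩
      · rw [hcl, hvec]; simp [hz0, hc.1.1.2.2.symm]
      · rw [hvec, P.class_commute hb hb' hc.1 (mem_cl_self hb'.1),
          ← P.herm_gen hF hω hb hb' hc (P.lbl_mate hb' 0)]
        simp
      · rw [hvec, P.class_commute hb hb' hc.1 hc'.1, ← P.herm_gen hF hω hb hb' hc hc']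
        simp
      · rw [hvec, P.commute_mate_image hb hc.1, ← P.herm_gen_mate hF hω hb hc, hflip,
          ← hneg]
        simp
    · rcases h' with ⟨rfl, rfl⟩ | ⟨hb', rfl⟩ | ⟨b', hb', hc', rfl⟩ | ⟨g', rfl, rfl⟩
      · rw [hcl, hvec]
        simp only [hz0, one_pow, mul_one, zero_mul, add_zero]
        exact iff_of_false (fun h => P.image_not_commute g h.symm) one_ne_zero
      · rw [hvec, ← P.herm_gen_fixed hF hω hb' (P.lbl_mate hb' 0) g |>.trans
          (P.commute_image_iff hb' g).symm |>.trans ⟨Commute.symm, Commute.symm⟩]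
        simp
      · rw [hcl, hvec]
        rw [show Commute _ d' ↔ Commute d' _ from ⟨Commute.symm, Commute.symm⟩,
          P.commute_mate_image hb' hc'.1, ← P.herm_gen_mate hF hω hb' hc', hflip, ← hneg]
        simp
      · exact himg g g'
  choose V hV using hex
  refine ⟨m + 2, by omega, fun d => if h : d ∈ D then V d h else 0, fun d hd => ?_,
    fun d hd d' hd' => ?_, ?_⟩
  · simp only [dif_pos hd]; exact hnz d _ (hV d hd)
  · simp only [dif_pos hd, dif_pos hd']; exact hcomm _ _ _ _ (hV d hd) (hV d' hd')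
  intro v hv0 hvv
  -- every case is realised
  suffices h : ∃ d ∈ D, ∃ a : F, a ≠ 0 ∧ ∀ u, Cs d u → v = a • u by
    obtain ⟨d, hd, a, -, h⟩ := h
    exact ⟨d, hd, a, by simp only [dif_pos hd]; exact h _ (hV d hd)⟩
  have hxR : ∀ b, P.Rep b → b ≠ P.x := fun b hb => hb.1.2.1
  have huniq : ∀ d u u', Cs d u → Cs d u' → u = u' := by
    intro d u u' h h'
    rw [eCs] at h h'
    have hRM : ∀ b c, P.Rep b → P.Mate b c → ¬ P.Rep c := fun b c hb hc hcR =>
      hc.2 (P.rep_unique hb.1 hcR hb hc.1 (mem_cl_self hb.1))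
    have hPI : ∀ (g : ↥(Qg D P.x)) z, Commute P.x z → (g : G) * P.f * (g : G)⁻¹ ≠ z :=
      fun g z hz e => P.image_not_commute g (e ▸ hz)
    rcases h with ⟨rfl, rfl⟩ | ⟨hb, rfl⟩ | ⟨b, hb, hc, rfl⟩ | ⟨g, rfl, rfl⟩
    · rcases h' with ⟨-, rfl⟩ | ⟨hb', -⟩ | ⟨b', -, hc', -⟩ | ⟨g', e, -⟩
      · rfl
      · exact absurd rfl hb'.1.2.1
      · exact absurd rfl hc'.1.1.2.1
      · exact absurd e.symm (hPI g' _ (Commute.refl _))
    · rcases h' with ⟨e, -⟩ | ⟨-, rfl⟩ | ⟨b', hb', hc', -⟩ | ⟨g', e, -⟩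
      · exact absurd e hb.1.2.1
      · rfl
      · exact absurd hb (hRM _ _ hb' hc')
      · exact absurd e.symm (hPI g' _ hb.1.2.2)
    · rcases h' with ⟨e, -⟩ | ⟨hb', -⟩ | ⟨b', hb', hc', rfl⟩ | ⟨g', e, -⟩
      · exact absurd e hc.1.1.2.1
      · exact absurd hb' (hRM _ _ hb hc)
      · rw [P.rep_unique hc.1.1 hb hb' (cl_symm hb.1 hc.1) (cl_symm hb'.1 hc'.1)]
      · exact absurd e.symm (hPI g' _ hc.1.1.2.2)
    · rcases h' with ⟨e, -⟩ | ⟨hb', -⟩ | ⟨b', hb', hc', -⟩ | ⟨g', e, rfl⟩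
      · exact absurd e (hPI g _ (Commute.refl _))
      · exact absurd rfl (hPI g _ hb'.1.2.2)
      · exact absurd rfl (hPI g _ hc'.1.1.2.2)
      · rw [P.sig_eq e]
  have hfix : ∀ d u (a : F), Cs d u → a ≠ 0 → v = a • u →
      ∃ a : F, a ≠ 0 ∧ ∀ u, Cs d u → v = a • u := fun d u a hu ha e =>
    ⟨a, ha, fun u' hu' => by rw [huniq d u' u hu' hu]; exact e⟩
  have hscale : ∀ (a α : F) w γ, ∃ w', a • vec α w γ = vec (a * α) w' (a * γ) := by
    intro a α w γ
    obtain ⟨α', w', γ', e⟩ := hsurj (a • vec α w γ)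
    refine ⟨w', ?_⟩
    rw [e]
    rw [evec] at e ⊢
    have e0 := congrFun e 0
    have e1 := congrFun e (Fin.succ 0)
    simp only [Pi.smul_apply, Fin.cons_zero, Fin.cons_succ, smul_eq_mul] at e0 e1
    have hγ : γ' = a * γ := by linear_combination e0 - e1
    have hα : α' = a * α := by rw [hγ] at e0; linear_combination -e0
    rw [hγ, hα]
  obtain ⟨α, w, γ, rfl⟩ := hsurj v
  by_cases hγ : γ = 0
  · subst hγ
    have hq : P.quad2 w = 0 := by
      rw [hvec, zero_pow two_ne_zero, mul_zero, zero_mul, zero_add, zero_add, P.herm_self] at hvv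
      by_contra hne
      rw [show P.quad2 w = 1 by
        revert hne; generalize P.quad2 w = t; revert t; decide, fi_one] at hvv
      exact one_ne_zero hvv
    by_cases hα : α = 0
    · subst hα
      have hw : w ≠ 0 := fun e => hv0 (by
        rw [e, evec]
        funext i
        refine Fin.cases ?_ (Fin.cases ?_ fun i => ?_) i <;> simp [hΨ0])
      obtain ⟨b, c, hb, hc, rfl⟩ := P.exists_gen hq hw
      have hωp : ω ≠ 0 := fun e => by
        rw [e, zero_mul, zero_add] at hω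
        exact zero_ne_one hω
      obtain ⟨a, ha, e⟩ : ∃ a : F, a ≠ 0 ∧ Ψ (P.gen b c) = a • Ψ (P.gen b (P.lbl b 0)) := by
        rcases P.gen_orbit hb (P.lbl_mate hb 0) hc with e | e | e
        · exact ⟨1, one_ne_zero, by rw [e, one_smul]⟩
        · exact ⟨ω, hωp, by rw [e, hΨJ]⟩
        · exact ⟨ω * ω, mul_ne_zero hωp hωp, by rw [e, hΨJ, hΨJ, smul_smul]⟩
      refine ⟨b, hb.1.1, hfix b _ a (by rw [eCs]; exact Or.inr (Or.inl ⟨hb, rfl⟩)) ha ?_⟩
      rw [evec]
      funext i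
      refine Fin.cases ?_ (Fin.cases ?_ fun i => ?_) i
      · simp
      · simp
      · simp [e]
    · obtain ⟨w', e⟩ := hscale α⁻¹ α w 0
      rw [inv_mul_cancel₀ hα, mul_zero] at e
      have e' : vec α w 0 = α • vec 1 w' 0 := by rw [← e, smul_smul, mul_inv_cancel₀ hα, one_smul]
      have hq' : P.quad2 w' = 0 := by
        have h1 : Cfsg.hermForm (m + 2) F 2 (vec 1 w' 0) (vec 1 w' 0) = 0 := by
          rw [← e, hU.smul_left, herm_smul_right hU, hvv, mul_zero, mul_zero]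
        rw [hvec, zero_pow two_ne_zero, mul_zero, zero_mul, zero_add, zero_add, P.herm_self] at h1
        by_contra hne
        rw [show P.quad2 w' = 1 by
          revert hne; generalize P.quad2 w' = t; revert t; decide, fi_one] at h1
        exact one_ne_zero h1
      by_cases hw' : w' = 0
      · exact ⟨P.x, P.hx, hfix P.x _ α (by rw [eCs]; exact Or.inl ⟨rfl, rfl⟩) hα (hw' ▸ e')⟩
      · obtain ⟨b, c, hb, hc, rfl⟩ := P.exists_gen hq' hw'
        exact ⟨c, hc.1.1.1, hfix c _ α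
          (by rw [eCs]; exact Or.inr (Or.inr (Or.inl ⟨b, hb, hc, rfl⟩))) hα e'⟩
  · obtain ⟨w', e⟩ := hscale γ⁻¹ α w γ
    rw [inv_mul_cancel₀ hγ] at e
    have e' : vec α w γ = γ • vec (γ⁻¹ * α) w' 1 := by
      rw [← e, smul_smul, mul_inv_cancel₀ hγ, one_smul]
    have h1 : Cfsg.hermForm (m + 2) F 2 (vec (γ⁻¹ * α) w' 1) (vec (γ⁻¹ * α) w' 1) = 0 := by
      rw [← e, hU.smul_left, herm_smul_right hU, hvv, mul_zero, mul_zero]
    obtain ⟨⟨s, t⟩, hst⟩ := (el_bijective hF hω).2 (γ⁻¹ * α)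
    rw [hvec, ← hst, one_pow, mul_one, one_mul, el_sq hF hω, Frame.herm, ← el_add hF, ← el_add hF,
      ← el_zero (ω := ω), (el_bijective hF hω).1.eq_iff, Prod.mk_add_mk, Prod.mk_add_mk,
      Prod.mk.injEq, P.beta_self_J, P.beta_self] at h1
    obtain ⟨g, hg⟩ := P.psi_surjective w'
    have hgoal : ∀ g' : ↥(Qg D P.x), P.psi g' = w' → P.lam g' = s →
        ∃ d ∈ D, ∃ a : F, a ≠ 0 ∧ ∀ u, Cs d u → vec α w γ = a • u := by
      intro g' hg' hl
      refine ⟨_, class_conj_mem P.setting.isClass (g' : G) P.hf,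
        hfix _ (vec (al g') (P.psi g') 1) γ
          (by rw [eCs]; exact Or.inr (Or.inr (Or.inr ⟨g', rfl, rfl⟩))) hγ ?_⟩
      have ht : t = P.quad2 w' :=
        (by decide : ∀ s t q : ZMod 2, s + (s + t) + q = 0 → t = q) s t _ h1.1
      rw [eal]
      simp only
      rw [hg', hl, ← ht, hst, e']
    by_cases hl : P.lam g = s
    · exact hgoal g hg hl
    · exact hgoal (P.xQ * g) (by rw [P.psi_mul, P.psi_xQ, zero_add, hg]) (by
        rw [P.lam_xQ_mul]
        exact (by decide : ∀ l s : ZMod 2, l ≠ s → l + 1 = s) _ _ hl)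

end Space

/-! ### The group -/

theorem conj_isTr {F : Type} [Field F] [Fintype F] {n : ℕ}
    {A B : ↥(Cfsg.SU n F 2)} {w : Fin n → F} (hA : IsTr A w) :
    IsTr (B * A * B⁻¹) (act B w) := by
  obtain ⟨hw, hww, hA⟩ := hA
  have hcancel : ∀ x, act B (act B⁻¹ x) = x := fun x => by
    rw [← act_mul, mul_inv_cancel]; simp [act]
  refine ⟨fun e => hw ?_, (B.2 w w).trans hww, fun x => ?_⟩
  · have h2 : act B⁻¹ (act B w) = w := by rw [← act_mul, inv_mul_cancel]; simp [act]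
    rw [← h2, e]
    simp [act]
  · rw [act_mul, act_mul, hA, show Cfsg.hermForm n F 2 (act B⁻¹ x) w
      = Cfsg.hermForm n F 2 x (act B w) by
        conv_rhs => rw [← hcancel x]
        exact (B.2 _ _).symm]
    show act B (act B⁻¹ x + _ • w) = _
    simp only [act, Matrix.mulVec_add, Matrix.mulVec_smul] at hcancel ⊢
    rw [hcancel]

/-- Lines with five points give a unitary group. -/
theorem Setting.iso_unitary (S : Setting D)
    (hfour : ∀ x ∈ D, ∀ a ∈ Perp D x, (Cl D x a).ncard = 4) :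
    ∃ (F : Type) (_ : Field F) (_ : Fintype F) (n : ℕ), Fintype.card F = 4 ∧ 4 ≤ n ∧
      Nonempty (G ≃* Cfsg.PSU n F 2) ∧
      ∃ pt : (Fin n → F) → G,
        (∀ v, v ≠ 0 → Cfsg.hermForm n F 2 v v = 0 → pt v ∈ D) ∧
        ∀ v w, v ≠ 0 → Cfsg.hermForm n F 2 v v = 0 → w ≠ 0 → Cfsg.hermForm n F 2 w w = 0 →
          (Commute (pt v) (pt w) ↔ Cfsg.hermForm n F 2 v w = 0) := by
  haveI : Fact (Nat.Prime 2) := ⟨Nat.prime_two⟩
  letI : Fintype (GaloisField 2 2) := Fintype.ofFinite _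
  have hF : Fintype.card (GaloisField 2 2) = 4 := by
    rw [← Nat.card_eq_fintype_card, GaloisField.card 2 2 two_ne_zero]; norm_num
  refine ⟨GaloisField 2 2, inferInstance, inferInstance, ?_⟩
  obtain ⟨x, hx, a, ha, -⟩ := S.big
  obtain ⟨f, hf, hxf, -⟩ := S.exists_rep_eq hx ha
  obtain ⟨ω, hω⟩ := exists_omega hF
  obtain ⟨n, hn, V, hV0, hVc, hVs⟩ := Frame.exists_vector ⟨S, hfour, x, f, hx, hf, hxf⟩ hF hω
  refine ⟨n, hF, hn, ?_⟩
  have hU := isU (n := n) hF
  have hs := S.isClass.1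
  have hVv : ∀ d ∈ D, Cfsg.hermForm n (GaloisField 2 2) 2 (V d) (V d) = 0 :=
    fun d hd => (hVc d hd d hd).1 (Commute.refl d)
  choose T hT using fun d : ↥D => exists_tr hF (hV0 d.1 d.2) (hVv d.1 d.2)
  have hTc : ∀ d e : ↥D, Commute (d : G) (e : G) ↔ Commute (T d) (T e) := by
    intro d e
    rw [hVc d.1 d.2 e.1 e.2]
    refine ⟨(tr_comm_or_braid hF (hT d) (hT e)).1, fun hc => ?_⟩
    by_contra h
    have hb := (tr_comm_or_braid hF (hT d) (hT e)).2 h
    rw [hc.eq, mul_assoc, (tr_sq hF (hT d)).1, mul_one, ← hc.eq, mul_assoc,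
      (tr_sq hF (hT e)).1, mul_one] at hb
    have h1 := (hT d).2.2 (V d)
    rw [← hb, (hT e).2.2 (V d), hVv d.1 d.2, zero_smul, add_right_inj, smul_eq_zero] at h1
    exact (hV0 e.1 e.2) (h1.resolve_left h)
  have hTinj : Function.Injective T := by
    intro d e he
    apply Subtype.ext
    have hm := ((vRel_iff S.group d.2).1 ⟨d.2, e.2, fun y hy => ?_⟩).2
    · rw [S.two, mem_bot] at hm
      rw [eq_inv_of_mul_eq_one_left hm, inv_eq hs e.2]
    · rw [hTc e ⟨y, hy⟩, hTc d ⟨y, hy⟩, he]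
  have hTsurj : ∀ A v, IsTr A v → ∃ d, T d = A := by
    intro A v hA
    obtain ⟨d, hd, a, ea⟩ := hVs v hA.1 hA.2.1
    refine ⟨⟨d, hd⟩, su_ext fun y => ?_⟩
    rw [(hT ⟨d, hd⟩).2.2, hA.2.2, ea, herm_smul_right hU, smul_smul]
    have ha0 : a ≠ 0 := fun e => hA.1 (by rw [ea, e, zero_smul])
    congr 2
    rw [mul_right_comm, Cfsg.Agent.S1631.conj_inv hF ha0, one_mul]
  have hTconj : ∀ (B : ↥(Cfsg.SU n (GaloisField 2 2) 2)) (d : ↥D),
      ∃ e, T e = B * T d * B⁻¹ := fun B d => hTsurj _ _ (conj_isTr (hT d))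
  choose mv hmv using hTconj
  have hmv1 : ∀ d, mv 1 d = d := fun d => hTinj (by rw [hmv]; group)
  have hmvm : ∀ A B d, mv (A * B) d = mv A (mv B d) := fun A B d => hTinj (by
    rw [hmv, hmv, hmv]; group)
  obtain ⟨μ, eμ⟩ : ∃ μ : ↥(Cfsg.SU n (GaloisField 2 2) 2) →* Equiv.Perm ↥D,
      ∀ A d, μ A d = mv A d :=
    ⟨MonoidHom.mk' (fun A => ⟨mv A, mv A⁻¹, fun d => by rw [← hmvm, inv_mul_cancel, hmv1],
        fun d => by rw [← hmvm, mul_inv_cancel, hmv1]⟩)
      (fun A B => Equiv.ext fun d => hmvm A B d), fun A d => rfl⟩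
  obtain ⟨ρ, eρ⟩ : ∃ ρ : G →* Equiv.Perm ↥D, ∀ g d, ((ρ g d : ↥D) : G) = g * (d : G) * g⁻¹ :=
    ⟨MonoidHom.mk' (fun g => ⟨fun d => ⟨g * (d : G) * g⁻¹, class_conj_mem S.isClass g d.2⟩,
        fun d => ⟨g⁻¹ * (d : G) * g⁻¹⁻¹, class_conj_mem S.isClass g⁻¹ d.2⟩,
        fun d => Subtype.ext (by group), fun d => Subtype.ext (by group)⟩)
      (fun g h => Equiv.ext fun d => Subtype.ext (by
        show g * h * (d : G) * (g * h)⁻¹ = g * (h * (d : G) * h⁻¹) * g⁻¹
        group)), fun g d => rfl⟩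
  have hρinj : Function.Injective ρ := by
    rw [injective_iff_map_eq_one]
    intro g hg
    rw [← mem_bot, ← S.centre, mem_center_iff]
    intro h
    have hle : closure D ≤ centralizer {g} := (closure_le _).2 fun y hy =>
      mem_centralizer_singleton_iff.2 (by
        have h1 := eρ g ⟨y, hy⟩
        rw [hg] at h1
        exact (mul_inv_eq_iff_eq_mul.1 h1.symm).symm)
    exact mem_centralizer_singleton_iff.1 (hle (S.isClass.2.2 ▸ mem_top h))
  -- the two actions agree on the generators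
  have hagree : ∀ d : ↥D, μ (T d) = ρ d := by
    intro d
    refine Equiv.ext fun e => ?_
    rw [eμ]
    apply Subtype.ext
    rw [eρ]
    by_cases hc : Commute (d : G) (e : G)
    · rw [conj_eq_of_commute hc,
        show mv (T d) e = e from hTinj (by rw [hmv, conj_eq_of_commute ((hTc d e).1 hc)])]
    · obtain ⟨z, ez⟩ : ∃ z, z = mv (T d) e := ⟨_, rfl⟩
      have hz : T z = T d * T e * (T d)⁻¹ := ez ▸ hmv _ _
      rw [← ez, inv_eq hs d.2]
      refine S.third_unique hfour d.2 e.2 hc z.2 (fun h => hc ((hTc d e).2 ?_)) (fun h => ?_)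
        fun s hs' hes => ?_
      · have h1 : Commute (T d) (T z) := (hTc d z).1 h
        rw [hz] at h1
        exact (commute_conj_iff (T d) (T d) (T e)).1 (by
          rwa [conj_eq_of_commute (Commute.refl (T d))])
      · have h1 : z = e := Subtype.ext h
        rw [h1] at hz
        exact hc ((hTc d e).2 (mul_inv_eq_iff_eq_mul.1 hz.symm))
      · have h1 := (hTc d ⟨s, hs'.1⟩).1 hs'.2.2
        have h2 := (hTc e ⟨s, hs'.1⟩).1 hes
        refine (hTc z ⟨s, hs'.1⟩).2 ?_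
        rw [hz]
        exact (h1.mul_left h2).mul_left h1.inv_left
  have hgen : closure (Set.range T) = ⊤ := by
    rw [eq_top_iff, ← closure_tr hF hn, closure_le]
    rintro A ⟨v, hA⟩
    exact subset_closure (hTsurj A v hA)
  have hker : μ.ker = center ↥(Cfsg.SU n (GaloisField 2 2) 2) := by
    ext A
    rw [MonoidHom.mem_ker, mem_center_iff]
    constructor
    · intro h B
      have hle : closure (Set.range T) ≤ centralizer {A} := (closure_le _).2 (by
        rintro _ ⟨d, rfl⟩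
        refine mem_centralizer_singleton_iff.2 ?_
        have h1 := eμ A d
        rw [h] at h1
        have h2 := hmv A d
        rw [← h1] at h2
        exact (mul_inv_eq_iff_eq_mul.1 h2.symm).symm)
      exact mem_centralizer_singleton_iff.1 (hle (hgen ▸ mem_top B))
    · intro h
      refine Equiv.ext fun d => hTinj ?_
      rw [eμ, hmv]
      exact conj_eq_of_commute (h (T d)).symm
  have hrange : μ.range = ρ.range := by
    rw [MonoidHom.range_eq_map, MonoidHom.range_eq_map, ← hgen, ← S.isClass.2.2,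
      MonoidHom.map_closure, MonoidHom.map_closure]
    congr 1
    ext p
    constructor
    · rintro ⟨_, ⟨d, rfl⟩, rfl⟩
      exact ⟨d, d.2, (hagree d).symm⟩
    · rintro ⟨d, hd, rfl⟩
      exact ⟨T ⟨d, hd⟩, ⟨_, rfl⟩, hagree ⟨d, hd⟩⟩
  refine ⟨⟨(MonoidHom.ofInjective hρinj).trans ((MulEquiv.subgroupCongr hrange.symm).trans
    ((QuotientGroup.quotientKerEquivRange μ).symm.trans (QuotientGroup.quotientMulEquivOfEq hker)))⟩,
    fun v => if h : v ≠ 0 ∧ Cfsg.hermForm n (GaloisField 2 2) 2 v v = 0 then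
      (hTsurj _ v (Classical.choose_spec (exists_tr hF h.1 h.2))).choose.1 else 1,
    fun v h1 h2 => ?_, fun v w h1 h2 h3 h4 => ?_⟩
  · simp only [dif_pos (And.intro h1 h2)]; exact Subtype.prop _
  · simp only [dif_pos (And.intro h1 h2), dif_pos (And.intro h3 h4)]
    rw [hTc]
    have e1 := (hTsurj _ v (Classical.choose_spec (exists_tr hF h1 h2))).choose_spec
    have e2 := (hTsurj _ w (Classical.choose_spec (exists_tr hF h3 h4))).choose_spec
    rw [e1, e2]
    have hv := Classical.choose_spec (exists_tr hF h1 h2)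
    have hw := Classical.choose_spec (exists_tr hF h3 h4)
    refine ⟨fun hc => ?_, (tr_comm_or_braid hF hv hw).1⟩
    by_contra h
    have hb := (tr_comm_or_braid hF hv hw).2 h
    rw [hc.eq, mul_assoc, (tr_sq hF hv).1, mul_one, ← hc.eq, mul_assoc, (tr_sq hF hw).1,
      mul_one] at hb
    have h5 := hv.2.2 v
    rw [← hb, hw.2.2 v, h2, zero_smul, add_right_inj, smul_eq_zero] at h5
    exact h3 (h5.resolve_left h)

end CfsgLib.FischerPolar
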