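import Cfsg.Agent.Lib.Golay.FischerPolarSp
import Cfsg.Agent.Lib.Golay.FischerPolarU
import Cfsg.Agent.Lib.Trans3.Fitting
import Cfsg.Agent.Lib.Comp.Local
import Cfsg.Agent.Lib.Classical.ExcIsoPerm

/-!
Fischer's case of a noncentral two-core, and the case of solvable partners.
-/

set_option autoImplicit false

namespace CfsgLib.FischerPolar

open Subgroup CfsgLib.Trans3 CfsgLib.FischerOdd
open scoped _root_.Classical

variable {G : Type*} [Group G] [Finite G] {D : Set G}

/-- All classes have two members, or all have four. -/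
theorem Setting.uniform (S : Setting D) :
    (∀ x ∈ D, ∀ a ∈ Perp D x, (Cl D x a).ncard = 2) ∨
      ∀ x ∈ D, ∀ a ∈ Perp D x, (Cl D x a).ncard = 4 := by
  obtain ⟨x, hx, a, ha, -⟩ := S.big
  rcases S.cl_two_or_four hx ha with h | h
  · exact Or.inl fun y hy b hb => (S.cl_card hy hb hx ha).trans h
  · exact Or.inr fun y hy b hb => (S.cl_card hy hb hx ha).trans h

/-- A three-cycle of five points is in every term of the derived series. -/
theorem three_cycle_mem_derived (n : ℕ) :
    Equiv.swap 0 1 * Equiv.swap 1 2 ∈ derivedSeries (Equiv.Perm (Fin 5)) n := by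
  induction n with
  | zero => exact mem_top _
  | succ n ih =>
    obtain ⟨c, hc⟩ : ∃ c : Equiv.Perm (Fin 5), c = Equiv.swap 0 1 * Equiv.swap 1 2 := ⟨_, rfl⟩
    have hN := derivedSeries_normal (Equiv.Perm (Fin 5)) n
    have h1 := hN.conj_mem _ ih (Equiv.swap (2 : Fin 5) 3)
    have h2 := hN.conj_mem _ ih (Equiv.swap (1 : Fin 5) 2 * Equiv.swap 2 4)
    have h3 := Subgroup.commutator_mem_commutator h1 h2
    rw [derivedSeries_succ]
    convert h3 using 1
    simp only [commutatorElement_def]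
    decide +kernel

/-- Four members in a path among the partners give an insoluble group. -/
theorem no_path (hD : Cfsg.IsThreeTranspositionSet D) {x p q r s : G}
    (hp : p ∈ Perp D x) (hq : q ∈ Perp D x) (hr : r ∈ Perp D x) (hs : s ∈ Perp D x)
    (hpq : ¬ Commute p q) (hqr : ¬ Commute q r) (hrs : ¬ Commute r s) (hpr : Commute p r)
    (hps : Commute p s) (hqs : Commute q s) :
    ¬ Group.IsSolvable ↥(closure (Perp D x)) := by
  intro hsol
  obtain ⟨φ, e1, e2, e3, e4⟩ :=
    exists_hom_five hD hp.1 hq.1 hr.1 hs.1 hpq hqr hrs hpr hps hqs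
  have hgen : closure ({Equiv.swap (0 : Fin 5) 1, Equiv.swap 1 2, Equiv.swap 2 3, Equiv.swap 3 4} :
      Set (Equiv.Perm (Fin 5))) = ⊤ := by
    refine top_le_iff.1 fun y _ => ?_
    have hy : y ∈ Submonoid.closure (Set.range fun i : Fin 4 => Equiv.swap i.castSucc i.succ) :=
      (Equiv.Perm.mclosure_swap_castSucc_succ 4).symm ▸ Submonoid.mem_top y
    refine (Submonoid.closure_le (S := (closure ({Equiv.swap (0 : Fin 5) 1, Equiv.swap 1 2,
      Equiv.swap 2 3, Equiv.swap 3 4} : Set (Equiv.Perm (Fin 5)))).toSubmonoid)).2 ?_ hy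
    rintro _ ⟨i, rfl⟩
    apply Subgroup.subset_closure
    fin_cases i <;> decide +kernel
  have hrange : ∀ y, φ y ∈ closure (Perp D x) := by
    intro y
    have hle : closure ({Equiv.swap (0 : Fin 5) 1, Equiv.swap 1 2, Equiv.swap 2 3,
        Equiv.swap 3 4} : Set (Equiv.Perm (Fin 5))) ≤ (closure (Perp D x)).comap φ := by
      rw [closure_le]
      rintro z (rfl | rfl | rfl | rfl) <;> simp only [SetLike.mem_coe, mem_comap, e1, e2, e3, e4]
      exacts [subset_closure hp, subset_closure hq, subset_closure hr, subset_closure hs]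
    exact hle (hgen ▸ mem_top y)
  obtain ⟨n, hn⟩ := (Group.isSolvable_def ↥(closure (Perp D x))).1 hsol
  obtain ⟨ψ, eψ⟩ : ∃ ψ : Equiv.Perm (Fin 5) →* ↥(closure (Perp D x)),
      ∀ y, ((ψ y : ↥(closure (Perp D x))) : G) = φ y :=
    ⟨φ.codRestrict _ hrange, fun _ => rfl⟩
  have h1 := map_derivedSeries_le_derivedSeries ψ n
    (mem_map_of_mem ψ (three_cycle_mem_derived n))
  rw [hn, mem_bot] at h1
  have h2 := congrArg Subtype.val h1
  rw [eψ, map_mul, e1, e2, OneMemClass.coe_one] at h2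
  apply hpq
  rw [eq_inv_of_mul_eq_one_left h2, inv_eq hD hq.1]

/-- The partners of a member are not all equal. -/
theorem exists_two_partners (hD : Cfsg.IsThreeTranspositionClass D)
    (hP : Cfsg.IsPrimitiveUnderConj D) (hw : ∃ a ∈ D, ∃ b ∈ D, a ≠ b ∧ Commute a b)
    (h2 : Cfsg.pCore 2 G = ⊥) {x : G} (hx : x ∈ D) :
    ∃ a ∈ Perp D x, ∃ b ∈ Perp D x, a ≠ b := by
  by_contra h
  push Not at h
  obtain ⟨a, ha⟩ := perp_nonempty hD hw hx
  have hG := class_isGroup hD
  -- every member has only one partner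
  have huniq : ∀ y ∈ D, ∀ p ∈ Perp D y, ∀ q ∈ Perp D y, p = q := by
    intro y hy p hp q hq
    obtain ⟨g, rfl⟩ := class_exists_conj hD hx hy
    have e : ∀ z ∈ Perp D (g * x * g⁻¹), g⁻¹ * z * g ∈ Perp D x := fun z hz => by
      rw [← mem_perp_conj hG g]
      rwa [show g * (g⁻¹ * z * g) * g⁻¹ = z by group]
    have := h _ (e p hp) _ (e q hq)
    exact mul_left_cancel (mul_right_cancel this)
  have hxa : x ∈ Perp D a := perp_symm hx ha
  have hm := ((vRel_iff hG hx (v := a)).1 ⟨hx, ha.1, fun y hy => ?_⟩).2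
  · rw [h2, mem_bot] at hm
    exact ha.2.1 (by rw [eq_inv_of_mul_eq_one_right hm, inv_eq hD.1 hx])
  · by_cases hyx : y = x
    · subst hyx
      exact ⟨fun _ => Commute.refl _, fun _ => ha.2.2.symm⟩
    by_cases hya : y = a
    · subst hya
      exact ⟨fun _ => ha.2.2, fun _ => Commute.refl _⟩
    refine ⟨fun hc => ?_, fun hc => ?_⟩
    · exact absurd (huniq a ha.1 y ⟨hy, hya, hc⟩ x hxa) hyx
    · exact absurd (huniq x hx y ⟨hy, hyx, hc⟩ a ha) hya

/-- A solvable group has no components. -/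
theorem layer_eq_bot_of_isSolvable {H : Type*} [Group H] [Finite H] (hs : Group.IsSolvable H) :
    Cfsg.layer H = ⊥ := by
  by_contra hne
  haveI : Group.IsSolvable ↥(Cfsg.layer H) := inferInstance
  haveI : Nontrivial ↥(Cfsg.layer H) := (nontrivial_iff_ne_bot _).2 hne
  exact (Group.IsSolvable.commutator_lt_top_of_nontrivial ↥(Cfsg.layer H)).ne
    (CfsgLib.Comp.isPerfect_layer H).commutator_eq_top

theorem symp_pattern {n : ℕ} (i j : Fin n) :
    CfsgLib.Geom.sympBilin n (ZMod 2) (Pi.single (Sum.inl i) 1) (Pi.single (Sum.inl j) 1) = 0 ∧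
    CfsgLib.Geom.sympBilin n (ZMod 2) (Pi.single (Sum.inr i) 1) (Pi.single (Sum.inr j) 1) = 0 ∧
    CfsgLib.Geom.sympBilin n (ZMod 2) (Pi.single (Sum.inl i) 1) (Pi.single (Sum.inr j) 1) =
      if i = j then 1 else 0 := by
  simp only [CfsgLib.Geom.sympBilin_apply, Cfsg.sympForm, Matrix.mulVec_single_one,
    single_dotProduct, one_mul, Matrix.col_apply]
  refine ⟨?_, ?_, ?_⟩ <;> simp [Matrix.J, Matrix.one_apply] <;> decide

theorem commute_tr_iff {n : ℕ} {v w : CfsgLib.Trans3.SpTrans.V n} (hv : v ≠ 0) :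
    Commute (CfsgLib.Trans3.SpTrans.tr v) (CfsgLib.Trans3.SpTrans.tr w) ↔
      CfsgLib.Geom.sympBilin n (ZMod 2) v w = 0 := by
  open CfsgLib.Trans3.SpTrans in
  constructor
  · intro hc
    rcases z2 (CfsgLib.Geom.sympBilin n (ZMod 2) v w) with h | h
    · exact h
    exfalso
    apply hv
    have h1 := congrArg (fun A : Matrix.symplecticGroup (Fin n) (ZMod 2) =>
      (A : Matrix (Fin n ⊕ Fin n) (Fin n ⊕ Fin n) (ZMod 2)).mulVec v) hc.eq
    simp only [sp_mul_mulVec, tr_mulVec, map_add, LinearMap.add_apply, map_smul,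
      LinearMap.smul_apply, CfsgLib.Geom.sympBilin_self, h, one_smul, bilin_symm v w,
      smul_eq_mul, mul_one, mul_zero, add_zero, zero_add, zero_smul, smul_zero] at h1
    funext i
    have h2 := congrFun h1 i
    simp only [Pi.add_apply] at h2
    revert h2
    show _ → v i = 0
    generalize v i = p
    generalize w i = q
    revert p q
    decide
  · intro h
    refine mul_inv_eq_iff_eq_mul.1 ?_
    rw [conj_tr, tr_mulVec, bilin_symm, h, zero_smul, add_zero]

/-- The case of solvable partners. -/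
theorem solvable_case (hsol : ∀ N : Subgroup G, N.Normal → Group.IsSolvable ↥N → N = ⊥)
    (hperf : ⁅commutator G, commutator G⁆ = commutator G) (hD : Cfsg.IsThreeTranspositionClass D)
    {x : G} (hx : x ∈ D) (hs : Group.IsSolvable ↥(closure (Perp D x))) :
    Nonempty (G ≃* Equiv.Perm (Fin 5)) ∨ Nonempty (G ≃* Equiv.Perm (Fin 6)) ∨
      ∃ (F : Type) (_ : Field F) (_ : Fintype F), Fintype.card F = 4 ∧
        (Nonempty (G ≃* Cfsg.PSU 4 F 2) ∨ Nonempty (G ≃* Cfsg.PSU 5 F 2)) := by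
  by_cases hodd : ¬ Cfsg.oddCore ↥(closure (Perp D x)) ≤ center ↥(closure (Perp D x))
  · exact Or.inl (iso_of_oddCore_not_central hsol hperf hD hx hodd)
  rw [not_not] at hodd
  obtain ⟨hP, hw, h2⟩ := CfsgLib.Fischer.setting hsol hperf hD
  have hE := perp_isClass hD hP hw h2 hx
  have hnot : ¬ Cfsg.pCore 2 ↥(closure (Perp D x)) ≤ center ↥(closure (Perp D x)) := by
    intro hc
    obtain ⟨a, ha, b, hb, hab⟩ := exists_two_partners hD hP hw h2 hx
    refine layer_ne_bot hE ⟨⟨a, subset_closure ha⟩, ha, ⟨b, subset_closure hb⟩, hb,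
      fun e => hab (congrArg Subtype.val e)⟩ hc ?_ (layer_eq_bot_of_isSolvable hs)
    haveI : Fact (Nat.Prime 2) := ⟨Nat.prime_two⟩
    exact (CfsgLib.Comp.pCore_le_pPrimeCore Nat.prime_three (by decide)).trans hodd
  have S := Setting.of_pCore hsol hperf hD hx hnot
  rcases S.uniform with htwo | hfour
  · obtain ⟨n, hn, e, he⟩ := S.iso_symplectic htwo
    -- every nonzero vector belongs to a member
    obtain ⟨v, hv, hev⟩ := he x hx
    have hall : ∀ w : CfsgLib.Trans3.SpTrans.V n, w ≠ 0 →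
        ∃ d ∈ D, e d = CfsgLib.Trans3.SpTrans.tr w := by
      intro w hw
      obtain ⟨g, hg⟩ := CfsgLib.Trans3.SpTrans.tr_move hv hw
      obtain ⟨g', rfl⟩ := e.surjective g
      exact ⟨g' * x * g'⁻¹, class_conj_mem hD g' hx, by
        rw [map_mul, map_mul, map_inv, hev, CfsgLib.Trans3.SpTrans.conj_tr, hg]⟩
    rcases Nat.lt_or_ge n 3 with hn3 | hn3
    · obtain rfl | rfl : n = 1 ∨ n = 2 := by omega
      · -- two commuting members would have proportional vectors
        exfalso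
        obtain ⟨a, ha⟩ := perp_nonempty hD hw hx
        obtain ⟨w, hw0, hew⟩ := he a ha.1
        have hc : Commute (CfsgLib.Trans3.SpTrans.tr v) (CfsgLib.Trans3.SpTrans.tr w) := by
          have := ha.2.2.map e.toMonoidHom
          rwa [MulEquiv.coe_toMonoidHom, hev, hew] at this
        rw [commute_tr_iff hv] at hc
        apply ha.2.1
        apply e.injective
        rw [hev, hew]
        congr 1
        have key : ∀ u : CfsgLib.Trans3.SpTrans.V 1,
            u = u (Sum.inl 0) • Pi.single (Sum.inl 0) (1 : ZMod 2) +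
              u (Sum.inr 0) • Pi.single (Sum.inr 0) (1 : ZMod 2) := by
          intro u; funext i
          rcases i with i | i <;> fin_cases i <;> simp
        obtain ⟨-, -, h12⟩ := symp_pattern (0 : Fin 1) 0
        have hv' : ¬(v (Sum.inl 0) = 0 ∧ v (Sum.inr 0) = 0) := fun ⟨h1, h2⟩ => hv (by
          rw [key v, h1, h2, zero_smul, zero_smul, add_zero])
        have hw' : ¬(w (Sum.inl 0) = 0 ∧ w (Sum.inr 0) = 0) := fun ⟨h1, h2⟩ => hw0 (by
          rw [key w, h1, h2, zero_smul, zero_smul, add_zero])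
        rw [key v, key w] at hc
        simp only [map_add, LinearMap.add_apply, map_smul, LinearMap.smul_apply,
          CfsgLib.Geom.sympBilin_self, h12, CfsgLib.Trans3.SpTrans.bilin_symm
            (Pi.single (Sum.inl 0) (1 : ZMod 2)) (Pi.single (Sum.inr 0) (1 : ZMod 2)),
          if_true, smul_eq_mul, mul_zero, mul_one, add_zero, zero_add] at hc
        obtain ⟨e1, e2⟩ : w (Sum.inl 0) = v (Sum.inl 0) ∧ w (Sum.inr 0) = v (Sum.inr 0) := by
          revert hc hv' hw'
          generalize v (Sum.inl 0) = a1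
          generalize v (Sum.inr 0) = a2
          generalize w (Sum.inl 0) = b1
          generalize w (Sum.inr 0) = b2
          revert a1 a2 b1 b2
          decide
        rw [key w, e1, e2, ← key v]
      · obtain ⟨e'⟩ := CfsgLib.Classical.sp_four_two_equiv
        exact Or.inr (Or.inl ⟨e.trans e'⟩)
    · exfalso
      obtain ⟨i0, i1, i2, h01, h02, h12⟩ : ∃ i0 i1 i2 : Fin n, i0 ≠ i1 ∧ i0 ≠ i2 ∧ i1 ≠ i2 :=
        ⟨⟨0, by omega⟩, ⟨1, by omega⟩, ⟨2, by omega⟩, by simp, by simp, by simp⟩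
      obtain ⟨L, eL⟩ : ∃ L : Fin n → CfsgLib.Trans3.SpTrans.V n,
          L = fun i => Pi.single (Sum.inl i) 1 := ⟨_, rfl⟩
      obtain ⟨R, eR⟩ : ∃ R : Fin n → CfsgLib.Trans3.SpTrans.V n,
          R = fun i => Pi.single (Sum.inr i) 1 := ⟨_, rfl⟩
      have hLL : ∀ i j, CfsgLib.Geom.sympBilin n (ZMod 2) (L i) (L j) = 0 := fun i j => by
        rw [eL]; exact (symp_pattern i j).1
      have hRR : ∀ i j, CfsgLib.Geom.sympBilin n (ZMod 2) (R i) (R j) = 0 := fun i j => by
        rw [eR]; exact (symp_pattern i j).2.1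
      have hLR : ∀ i j, CfsgLib.Geom.sympBilin n (ZMod 2) (L i) (R j) = if i = j then 1 else 0 :=
        fun i j => by rw [eL, eR]; exact (symp_pattern i j).2.2
      have hRL : ∀ i j, CfsgLib.Geom.sympBilin n (ZMod 2) (R j) (L i) = if i = j then 1 else 0 :=
        fun i j => by rw [CfsgLib.Trans3.SpTrans.bilin_symm]; exact hLR i j
      have hn0 : ∀ {u z}, CfsgLib.Geom.sympBilin n (ZMod 2) u z = 1 → u ≠ 0 := by
        intro u z h e0
        rw [e0, map_zero, LinearMap.zero_apply] at h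
        exact zero_ne_one h
      -- the member of the first vector, moved to `x`
      obtain ⟨g, hg⟩ := CfsgLib.Trans3.SpTrans.tr_move hv (hn0 (z := R i0) (by
        rw [hLR i0 i0, if_pos rfl] : CfsgLib.Geom.sympBilin n (ZMod 2) (L i0) (R i0) = 1))
      obtain ⟨g', rfl⟩ := e.surjective g
      have hx' : e (g' * x * g'⁻¹) = CfsgLib.Trans3.SpTrans.tr (L i0) := by
        rw [map_mul, map_mul, map_inv, hev, CfsgLib.Trans3.SpTrans.conj_tr, hg]
      have hmem : ∀ u, u ≠ 0 → CfsgLib.Geom.sympBilin n (ZMod 2) (L i0) u = 0 → u ≠ L i0 →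
          ∀ z, CfsgLib.Geom.sympBilin n (ZMod 2) (L i0) z ≠
            CfsgLib.Geom.sympBilin n (ZMod 2) u z →
          ∃ d ∈ Perp D (g' * x * g'⁻¹), e d = CfsgLib.Trans3.SpTrans.tr u := by
        intro u hu h0 _ z hz
        obtain ⟨d, hd, hed⟩ := hall u hu
        refine ⟨d, ⟨hd, fun hdx => hz ?_, ?_⟩, hed⟩
        · rw [hdx, hx'] at hed
          have h3 := CfsgLib.Trans3.SpTrans.tr_mulVec (L i0) z
          rw [hed, CfsgLib.Trans3.SpTrans.tr_mulVec, add_right_inj] at h3
          rw [CfsgLib.Trans3.SpTrans.bilin_symm z (L i0), CfsgLib.Trans3.SpTrans.bilin_symm z u]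
          rcases CfsgLib.Trans3.SpTrans.z2 (CfsgLib.Geom.sympBilin n (ZMod 2) z u) with h4 | h4 <;>
            rcases CfsgLib.Trans3.SpTrans.z2 (CfsgLib.Geom.sympBilin n (ZMod 2) z (L i0))
              with h5 | h5 <;>
            simp only [h4, h5, zero_smul, one_smul] at h3 ⊢
          · exact absurd h3.symm (hn0 (z := R i0) (by rw [hLR i0 i0, if_pos rfl]))
          · exact absurd h3 hu
        · have : Commute (e (g' * x * g'⁻¹)) (e d) := by rw [hx', hed, commute_tr_iff
            (hn0 (z := R i0) (by rw [hLR i0 i0, if_pos rfl]))]; exact h0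
          simpa using this.map e.symm.toMonoidHom
      have hr0 : L i1 + L i2 ≠ 0 := hn0 (z := R i1) (by
        rw [map_add, LinearMap.add_apply, hLR, hLR, if_pos rfl, if_neg h12.symm, add_zero])
      have one : ∀ {i : Fin n}, (if i = i then (1 : ZMod 2) else 0) = 1 := fun {i} => if_pos rfl
      obtain ⟨p, hp, ep⟩ := hmem (L i1) (hn0 (z := R i1) ((hLR i1 i1).trans one)) (hLL _ _)
        (fun e' => by
          have := hLR i1 i1
          rw [e', hLR, if_neg h01, if_pos rfl] at this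
          exact zero_ne_one this) (R i0)
        (by rw [hLR, hLR, if_pos rfl, if_neg h01.symm]; exact one_ne_zero)
      obtain ⟨q, hq, eq⟩ := hmem (R i1) (hn0 (z := L i1) ((hRL i1 i1).trans one))
        (by rw [hLR, if_neg h01]) (fun e' => by
          have := hRL i1 i1
          rw [e', hLL, if_pos rfl] at this
          exact zero_ne_one this) (R i0)
        (by rw [hLR, hRR, if_pos rfl]; exact one_ne_zero)
      obtain ⟨r, hr, er⟩ := hmem (L i1 + L i2) hr0 (by rw [map_add, hLL, hLL, add_zero])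
        (fun e' => by
          have := hLR i0 i0
          rw [← e', map_add, LinearMap.add_apply, hLR, hLR, if_neg h01.symm, if_neg h02.symm,
            if_pos rfl, add_zero] at this
          exact zero_ne_one this) (R i0)
        (by rw [map_add, LinearMap.add_apply, hLR, hLR, hLR, if_pos rfl, if_neg h01.symm,
            if_neg h02.symm, add_zero]; exact one_ne_zero)
      obtain ⟨s, hs', es⟩ := hmem (R i2) (hn0 (z := L i2) ((hRL i2 i2).trans one))
        (by rw [hLR, if_neg h02]) (fun e' => by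
          have := hRL i2 i2
          rw [e', hLL, if_pos rfl] at this
          exact zero_ne_one this) (R i0)
        (by rw [hLR, hRR, if_pos rfl]; exact one_ne_zero)
      have hc : ∀ {a b : G} {u w : CfsgLib.Trans3.SpTrans.V n}, u ≠ 0 →
          e a = CfsgLib.Trans3.SpTrans.tr u → e b = CfsgLib.Trans3.SpTrans.tr w →
          (Commute a b ↔ CfsgLib.Geom.sympBilin n (ZMod 2) u w = 0) := by
        intro a b u w hu ea eb
        rw [← commute_tr_iff hu, ← ea, ← eb]
        exact ⟨fun h => h.map e.toMonoidHom, fun h => by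
          simpa using h.map e.symm.toMonoidHom⟩
      refine no_path hD.1 hp hq hr hs' ?_ ?_ ?_ ?_ ?_ ?_ ?_
      · rw [hc (hn0 (z := R i1) ((hLR i1 i1).trans one)) ep eq, hLR, if_pos rfl]
        exact one_ne_zero
      · rw [hc (hn0 (z := L i1) ((hRL i1 i1).trans one)) eq er, map_add, hRL, hRL, if_pos rfl,
          if_neg h12.symm, add_zero]
        exact one_ne_zero
      · rw [hc hr0 er es, map_add, LinearMap.add_apply, hLR, hLR, if_neg h12, if_pos rfl, zero_add]
        exact one_ne_zero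
      · rw [hc (hn0 (z := R i1) ((hLR i1 i1).trans one)) ep er, map_add, hLL, hLL, add_zero]
      · rw [hc (hn0 (z := R i1) ((hLR i1 i1).trans one)) ep es, hLR, if_neg h12]
      · rw [hc (hn0 (z := L i1) ((hRL i1 i1).trans one)) eq es, hRR]
      · -- the partners of a conjugate generate an isomorphic group
        have himg : (closure (Perp D x)).map (MulAut.conj g').toMonoidHom
            = closure (Perp D (g' * x * g'⁻¹)) := by
          rw [MonoidHom.map_closure]
          congr 1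
          exact image_perp (class_isGroup hD) g' x
        rw [← himg]
        exact Group.isSolvable_of_surjective (f :=
          ((closure (Perp D x)).equivMapOfInjective _ (MulAut.conj g').injective).toMonoidHom)
          (MulEquiv.surjective _)
  · obtain ⟨F, hField, hFin, n, hF, hn, ⟨e⟩, pt, hptD, hptc⟩ := S.iso_unitary hfour
    right; right
    rcases Nat.lt_or_ge n 6 with hn6 | hn6
    · obtain rfl | rfl : n = 4 ∨ n = 5 := by omega
      · exact ⟨F, hField, hFin, hF, Or.inl ⟨e⟩⟩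
      · exact ⟨F, hField, hFin, hF, Or.inr ⟨e⟩⟩
    exfalso
    obtain ⟨k, rfl⟩ : ∃ k, n = k + 6 := ⟨n - 6, by omega⟩
    obtain ⟨ω, hω⟩ := exists_omega hF
    have h2' := Cfsg.Agent.S1631.two_zero hF
    obtain ⟨V, eV⟩ : ∃ V : (Fin 6 → F) → (Fin (k + 6) → F), V = fun a =>
        Fin.cons (a 0) (Fin.cons (a 1) (Fin.cons (a 2) (Fin.cons (a 3) (Fin.cons (a 4)
          (Fin.cons (a 5) 0))))) := ⟨_, rfl⟩
    have hV : ∀ a b : Fin 6 → F, Cfsg.hermForm (k + 6) F 2 (V a) (V b) =
        a 0 * b 0 ^ 2 + a 1 * b 1 ^ 2 + a 2 * b 2 ^ 2 + a 3 * b 3 ^ 2 + a 4 * b 4 ^ 2 +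
          a 5 * b 5 ^ 2 := by
      intro a b
      rw [eV]
      simp only [Cfsg.hermForm, Fin.sum_univ_succ, Fin.cons_zero, Fin.cons_succ, Pi.zero_apply,
        zero_mul, Finset.sum_const_zero, add_zero]
      ring
    have hV0 : ∀ a : Fin 6 → F, a ≠ 0 → V a ≠ 0 := by
      intro a ha e0
      apply ha
      rw [eV] at e0
      have e1 := congrFun e0 0
      have e2 := congrFun e0 (Fin.succ 0)
      have e3 := congrFun e0 (Fin.succ (Fin.succ 0))
      have e4 := congrFun e0 (Fin.succ (Fin.succ (Fin.succ 0)))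
      have e5 := congrFun e0 (Fin.succ (Fin.succ (Fin.succ (Fin.succ 0))))
      have e6 := congrFun e0 (Fin.succ (Fin.succ (Fin.succ (Fin.succ (Fin.succ 0)))))
      simp only [Fin.cons_zero, Fin.cons_succ, Pi.zero_apply] at e1 e2 e3 e4 e5 e6
      funext i
      fin_cases i <;> assumption
    have hωp : ω ≠ 0 := fun e' => by
      rw [e', zero_mul, zero_add] at hω
      exact zero_ne_one hω
    obtain ⟨E, hE⟩ : ∃ E : Fin 6 → F, E = ![1, 1, 0, 0, 0, 0] := ⟨_, rfl⟩
    obtain ⟨A, hA⟩ : ∃ A : Fin 6 → F, A = ![0, 0, 1, 1, 0, 0] := ⟨_, rfl⟩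
    obtain ⟨B, hB⟩ : ∃ B : Fin 6 → F, B = ![0, 0, ω, ω * ω, 0, 0] := ⟨_, rfl⟩
    obtain ⟨C, hC⟩ : ∃ C : Fin 6 → F, C = ![0, 0, 1, 1, 1, 1] := ⟨_, rfl⟩
    obtain ⟨Z, hZ⟩ : ∃ Z : Fin 6 → F, Z = ![0, 0, 0, 0, ω, ω * ω] := ⟨_, rfl⟩
    have w1 : ω + ω * ω = 1 := by linear_combination hω + ω * h2'
    have w3 : ω * ω * ω = 1 := by linear_combination (ω + 1) * hω + ω * h2'
    have nE : E ≠ 0 := fun e' => by simpa [hE] using congrFun e' 0
    have nA : A ≠ 0 := fun e' => by simpa [hA] using congrFun e' 2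
    have nB : B ≠ 0 := fun e' => by simpa [hB, hωp] using congrFun e' 2
    have nC : C ≠ 0 := fun e' => by simpa [hC] using congrFun e' 2
    have nZ : Z ≠ 0 := fun e' => by simpa [hZ, hωp] using congrFun e' 4
    have iE : Cfsg.hermForm (k + 6) F 2 (V E) (V E) = 0 := by
      rw [hV, hE]; simp; linear_combination h2'
    have iA : Cfsg.hermForm (k + 6) F 2 (V A) (V A) = 0 := by
      rw [hV, hA]; simp; linear_combination h2'
    have iB : Cfsg.hermForm (k + 6) F 2 (V B) (V B) = 0 := by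
      rw [hV, hB]; simp; linear_combination (1 + (ω * ω * ω + 1)) * w3 + h2'
    have iC : Cfsg.hermForm (k + 6) F 2 (V C) (V C) = 0 := by
      rw [hV, hC]; simp; linear_combination 2 * h2'
    have iZ : Cfsg.hermForm (k + 6) F 2 (V Z) (V Z) = 0 := by
      rw [hV, hZ]; simp; linear_combination (1 + (ω * ω * ω + 1)) * w3 + h2'
    obtain ⟨x', ex'⟩ : ∃ x', x' = pt (V E) := ⟨_, rfl⟩
    have hx'D : x' ∈ D := ex' ▸ hptD _ (hV0 _ nE) iE
    have hmem : ∀ W : Fin 6 → F, W ≠ 0 → Cfsg.hermForm (k + 6) F 2 (V W) (V W) = 0 →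
        Cfsg.hermForm (k + 6) F 2 (V W) (V E) = 0 →
        (∃ U : Fin 6 → F, U ≠ 0 ∧ Cfsg.hermForm (k + 6) F 2 (V U) (V U) = 0 ∧
          Cfsg.hermForm (k + 6) F 2 (V U) (V W) ≠ 0 ∧
          Cfsg.hermForm (k + 6) F 2 (V U) (V E) = 0) →
        pt (V W) ∈ Perp D x' := by
      intro W hW iW hWE ⟨U, hU, iU, hUW, hUE⟩
      refine ⟨hptD _ (hV0 _ hW) iW, fun e' => ?_, ?_⟩
      · apply hUW
        rw [← hptc _ _ (hV0 _ hU) iU (hV0 _ hW) iW, e', ex',
          hptc _ _ (hV0 _ hU) iU (hV0 _ nE) iE]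
        exact hUE
      · rw [ex']
        exact ((hptc _ _ (hV0 _ hW) iW (hV0 _ nE) iE).2 hWE).symm
    have cAE : Cfsg.hermForm (k + 6) F 2 (V A) (V E) = 0 := by rw [hV, hA, hE]; simp
    have cBE : Cfsg.hermForm (k + 6) F 2 (V B) (V E) = 0 := by rw [hV, hB, hE]; simp
    have cCE : Cfsg.hermForm (k + 6) F 2 (V C) (V E) = 0 := by rw [hV, hC, hE]; simp
    have cZE : Cfsg.hermForm (k + 6) F 2 (V Z) (V E) = 0 := by rw [hV, hZ, hE]; simp
    have cBA : Cfsg.hermForm (k + 6) F 2 (V B) (V A) = 1 := by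
      rw [hV, hA, hB]; simp; linear_combination w1
    have cAB : Cfsg.hermForm (k + 6) F 2 (V A) (V B) = 1 := by
      rw [hV, hA, hB]; simp; linear_combination ω * w3 + w1
    have cBC : Cfsg.hermForm (k + 6) F 2 (V B) (V C) = 1 := by
      rw [hV, hC, hB]; simp; linear_combination w1
    have cCB : Cfsg.hermForm (k + 6) F 2 (V C) (V B) = 1 := by
      rw [hV, hC, hB]; simp; linear_combination ω * w3 + w1
    have cCZ : Cfsg.hermForm (k + 6) F 2 (V C) (V Z) = 1 := by
      rw [hV, hC, hZ]; simp; linear_combination ω * w3 + w1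
    have cAC : Cfsg.hermForm (k + 6) F 2 (V A) (V C) = 0 := by
      rw [hV, hA, hC]; simp; linear_combination h2'
    have cAZ : Cfsg.hermForm (k + 6) F 2 (V A) (V Z) = 0 := by rw [hV, hA, hZ]; simp
    have cBZ : Cfsg.hermForm (k + 6) F 2 (V B) (V Z) = 0 := by rw [hV, hB, hZ]; simp
    have mA := hmem A nA iA cAE ⟨B, nB, iB, by rw [cBA]; exact one_ne_zero, cBE⟩
    have mB := hmem B nB iB cBE ⟨A, nA, iA, by rw [cAB]; exact one_ne_zero, cAE⟩
    have mC := hmem C nC iC cCE ⟨B, nB, iB, by rw [cBC]; exact one_ne_zero, cBE⟩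
    have mZ := hmem Z nZ iZ cZE ⟨C, nC, iC, by rw [cCZ]; exact one_ne_zero, cCE⟩
    refine no_path hD.1 mA mB mC mZ ?_ ?_ ?_ ?_ ?_ ?_ ?_
    · rw [hptc _ _ (hV0 _ nA) iA (hV0 _ nB) iB, cAB]; exact one_ne_zero
    · rw [hptc _ _ (hV0 _ nB) iB (hV0 _ nC) iC, cBC]; exact one_ne_zero
    · rw [hptc _ _ (hV0 _ nC) iC (hV0 _ nZ) iZ, cCZ]; exact one_ne_zero
    · rw [hptc _ _ (hV0 _ nA) iA (hV0 _ nC) iC, cAC]
    · rw [hptc _ _ (hV0 _ nA) iA (hV0 _ nZ) iZ, cAZ]
    · rw [hptc _ _ (hV0 _ nB) iB (hV0 _ nZ) iZ, cBZ]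
    · obtain ⟨g, hg⟩ := class_exists_conj hD hx hx'D
      rw [← hg]
      have himg : (closure (Perp D x)).map (MulAut.conj g).toMonoidHom
          = closure (Perp D (g * x * g⁻¹)) := by
        rw [MonoidHom.map_closure]
        congr 1
        exact image_perp (class_isGroup hD) g x
      rw [← himg]
      exact Group.isSolvable_of_surjective (f :=
        ((closure (Perp D x)).equivMapOfInjective _ (MulAut.conj g).injective).toMonoidHom)
        (MulEquiv.surjective _)

end CfsgLib.FischerPolar
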