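import Cfsg.Agent.Lib.Golay.Orbits

/-! Stabilisers of points, dodecads and octads in `M24`, in any position. -/

set_option autoImplicit false
set_option maxRecDepth 100000

namespace CfsgLib.Golay

open Cfsg
open scoped Pointwise

theorem M24_smul_pt (g : M24) (p : GolayPt) : g • p = (g : Equiv.Perm GolayPt) p := rfl

theorem coe_conj_pt (g x : M24) (p : GolayPt) :
    ((g * x * g⁻¹ : M24) : Equiv.Perm GolayPt) (g • p) = g • p ↔ x • p = p :=
  conj_smul_iff g x p

theorem stab1_equiv (p : GolayPt) : Nonempty (MulAction.stabilizer M24 p ≃* fixMasks X23) := by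
  obtain ⟨g, hg⟩ := M24_one p (pt 23)
  refine conj_equiv g (fixMasks_le _) fun x => ?_
  rw [show X23 = [Nat.shiftLeft 1 23] from rfl, mem_fixMasks_bit (show (23 : ℕ) < 24 by norm_num),
    fixMasks_nil, MulAction.mem_stabilizer_iff, ← hg, coe_conj_pt]
  simp only [SetLike.coe_mem, true_and]

theorem stab2_equiv {p q : GolayPt} (h : p ≠ q) :
    Nonempty (↥(MulAction.stabilizer M24 p ⊓ MulAction.stabilizer M24 q) ≃* fixMasks X22) := by
  obtain ⟨g, hg, hg'⟩ := M24_two h (show pt 23 ≠ pt 0 by decide +kernel)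
  refine conj_equiv g (fixMasks_le _) fun x => ?_
  rw [show X22 = [Nat.shiftLeft 1 0, Nat.shiftLeft 1 23] from rfl,
    mem_fixMasks_bit (show (0 : ℕ) < 24 by norm_num),
    mem_fixMasks_bit (show (23 : ℕ) < 24 by norm_num),
    fixMasks_nil, Subgroup.mem_inf, MulAction.mem_stabilizer_iff, MulAction.mem_stabilizer_iff,
    ← hg, ← hg', coe_conj_pt, coe_conj_pt]
  simp only [SetLike.coe_mem, true_and]

theorem three_embedding {p q r : GolayPt} (h1 : p ≠ q) (h2 : p ≠ r) (h3 : q ≠ r) :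
    Function.Injective ![p, q, r] := by
  intro i j hij
  fin_cases i <;> fin_cases j <;> first
    | rfl
    | exact absurd hij h1
    | exact absurd hij h2
    | exact absurd hij h3
    | exact absurd hij.symm h1
    | exact absurd hij.symm h2
    | exact absurd hij.symm h3

theorem M24_three {p q r p' q' r' : GolayPt} (h1 : p ≠ q) (h2 : p ≠ r) (h3 : q ≠ r)
    (h1' : p' ≠ q') (h2' : p' ≠ r') (h3' : q' ≠ r') :
    ∃ g : M24, g • p = p' ∧ g • q = q' ∧ g • r = r' := by
  haveI := M24_isMultiplyPretransitive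
  haveI := MulAction.isMultiplyPretransitive_of_le (G := M24) (α := GolayPt) (m := 3) (n := 5)
    (by norm_num) (by simp)
  obtain ⟨g, hg⟩ := MulAction.exists_smul_eq M24 (⟨_, three_embedding h1 h2 h3⟩ : Fin 3 ↪ GolayPt)
    ⟨_, three_embedding h1' h2' h3'⟩
  exact ⟨g, DFunLike.congr_fun hg 0, DFunLike.congr_fun hg 1, DFunLike.congr_fun hg 2⟩

theorem stab3_equiv {p q r : GolayPt} (h1 : p ≠ q) (h2 : p ≠ r) (h3 : q ≠ r) :
    Nonempty (↥(MulAction.stabilizer M24 p ⊓ MulAction.stabilizer M24 q ⊓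
      MulAction.stabilizer M24 r) ≃* fixMasks X21) := by
  obtain ⟨g, hg, hg', hg''⟩ := M24_three h1 h2 h3 (show pt 23 ≠ pt 0 by decide +kernel)
    (show pt 23 ≠ pt 1 by decide +kernel) (show pt 0 ≠ pt 1 by decide +kernel)
  refine conj_equiv g (fixMasks_le _) fun x => ?_
  rw [show X21 = [Nat.shiftLeft 1 1, Nat.shiftLeft 1 0, Nat.shiftLeft 1 23] from rfl,
    mem_fixMasks_bit (show (1 : ℕ) < 24 by norm_num),
    mem_fixMasks_bit (show (0 : ℕ) < 24 by norm_num),
    mem_fixMasks_bit (show (23 : ℕ) < 24 by norm_num), fixMasks_nil, Subgroup.mem_inf,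
    Subgroup.mem_inf, MulAction.mem_stabilizer_iff, MulAction.mem_stabilizer_iff,
    MulAction.mem_stabilizer_iff, ← hg, ← hg', ← hg'', coe_conj_pt, coe_conj_pt, coe_conj_pt]
  simp only [SetLike.coe_mem, true_and]

theorem stabD_equiv {d : Finset GolayPt} (hd : d ∈ dodecads) :
    Nonempty (MulAction.stabilizer M24 d ≃* fixMasks X12) := by
  obtain ⟨g, hg⟩ := M24_trans_dodecads hd sqMask_mem
  refine conj_equiv g (fixMasks_le _) fun x => ?_
  rw [show X12 = [sqMask] from rfl, mem_fixMasks_one, MulAction.mem_stabilizer_iff, ← hg,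
    conj_smul_iff]

/-- Standard position for a dodecad and a point of it. -/
theorem dodecad_point_std {d : Finset GolayPt} (hd : d ∈ dodecads) {p : GolayPt} (hp : p ∈ d) :
    ∃ g : M24, g • d = mset sqMask ∧ g • p = pt 0 := by
  obtain ⟨g, hg⟩ := M24_trans_dodecads hd sqMask_mem
  have h0 : pt 0 ∈ mset sqMask := by decide +kernel
  have hp' : g • p ∈ mset sqMask := by rw [← hg]; exact Finset.smul_mem_smul_finset hp
  obtain ⟨c, hc, hcp⟩ : ∃ c : M24, c • mset sqMask = mset sqMask ∧ c • (g • p) = pt 0 := by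
    by_cases e : g • p = pt 0
    · exact ⟨1, one_smul _ _, by rw [one_smul, e]⟩
    obtain ⟨σ, h1, -⟩ := twoTrans_fix12.trans _ hp' (pt 0) h0 (pt 0) h0 _ hp' e (Ne.symm e)
    exact ⟨⟨σ.1, σ.2.1⟩,
      mem_fixMasks_one.1 (show (((⟨σ.1, σ.2.1⟩ : M24)) : Equiv.Perm GolayPt) ∈ fixMasks [sqMask]
        from σ.2), h1⟩
  exact ⟨c * g, by rw [mul_smul, hg, hc], by rw [mul_smul, hcp]⟩

theorem stabDP_equiv {d : Finset GolayPt} (hd : d ∈ dodecads) {p : GolayPt} (hp : p ∈ d) :
    Nonempty (↥(MulAction.stabilizer M24 d ⊓ MulAction.stabilizer M24 p) ≃* fixMasks X11) := by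
  obtain ⟨g, hg, hg'⟩ := dodecad_point_std hd hp
  refine conj_equiv g (fixMasks_le _) fun x => ?_
  rw [show X11 = [Nat.shiftLeft 1 0, sqMask] from rfl,
    mem_fixMasks_bit (show (0 : ℕ) < 24 by norm_num), mem_fixMasks_one, Subgroup.mem_inf,
    MulAction.mem_stabilizer_iff, MulAction.mem_stabilizer_iff, ← hg', ← hg, conj_smul_iff,
    coe_conj_pt]

theorem octMask_mem : mset octMask ∈ octads :=
  mem_octads_iff.2 ⟨octMask, mem_octList.2 (by decide +kernel), rfl⟩

theorem stabO_equiv {o : Finset GolayPt} (ho : o ∈ octads) :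
    Nonempty (MulAction.stabilizer M24 o ≃* fixMasks [octMask]) := by
  obtain ⟨g, hg⟩ := M24_trans_octads ho octMask_mem
  refine conj_equiv g (fixMasks_le _) fun x => ?_
  rw [mem_fixMasks_one, MulAction.mem_stabilizer_iff, ← hg, conj_smul_iff]

end CfsgLib.Golay
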