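import Cfsg.Agent.Lib.Golay.SteinerIso

/-! Systems `S(4,7,23)` as contractions of the octad system. -/

set_option autoImplicit false
set_option maxRecDepth 100000

namespace CfsgLib.Golay

open Cfsg
open scoped Pointwise

variable {α : Type*} [Fintype α] [DecidableEq α]

theorem inter_odd_4_7_23 (hα : Fintype.card α = 23) {B : Set (Finset α)}
    (hB : IsSteinerSystem 4 7 B) {b c : Finset α} (hb : b ∈ B) (hc : c ∈ B) :
    (b ∩ c).card % 2 = 1 := by
  by_cases h : b = c
  · subst h; rw [Finset.inter_self, hB.1 b hb]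
  · obtain ⟨hlt, h0, h1, h2, h3⟩ := inter_4_7_23 hα hB hb
    have hc' : c ∈ (blocks B).erase b := Finset.mem_erase.2 ⟨Ne.symm h, mem_blocks.2 hc⟩
    have hl := hlt c hc'
    rcases Nat.mod_two_eq_zero_or_one (b ∩ c).card with hp | hp
    · rcases (show (b ∩ c).card = 0 ∨ (b ∩ c).card = 2 by omega) with e | e <;>
        have := interNum_pos hc' e <;> omega
    · exact hp

theorem small_parity_even {m n2 n4 n6 : ℕ} (hm : m ≤ 6)
    (e1 : n2 * 2 + n4 * 4 + n6 * 6 = m * 77)
    (e2 : n2 + n4 * 6 + n6 * 15 = m.choose 2 * 21)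
    (e3 : n4 * 4 + n6 * 20 = m.choose 3 * 5)
    (e4 : n4 + n6 * 15 = m.choose 4) : m = 0 := by
  interval_cases m <;> norm_num [Nat.choose] at e1 e2 e3 e4 <;> omega

theorem small_parity_odd {m n1 n3 n5 : ℕ} (hm : m ≤ 5) (e0 : n1 + n3 + n5 = 253)
    (e1 : n1 + n3 * 3 + n5 * 5 = m * 77) (e2 : n3 * 3 + n5 * 10 = m.choose 2 * 21)
    (e3 : n3 + n5 * 10 = m.choose 3 * 5) (e4 : n5 * 5 = m.choose 4) : False := by
  interval_cases m <;> norm_num [Nat.choose] at e1 e2 e3 e4 <;> omega

/-- A small set meets some block evenly, and some block oddly unless it is empty. -/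
theorem small_parity (hα : Fintype.card α = 23) {B : Set (Finset α)}
    (hB : IsSteinerSystem 4 7 B) {u : Finset α} {ε : ℕ} (hε : ε = 0 ∨ ε = 1)
    (hu : u.card + ε ≤ 6) (h : ∀ c ∈ B, (u ∩ c).card % 2 = ε) : ε = 0 ∧ u = ∅ := by
  classical
  have hlt : ∀ c ∈ blocks B, (u ∩ c).card < 7 := fun c _ =>
    lt_of_le_of_lt (Finset.card_le_card Finset.inter_subset_left) (by omega)
  have key : ∀ j N, j ≤ 4 → 0 < Nat.choose (7 - j) (4 - j) →
      N * Nat.choose (7 - j) (4 - j) = Nat.choose (23 - j) (4 - j) →
      ∑ i ∈ Finset.range 7, interNum (blocks B) u i * Nat.choose i j = Nat.choose u.card j * N := by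
    intro j N hj hp hN
    exact inter_moment _ u 7 j N hlt
      (fun r _ hrc => steiner_lambda hB j N hrc hj hp (hα ▸ hN))
  have e0 := key 0 253 (by norm_num) (by decide) (by decide)
  have e1 := key 1 77 (by norm_num) (by decide) (by decide)
  have e2 := key 2 21 (by norm_num) (by decide) (by decide)
  have e3 := key 3 5 (by norm_num) (by decide) (by decide)
  have e4 := key 4 1 (by norm_num) (by decide) (by decide)
  have hne : ∀ i, i % 2 ≠ ε → interNum (blocks B) u i = 0 := by
    intro i hi
    rw [interNum, Finset.card_eq_zero, Finset.filter_eq_empty_iff]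
    intro c hc e
    exact hi (e ▸ h c (mem_blocks.1 hc))
  norm_num [Finset.sum_range_succ, Nat.choose] at e0 e1 e2 e3 e4
  rcases hε with rfl | rfl
  · rw [hne 1 (by norm_num), hne 3 (by norm_num), hne 5 (by norm_num)] at *
    simp only [zero_mul, add_zero, zero_add] at e0 e1 e2 e3 e4
    exact ⟨rfl, Finset.card_eq_zero.1 (small_parity_even (by simpa using hu) e1 e2 e3 e4)⟩
  · rw [hne 0 (by norm_num), hne 2 (by norm_num), hne 4 (by norm_num), hne 6 (by norm_num)] at *
    simp only [zero_mul, add_zero, zero_add] at e0 e1 e2 e3 e4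
    exact (small_parity_odd (Nat.le_of_add_le_add_right (b := 1) hu) e0 e1 e2 e3 e4).elim

omit [Fintype α] in
theorem inter_insertNone (b c : Finset α) :
    Finset.insertNone b ∩ Finset.insertNone c = Finset.insertNone (b ∩ c) := by
  ext (_ | x) <;> simp

/-- Octads through the last point span the code. -/
def octComb : List (List ℕ) := [[13062145], [9347075, 13062145], [13938692], [11100169, 13062145],
  [10170384], [11952160], [15515712], [13062145, 14254209], [9347075, 11731203],
  [12325377, 13062145], [11654144], [14919680]]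

theorem octComb_eq : octComb.map (fun l => l.foldr (fun m r => Nat.xor m r) 0) = gens ∧
    ∀ l ∈ octComb, ∀ m ∈ l, isCode m = true ∧ pop m = 8 ∧ m.testBit 23 = true := by
  decide +kernel

theorem mem_M24_of_octads_through {σ : Equiv.Perm GolayPt}
    (h : ∀ o ∈ octads, pt 23 ∈ o → σ • o ∈ octads) : σ ∈ M24 := by
  refine mem_M24_of_words fun x hx => ?_
  rw [← octComb_eq.1, List.mem_map] at hx
  obtain ⟨l, hl, rfl⟩ := hx
  have hl' := octComb_eq.2 l hl
  clear hl
  induction l with
  | nil =>
    simp only [List.foldr_nil, mset_zero, Finset.smul_finset_empty]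
    exact mem_supports_iff.2 ⟨0, isCode_zero, mset_zero⟩
  | cons m l ih =>
    simp only [List.foldr_cons]
    rw [show Nat.xor m _ = m ^^^ _ from rfl, mset_xor, Finset.smul_finset_symmDiff]
    obtain ⟨hc, hp, hb⟩ := hl' m (by simp)
    refine symmDiff_mem_supports (h _ (mem_octads_iff.2 ⟨m, mem_octList.2 ⟨hc, hp⟩, rfl⟩) ?_).1
      (ih fun y hy => hl' y (by simp [hy]))
    rw [mem_mset, idx_pt (by norm_num), hb]

/-- Every `S(4,7,23)` is the system of octads through a point, with that point removed. -/
theorem steiner23_iso (hα : Fintype.card α = 23) {B : Set (Finset α)}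
    (hB : IsSteinerSystem 4 7 B) :
    ∃ e : Option α ≃ GolayPt, e none = pt 23 ∧
      ∀ w : Finset α, (Finset.insertNone w).image e ∈ octads ↔ w ∈ B := by
  classical
  let F : Set (Finset (Option α)) := (fun b => Finset.insertNone b) '' B
  have hX : Fintype.card (Option α) = 24 := by simp [hα]
  have hF : ∀ (u : Finset (Option α)) (ε : ℕ), (if none ∈ u then 1 else 0) = ε →
      (∀ c ∈ F, (u ∩ c).card % 2 = 0) →
      ∀ c ∈ B, (Finset.eraseNone u ∩ c).card % 2 = ε := by
    intro u ε hε h c hc
    have h1 := h _ ⟨c, hc, rfl⟩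
    have e : (u ∩ Finset.insertNone c).card = (Finset.eraseNone u ∩ c).card + ε := by
      rw [← hε]
      split_ifs with hn
      · rw [← Finset.card_insertNone]; congr 1
        ext (_ | x) <;> simp [hn]
      · rw [add_zero, show u ∩ Finset.insertNone c =
          (Finset.eraseNone u ∩ c).map Function.Embedding.some by ext (_ | x) <;> simp [hn],
          Finset.card_map]
    rw [e] at h1
    have : ε = 0 ∨ ε = 1 := by subst hε; split_ifs <;> simp
    omega
  have hev : ∀ b ∈ F, ∀ c ∈ F, (b ∩ c).card % 2 = 0 := by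
    rintro _ ⟨b, hb, rfl⟩ _ ⟨c, hc, rfl⟩
    rw [inter_insertNone, Finset.card_insertNone]
    have := inter_odd_4_7_23 hα hB hb hc
    omega
  obtain ⟨e₀, he₀⟩ := exists_code_of_family hX F
    (by rintro _ ⟨b, hb, rfl⟩; rw [Finset.card_insertNone, hB.1 b hb]; norm_num) hev (fun u hu h => by
      have hc : (Finset.eraseNone u).card + (if none ∈ u then 1 else 0) = u.card := by
        split_ifs with hn
        · rw [← Finset.card_insertNone, Finset.insertNone_eraseNone, Finset.insert_eq_of_mem hn]
        · rw [add_zero, Finset.card_eraseNone_eq_card_erase, Finset.erase_eq_of_notMem hn]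
      have := small_parity hα hB (by split_ifs <;> simp) (by omega) (hF u _ rfl h)
      rw [this.1, this.2] at hc
      exact Finset.card_eq_zero.1 hc.symm)
  obtain ⟨g, hg⟩ := M24_one (e₀ none) (pt 23)
  let e : Option α ≃ GolayPt := e₀.trans (g : Equiv.Perm GolayPt)
  have he : ∀ w : Finset (Option α), w.card = 8 →
      ((∀ c ∈ F, (w ∩ c).card % 2 = 0) ↔ w.image e ∈ octads) := by
    intro w hw
    rw [show w.image e = (g : Equiv.Perm GolayPt) • w.image e₀ by
      rw [Finset.smul_finset_def, Finset.image_image]; rfl, he₀]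
    constructor
    · exact fun h => M24_smul_octad g.2 ⟨h, by rw [Finset.card_image_of_injective _ e₀.injective, hw]⟩
    · intro h
      have := M24_smul_octad (g⁻¹).2 h
      rw [Subgroup.coe_inv, inv_smul_smul] at this
      exact this.1
  refine ⟨e, hg, fun w => ?_⟩
  constructor
  · intro h
    have hw : w.card = 7 := by
      have := h.2
      rw [Finset.card_image_of_injective _ e.injective, Finset.card_insertNone] at this
      omega
    have hev' := (he _ (by rw [Finset.card_insertNone, hw])).2 h
    obtain ⟨r, hr, hrc⟩ := Finset.exists_subset_card_eq (show 4 ≤ w.card by omega)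
    obtain ⟨b, ⟨hb, hrb⟩, -⟩ := hB.2 r hrc
    have h4 : 4 ≤ (w ∩ b).card := hrc ▸ Finset.card_le_card (Finset.subset_inter hr hrb)
    have hsd := card_symmDiff_add w b
    rw [hw, hB.1 b hb] at hsd
    have hz : symmDiff w b = ∅ := by
      refine (small_parity hα hB (Or.inl rfl) (u := symmDiff w b) (by omega) fun c hc => ?_).2
      have h1 := hev' _ ⟨c, hc, rfl⟩
      rw [inter_insertNone, Finset.card_insertNone] at h1
      have h2 := inter_odd_4_7_23 hα hB hb hc
      have h3 := card_symmDiff_add (w ∩ c) (b ∩ c)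
      have e1 : symmDiff (w ∩ c) (b ∩ c) = symmDiff w b ∩ c := (inf_symmDiff_distrib_right w b c).symm
      rw [e1] at h3
      omega
    rw [← Finset.bot_eq_empty, symmDiff_eq_bot] at hz
    exact hz ▸ hb
  · intro h
    exact (he _ (by rw [Finset.card_insertNone, hB.1 w h])).1 fun c hc => hev _ ⟨w, h, rfl⟩ c hc

end CfsgLib.Golay
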