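import Cfsg.Agent.Lib.Golay.Co0McLGroup

/-! Simplicity of the group of the configuration of 275 vectors. -/

set_option autoImplicit false
set_option maxRecDepth 100000

namespace CfsgLib.Golay

open Cfsg
open scoped Pointwise

/-- Doubling on the residues. -/
def mulCode : ℕ := 983435072843990828779021698901151808

theorem mul_in : inM24 mulCode = true := by decide +kernel

/-- Doubling, as an element of `M24`. -/
noncomputable def mulM24 : M24 := ⟨permOf mulCode, inM24_mem mul_in⟩

theorem mul_some (x : ZMod 23) : (mulM24 : Equiv.Perm GolayPt) (some x) = some (2 * x) := by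
  show permOf mulCode (some x) = _
  rw [permOf_apply (inM24_valid mul_in)]
  revert x; decide +kernel

theorem mul_none : (mulM24 : Equiv.Perm GolayPt) none = none := by
  show permOf mulCode none = _
  rw [permOf_apply (inM24_valid mul_in)]
  decide +kernel

theorem mul_pinf : mulM24 • pinf = pinf := by
  rw [pinf_none]; exact mul_none

theorem mul_pz : mulM24 • pz = pz := by
  have h : pz = some 0 := by decide +kernel
  rw [h]
  show (mulM24 : Equiv.Perm GolayPt) (some 0) = some 0
  rw [mul_some, mul_zero]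

theorem orderOf_mulM24 : orderOf mulM24 = 11 := by
  haveI : Fact (Nat.Prime 11) := ⟨by norm_num⟩
  have h : ∀ n : ℕ, ∀ x : ZMod 23,
      ((mulM24 ^ n : M24) : Equiv.Perm GolayPt) (some x) = some (2 ^ n * x) := by
    intro n
    induction n with
    | zero => intro x; simp
    | succ n ih =>
      intro x
      rw [pow_succ', Subgroup.coe_mul, Equiv.Perm.mul_apply, ih, mul_some, pow_succ']
      rw [mul_assoc]
  refine orderOf_eq_prime (Subtype.ext (Equiv.ext fun i => ?_)) fun e => ?_
  · rcases i with _ | x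
    · rw [SubmonoidClass.coe_pow]
      exact Equiv.Perm.pow_apply_eq_self_of_apply_eq_self mul_none _
    · rw [h, show (2 : ZMod 23) ^ 11 = 1 by decide +kernel, one_mul]; rfl
  · have := congrArg (fun σ : M24 => (σ : Equiv.Perm GolayPt) (some 1)) e
    simp only [mul_some, mul_one, OneMemClass.coe_one, Equiv.Perm.one_apply, Option.some.injEq] at this
    exact absurd this (by decide +kernel)

/-- The permutations fixing the two base points. -/
abbrev mclPts : Subgroup M24 := MulAction.stabilizer M24 pinf ⊓ MulAction.stabilizer M24 pz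

theorem isSimple_mclPts : IsSimpleGroup mclPts := by
  obtain ⟨e⟩ := stab2_equiv pinf_ne_pz
  haveI := isSimple_fix22
  exact e.isSimpleGroup

/-- The monomial elements of the group. -/
noncomputable def mclHom : mclPts →* mclGroup :=
  MonoidHom.mk' (fun σ => ⟨monoCo0 σ.1 σ.1.2 ∅ empty_code,
    perm_fix_five σ.2.1,
    mono_fix_min44 σ.1 σ.2.1 σ.2.2 empty_code (Finset.notMem_empty _) (Finset.notMem_empty _)⟩)
    fun σ τ => by
    refine Subtype.ext ?_
    show _ = monoCo0 σ.1 σ.1.2 ∅ empty_code * monoCo0 τ.1 τ.1.2 ∅ empty_code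
    rw [monoCo0_mul]
    exact monoCo0_congr (hc := empty_code) rfl (by simp)

theorem mclHom_injective : Function.Injective mclHom := fun σ τ h =>
  Subtype.ext (Subtype.ext (monoCo0_inj (hσ := σ.1.2) (hτ := τ.1.2) (hc := empty_code)
    (hd := empty_code) (congrArg Subtype.val h)).1)

/-- The auxiliary vector fixed by the monomial elements. -/
def w11 : leechLattice := vec8 pinf - fiveV

theorem w11_facts : sqNorm (w11 : GolayPt → ℤ) = 32 ∧ dotInt (fiveV : GolayPt → ℤ) w11 = -8 ∧
    dotInt (min44 : GolayPt → ℤ) w11 = 8 := by decide +kernel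

theorem mem_range_mclHom {g : mclGroup} (hg : (g : Co0) • w11 = w11) : g ∈ mclHom.range := by
  have h1 : (g : Co0) • fiveV = fiveV := g.2.1
  have h2 : (g : Co0) • min44 = min44 := g.2.2
  have h8 : vec8 pinf = fiveV + w11 := by rw [w11]; abel
  have hN : (g : Co0) ∈ N0 := by
    show leechR.cls ((g : Co0) • vec8 pinf) = leechR.cls (vec8 pinf)
    rw [h8, co0_add, h1, hg]
  obtain ⟨⟨σ, hσ⟩, e⟩ := mem_range_pointedHom fiveV_pointed (g := ⟨(g : Co0), h1⟩) hN
  have e' : monoCo0 σ σ.2 ∅ empty_code = (g : Co0) := congrArg Subtype.val e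
  have hz : σ • pz = pz := by
    have := congrArg (fun v : leechLattice => (v : GolayPt → ℤ) ((σ : Equiv.Perm GolayPt) pz)) h2
    rw [← e'] at this
    simp only [perm_apply] at this
    by_contra hne
    have hne' : (σ : Equiv.Perm GolayPt) pz ≠ pz := hne
    have hne'' : (σ : Equiv.Perm GolayPt) pz ≠ pinf := fun h =>
      pinf_ne_pz.symm ((σ : Equiv.Perm GolayPt).injective
        (h.trans (show (σ : Equiv.Perm GolayPt) pinf = pinf from hσ).symm))
    simp [min44_coe, pinf_ne_pz.symm, hne', hne''] at this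
  exact ⟨⟨σ, hσ, hz⟩, Subtype.ext e'⟩

/-- An element of order 11. -/
noncomputable def g11 : mclGroup := mclHom ⟨mulM24, mul_pinf, mul_pz⟩

theorem orderOf_g11 : orderOf g11 = 11 := by
  rw [g11, orderOf_injective mclHom mclHom_injective, ← Subgroup.orderOf_coe]
  exact orderOf_mulM24

/-- The residues that are squares. -/
theorem residues : ∀ z : ZMod 23, z = 0 ∨ (∃ n < 11, z = 2 ^ n * 1) ∨ (∃ n < 11, z = 2 ^ n * 5) := by
  decide +kernel

/-- The only fixed auxiliary vector. -/
theorem g11_fixed {w : leechLattice} (w1 : sqNorm (w : GolayPt → ℤ) = 32)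
    (w2 : dotInt (fiveV : GolayPt → ℤ) w = -8) (w3 : dotInt (min44 : GolayPt → ℤ) w = 8)
    (hfix : (g11 : Co0) • w = w) : w = w11 := by
  classical
  set x : GolayPt → ℤ := (w : GolayPt → ℤ) with hx
  have hstep : ∀ z, x (some (2 * z)) = x (some z) := fun z => by
    have h := congrArg (fun v : leechLattice => (v : GolayPt → ℤ)
      ((mulM24 : Equiv.Perm GolayPt) (some z))) hfix
    have h' : (w : GolayPt → ℤ) (some z) = (w : GolayPt → ℤ) ((mulM24 : Equiv.Perm GolayPt) (some z)) := by
      rw [← h]; exact (perm_apply mulM24 w (some z)).symm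
    rw [mul_some] at h'
    exact h'.symm
  have hpow : ∀ (n : ℕ) z, x (some (2 ^ n * z)) = x (some z) := by
    intro n
    induction n with
    | zero => intro z; simp
    | succ n ih => intro z; rw [pow_succ', mul_assoc, hstep, ih]
  have hval : ∀ z : ZMod 23, z ≠ 0 →
      x (some z) = if (∃ n < 11, z = 2 ^ n * 1) then x (some 1) else x (some 5) := by
    intro z hz
    split_ifs with h
    · obtain ⟨n, -, rfl⟩ := h; exact hpow n 1
    · rcases residues z with r | r | ⟨n, -, rfl⟩
      · exact absurd r hz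
      · exact absurd r h
      · exact hpow n 5
  have hsum : ∀ φ : ℤ → ℤ, ∑ i, φ (x i) =
      φ (x pinf) + φ (x pz) + 11 * φ (x (some 1)) + 11 * φ (x (some 5)) := by
    intro φ
    have e0 : pz = some 0 := by decide +kernel
    rw [Fintype.sum_option, pinf_none, e0,
      ← Finset.add_sum_erase Finset.univ (fun z => φ (x (some z))) (Finset.mem_univ (0 : ZMod 23))]
    have : ∀ z ∈ Finset.univ.erase (0 : ZMod 23), φ (x (some z)) =
        if (∃ n < 11, z = 2 ^ n * 1) then φ (x (some 1)) else φ (x (some 5)) := fun z hz => by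
      rw [hval z (Finset.ne_of_mem_erase hz)]; split_ifs <;> rfl
    rw [Finset.sum_congr rfl this, Finset.sum_ite, Finset.sum_const, Finset.sum_const,
      show ((Finset.univ.erase (0 : ZMod 23)).filter fun z => ∃ n < 11, z = 2 ^ n * 1).card = 11 by
        decide +kernel,
      show ((Finset.univ.erase (0 : ZMod 23)).filter fun z => ¬∃ n < 11, z = 2 ^ n * 1).card = 11 by
        decide +kernel]
    simp only [nsmul_eq_mul, Nat.cast_ofNat]
    ring
  have hs := hsum id
  have hq := hsum fun t => t ^ 2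
  rw [show ∑ i, x i ^ 2 = 32 from w1] at hq
  rw [dot_five] at w2
  rw [dot_min44] at w3
  simp only [id] at hs
  have e : x pinf = 3 ∧ x pz = -1 ∧ x (some 1) = -1 ∧ x (some 5) = -1 := by
    change (∑ i, x i) + 4 * x pinf = -8 at w2
    change 4 * x pinf + 4 * x pz = 8 at w3
    generalize ∑ i, x i = S at hs w2
    generalize x (some 1) = c at hs hq
    generalize x (some 5) = d at hs hq
    generalize x pinf = a at hs hq w2 w3
    generalize x pz = b at hs hq w2 w3
    have hc : -1 ≤ c ∧ c ≤ 1 := by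
      constructor <;> nlinarith [sq_nonneg a, sq_nonneg b, sq_nonneg d]
    have hd : -1 ≤ d ∧ d ≤ 1 := by
      constructor <;> nlinarith [sq_nonneg a, sq_nonneg b, sq_nonneg c]
    have ha : -5 ≤ a ∧ a ≤ 5 := by
      constructor <;> nlinarith [sq_nonneg c, sq_nonneg d, sq_nonneg b]
    have hb : b = 2 - a := by omega
    subst hb
    have hS : 5 * a + (2 - a) + 11 * c + 11 * d = -8 := by omega
    obtain ⟨hc1, hc2⟩ := hc
    obtain ⟨hd1, hd2⟩ := hd
    interval_cases c <;> interval_cases d <;>
      first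
        | omega
        | (have : a = 3 := by omega
           subst this; norm_num at hq ⊢)
        | (exfalso; have : 4 * a = -10 := by omega
           omega)
  obtain ⟨e1, e2, e3, e4⟩ := e
  refine Subtype.ext (funext fun i => ?_)
  rw [← hx]
  rcases i with _ | z
  · rw [pinf_none] at e1; rw [e1]; decide +kernel
  · by_cases hz : z = 0
    · subst hz
      rw [show (some 0 : GolayPt) = pz by decide +kernel, e2]; decide +kernel
    · rw [hval z hz]
      have hne : (some z : GolayPt) ≠ pinf := by rw [pinf_none]; simp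
      have e11 : (w11 : GolayPt → ℤ) (some z) = -1 := by
        simp [w11, vec8, fiveV, five, hne]
      rw [e11]
      split_ifs <;> assumption

theorem exists_sylow11 {n : mclGroup} (hn : orderOf n = 11) :
    ∃ S : Sylow 11 mclGroup, (S : Subgroup mclGroup) = Subgroup.zpowers n := by
  haveI : Fact (Nat.Prime 11) := ⟨by norm_num⟩
  have h : (Nat.card mclGroup).factorization 11 = 1 := by
    rw [card_mclGroup]
    have h1 : 1 ≤ (898128000 : ℕ).factorization 11 := by
      rw [← Nat.Prime.pow_dvd_iff_le_factorization (by norm_num) (by norm_num)]; norm_num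
    have h2 : ¬ 2 ≤ (898128000 : ℕ).factorization 11 := by
      rw [← Nat.Prime.pow_dvd_iff_le_factorization (by norm_num) (by norm_num)]; norm_num
    omega
  refine ⟨Sylow.ofCard (Subgroup.zpowers n) ?_, rfl⟩
  rw [Nat.card_zpowers, hn, h]; norm_num

theorem commute_g11_range {q : mclGroup} (hq : q⁻¹ * g11 * q ∈ Subgroup.zpowers g11) :
    q ∈ mclHom.range := by
  obtain ⟨k, hk⟩ := Subgroup.mem_zpowers_iff.1 hq
  refine mem_range_mclHom ?_
  obtain ⟨f1, f2, f3⟩ := w11_facts
  have hg : (g11 : Co0) • w11 = w11 := by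
    rw [w11, co0_sub]
    have h1 : (g11 : Co0) • fiveV = fiveV := g11.2.1
    rw [h1]
    congr 1
    refine Subtype.ext (funext fun i => ?_)
    obtain ⟨i, rfl⟩ := (mulM24 : Equiv.Perm GolayPt).surjective i
    refine (perm_apply mulM24 (vec8 pinf) i).trans ?_
    have e : (mulM24 : Equiv.Perm GolayPt) i = pinf ↔ i = pinf :=
      ⟨fun h => (mulM24 : Equiv.Perm GolayPt).injective (h.trans mul_pinf.symm),
        fun h => h ▸ mul_pinf⟩
    simp only [vec8, Pi.single_apply, e]
  have hgk : ((g11 ^ k : mclGroup) : Co0) • w11 = w11 := by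
    have : g11 ∈ MulAction.stabilizer mclGroup w11 := hg
    exact Subgroup.zpow_mem _ this k
  have h1 : (q : Co0) • fiveV = fiveV := q.2.1
  have h2 : (q : Co0) • min44 = min44 := q.2.2
  refine g11_fixed ((co0_sq _ _).trans f1) ?_ ?_ ?_
  · rw [← h1, co0_dot]; exact f2
  · rw [← h2, co0_dot]; exact f3
  · have e : (g11 : Co0) * (q : Co0) = (q : Co0) * ((g11 ^ k : mclGroup) : Co0) := by
      rw [← Subgroup.coe_mul, ← Subgroup.coe_mul]
      exact congrArg Subtype.val (by rw [hk]; group)
    rw [← mul_smul, e, mul_smul, hgk]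

theorem mcl_big {M : Subgroup mclGroup} [M.Normal] (h11 : 11 ∣ Nat.card M) : M = ⊤ := by
  classical
  haveI : Fact (Nat.Prime 11) := ⟨by norm_num⟩
  haveI := isSimple_mclPts
  obtain ⟨S₀, hS₀⟩ := exists_sylow11 orderOf_g11
  obtain ⟨m, hm⟩ := exists_prime_orderOf_dvd_card' 11 h11
  obtain ⟨S₁, hS₁⟩ := exists_sylow11 (n := m.1) (by rw [Subgroup.orderOf_coe, hm])
  obtain ⟨h, hh⟩ := MulAction.exists_smul_eq mclGroup S₁ S₀
  have hle : (S₀ : Subgroup mclGroup) ≤ M := by
    rw [← hh, Sylow.coe_subgroup_smul, hS₁]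
    intro g hg
    rw [Subgroup.mem_pointwise_smul_iff_inv_smul_mem] at hg
    have := (inferInstance : M.Normal).conj_mem _ (Subgroup.zpowers_le.2 m.2 hg) h
    simpa [MulAut.smul_def, mul_assoc] using this
  have hg11 : g11 ∈ M := hle (by rw [hS₀]; exact Subgroup.mem_zpowers _)
  have hR : mclHom.range ≤ M := by
    have hK : (M.comap mclHom).Normal := (inferInstance : M.Normal).comap _
    rcases Subgroup.Normal.eq_bot_or_eq_top hK with h0 | h1
    · exfalso
      have h2 : (⟨mulM24, mul_pinf, mul_pz⟩ : mclPts) ∈ M.comap mclHom := hg11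
      rw [h0, Subgroup.mem_bot] at h2
      have h3 := orderOf_g11
      rw [g11, h2, map_one, orderOf_one] at h3
      omega
    · rintro _ ⟨σ, rfl⟩
      exact (show σ ∈ M.comap mclHom by rw [h1]; trivial)
  rw [eq_top_iff, ← Sylow.normalizer_sup_eq_top' S₀ hle]
  refine sup_le (fun n hn => hR (commute_g11_range ?_)) le_rfl
  have h1 : n⁻¹ * g11 * n ∈ (S₀ : Subgroup mclGroup) :=
    (Subgroup.mem_normalizer_iff''.1 hn _).1 (by rw [hS₀]; exact Subgroup.mem_zpowers _)
  rwa [hS₀] at h1

/-- A normal subgroup of order prime to 11 is trivial. -/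
theorem mcl_small {M : Subgroup mclGroup} [M.Normal] (h11 : ¬ 11 ∣ Nat.card M) : M = ⊥ := by
  classical
  haveI : Fact (Nat.Prime 11) := ⟨by norm_num⟩
  haveI := isSimple_mclPts
  have hK0 : M.comap mclHom = ⊥ := by
    have hK : (M.comap mclHom).Normal := (inferInstance : M.Normal).comap _
    rcases Subgroup.Normal.eq_bot_or_eq_top hK with h0 | h1
    · exact h0
    · exfalso
      apply h11
      have hmem : g11 ∈ M := (show (⟨mulM24, mul_pinf, mul_pz⟩ : mclPts) ∈ M.comap mclHom by
        rw [h1]; trivial)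
      rw [← orderOf_g11, ← Subgroup.orderOf_mk g11 hmem]
      exact orderOf_dvd_natCard _
  have hR : ∀ q ∈ M, q ∈ mclHom.range → q = 1 := by
    rintro _ hq ⟨σ, rfl⟩
    have : σ ∈ M.comap mclHom := hq
    rw [hK0, Subgroup.mem_bot] at this
    rw [this, map_one]
  have hG : 11 ∣ Nat.card mclGroup := by rw [card_mclGroup]; norm_num
  -- every Sylow subgroup of `M` has order congruent to one
  have hcong : ∀ (p : ℕ) [Fact p.Prime] (Q : Sylow p M), Nat.card Q ≡ 1 [MOD 11] := by
    intro p _ Q
    let Q' : Subgroup mclGroup := (Q : Subgroup M).map M.subtype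
    have hQM : Q' ≤ M := Subgroup.map_subtype_le _
    have hsup : Subgroup.normalizer (Q' : Set mclGroup) ⊔ M = ⊤ := Sylow.normalizer_sup_eq_top Q
    have hN : 11 ∣ Nat.card (Subgroup.normalizer (Q' : Set mclGroup)) := by
      have h1 : 11 ∣ M.index := by
        have hd : 11 ∣ Nat.card M * M.index := by rw [M.card_mul_index]; exact hG
        exact ((Nat.Prime.dvd_mul (by norm_num)).1 hd).resolve_left h11
      have h2 : M.relIndex (Subgroup.normalizer (Q' : Set mclGroup)) = M.index := by
        rw [← Subgroup.relIndex_sup_right, hsup, Subgroup.relIndex_top_right]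
      exact h1.trans (h2 ▸ Subgroup.relIndex_dvd_card _ _)
    obtain ⟨n, hn⟩ := exists_prime_orderOf_dvd_card' 11 hN
    let P : Subgroup mclGroup := Subgroup.zpowers n.1
    have hn' : orderOf n.1 = 11 := by rw [Subgroup.orderOf_coe, hn]
    have hPc : Nat.card P = 11 := by rw [Nat.card_zpowers, hn']
    have hPN : P ≤ Subgroup.normalizer (Q' : Set mclGroup) := Subgroup.zpowers_le.2 n.2
    letI : MulAction P Q' :=
      { smul := fun g q => ⟨g.1 * q.1 * g.1⁻¹, (Subgroup.mem_normalizer_iff.1 (hPN g.2) q).1 q.2⟩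
        one_smul := fun q => Subtype.ext
          (by show (1 : mclGroup) * q.1 * (1 : mclGroup)⁻¹ = _
              rw [one_mul, inv_one, mul_one])
        mul_smul := fun g k q => Subtype.ext (by
          show g.1 * k.1 * q.1 * (g.1 * k.1)⁻¹ = g.1 * (k.1 * q.1 * k.1⁻¹) * g.1⁻¹
          group) }
    have hP : IsPGroup 11 P := IsPGroup.of_card (n := 1) (by rw [hPc]; rfl)
    have hmod := hP.card_modEq_card_fixedPoints Q'
    obtain ⟨S₁, hS₁⟩ := exists_sylow11 hn'
    obtain ⟨S₀, hS₀⟩ := exists_sylow11 orderOf_g11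
    obtain ⟨h, hh⟩ := MulAction.exists_smul_eq mclGroup S₀ S₁
    have hmem : h * g11 * h⁻¹ ∈ P := by
      show _ ∈ Subgroup.zpowers n.1
      rw [← hS₁, ← hh, Sylow.coe_subgroup_smul, Subgroup.mem_pointwise_smul_iff_inv_smul_mem, hS₀]
      have e : (MulAut.conj h)⁻¹ • (h * g11 * h⁻¹) = g11 := by
        simp [MulAut.smul_def]; group
      rw [e]
      exact Subgroup.mem_zpowers _
    have hfix : ∀ q : Q', q ∈ MulAction.fixedPoints P Q' ↔ q = 1 := by
      intro q
      constructor
      · intro hq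
        have e : (h * g11 * h⁻¹) * q.1 * (h * g11 * h⁻¹)⁻¹ = q.1 :=
          congrArg Subtype.val (hq ⟨_, hmem⟩)
        have hq1 : h⁻¹ * q.1 * h = 1 := by
          refine hR _ ((inferInstance : M.Normal).conj_mem' q.1 (hQM q.2) h) (commute_g11_range ?_)
          have : (h⁻¹ * q.1 * h)⁻¹ * g11 * (h⁻¹ * q.1 * h) = g11 := by
            calc (h⁻¹ * q.1 * h)⁻¹ * g11 * (h⁻¹ * q.1 * h)
                = h⁻¹ * q.1⁻¹ * ((h * g11 * h⁻¹) * q.1 * (h * g11 * h⁻¹)⁻¹) * (h * g11 * h⁻¹) * h := by
                  group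
              _ = g11 := by rw [e]; group
          rw [this]; exact Subgroup.mem_zpowers _
        refine Subtype.ext ?_
        calc q.1 = h * (h⁻¹ * q.1 * h) * h⁻¹ := by group
          _ = 1 := by rw [hq1]; group
      · rintro rfl g
        exact Subtype.ext (by show g.1 * 1 * g.1⁻¹ = 1; group)
    have hone : Nat.card (MulAction.fixedPoints P Q') = 1 := by
      have : MulAction.fixedPoints P Q' = {1} := Set.ext fun q => by
        rw [hfix q, Set.mem_singleton_iff]
      rw [this, Nat.card_coe_set_eq, Set.ncard_singleton]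
    have hQ' : Nat.card Q' = Nat.card Q :=
      Nat.card_congr (Subgroup.equivMapOfInjective _ _ Subtype.val_injective).symm.toEquiv
    rwa [hone, hQ'] at hmod
  -- hence `M` is a 3-group
  have h3 : IsPGroup 3 M := by
    rw [IsPGroup.iff_card]
    refine ⟨_, Nat.eq_prime_pow_of_unique_prime_dvd Nat.card_pos.ne' fun {p} hp hpd => ?_⟩
    haveI : Fact p.Prime := ⟨hp⟩
    obtain ⟨Q⟩ : Nonempty (Sylow p M) := inferInstance
    obtain ⟨a, ha⟩ := IsPGroup.iff_card.1 Q.isPGroup'
    have hc := hcong p Q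
    rw [ha] at hc
    have ha0 : a ≠ 0 := by
      intro h0
      have := Sylow.dvd_card_of_dvd_card Q hpd
      rw [ha, h0] at this
      exact hp.ne_one (Nat.dvd_one.1 this)
    have hdvd : p ^ a ∣ 898128000 := by
      rw [← ha, ← card_mclGroup]
      exact (Subgroup.card_subgroup_dvd_card (Q : Subgroup M)).trans
        (Subgroup.card_subgroup_dvd_card M)
    have hpd' : p ∣ 898128000 := (dvd_pow_self p ha0).trans hdvd
    rw [show (898128000 : ℕ) = 2 ^ 7 * 3 ^ 6 * 5 ^ 3 * 7 * 11 by norm_num] at hpd'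
    simp only [hp.dvd_mul] at hpd'
    have key : ∀ (P e : ℕ), p = P → ¬ P ^ (e + 1) ∣ 898128000 →
        (∀ b ≤ e, b ≠ 0 → P ^ b % 11 ≠ 1) → False := by
      intro P e hP hnd hd
      subst hP
      have hae : a ≤ e := by
        by_contra hlt
        exact hnd ((pow_dvd_pow p (show e + 1 ≤ a by omega)).trans hdvd)
      exact hd a hae ha0 hc
    have hpr : ∀ P, P.Prime → p ∣ P → p = P := fun P hP hd =>
      (Nat.prime_dvd_prime_iff_eq hp hP).1 hd
    rcases hpd' with (((h | h) | h) | h) | h
    · exact (key 2 7 (hpr 2 Nat.prime_two (hp.dvd_of_dvd_pow h)) (by norm_num) (by decide +kernel)).elim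
    · exact hpr 3 Nat.prime_three (hp.dvd_of_dvd_pow h)
    · exact (key 5 3 (hpr 5 (by norm_num) (hp.dvd_of_dvd_pow h)) (by norm_num) (by decide +kernel)).elim
    · exact (key 7 1 (hpr 7 (by norm_num) h) (by norm_num) (by decide +kernel)).elim
    · exact absurd ((hpr 11 (by norm_num) h) ▸ hpd) h11
  -- a 3-group fixes all the points
  have horbG : MulAction.orbit mclGroup pv = mclPoints := by
    have hpv : pv ∈ mclPoints := by
      show sqNorm (pv : GolayPt → ℤ) = 32 ∧ _ ∧ _
      refine ⟨?_, ?_, ?_⟩ <;> decide +kernel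
    ext y
    constructor
    · rintro ⟨g, rfl⟩
      show sqNorm (((g : Co0) • pv : leechLattice) : GolayPt → ℤ) = 32 ∧
        dotInt (fiveV : GolayPt → ℤ) ((g : Co0) • pv : leechLattice) = 24 ∧
        dotInt (min44 : GolayPt → ℤ) ((g : Co0) • pv : leechLattice) = 16
      obtain ⟨p1, p2, p3⟩ := hpv
      refine ⟨(co0_sq _ _).trans p1, ?_, ?_⟩
      · rw [show (fiveV : GolayPt → ℤ) = ((g : Co0) • fiveV : leechLattice) by
          rw [show (g : Co0) • fiveV = fiveV from g.2.1], co0_dot]
        exact p2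
      · rw [show (min44 : GolayPt → ℤ) = ((g : Co0) • min44 : leechLattice) by
          rw [show (g : Co0) • min44 = min44 from g.2.2], co0_dot]
        exact p3
    · intro hy
      obtain ⟨g, g1, g2, g3⟩ := mcl_trans hpv hy
      exact ⟨⟨g, g1, g2⟩, g3⟩
  have hfixall : ∀ y ∈ mclPoints, ∀ m ∈ M, (m : Co0) • y = y := by
    intro y hy m hm
    let S : Subgroup mclGroup := MulAction.stabilizer mclGroup y
    have hyorb : MulAction.orbit mclGroup y = mclPoints := by
      rw [← horbG] at hy ⊢
      exact MulAction.orbit_eq_iff.2 hy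
    have hidx : S.index = 275 := by
      rw [MulAction.index_stabilizer, hyorb, ncard_mclPoints]
    obtain ⟨k, hk⟩ := IsPGroup.iff_card.1 h3
    have h1 : S.relIndex M ∣ 3 ^ k := hk ▸ Subgroup.relIndex_dvd_card _ _
    have h4 : S.relIndex M ∣ 275 := by
      rw [← hidx]
      have e1 := Subgroup.relIndex_mul_index (inf_le_left : S ⊓ M ≤ S)
      have e2 := Subgroup.relIndex_mul_index (inf_le_right : S ⊓ M ≤ M)
      rw [Subgroup.inf_relIndex_left] at e1
      rw [Subgroup.inf_relIndex_right] at e2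
      have h5 : M.relIndex S ∣ M.index := Subgroup.relIndex_dvd_index_of_normal M S
      refine Nat.dvd_of_mul_dvd_mul_right (Nat.pos_of_ne_zero (M.index_ne_zero_of_finite)) ?_
      rw [e2, ← e1, mul_comm S.index]
      exact mul_dvd_mul_right h5 _
    have : S.relIndex M = 1 :=
      Nat.eq_one_of_dvd_coprimes (Nat.Coprime.pow_left k (by norm_num)) h1 h4
    exact Subgroup.relIndex_eq_one.1 this hm
  rw [eq_bot_iff]
  intro m hm
  rw [Subgroup.mem_bot]
  refine hR m hm (mem_range_mclHom ?_)
  have h1 : (m : Co0) • fiveV = fiveV := m.2.1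
  have h2 : (m : Co0) • min44 = min44 := m.2.2
  have hj : ∀ j, j ≠ pinf →
      ∀ h, (m : Co0) • (⟨pairF j, h⟩ : leechLattice) = ⟨pairF j, h⟩ := by
    intro j hj h
    by_cases hjz : j = pz
    · subst hjz; exact h2
    · refine hfixall _ ?_ m hm
      rw [mem_mclPoints]
      refine ⟨(pair4_mem (Ne.symm hj) (Or.inl rfl) (Or.inl rfl)).2, ?_, ?_⟩
      · simp [pairF, Finset.sum_add_distrib, Ne.symm hj, -Fintype.sum_option]
      · simp [pairF, pinf_ne_pz.symm, Ne.symm hjz, Ne.symm hj]
  let T : leechLattice := ∑ j ∈ (Finset.univ.erase pinf).attach,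
    ⟨pairF j.1, (pair4_mem (Ne.symm (Finset.ne_of_mem_erase j.2)) (Or.inl rfl) (Or.inl rfl)).1⟩
  have hT : (m : Co0) • T = T := by
    rw [show (m : Co0) • T = co0Hom (m : Co0) T from rfl, map_sum]
    exact Finset.sum_congr rfl fun j _ => hj j.1 (Finset.ne_of_mem_erase j.2) _
  have h9 : (9 : ℤ) • vec8 pinf = T - (4 : ℤ) • fiveV := by
    refine Subtype.ext (funext fun i => ?_)
    simp only [AddSubgroup.coe_sub, AddSubgroup.coe_zsmul, Pi.sub_apply, Pi.smul_apply, T,
      AddSubgroup.val_finset_sum, Finset.sum_apply, vec8, fiveV, five, pairF, Pi.add_apply,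
      Pi.single_apply, Finset.sum_add_distrib, smul_eq_mul]
    rw [Finset.sum_const, Finset.card_attach, Finset.card_erase_of_mem (Finset.mem_univ _),
      Finset.card_univ, Finset.sum_attach (Finset.univ.erase pinf)
      (fun j => if i = j then (4 : ℤ) else 0), Finset.sum_ite_eq]
    by_cases hi : i = pinf
    · subst hi; simp
    · simp [hi]
  have h8 : (m : Co0) • vec8 pinf = vec8 pinf := by
    have h := congrArg (fun v => (m : Co0) • v) h9
    simp only [co0_sub, co0_zsmul, hT, h1] at h
    rw [← h9] at h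
    refine Subtype.ext (funext fun i => ?_)
    have := congrArg (fun v : leechLattice => (v : GolayPt → ℤ) i) h
    simp only [AddSubgroup.coe_zsmul, Pi.smul_apply, smul_eq_mul] at this
    omega
  rw [w11, co0_sub, h8, h1]

theorem isSimple_mclGroup : IsSimpleGroup mclGroup := by
  haveI : Nontrivial mclGroup :=
    Finite.one_lt_card_iff_nontrivial.1 (by rw [card_mclGroup]; norm_num)
  constructor
  intro M hM
  by_cases h11 : 11 ∣ Nat.card M
  · exact Or.inr (mcl_big h11)
  · exact Or.inl (mcl_small h11)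

theorem mcl_pair_equiv {v w : leechLattice} (hv : sqNorm (v : GolayPt → ℤ) = 32)
    (hw : sqNorm (w : GolayPt → ℤ) = 32) (hvw : dotInt (v : GolayPt → ℤ) w = -8) :
    Nonempty (↥(MulAction.stabilizer Co0 v ⊓ MulAction.stabilizer Co0 w) ≃* mclGroup) := by
  obtain ⟨g, g1, g2⟩ := normal_mcl (u := v + w) (v := v)
    (by rw [AddSubgroup.coe_add, sqNorm_add, hv, hw, hvw]; norm_num) hv
    (by rw [AddSubgroup.coe_add, dotInt_comm, dotInt_add_left, dotInt_self, hv, dotInt_comm, hvw]
        norm_num)
  have hw' : w = v + w - v := by abel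
  exact ⟨
    { toFun := fun a => ⟨g * a.1 * g⁻¹, by
        constructor
        · show (g * a.1 * g⁻¹) • fiveV = fiveV
          rw [← g1, mul_smul, mul_smul, inv_smul_smul, co0_add,
            MulAction.mem_stabilizer_iff.1 a.2.1, MulAction.mem_stabilizer_iff.1 a.2.2]
        · show (g * a.1 * g⁻¹) • min44 = min44
          rw [← g2, mul_smul, mul_smul, inv_smul_smul, MulAction.mem_stabilizer_iff.1 a.2.1]⟩
      invFun := fun a => ⟨g⁻¹ * a.1 * g, by
        have e1 : (g⁻¹ * a.1 * g) • v = v := by
          rw [mul_smul, g2, mul_smul, MulAction.mem_stabilizer_iff.1 a.2.2, ← g2, inv_smul_smul]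
        have e2 : (g⁻¹ * a.1 * g) • (v + w) = v + w := by
          rw [mul_smul, g1, mul_smul, MulAction.mem_stabilizer_iff.1 a.2.1, ← g1, inv_smul_smul]
        refine ⟨e1, ?_⟩
        rw [co0_add, e1, add_right_inj] at e2
        exact e2⟩
      left_inv := fun a => Subtype.ext (by group)
      right_inv := fun a => Subtype.ext (by group)
      map_mul' := fun a b => Subtype.ext (by simp only [Subgroup.coe_mul]; group) }⟩

theorem mcl_pair_simple {v w : leechLattice} (hv : sqNorm (v : GolayPt → ℤ) = 32)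
    (hw : sqNorm (w : GolayPt → ℤ) = 32) (hvw : dotInt (v : GolayPt → ℤ) w = -8) :
    IsSimpleGroup ↥(MulAction.stabilizer Co0 v ⊓ MulAction.stabilizer Co0 w) ∧
      Nat.card ↥(MulAction.stabilizer Co0 v ⊓ MulAction.stabilizer Co0 w) = 898128000 := by
  obtain ⟨e⟩ := mcl_pair_equiv hv hw hvw
  haveI := isSimple_mclGroup
  exact ⟨e.isSimpleGroup, by rw [Nat.card_congr e.toEquiv, card_mclGroup]⟩

end CfsgLib.Golay
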