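import Cfsg.Agent.Lib.Golay.Code

/-! Uniqueness of a family of eleven 5-subsets of an 11-set meeting pairwise in two points. -/

set_option autoImplicit false
set_option maxRecDepth 100000

namespace CfsgLib.Golay.Biplane

open CfsgLib.Golay

/-- The subset of `Fin 11` given by a mask. -/
def bset (m : ℕ) : Finset (Fin 11) := Finset.univ.filter fun i => m.testBit i.val

theorem card_bset : ∀ m < 2048, (bset m).card = pop m := by decide +kernel

theorem bset_and (a b : ℕ) : bset (a &&& b) = bset a ∩ bset b := by
  ext i; simp [bset, Nat.testBit_land]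

theorem exists_bset (s : Finset (Fin 11)) : ∃ m < 2048, bset m = s := by
  refine ⟨Nat.ofBits (fun i : Fin 11 => decide (i ∈ s)),
    Nat.lt_of_lt_of_eq (Nat.ofBits_lt_two_pow _) (by norm_num), ?_⟩
  ext i
  simp [bset, Nat.testBit_ofBits_lt _ _ i.isLt]

/-- A standard family. -/
def model : List ℕ := [824, 1364, 1573, 110, 1051, 241, 397, 662, 835, 1442, 1736]

/-- The pairs in `{0,…,4}` other than `{0,1}` and `{2,3}`, as masks. -/
def prs : List ℕ := [5, 9, 17, 6, 10, 18, 20, 24]

/-- The 5-sets through the pairs in `prs` with three points above 4. -/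
def cands : List (List ℕ) :=
  [[229, 357, 613, 1125, 421, 677, 1189, 805, 1317, 1573, 453, 709, 1221, 837, 1349, 1605, 901, 1413, 1669, 1797], [233, 361, 617, 1129, 425, 681, 1193, 809, 1321, 1577, 457, 713, 1225, 841, 1353, 1609, 905, 1417, 1673, 1801], [241, 369, 625, 1137, 433, 689, 1201, 817, 1329, 1585, 465, 721, 1233, 849, 1361, 1617, 913, 1425, 1681, 1809], [230, 358, 614, 1126, 422, 678, 1190, 806, 1318, 1574, 454, 710, 1222, 838, 1350, 1606, 902, 1414, 1670, 1798], [234, 362, 618, 1130, 426, 682, 1194, 810, 1322, 1578, 458, 714, 1226, 842, 1354, 1610, 906, 1418, 1674, 1802], [242, 370, 626, 1138, 434, 690, 1202, 818, 1330, 1586, 466, 722, 1234, 850, 1362, 1618, 914, 1426, 1682, 1810], [244, 372, 628, 1140, 436, 692, 1204, 820, 1332, 1588, 468, 724, 1236, 852, 1364, 1620, 916, 1428, 1684, 1812], [248, 376, 632, 1144, 440, 696, 1208, 824, 1336, 1592, 472, 728, 1240, 856, 1368, 1624, 920, 1432, 1688, 1816]]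

theorem cands_check : allB 11 (fun m => !(Nat.beq (pop m) 5) || (List.range 8).all fun i =>
    !(Nat.beq (Nat.land m 31) (prs.getD i 0)) || (cands.getD i []).contains m) 0 = true := by
  decide +kernel

theorem cands_spec {m : ℕ} (hm : m < 2048) (h5 : pop m = 5) {i : ℕ} (hi : i < 8)
    (h : Nat.land m 31 = prs.getD i 0) : m ∈ cands.getD i [] := by
  have hc := allB_range cands_check (k := m) (by simpa using hm)
  simp only [h5, Nat.beq_refl, Bool.not_true, Bool.false_or, List.all_eq_true, List.mem_range] at hc
  have := hc i hi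
  rw [h, Nat.beq_refl] at this
  simpa using this

/-- Backtracking over one choice from each list, any two chosen meeting in two points. -/
def srch : List (List ℕ) → List ℕ → List (List ℕ)
  | [], acc => [acc]
  | cs :: rest, acc =>
    cs.flatMap fun m =>
      if acc.all (fun x => Nat.beq (pop (Nat.land m x)) 2) then srch rest (m :: acc) else []

theorem mem_srch : ∀ (css : List (List ℕ)) (ms acc : List ℕ),
    List.Forall₂ (fun m cs => m ∈ cs) ms css →
    List.Pairwise (fun x y => pop (Nat.land y x) = 2) ms →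
    (∀ m ∈ ms, ∀ x ∈ acc, pop (Nat.land m x) = 2) →
    ms.reverse ++ acc ∈ srch css acc := by
  intro css
  induction css with
  | nil => intro ms acc h _ _; cases h; simp [srch]
  | cons cs rest ih =>
    intro ms acc h hp hacc
    cases h with
    | @cons m _ ms' _ hm h' =>
      rw [List.pairwise_cons] at hp
      simp only [srch, List.mem_flatMap]
      refine ⟨m, hm, ?_⟩
      rw [if_pos (List.all_eq_true.2 fun x hx => by rw [hacc m (by simp) x hx]; rfl)]
      have := ih ms' (m :: acc) h' hp.2 (fun y hy x hx => by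
        rcases List.mem_cons.1 hx with rfl | hx
        · exact hp.1 y hy
        · exact hacc y (by simp [hy]) x hx)
      simpa using this

/-- All solutions. -/
def sols : List (List ℕ) :=
  [[1208, 724, 818, 1610, 1414, 1361, 905, 1573, 364, 227, 31],
   [696, 1236, 1330, 1610, 902, 849, 1417, 1573, 364, 227, 31],
   [1240, 692, 850, 1578, 1414, 1329, 905, 1605, 364, 227, 31],
   [728, 1204, 1362, 1578, 902, 817, 1417, 1605, 364, 227, 31],
   [728, 1204, 818, 1418, 1606, 1361, 1577, 901, 364, 227, 31],
   [696, 1236, 850, 1418, 1574, 1329, 1609, 901, 364, 227, 31],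
   [1240, 692, 1330, 906, 1606, 849, 1577, 1413, 364, 227, 31],
   [1208, 724, 1362, 906, 1574, 817, 1609, 1413, 364, 227, 31]]

theorem srch_eq : srch cands [364, 227, 31] = sols := by decide +kernel

/-- Relabellings onto the standard family. -/
def relabs : List (List ℕ) :=
  [[3, 4, 5, 8, 9, 1, 10, 0, 7, 2, 6], [3, 4, 5, 8, 9, 1, 10, 0, 7, 6, 2], [3, 4, 5, 8, 9, 10, 1, 0, 7, 2, 6], [3, 4, 5, 8, 9, 10, 1, 0, 7, 6, 2], [3, 4, 5, 9, 8, 10, 0, 1, 2, 6, 7], [3, 4, 5, 9, 8, 0, 10, 1, 2, 6, 7], [3, 4, 5, 9, 8, 10, 0, 1, 2, 7, 6], [3, 4, 5, 9, 8, 0, 10, 1, 2, 7, 6]]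

/-- The map given by a list. -/
def lfun (p : List ℕ) (i : Fin 11) : Fin 11 := (⟨p.getD i.val 0 % 11, Nat.mod_lt _ (by norm_num)⟩)

theorem sols_model : ∀ s ∈ sols, ∃ p ∈ relabs, Function.Bijective (lfun p) ∧
    ∀ m ∈ s, ∃ k : Fin 11, (bset m).image (lfun p) = bset (model.getD k.val 0) := by
  decide +kernel

/-- Membership pattern in three sets. -/
def colour (A B C : Finset (Fin 11)) (x : Fin 11) : Bool × Bool × Bool :=
  (decide (x ∈ A), decide (x ∈ B), decide (x ∈ C))

theorem colour_sum (A B C : Finset (Fin 11)) (S : Finset (Fin 11))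
    (P : Bool × Bool × Bool → Bool) (hS : ∀ x, x ∈ S ↔ P (colour A B C x) = true) :
    S.card = ∑ c, if P c then (Finset.univ.filter fun x => colour A B C x = c).card else 0 := by
  have e : S = Finset.univ.filter fun x => P (colour A B C x) = true := by
    ext x; simp [hS x]
  rw [e, Finset.card_eq_sum_card_fiberwise (f := colour A B C) (t := Finset.univ)
    (fun x _ => Finset.mem_univ _)]
  refine Finset.sum_congr rfl fun c _ => ?_
  rw [Finset.filter_filter]
  split_ifs with h
  · congr 1
    ext x
    simp only [Finset.mem_filter, Finset.mem_univ, true_and]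
    exact ⟨fun h' => h'.2, fun h' => ⟨h' ▸ h, h'⟩⟩
  · rw [Finset.card_eq_zero, Finset.filter_eq_empty_iff]
    intro x _ h'
    exact h (h'.2 ▸ h'.1)

theorem colour_moments (A B C : Finset (Fin 11)) :
    let n := fun c => (Finset.univ.filter fun x => colour A B C x = c).card
    11 = n (true, true, true) + n (true, true, false) + n (true, false, true) +
      n (true, false, false) + n (false, true, true) + n (false, true, false) +
      n (false, false, true) + n (false, false, false) ∧
    A.card = n (true, true, true) + n (true, true, false) + n (true, false, true) +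
      n (true, false, false) ∧
    B.card = n (true, true, true) + n (true, true, false) + n (false, true, true) +
      n (false, true, false) ∧
    C.card = n (true, true, true) + n (true, false, true) + n (false, true, true) +
      n (false, false, true) ∧
    (A ∩ B).card = n (true, true, true) + n (true, true, false) ∧
    (A ∩ C).card = n (true, true, true) + n (true, false, true) ∧
    (B ∩ C).card = n (true, true, true) + n (false, true, true) ∧
    (A ∩ B ∩ C).card = n (true, true, true) := by
  intro n
  have h1 := colour_sum A B C Finset.univ (fun _ => true) (fun x => by simp)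
  have h2 := colour_sum A B C A (fun c => c.1) (fun x => by simp [colour])
  have h3 := colour_sum A B C B (fun c => c.2.1) (fun x => by simp [colour])
  have h4 := colour_sum A B C C (fun c => c.2.2) (fun x => by simp [colour])
  have h5 := colour_sum A B C (A ∩ B) (fun c => c.1 && c.2.1) (fun x => by simp [colour])
  have h6 := colour_sum A B C (A ∩ C) (fun c => c.1 && c.2.2) (fun x => by simp [colour])
  have h7 := colour_sum A B C (B ∩ C) (fun c => c.2.1 && c.2.2) (fun x => by simp [colour])
  have h8 := colour_sum A B C (A ∩ B ∩ C) (fun c => c.1 && c.2.1 && c.2.2)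
    (fun x => by simp [colour, and_assoc])
  simp [Fintype.sum_prod_type] at h1 h2 h3 h4 h5 h6 h7 h8
  simp only [n, Finset.inter_assoc] at *
  omega

theorem exists_perm_three {A B C A' B' C' : Finset (Fin 11)} (hA : A.card = A'.card)
    (hB : B.card = B'.card) (hC : C.card = C'.card) (hAB : (A ∩ B).card = (A' ∩ B').card)
    (hAC : (A ∩ C).card = (A' ∩ C').card) (hBC : (B ∩ C).card = (B' ∩ C').card)
    (hABC : (A ∩ B ∩ C).card = (A' ∩ B' ∩ C').card) :
    ∃ τ : Equiv.Perm (Fin 11), A.image τ = A' ∧ B.image τ = B' ∧ C.image τ = C' := by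
  have m := colour_moments A B C
  have m' := colour_moments A' B' C'
  simp only at m m'
  have hn : ∀ c, (Finset.univ.filter fun x => colour A B C x = c).card =
      (Finset.univ.filter fun x => colour A' B' C' x = c).card := by
    rintro ⟨_ | _, _ | _, _ | _⟩ <;> omega
  let τ : Equiv.Perm (Fin 11) := Equiv.ofFiberEquiv (f := colour A B C) (g := colour A' B' C')
    fun c => Fintype.equivOfCardEq (by rw [Fintype.card_subtype, Fintype.card_subtype]; exact hn c)
  have hτ : ∀ x, colour A' B' C' (τ x) = colour A B C x := fun x => Equiv.ofFiberEquiv_map _ x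
  simp only [colour, Prod.mk.injEq, decide_eq_decide] at hτ
  have key : ∀ S S' : Finset (Fin 11), (∀ x, τ x ∈ S' ↔ x ∈ S) → S.image τ = S' := by
    intro S S' h
    ext y
    rw [Finset.mem_image]
    constructor
    · rintro ⟨x, hx, rfl⟩; exact (h x).2 hx
    · intro hy; exact ⟨τ.symm y, (h _).1 (by simpa using hy), by simp⟩
  exact ⟨τ, key _ _ fun x => (hτ x).1, key _ _ fun x => (hτ x).2.1, key _ _ fun x => (hτ x).2.2⟩

/-- The pair of two rows determines the row. -/
theorem pair_inj {R : Fin 11 → Finset (Fin 11)} (h5 : ∀ i, (R i).card = 5)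
    (h2 : ∀ i j, i ≠ j → (R i ∩ R j).card = 2) {i j : Fin 11} (hi : i ≠ 0) (hj : j ≠ 0)
    (he : R i ∩ R 0 = R j ∩ R 0) : i = j := by
  by_contra hij
  obtain ⟨k, hk0, hki, hkj⟩ : ∃ k : Fin 11, k ≠ 0 ∧ k ≠ i ∧ k ≠ j := by
    obtain ⟨k, hk⟩ : ∃ k, k ∉ ({0, i, j} : Finset (Fin 11)) := by
      by_contra hne
      push Not at hne
      have := Finset.card_le_card (fun k _ => hne k : (Finset.univ : Finset (Fin 11)) ⊆ {0, i, j})
      have := Finset.card_le_three (a := (0 : Fin 11)) (b := i) (c := j)
      simp at *
      omega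
    simp at hk
    exact ⟨k, hk⟩
  have hp : R i ∩ R j = R i ∩ R 0 := (Finset.eq_of_subset_of_card_le
    (fun x hx => Finset.mem_inter.2 ⟨(Finset.mem_inter.1 hx).1,
      (Finset.mem_inter.1 (he ▸ hx)).1⟩) (by rw [h2 i j hij, h2 i 0 hi])).symm
  have m := colour_moments (R 0) (R i) (R j)
  simp only at m
  have e1 : R 0 ∩ R i = R i ∩ R 0 := Finset.inter_comm _ _
  have e2 : R 0 ∩ R j = R j ∩ R 0 := Finset.inter_comm _ _
  have e3 : R 0 ∩ R i ∩ R j = R i ∩ R 0 := by
    rw [Finset.inter_assoc, hp, e1.symm, ← Finset.inter_assoc, Finset.inter_self]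
  rw [e3, e1, e2, hp, ← he, h2 i 0 hi, h5, h5, h5] at m
  -- every point is in exactly one or all three of the sets
  have hind : ∀ x, (if x ∈ R 0 then 1 else 0) + (if x ∈ R i then 1 else 0) +
      (if x ∈ R j then 1 else 0) = 1 + 2 * (if x ∈ R i ∩ R 0 then 1 else 0 : ℕ) := by
    intro x
    have hc : colour (R 0) (R i) (R j) x = (true, true, true) ∨
        colour (R 0) (R i) (R j) x = (true, false, false) ∨
        colour (R 0) (R i) (R j) x = (false, true, false) ∨
        colour (R 0) (R i) (R j) x = (false, false, true) := by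
      by_contra hne
      have hpos : 0 < (Finset.univ.filter fun y =>
          colour (R 0) (R i) (R j) y = colour (R 0) (R i) (R j) x).card :=
        Finset.card_pos.2 ⟨x, by simp⟩
      generalize colour (R 0) (R i) (R j) x = c at hne hpos
      obtain ⟨_ | _, _ | _, _ | _⟩ := c <;> simp at hne <;> omega
    simp only [colour, Prod.mk.injEq, decide_eq_true_eq, decide_eq_false_iff_not] at hc
    rcases hc with ⟨a, b, c⟩ | ⟨a, b, c⟩ | ⟨a, b, c⟩ | ⟨a, b, c⟩ <;> simp [a, b, c]
  have hs := Finset.sum_congr (s₁ := R k) rfl fun x _ => hind x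
  simp only [Finset.sum_add_distrib, ← Finset.mul_sum, ← Finset.card_filter,
    Finset.filter_mem_eq_inter, Finset.sum_const, smul_eq_mul, mul_one] at hs
  rw [h5, h2 k 0 hk0, h2 k i hki, h2 k j hkj] at hs
  omega

/-- Any such family is the standard one up to relabelling rows and points. -/
theorem unique {R : Fin 11 → Finset (Fin 11)} (h5 : ∀ i, (R i).card = 5)
    (h2 : ∀ i j, i ≠ j → (R i ∩ R j).card = 2) :
    ∃ σ τ : Equiv.Perm (Fin 11), ∀ i, (R i).image τ = bset (model.getD (σ i).val 0) := by
  classical
  have hinj : Set.InjOn (fun i => R i ∩ R 0) ↑((Finset.univ : Finset (Fin 11)).erase 0) := by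
    intro i hi j hj h
    exact pair_inj h5 h2 (by simpa using hi) (by simpa using hj) h
  have himg : ((Finset.univ : Finset (Fin 11)).erase 0).image (fun i => R i ∩ R 0) =
      (R 0).powersetCard 2 := by
    refine Finset.eq_of_subset_of_card_le ?_ ?_
    · intro p hp
      obtain ⟨i, hi, rfl⟩ := Finset.mem_image.1 hp
      rw [Finset.mem_powersetCard]
      exact ⟨Finset.inter_subset_right, h2 i 0 (by simpa using hi)⟩
    · rw [Finset.card_image_of_injOn hinj, Finset.card_powersetCard, h5]
      simp; decide
  have hrow : ∀ p ⊆ R 0, p.card = 2 → ∃ i, i ≠ 0 ∧ R i ∩ R 0 = p := by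
    intro p hp hc
    have : p ∈ (R 0).powersetCard 2 := Finset.mem_powersetCard.2 ⟨hp, hc⟩
    rw [← himg, Finset.mem_image] at this
    obtain ⟨i, hi, h⟩ := this
    exact ⟨i, by simpa using hi, h⟩
  obtain ⟨pa, hpa, hpac⟩ := Finset.exists_subset_card_eq (s := R 0) (n := 2) (by rw [h5]; norm_num)
  obtain ⟨pb, hpb, hpbc⟩ := Finset.exists_subset_card_eq (s := R 0 \ pa) (n := 2)
    (by rw [Finset.card_sdiff_of_subset hpa, h5, hpac]; norm_num)
  obtain ⟨a, ha, hae⟩ := hrow pa hpa hpac
  obtain ⟨b, hb, hbe⟩ := hrow pb (hpb.trans Finset.sdiff_subset) hpbc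
  have hab : a ≠ b := by
    rintro rfl
    obtain ⟨x, hx⟩ : pb.Nonempty := Finset.card_pos.1 (by omega)
    exact (Finset.mem_sdiff.1 (hpb hx)).2 (by rw [← hae, hbe]; exact hx)
  have htriple : R 0 ∩ R a ∩ R b = ∅ := by
    rw [Finset.eq_empty_iff_forall_notMem]
    intro x hx
    simp only [Finset.mem_inter] at hx
    have h1 : x ∈ pb := hbe ▸ Finset.mem_inter.2 ⟨hx.2, hx.1.1⟩
    exact (Finset.mem_sdiff.1 (hpb h1)).2 (hae ▸ Finset.mem_inter.2 ⟨hx.1.2, hx.1.1⟩)
  obtain ⟨τ, hτ0, hτa, hτb⟩ := exists_perm_three (A := R 0) (B := R a) (C := R b)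
    (A' := bset 31) (B' := bset 227) (C' := bset 364) (by rw [h5]; decide +kernel)
    (by rw [h5]; decide +kernel) (by rw [h5]; decide +kernel)
    (by rw [h2 0 a (Ne.symm ha)]; decide +kernel) (by rw [h2 0 b (Ne.symm hb)]; decide +kernel)
    (by rw [h2 a b hab]; decide +kernel) (by rw [htriple]; decide +kernel)
  let S : Fin 11 → Finset (Fin 11) := fun i => (R i).image τ
  have hS5 : ∀ i, (S i).card = 5 := fun i => by
    simp only [S]; rw [Finset.card_image_of_injective _ τ.injective, h5]
  have hS2 : ∀ i j, i ≠ j → (S i ∩ S j).card = 2 := fun i j h => by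
    simp only [S]
    rw [← Finset.image_inter _ _ τ.injective, Finset.card_image_of_injective _ τ.injective, h2 i j h]
  have hSinj : Function.Injective S := fun i j h => by
    by_contra hne
    have := hS2 i j hne
    rw [h, Finset.inter_self, hS5] at this
    omega
  choose M hM hMS using fun i => exists_bset (S i)
  have hM5 : ∀ i, pop (M i) = 5 := fun i => by rw [← card_bset _ (hM i), hMS, hS5]
  have hM2 : ∀ i j, i ≠ j → pop (Nat.land (M i) (M j)) = 2 := fun i j h => by
    show pop (M i &&& M j) = 2
    rw [← card_bset _ (lt_of_le_of_lt Nat.and_le_left (hM i)), bset_and, hMS, hMS, hS2 i j h]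
  have hMinj : ∀ i j, bset (M i) = bset (M j) → i = j := fun i j h => hSinj (by rw [← hMS, h, hMS])
  have bset_inj : ∀ u < 2048, ∀ v < 2048, bset u = bset v → u = v := fun u hu v hv h =>
    Nat.eq_of_testBit_eq fun t => by
      by_cases ht : t < 11
      · simpa [bset] using Finset.ext_iff.1 h ⟨t, ht⟩
      · have e : 2048 ≤ 2 ^ t := by
          calc 2048 = 2 ^ 11 := by norm_num
            _ ≤ 2 ^ t := Nat.pow_le_pow_right (by norm_num) (by omega)
        rw [Nat.testBit_lt_two_pow (lt_of_lt_of_le hu e), Nat.testBit_lt_two_pow (lt_of_lt_of_le hv e)]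
  -- the rows of the remaining pairs
  have hex : ∀ p : Fin 8, ∃ i, i ≠ 0 ∧ Nat.land (M i) 31 = prs.getD p.val 0 := by
    intro p
    have hp : prs.getD p.val 0 < 2048 ∧ pop (prs.getD p.val 0) = 2 ∧
        bset (prs.getD p.val 0) ⊆ bset 31 := by revert p; decide +kernel
    let q := (bset (prs.getD p.val 0)).image τ.symm
    have hq : q ⊆ R 0 := by
      intro x hx
      obtain ⟨y, hy, rfl⟩ := Finset.mem_image.1 hx
      have := hp.2.2 hy
      rw [← hτ0, Finset.mem_image] at this
      obtain ⟨z, hz, rfl⟩ := this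
      simpa using hz
    obtain ⟨i, hi, he⟩ := hrow q hq (by
      rw [Finset.card_image_of_injective _ τ.symm.injective, card_bset _ hp.1, hp.2.1])
    refine ⟨i, hi, bset_inj _ (lt_of_le_of_lt Nat.and_le_left (hM i)) _ hp.1 ?_⟩
    show bset (M i &&& 31) = _
    rw [bset_and, hMS, ← hτ0]
    show (R i).image τ ∩ (R 0).image τ = _
    rw [← Finset.image_inter _ _ τ.injective, he, Finset.image_image]
    simp
  choose row hrow0 hrowe using hex
  have hprs : ∀ p q : Fin 8, prs.getD p.val 0 = prs.getD q.val 0 → p = q := by decide +kernel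
  let ms := (List.finRange 8).map fun p => M (row p)
  have h0 : M 0 = 31 := bset_inj _ (hM 0) _ (by norm_num) (by rw [hMS]; exact hτ0)
  have hA : M a = 227 := bset_inj _ (hM a) _ (by norm_num) (by rw [hMS]; exact hτa)
  have hB : M b = 364 := bset_inj _ (hM b) _ (by norm_num) (by rw [hMS]; exact hτb)
  have hneA : ∀ p, row p ≠ a := fun p h => by
    have := hrowe p
    rw [h, hA] at this
    clear h
    revert this; revert p; decide +kernel
  have hneB : ∀ p, row p ≠ b := fun p h => by
    have := hrowe p
    rw [h, hB] at this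
    clear h
    revert this; revert p; decide +kernel
  have hall : ms.reverse ++ [364, 227, 31] ∈ sols := by
    rw [← srch_eq]
    refine mem_srch _ ms _ ?_ ?_ ?_
    · have : ∀ p : Fin 8, M (row p) ∈ cands.getD p.val [] := fun p =>
        cands_spec (hM _) (hM5 _) p.isLt (hrowe p)
      rw [show cands = (List.finRange 8).map fun p : Fin 8 => cands.getD p.val [] from rfl]
      simp only [ms, List.forall₂_map_left_iff, List.forall₂_map_right_iff]
      exact List.forall₂_same.2 fun p _ => this p
    · simp only [ms, List.pairwise_map]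
      refine List.Pairwise.imp ?_ (List.nodup_finRange 8)
      intro p q hpq
      exact hM2 _ _ fun e => hpq (hprs p q (by rw [← hrowe p, ← hrowe q, e]))
    · intro m hm x hx
      simp only [ms, List.mem_map] at hm
      obtain ⟨p, -, rfl⟩ := hm
      simp only [List.mem_cons, List.not_mem_nil, or_false] at hx
      rcases hx with rfl | rfl | rfl
      · rw [← hB]; exact hM2 _ _ (hneB p)
      · rw [← hA]; exact hM2 _ _ (hneA p)
      · rw [← h0]; exact hM2 _ _ (hrow0 p)
  obtain ⟨p, -, hp, hmod⟩ := sols_model _ hall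
  -- every row occurs in the list
  have hcover : ∀ i, M i ∈ ms.reverse ++ [364, 227, 31] := by
    have hc : ({0, a, b} ∪ Finset.univ.image row : Finset (Fin 11)) = Finset.univ := by
      apply Finset.eq_univ_of_card
      rw [Finset.card_union_of_disjoint, Finset.card_image_of_injective _ (fun u v h => hprs u v
        (by rw [← hrowe u, ← hrowe v, h])), Finset.card_insert_of_notMem,
        Finset.card_pair hab]
      · simp
      · simp [Ne.symm ha, Ne.symm hb]
      · rw [Finset.disjoint_left]
        intro x hx hx'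
        obtain ⟨u, -, rfl⟩ := Finset.mem_image.1 hx'
        simp only [Finset.mem_insert, Finset.mem_singleton] at hx
        rcases hx with h | h | h
        · exact hrow0 u h
        · exact hneA u h
        · exact hneB u h
    intro i
    have hi : i ∈ ({0, a, b} ∪ Finset.univ.image row : Finset (Fin 11)) := hc ▸ Finset.mem_univ i
    rw [Finset.mem_union, Finset.mem_image] at hi
    rcases hi with hi | ⟨u, -, rfl⟩
    · simp only [Finset.mem_insert, Finset.mem_singleton] at hi
      rcases hi with rfl | rfl | rfl <;> simp [h0, hA, hB]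
    · simp [ms]
  choose k hk using fun i => hmod _ (hcover i)
  have hkinj : Function.Injective k := fun i j h => hMinj i j
    (Finset.image_injective hp.1 (by rw [hk i, hk j, h]))
  refine ⟨Equiv.ofBijective k (Finite.injective_iff_bijective.1 hkinj),
    τ.trans (Equiv.ofBijective _ hp), fun i => ?_⟩
  have h := hk i
  rw [hMS] at h
  rw [Equiv.ofBijective_apply, ← h]
  simp only [S, Finset.image_image]
  rfl

end CfsgLib.Golay.Biplane
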