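import Cfsg.Agent.Lib.Golay.Facts

/-! Orders and orbits of stabilisers of sets of points in `M24`, from certificates. -/

set_option autoImplicit false
set_option maxRecDepth 100000

namespace CfsgLib.Golay

open Cfsg
open scoped Pointwise

/-- The elements of `M24` fixing each of the given masks. -/
def fixMasks (X : List ℕ) : Subgroup (Equiv.Perm GolayPt) where
  carrier := {σ | σ ∈ M24 ∧ ∀ A ∈ X, σ • mset A = mset A}
  one_mem' := ⟨Subgroup.one_mem _, fun A _ => one_smul _ _⟩
  mul_mem' := fun {a b} ha hb => ⟨Subgroup.mul_mem _ ha.1 hb.1, fun A hA => by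
    rw [mul_smul, hb.2 A hA, ha.2 A hA]⟩
  inv_mem' := fun {a} ha => ⟨Subgroup.inv_mem _ ha.1, fun A hA => by
    rw [inv_smul_eq_iff, ha.2 A hA]⟩

theorem mem_fixMasks {X : List ℕ} {σ : Equiv.Perm GolayPt} :
    σ ∈ fixMasks X ↔ σ ∈ M24 ∧ ∀ A ∈ X, σ • mset A = mset A := Iff.rfl

theorem fixMasks_nil : fixMasks [] = M24 := by
  ext σ; simp [mem_fixMasks]

theorem fixMasks_le (X : List ℕ) : fixMasks X ≤ M24 := fun _ h => h.1

/-- Facts known for members of `fixMasks X`. -/
def diagFacts (X : List ℕ) : List (ℕ × ℕ) := X.map (fun A => (A, A)) ++ [(16777215, 16777215)]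

theorem diagFacts_sound {X : List ℕ} (hX : ∀ A ∈ X, A < 16777216) {σ : Equiv.Perm GolayPt}
    (hσ : σ ∈ fixMasks X) : ∀ p ∈ diagFacts X, MapsTo24 σ p := by
  intro p hp
  rw [diagFacts, List.mem_append, List.mem_map, List.mem_singleton] at hp
  rcases hp with ⟨A, hA, rfl⟩ | rfl
  · exact ⟨hX A hA, hX A hA, hσ.2 A hA⟩
  · exact mapsTo24_full σ

/-- `g` encodes an element of `fixMasks X`. -/
def inFix (X : List ℕ) (g : ℕ) : Bool := inM24 g && X.all fun A => Nat.beq (mimg g A) A

theorem inFix_mem {X : List ℕ} {g : ℕ} (h : inFix X g = true) : permOf g ∈ fixMasks X := by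
  simp only [inFix, Bool.and_eq_true, List.all_eq_true] at h
  refine ⟨inM24_mem h.1, fun A hA => ?_⟩
  rw [smul_mset (inM24_valid h.1), Nat.eq_of_beq_eq_true (h.2 A hA)]

theorem inFix_valid {X : List ℕ} {g : ℕ} (h : inFix X g = true) : valid g = true := by
  simp only [inFix, Bool.and_eq_true] at h; exact inM24_valid h.1

/-- Certificate for one level: base point, transversal, refutations for the other points. -/
abbrev Level : Type := ℕ × List ℕ × List (ℕ × List (ℕ × ℕ × ℕ))

/-- The orbit mask of a transversal. -/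
def orbMask (b : ℕ) : List ℕ → ℕ
  | [] => 0
  | g :: gs => Nat.lor (Nat.shiftLeft 1 (img g b)) (orbMask b gs)

/-- Correctness of one level over `fixMasks X`. -/
def levelOK (X : List ℕ) (lv : Level) : Bool :=
  Nat.ble lv.1 23 && X.all (fun A => Nat.ble A 16777215) && lv.2.1.all (inFix X) &&
  (List.range 24).all fun y => Nat.testBit (orbMask lv.1 lv.2.1) y ||
    lv.2.2.any fun r => Nat.beq r.1 y &&
      refutes r.2 ((Nat.shiftLeft 1 lv.1, Nat.shiftLeft 1 y) :: diagFacts X)

theorem testBit_orbMask {b j : ℕ} : ∀ {gs : List ℕ},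
    (orbMask b gs).testBit j = true ↔ ∃ g ∈ gs, img g b = j
  | [] => by simp [orbMask]
  | g :: gs => by
    show ((1 <<< img g b) ||| orbMask b gs).testBit j = true ↔ _
    rw [Nat.testBit_lor, Nat.one_shiftLeft, Nat.testBit_two_pow, Bool.or_eq_true,
      decide_eq_true_iff, testBit_orbMask (gs := gs)]
    simp

theorem smul_mset_bit (σ : Equiv.Perm GolayPt) {i : ℕ} (hi : i < 24) {q : GolayPt} :
    σ • mset (Nat.shiftLeft 1 i) = mset (Nat.shiftLeft 1 (idx q)) ↔ σ (pt i) = q := by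
  show σ • mset (1 <<< i) = mset (1 <<< idx q) ↔ _
  rw [Nat.one_shiftLeft, Nat.one_shiftLeft, mset_two_pow hi, mset_two_pow (idx_lt q), pt_idx,
    Finset.smul_finset_singleton, Finset.singleton_inj, Equiv.Perm.smul_def]

theorem mem_fixMasks_cons {X : List ℕ} {b : ℕ} (hb : b < 24) {σ : Equiv.Perm GolayPt} :
    σ ∈ fixMasks (Nat.shiftLeft 1 b :: X) ↔ σ ∈ fixMasks X ∧ σ (pt b) = pt b := by
  simp only [mem_fixMasks, List.forall_mem_cons]
  rw [show Nat.shiftLeft 1 b = Nat.shiftLeft 1 (idx (pt b)) by rw [idx_pt hb]]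
  constructor
  · rintro ⟨h1, h2, h3⟩
    refine ⟨⟨h1, h3⟩, ?_⟩
    have := (smul_mset_bit σ hb (q := pt b)).1
    rw [idx_pt hb] at this h2
    exact this h2
  · rintro ⟨⟨h1, h3⟩, h2⟩
    refine ⟨h1, ?_, h3⟩
    have := (smul_mset_bit σ hb (q := pt b)).2 h2
    rw [idx_pt hb] at this ⊢
    exact this

theorem levelOK_unpack {X : List ℕ} {lv : Level} (h : levelOK X lv = true) :
    lv.1 < 24 ∧ (∀ A ∈ X, A < 16777216) ∧ (∀ g ∈ lv.2.1, inFix X g = true) ∧
    ∀ q : GolayPt, ((∃ σ ∈ fixMasks X, σ (pt lv.1) = q) ↔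
      q ∈ mset (orbMask lv.1 lv.2.1)) := by
  simp only [levelOK, Bool.and_eq_true, List.all_eq_true] at h
  obtain ⟨⟨⟨hb, hX⟩, hT⟩, hR⟩ := h
  have hb' : lv.1 < 24 := Nat.lt_succ_of_le (Nat.le_of_ble_eq_true hb)
  have hX' : ∀ A ∈ X, A < 16777216 := fun A hA => Nat.lt_succ_of_le (Nat.le_of_ble_eq_true (hX A hA))
  refine ⟨hb', hX', hT, fun q => ?_⟩
  rw [mem_mset]
  constructor
  · rintro ⟨σ, hσ, hq⟩
    have := hR (idx q) (List.mem_range.2 (idx_lt q))
    rw [Bool.or_eq_true] at this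
    rcases this with h' | h'
    · exact h'
    exfalso
    rw [List.any_eq_true] at h'
    obtain ⟨r, -, hr⟩ := h'
    rw [Bool.and_eq_true] at hr
    refine refutes_sound hσ.1 hr.2 fun p hp => ?_
    rcases List.mem_cons.1 hp with rfl | hp
    · refine ⟨?_, ?_, ?_⟩
      · show 1 <<< lv.1 < _
        rw [Nat.one_shiftLeft]; exact Nat.pow_lt_pow_right (by norm_num) hb'
      · show 1 <<< idx q < _
        rw [Nat.one_shiftLeft]; exact Nat.pow_lt_pow_right (by norm_num) (idx_lt q)
      · exact (smul_mset_bit σ hb').2 hq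
    · exact diagFacts_sound hX' hσ p hp
  · intro hq
    obtain ⟨g, hg, hgq⟩ := testBit_orbMask.1 hq
    exact ⟨permOf g, inFix_mem (hT g hg), by rw [permOf_pt (inFix_valid (hT g hg)) hb', hgq, pt_idx]⟩

theorem card_level {X : List ℕ} {lv : Level} (h : levelOK X lv = true) :
    Nat.card (fixMasks X) =
      pop (orbMask lv.1 lv.2.1) * Nat.card (fixMasks (Nat.shiftLeft 1 lv.1 :: X)) := by
  obtain ⟨hb, -, -, horb⟩ := levelOK_unpack h
  rw [← card_mset]
  have h1 := Nat.card_congr
    (MulAction.orbitProdStabilizerEquivGroup (↥(fixMasks X)) (pt lv.1))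
  rw [Nat.card_prod] at h1
  rw [← h1]
  congr 1
  · have e : MulAction.orbit (↥(fixMasks X)) (pt lv.1) =
        (↑(mset (orbMask lv.1 lv.2.1)) : Set GolayPt) := by
      ext q
      rw [Finset.mem_coe, ← horb q]
      constructor
      · rintro ⟨⟨σ, hσ⟩, rfl⟩; exact ⟨σ, hσ, rfl⟩
      · rintro ⟨σ, hσ, rfl⟩; exact ⟨⟨σ, hσ⟩, rfl⟩
    rw [Nat.card_congr (Equiv.setCongr e)]
    simp
  · refine Nat.card_congr
      { toFun := fun s => ⟨s.1.1, (mem_fixMasks_cons hb).2 ⟨s.1.2, ?_⟩⟩
        invFun := fun s => ⟨⟨s.1, ((mem_fixMasks_cons hb).1 s.2).1⟩, ?_⟩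
        left_inv := fun _ => rfl
        right_inv := fun _ => rfl }
    · exact MulAction.mem_stabilizer_iff.1 s.2
    · exact MulAction.mem_stabilizer_iff.2 ((mem_fixMasks_cons hb).1 s.2).2

/-- All levels check and the last stabiliser is pinned down to the identity. -/
def chainOK : List ℕ → List Level → List (ℕ × ℕ × ℕ) → Bool
  | X, [], fin => X.all (fun A => Nat.ble A 16777215) &&
      (let F := runSteps fin (diagFacts X)
       (List.range 24).all fun i => F.any fun p =>
        Nat.beq p.1 (Nat.shiftLeft 1 i) && Nat.beq p.2 (Nat.shiftLeft 1 i))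
  | X, lv :: L, fin => levelOK X lv && chainOK (Nat.shiftLeft 1 lv.1 :: X) L fin

/-- Product of the orbit lengths. -/
def chainCard : List Level → ℕ
  | [] => 1
  | lv :: L => pop (orbMask lv.1 lv.2.1) * chainCard L

theorem card_fixMasks : ∀ {L : List Level} {X : List ℕ} {fin : List (ℕ × ℕ × ℕ)},
    chainOK X L fin = true → Nat.card (fixMasks X) = chainCard L
  | [], X, fin, h => by
    simp only [chainOK, Bool.and_eq_true, List.all_eq_true] at h
    obtain ⟨hX, hF⟩ := h
    have hX' : ∀ A ∈ X, A < 16777216 := fun A hA =>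
      Nat.lt_succ_of_le (Nat.le_of_ble_eq_true (hX A hA))
    have hbot : fixMasks X = ⊥ := by
      rw [Subgroup.eq_bot_iff_forall]
      intro σ hσ
      refine Equiv.ext fun q => ?_
      have := hF (idx q) (List.mem_range.2 (idx_lt q))
      rw [List.any_eq_true] at this
      obtain ⟨p, hp, he⟩ := this
      rw [Bool.and_eq_true] at he
      have hm := runSteps_sound hσ.1 (ss := fin) (diagFacts_sound hX' hσ) p hp
      have := hm.2.2
      rw [Nat.eq_of_beq_eq_true he.1, Nat.eq_of_beq_eq_true he.2,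
        smul_mset_bit σ (idx_lt q), pt_idx] at this
      simpa using this
    rw [hbot, chainCard]; exact Subgroup.card_bot
  | lv :: L, X, fin, h => by
    simp only [chainOK, Bool.and_eq_true] at h
    rw [card_level h.1, card_fixMasks h.2, chainCard]

end CfsgLib.Golay
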