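import Cfsg.Agent.Lib.Golay.PtFix

/-! Generated certificate: pointwise stabiliser of an octad in `M24`. -/

set_option autoImplicit false
set_option maxRecDepth 100000

namespace CfsgLib.Golay

open Cfsg
open scoped Pointwise

/-- Transversals and refutations: octad pointwise. -/
def chainOctPtsLevels : List Level := [
  (1,
    [984818244535754528103549039458486304,
     984330238668445353307680420861740096,
     984561664131678682933695704404628576,
     984365217902686453248235801272398976,
     984232233431490913630068531325373600,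
     984474077397641743376427032193378496,
     984159739662526352166722481920720096,
     984778551226145691544909149262458112,
     984035668360141982437242148508390688,
     984106537951624291307853224808683840,
     984723249968559545477841165439377760,
     984193134333667655196206109968142752,
     984067557695403189637163205127740896,
     984389065579339274464679472059863648,
     984266143084858087375752989286682240,
     983991419431302060320892116034627232],
    [(0, [(1, 1, 0)]),
     (12, [(1, 2, 0)]),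
     (14, [(1, 3, 0)]),
     (16, [(1, 4, 0)]),
     (17, [(1, 5, 0)]),
     (18, [(1, 6, 0)]),
     (22, [(1, 7, 0)]),
     (23, [(1, 8, 0)])])]

/-- Final derivation: octad pointwise. -/
def chainOctPtsFin : List (ℕ × ℕ × ℕ) := [(2, 9, 8), (2, 0, 8), (2, 0, 8), (2, 0, 8), (2, 0, 8), (2, 0, 8), (2, 0, 8), (2, 0, 8), (2, 0, 8), (0, 17, 16), (0, 0, 16), (0, 18, 15), (0, 0, 15), (0, 0, 15), (0, 0, 14), (3, 4845570, 4845570), (1, 7, 0), (2, 8, 1), (0, 26, 24), (0, 0, 23), (0, 0, 23), (0, 0, 21), (3, 10305542, 10305542), (1, 6, 0), (2, 7, 1), (1, 7, 2), (2, 8, 3), (0, 34, 33), (0, 0, 33), (0, 0, 31), (0, 0, 6), (3, 7221256, 7221256), (1, 7, 0), (2, 8, 1), (1, 7, 2), (2, 8, 3), (0, 44, 41), (0, 0, 41), (0, 0, 40), (0, 0, 15), (3, 10170384, 10170384), (1, 15, 0), (2, 16, 1), (1, 7, 2), (2, 8, 3), (0, 51, 49), (0, 52, 51), (0, 0, 50), (0, 0, 50), (0, 30, 54), (0, 0, 53), (0, 0, 18), (3, 11952160, 11952160), (1, 18, 0), (2, 19, 1), (1, 10, 2), (2, 11, 3), (0, 64, 62), (0, 66, 62), (0, 1, 63), (0, 0, 63), (0, 50, 64), (0, 0, 38), (3,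 15515712, 15515712), (1, 7, 0), (2, 8, 1), (0, 17, 42), (3, 2019456, 2019456), (1, 2, 0), (2, 3, 1), (0, 24, 46), (0, 0, 38), (0, 0, 38), (3, 4038912, 4038912), (1, 4, 0), (2, 5, 1), (0, 17, 79), (0, 0, 79), (0, 17, 54), (3, 8077824, 8077824), (1, 4, 0), (2, 5, 1), (0, 4, 48), (3, 11654144, 11654144), (1, 2, 0), (2, 3, 1)]

theorem chainOctPts_ok : chainOK (bitsList octMask) chainOctPtsLevels chainOctPtsFin = true := by
  decide +kernel

theorem octPts_facts : Nat.card (fixMasks (bitsList octMask)) = 16 ∧
    ∀ σ ∈ fixMasks (bitsList octMask), σ * σ = 1 := by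
  refine ⟨by rw [card_fixMasks chainOctPts_ok]; decide +kernel, fun σ hσ => ?_⟩
  obtain ⟨g, hg, rfl⟩ := eq_transversal (lv := chainOctPtsLevels.headD noLevel) chainOctPts_ok hσ
  have : ∀ g ∈ (chainOctPtsLevels.headD noLevel).2.1, powOneIn (bitsList octMask) 2 g = true := by
    decide +kernel
  rw [← pow_two]; exact (powOneIn_sound (this g hg)).2

end CfsgLib.Golay
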