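import Cfsg.Agent.Lib.Golay.LeechFrame
import Cfsg.Agent.Lib.Golay.Mathieu
import Cfsg.Agent.Lib.Golay.Stab
import Cfsg.Prelude.Def_SporadicCombinatorics

/-! The automorphism group of the lattice: monomial maps and transitivity on frames. -/

set_option autoImplicit false
set_option maxRecDepth 100000

namespace CfsgLib.Golay

open Cfsg
open scoped Pointwise

theorem co0_add (g : Co0) (v w : leechLattice) : g • (v + w) = g • v + g • w := g.2.1 v w

theorem co0_sq (g : Co0) (v : leechLattice) :
    sqNorm ((g • v : leechLattice) : GolayPt → ℤ) = sqNorm (v : GolayPt → ℤ) := g.2.2 v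

/-- An element of `Co0` as an additive map. -/
def co0Hom (g : Co0) : leechLattice →+ leechLattice :=
  AddMonoidHom.mk' (fun v => g • v) (co0_add g)

theorem co0_neg (g : Co0) (v : leechLattice) : g • (-v) = -(g • v) := map_neg (co0Hom g) v

theorem co0_sub (g : Co0) (v w : leechLattice) : g • (v - w) = g • v - g • w :=
  map_sub (co0Hom g) v w

theorem co0_zero (g : Co0) : g • (0 : leechLattice) = 0 := map_zero (co0Hom g)

theorem co0_zsmul (g : Co0) (n : ℤ) (v : leechLattice) : g • (n • v) = n • (g • v) :=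
  map_zsmul (co0Hom g) n v

theorem co0_dot (g : Co0) (v w : leechLattice) :
    dotInt ((g • v : leechLattice) : GolayPt → ℤ) ((g • w : leechLattice) : GolayPt → ℤ) =
      dotInt (v : GolayPt → ℤ) (w : GolayPt → ℤ) := by
  have h := co0_sq g (v + w)
  rw [co0_add, AddSubgroup.coe_add, AddSubgroup.coe_add, sqNorm_add, sqNorm_add, co0_sq, co0_sq] at h
  omega

theorem co0_q (g : Co0) (v : leechLattice) : leechR.q (g • v) = leechR.q v := by
  have h1 := leech_q (g • v)
  have h2 := leech_q v
  rw [co0_sq] at h1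
  omega

theorem co0_cls (g : Co0) {v w : leechLattice} (h : leechR.cls v = leechR.cls w) :
    leechR.cls (g • v) = leechR.cls (g • w) := by
  obtain ⟨z, rfl⟩ := leechR.cls_eq_iff.1 h
  exact leechR.cls_eq_iff.2 ⟨g • z, by rw [co0_add, co0_add]⟩

theorem co0_ext {g h : Co0} (e : ∀ v : leechLattice, g • v = h • v) : g = h :=
  Subtype.ext (Equiv.ext e)

/-- An additive bijection preserving the form, as an element of `Co0`. -/
noncomputable def mkCo0 (e : leechLattice ≃+ leechLattice)
    (he : ∀ v, sqNorm ((e v : leechLattice) : GolayPt → ℤ) = sqNorm (v : GolayPt → ℤ)) : Co0 :=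
  ⟨e.toEquiv, fun v w => map_add e v w, he⟩

theorem mkCo0_smul (e : leechLattice ≃+ leechLattice) (he) (v : leechLattice) :
    mkCo0 e he • v = e v := rfl

theorem signedPerm_mem {σ : Equiv.Perm GolayPt} (hσ : σ ∈ M24) {c : Finset GolayPt}
    (hc : c ∈ supports (golayCode : Set (GolayPt → ZMod 2))) {x : GolayPt → ℤ}
    (hx : x ∈ leechLattice) : signedPerm σ c x ∈ leechLattice :=
  signs_mem_leech hc (perm_mem_leech (Subgroup.inv_mem _ hσ) hx)

theorem signedPerm_sqNorm (σ : Equiv.Perm GolayPt) (c : Finset GolayPt) (x : GolayPt → ℤ) :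
    sqNorm (signedPerm σ c x) = sqNorm x := by
  rw [sqNorm, sqNorm, ← Equiv.sum_comp σ.symm (fun i => x i ^ 2)]
  refine Finset.sum_congr rfl fun i _ => ?_
  unfold signedPerm
  split_ifs <;> ring

theorem signedPerm_add (σ : Equiv.Perm GolayPt) (c : Finset GolayPt) (x y : GolayPt → ℤ) :
    signedPerm σ c (x + y) = signedPerm σ c x + signedPerm σ c y := by
  funext i
  simp only [signedPerm, Pi.add_apply]
  split_ifs <;> ring

theorem signedPerm_injective (σ : Equiv.Perm GolayPt) (c : Finset GolayPt) :
    Function.Injective (signedPerm σ c) := by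
  intro x y h
  funext j
  have := congrFun h (σ j)
  simp only [signedPerm, Equiv.symm_apply_apply] at this
  split_ifs at this <;> omega

theorem signedPerm_surj {σ : Equiv.Perm GolayPt} (hσ : σ ∈ M24) {c : Finset GolayPt}
    (hc : c ∈ supports (golayCode : Set (GolayPt → ZMod 2))) {y : GolayPt → ℤ}
    (hy : y ∈ leechLattice) : ∃ x ∈ leechLattice, signedPerm σ c x = y := by
  refine ⟨fun i => if σ i ∈ c then -y (σ i) else y (σ i), ?_, ?_⟩
  · exact perm_mem_leech hσ (signs_mem_leech hc hy)
  · funext i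
    simp only [signedPerm, Equiv.apply_symm_apply]
    split_ifs <;> ring

/-- The monomial element given by a permutation and a sign set. -/
noncomputable def monoCo0 (σ : Equiv.Perm GolayPt) (hσ : σ ∈ M24) (c : Finset GolayPt)
    (hc : c ∈ supports (golayCode : Set (GolayPt → ZMod 2))) : Co0 :=
  mkCo0 (AddEquiv.ofBijective
    ({ toFun := fun v => ⟨signedPerm σ c v, signedPerm_mem hσ hc v.2⟩
       map_zero' := Subtype.ext (by funext i; simp [signedPerm])
       map_add' := fun v w => Subtype.ext (signedPerm_add σ c v w) } : leechLattice →+ leechLattice)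
    ⟨fun _ _ h => Subtype.ext (signedPerm_injective σ c (congrArg Subtype.val h)), fun y => by
      obtain ⟨x, hx, e⟩ := signedPerm_surj hσ hc y.2
      exact ⟨⟨x, hx⟩, Subtype.ext e⟩⟩)
    (fun v => signedPerm_sqNorm σ c v)

theorem monoCo0_smul (σ : Equiv.Perm GolayPt) (hσ : σ ∈ M24) (c : Finset GolayPt)
    (hc : c ∈ supports (golayCode : Set (GolayPt → ZMod 2))) (v : leechLattice) :
    ((monoCo0 σ hσ c hc • v : leechLattice) : GolayPt → ℤ) = signedPerm σ c v := rfl

/-- `8 e_p`. -/
def vec8 (p : GolayPt) : leechLattice := ⟨Pi.single p 8, single_eight_mem p⟩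

theorem vec8_q (p : GolayPt) : leechR.q (vec8 p) = 8 := by
  rw [leech_q_iff]
  simp [vec8, sqNorm, Pi.single_apply, ite_pow]

theorem vec8_dot (j k : GolayPt) :
    dotInt (Pi.single j (8 : ℤ)) (Pi.single k 8) = if j = k then 64 else 0 := by
  simp [dotInt, Pi.single_apply, ite_and]
  split_ifs with h h' <;> simp_all

theorem vec8_cls (j k : GolayPt) : leechR.cls (vec8 j) = leechR.cls (vec8 k) := by
  rw [exists_two_smul_iff]
  refine ⟨Pi.single j 4 - Pi.single k 4, ?_, ?_⟩
  · have e : (Pi.single j 4 - Pi.single k 4 : GolayPt → ℤ) =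
        fun i => 2 * ((Pi.single j 2 - Pi.single k 2 : GolayPt → ℤ)) i := by
      funext i
      simp only [Pi.sub_apply, Pi.single_apply]
      split_ifs <;> norm_num
    rw [e, even_mem_iff]
    refine ⟨?_, ?_⟩
    · have : mod2 (Pi.single j 2 - Pi.single k 2 : GolayPt → ℤ) = 0 := by
        funext i
        simp only [mod2, Pi.sub_apply, Pi.single_apply, Pi.zero_apply]
        split_ifs <;> rfl
      rw [this]; exact Submodule.zero_mem _
    · simp [Finset.sum_sub_distrib]
  · funext i
    simp only [vec8, Pi.sub_apply, Pi.single_apply, Pi.smul_apply, smul_sub]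
    split_ifs <;> norm_num

theorem stdCross_card : stdCross.ncard = 48 := by
  classical
  have e : stdCross = ↑((Finset.univ ×ˢ ({8, -8} : Finset ℤ)).image
      fun p : GolayPt × ℤ => (Pi.single p.1 p.2 : GolayPt → ℤ)) := by
    ext y
    simp only [stdCross, Set.mem_setOf_eq, Finset.coe_image, Set.mem_image, Finset.coe_product,
      Set.mem_prod, Finset.coe_univ, Set.mem_univ, true_and, Finset.coe_insert,
      Finset.coe_singleton, Set.mem_insert_iff, Set.mem_singleton_iff, Prod.exists]
    exact ⟨fun ⟨i, s, hs, e⟩ => ⟨i, s, hs, e.symm⟩, fun ⟨i, s, hs, e⟩ => ⟨i, s, hs, e.symm⟩⟩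
  rw [e, Set.ncard_coe_finset, Finset.card_image_of_injOn, Finset.card_product]
  · simp
  · rintro ⟨i, s⟩ hs ⟨j, t⟩ ht h
    simp only [Finset.coe_product, Set.mem_prod, Finset.coe_insert, Finset.coe_singleton,
      Set.mem_insert_iff, Set.mem_singleton_iff] at hs ht
    have h1 := congrFun h i
    simp only [Pi.single_eq_same, Pi.single_apply] at h1
    split_ifs at h1 with hij
    · subst hij; subst h1; rfl
    · omega

/-- Members of the standard frame. -/
theorem mem_std_iff (v : leechLattice) (p : GolayPt) :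
    (v : GolayPt → ℤ) ∈ stdCross ↔
      leechR.q v = 8 ∧ leechR.cls v = leechR.cls (vec8 p) := by
  have hfwd : ∀ u : leechLattice, (u : GolayPt → ℤ) ∈ stdCross →
      leechR.q u = 8 ∧ leechR.cls u = leechR.cls (vec8 p) := by
    rintro u ⟨i, s, hs, e⟩
    rcases hs with rfl | rfl
    · have : u = vec8 i := Subtype.ext e
      rw [this]; exact ⟨vec8_q i, vec8_cls i p⟩
    · have : u = -vec8 i := Subtype.ext (by rw [e, Pi.single_neg]; rfl)
      rw [this]; exact ⟨by rw [leechR.q_neg, vec8_q], by rw [leechR.cls_neg]; exact vec8_cls i p⟩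
  refine ⟨hfwd v, fun h => ?_⟩
  have h48 := leech_counts.structure.2 (vec8 p) (vec8_q p)
  have hsub : {u : leechLattice | (u : GolayPt → ℤ) ∈ stdCross} ⊆
      {u : leechLattice | leechR.q u = 8 ∧ leechR.cls u = leechR.cls (vec8 p)} := hfwd
  have hfin : {u : leechLattice | leechR.q u = 8 ∧ leechR.cls u = leechR.cls (vec8 p)}.Finite :=
    Set.finite_of_ncard_pos (by rw [h48]; norm_num)
  have hc : {u : leechLattice | (u : GolayPt → ℤ) ∈ stdCross}.ncard = 48 := by
    rw [ncard_subtype_leech (fun x => x ∈ stdCross), ← stdCross_card]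
    congr 1
    ext x
    simp only [Set.mem_setOf_eq]
    refine ⟨fun h => h.2, fun h => ⟨?_, h⟩⟩
    obtain ⟨i, s, hs, rfl⟩ := h
    rcases hs with rfl | rfl
    · exact single_eight_mem i
    · rw [Pi.single_neg]; exact AddSubgroup.neg_mem _ (single_eight_mem i)
  have := Set.eq_of_subset_of_ncard_le hsub (by rw [hc, h48]) hfin
  exact (Set.ext_iff.1 this v).2 h

theorem univ_code : (Finset.univ : Finset GolayPt) ∈ supports (golayCode : Set (GolayPt → ZMod 2)) :=
  univ_mem_supports

theorem empty_code : (∅ : Finset GolayPt) ∈ supports (golayCode : Set (GolayPt → ZMod 2)) :=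
  mem_supports_iff.2 ⟨0, isCode_zero, mset_zero⟩

/-- `Co0` moves any norm 8 vector to `8 e_p`. -/
theorem co0_to_vec8 {v : leechLattice} (hv : leechR.q v = 8) (p : GolayPt) :
    ∃ g : Co0, g • v = vec8 p := by
  obtain ⟨f, hf8, hfo, hfc, hf0⟩ := leech_counts.exists_frame hv
  let ε : GolayPt ≃ Fin 24 := Fintype.equivFinOfCardEq (by simp)
  have hF : leechR.IsFrame (fun k => f (ε k)) :=
    ⟨fun k => hf8 _, fun j k hjk => hfo _ _ fun e => hjk (ε.injective e),
      fun j k => (hfc _).trans (hfc _).symm⟩
  obtain ⟨F, hdot, hstd⟩ := Rootless.frame_iso hF leech_counts.c4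
  have hFn : ∀ u, sqNorm ((F u : leechLattice) : GolayPt → ℤ) = sqNorm (u : GolayPt → ℤ) := fun u => by
    rw [← dotInt_self, hdot, ← leech_q]; rfl
  obtain ⟨j, s, hs, hj⟩ := hstd (ε.symm 0)
  simp only [Equiv.apply_symm_apply, hf0] at hj
  obtain ⟨σ, hσ⟩ := M24_one j p
  let c : Finset GolayPt := if s = 8 then ∅ else Finset.univ
  have hc : c ∈ supports (golayCode : Set (GolayPt → ZMod 2)) := by
    simp only [c]; split_ifs
    · exact empty_code
    · exact univ_code
  refine ⟨monoCo0 σ σ.2 c hc * mkCo0 F hFn, Subtype.ext ?_⟩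
  rw [mul_smul, monoCo0_smul, mkCo0_smul, hj]
  funext i
  have hσ' : (σ : Equiv.Perm GolayPt).symm i = j ↔ i = p := by
    rw [Equiv.symm_apply_eq, show (σ : Equiv.Perm GolayPt) j = p from hσ]
  simp only [signedPerm, vec8, Pi.single_apply, hσ', c]
  rcases hs with rfl | rfl
  · simp
  · rw [if_neg (show ¬ ((-8 : ℤ) = 8) by norm_num)]
    split_ifs <;> simp_all

/-- `Co0` is transitive on norm 8 vectors. -/
theorem co0_trans8 {v w : leechLattice} (hv : leechR.q v = 8) (hw : leechR.q w = 8) :
    ∃ g : Co0, g • v = w := by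
  obtain ⟨g, hg⟩ := co0_to_vec8 hv none
  obtain ⟨k, hk⟩ := co0_to_vec8 hw none
  exact ⟨k⁻¹ * g, by rw [mul_smul, hg, ← hk, inv_smul_smul]⟩

theorem co0_fix_std (g : Co0) {p : GolayPt} (hg : g • vec8 p = vec8 p) (v : leechLattice)
    (hv : (v : GolayPt → ℤ) ∈ stdCross) : ((g • v : leechLattice) : GolayPt → ℤ) ∈ stdCross := by
  rw [mem_std_iff _ p] at hv ⊢
  exact ⟨by rw [co0_q, hv.1], by rw [co0_cls g hv.2, hg]⟩

/-- An element preserving the standard frame is monomial. -/
theorem co0_monomial (g : Co0)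
    (hg : ∀ v : leechLattice, (v : GolayPt → ℤ) ∈ stdCross →
      ((g • v : leechLattice) : GolayPt → ℤ) ∈ stdCross) :
    ∃ σ : Equiv.Perm GolayPt, ∃ hσ : σ ∈ M24, ∃ c, ∃ hc, g = monoCo0 σ hσ c hc := by
  classical
  have hb : ∀ k, ∃ j : GolayPt, ∃ s : ℤ, (s = 8 ∨ s = -8) ∧
      ((g • vec8 k : leechLattice) : GolayPt → ℤ) = Pi.single j s :=
    fun k => hg (vec8 k) ⟨k, 8, Or.inl rfl, rfl⟩
  choose j s hs hj using hb
  have hinj : Function.Injective j := by
    intro k l h
    by_contra hne
    have := co0_dot g (vec8 k) (vec8 l)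
    rw [hj k, hj l, h] at this
    simp only [vec8, vec8_dot, if_neg hne] at this
    rcases hs k with a | a <;> rcases hs l with b | b <;>
      simp [dotInt, Pi.single_apply, a, b, ite_and] at this
  let σ : Equiv.Perm GolayPt := Equiv.ofBijective j (Finite.injective_iff_bijective.1 hinj)
  let c : Finset GolayPt := Finset.univ.filter fun i => s (σ.symm i) = -8
  have hact : ∀ v : leechLattice, ((g • v : leechLattice) : GolayPt → ℤ) = signedPerm σ c v := by
    intro v
    funext i
    have h := co0_dot g v (vec8 (σ.symm i))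
    rw [hj] at h
    have hji : j (σ.symm i) = i := σ.apply_symm_apply i
    rw [hji] at h
    simp only [dotInt, vec8, Pi.single_apply, mul_ite, mul_zero, Finset.sum_ite_eq',
      Finset.mem_univ, if_true] at h
    simp only [signedPerm, c, Finset.mem_filter, Finset.mem_univ, true_and]
    rcases hs (σ.symm i) with e | e
    · rw [e] at h; rw [if_neg (by rw [e]; norm_num)]; omega
    · rw [e] at h; rw [if_pos e]; omega
  have hmem : ∀ x ∈ leechLattice, signedPerm σ c x ∈ leechLattice := fun x hx => by
    rw [← hact ⟨x, hx⟩]; exact (g • (⟨x, hx⟩ : leechLattice)).2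
  have hσ : σ ∈ M24 := by
    refine mem_M24_of_words fun m hm => ?_
    have hm' : isCode m = true ∧ pop m = 8 := (show ∀ m ∈ gens, isCode m = true ∧ pop m = 8 by
      decide +kernel) m hm
    have hx : (fun i => 2 * if i ∈ mset m then (1 : ℤ) else 0) ∈ leechLattice := by
      rw [even_mem_iff]
      refine ⟨?_, ?_⟩
      · rw [← mem_supports_word]
        convert mem_supports_iff.2 ⟨m, hm'.1, rfl⟩ using 1
        ext i
        rw [mem_support_mod2]; split_ifs with h <;> simp [h]
      · rw [Finset.sum_boole]; simp [card_mset, hm'.2]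
    have h1 := hmem _ hx
    have e : signedPerm σ c (fun i => 2 * if i ∈ mset m then (1 : ℤ) else 0) =
        fun i => 2 * ((if i ∈ c then -1 else 1) * if σ.symm i ∈ mset m then (1 : ℤ) else 0) := by
      funext i; simp only [signedPerm]; by_cases hi : i ∈ c <;>
        by_cases hm : σ.symm i ∈ mset m <;> simp [hi, hm]
    rw [e, even_mem_iff, ← mem_supports_word] at h1
    convert h1.1 using 1
    ext i
    rw [mem_support_mod2, Finset.mem_smul_finset]
    constructor
    · rintro ⟨k, hk, rfl⟩
      simp only [Equiv.Perm.smul_def, Equiv.symm_apply_apply, hk, if_true]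
      split_ifs <;> norm_num
    · intro h
      by_cases hk : σ.symm i ∈ mset m
      · exact ⟨σ.symm i, hk, by simp⟩
      · simp [hk] at h
  have hc : c ∈ supports (golayCode : Set (GolayPt → ZMod 2)) := by
    let x : GolayPt → ℤ := fun i => if i = none then -3 else 1
    have hxodd : ∀ i, x i % 2 = 1 := fun i => by simp only [x]; split_ifs <;> norm_num
    have hx : x ∈ leechLattice := by
      rw [odd_mem_iff hxodd]
      refine ⟨?_, by decide +kernel⟩
      convert empty_code using 1
      ext i; simp only [x, Finset.mem_filter, Finset.mem_univ, true_and, Finset.notMem_empty,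
        iff_false]
      split_ifs <;> norm_num
    have h1 := hmem x hx
    have hodd : ∀ i, signedPerm σ c x i % 2 = 1 := fun i => by
      unfold signedPerm; have := hxodd (σ.symm i); split_ifs <;> omega
    convert ((odd_mem_iff hodd).1 h1).1 using 1
    ext i
    simp only [Finset.mem_filter, Finset.mem_univ, true_and, signedPerm, x]
    by_cases hi : i ∈ c <;> by_cases hn : σ.symm i = none <;>
      simp only [hi, hn, if_true, if_false] <;> norm_num
  exact ⟨σ, hσ, c, hc, co0_ext fun v => Subtype.ext (by rw [hact, monoCo0_smul])⟩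

theorem monoCo0_std (σ : Equiv.Perm GolayPt) (hσ : σ ∈ M24) (c : Finset GolayPt)
    (hc : c ∈ supports (golayCode : Set (GolayPt → ZMod 2))) (v : leechLattice)
    (hv : (v : GolayPt → ℤ) ∈ stdCross) :
    ((monoCo0 σ hσ c hc • v : leechLattice) : GolayPt → ℤ) ∈ stdCross := by
  obtain ⟨i, s, hs, e⟩ := hv
  refine ⟨σ i, if σ i ∈ c then -s else s, ?_, ?_⟩
  · split_ifs <;> omega
  · rw [monoCo0_smul, e]
    funext k
    simp only [signedPerm, Pi.single_apply, Equiv.symm_apply_eq]
    by_cases h : k = σ i
    · subst h; simp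
    · simp [h]

theorem monoCo0_inj {σ τ : Equiv.Perm GolayPt} {hσ : σ ∈ M24} {hτ : τ ∈ M24}
    {c d : Finset GolayPt} {hc : c ∈ supports (golayCode : Set (GolayPt → ZMod 2))}
    {hd : d ∈ supports (golayCode : Set (GolayPt → ZMod 2))}
    (h : monoCo0 σ hσ c hc = monoCo0 τ hτ d hd) : σ = τ ∧ c = d := by
  have key : ∀ k i, signedPerm σ c (Pi.single k (8 : ℤ)) i = signedPerm τ d (Pi.single k 8) i :=
    fun k i => by
      have := congrArg (fun g : Co0 => ((g • vec8 k : leechLattice) : GolayPt → ℤ)) h
      simp only [monoCo0_smul] at this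
      exact congrFun this i
  have he : σ = τ := by
    refine Equiv.ext fun k => ?_
    have := key k (σ k)
    simp only [signedPerm, Equiv.symm_apply_apply, Pi.single_apply, if_true] at this
    by_contra hne
    have : τ.symm (σ k) ≠ k := fun e => hne (by rw [← τ.apply_symm_apply (σ k), e])
    simp [this] at *
    split_ifs at * <;> omega
  subst he
  refine ⟨rfl, Finset.ext fun i => ?_⟩
  have := key (σ.symm i) i
  simp only [signedPerm, Pi.single_apply, if_true] at this
  split_ifs at this <;> first | omega | simp_all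

end CfsgLib.Golay
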