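import Cfsg.Agent.Lib.Golay.Co0Shell6

/-! The stabiliser of the standard frame and its action on the coordinates. -/

set_option autoImplicit false
set_option maxRecDepth 100000

namespace CfsgLib.Golay

open Cfsg
open scoped Pointwise

/-- The stabiliser of the class of a vector modulo twice the lattice. -/
def classStab (x : leechLattice) : Subgroup Co0 where
  carrier := {g | leechR.cls (g • x) = leechR.cls x}
  one_mem' := by simp
  mul_mem' := by
    intro a b ha hb
    show leechR.cls ((a * b) • x) = leechR.cls x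
    rw [mul_smul, co0_cls a hb]; exact ha
  inv_mem' := by
    intro a ha
    show leechR.cls (a⁻¹ • x) = leechR.cls x
    have := co0_cls a⁻¹ (show leechR.cls (a • x) = leechR.cls x from ha)
    rw [inv_smul_smul] at this
    exact this.symm

theorem mem_classStab {x : leechLattice} {g : Co0} :
    g ∈ classStab x ↔ leechR.cls (g • x) = leechR.cls x := Iff.rfl

theorem classStab_conj {x : leechLattice} (h g : Co0) :
    g ∈ classStab (h • x) ↔ h⁻¹ * g * h ∈ classStab x := by
  simp only [mem_classStab, mul_smul]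
  constructor
  · intro e
    have := co0_cls h⁻¹ e
    rwa [inv_smul_smul] at this
  · intro e
    have := co0_cls h e
    rwa [smul_inv_smul] at this

/-- The monomial group. -/
abbrev N0 : Subgroup Co0 := classStab (vec8 pinf)

theorem mem_N0_iff {g : Co0} :
    g ∈ N0 ↔ ∀ v : leechLattice, (v : GolayPt → ℤ) ∈ stdCross →
      ((g • v : leechLattice) : GolayPt → ℤ) ∈ stdCross := by
  constructor
  · intro hg v hv
    rw [mem_std_iff _ pinf] at hv ⊢
    exact ⟨by rw [co0_q, hv.1], by rw [co0_cls g hv.2]; exact hg⟩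
  · intro h
    exact ((mem_std_iff _ pinf).1 (h (vec8 pinf)
      ((mem_std_iff _ pinf).2 ⟨vec8_q _, rfl⟩))).2

theorem mono_mem_N0 (σ : M24) (c : Finset GolayPt)
    (hc : c ∈ supports (golayCode : Set (GolayPt → ZMod 2))) :
    monoCo0 σ σ.2 c hc ∈ N0 :=
  mem_N0_iff.2 fun v hv => monoCo0_std _ _ _ _ v hv

theorem N0_rep {g : Co0} (hg : g ∈ N0) :
    ∃ (σ : M24) (c : Finset GolayPt) (hc : c ∈ supports (golayCode : Set (GolayPt → ZMod 2))),
      g = monoCo0 σ σ.2 c hc := by
  obtain ⟨σ, hσ, c, hc, e⟩ := co0_monomial g (mem_N0_iff.1 hg)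
  exact ⟨⟨σ, hσ⟩, c, hc, e⟩

theorem smul_code (σ : M24) {c : Finset GolayPt}
    (hc : c ∈ supports (golayCode : Set (GolayPt → ZMod 2))) :
    (σ : Equiv.Perm GolayPt) • c ∈ supports (golayCode : Set (GolayPt → ZMod 2)) :=
  mem_M24_iff.1 σ.2 c hc

theorem monoCo0_mul (σ τ : M24) {c d : Finset GolayPt}
    (hc : c ∈ supports (golayCode : Set (GolayPt → ZMod 2)))
    (hd : d ∈ supports (golayCode : Set (GolayPt → ZMod 2))) :
    monoCo0 σ σ.2 c hc * monoCo0 τ τ.2 d hd =
      monoCo0 (σ * τ : M24) (σ * τ : M24).2 (symmDiff c ((σ : Equiv.Perm GolayPt) • d))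
        (symmDiff_mem_supports hc (smul_code σ hd)) := by
  classical
  refine co0_ext fun v => Subtype.ext ?_
  rw [mul_smul, monoCo0_smul, monoCo0_smul, monoCo0_smul]
  funext i
  have hmem : i ∈ (σ : Equiv.Perm GolayPt) • d ↔ (σ : Equiv.Perm GolayPt).symm i ∈ d := by
    rw [Finset.mem_smul_finset]
    constructor
    · rintro ⟨y, hy, rfl⟩; simpa using hy
    · intro h; exact ⟨_, h, by simp⟩
  simp only [signedPerm, Finset.mem_symmDiff, hmem, Subgroup.coe_mul, Equiv.Perm.mul_def,
    Equiv.symm_trans_apply]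
  by_cases a : i ∈ c <;> by_cases b : (σ : Equiv.Perm GolayPt).symm i ∈ d <;> simp [a, b]

/-- A sign change. -/
noncomputable def sign0 (c : Finset GolayPt)
    (hc : c ∈ supports (golayCode : Set (GolayPt → ZMod 2))) : Co0 :=
  monoCo0 (1 : M24) (1 : M24).2 c hc

theorem sign0_sq (c : Finset GolayPt) (hc : c ∈ supports (golayCode : Set (GolayPt → ZMod 2))) :
    sign0 c hc * sign0 c hc = 1 := by
  refine co0_ext fun v => Subtype.ext ?_
  rw [mul_smul, sign0, monoCo0_smul, monoCo0_smul, one_smul]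
  funext i
  simp only [signedPerm, OneMemClass.coe_one, Equiv.Perm.one_symm, Equiv.Perm.one_apply]
  by_cases h : i ∈ c <;> simp [h]

/-- The permutation part. -/
noncomputable def permPart : N0 →* M24 :=
  MonoidHom.mk' (fun g => (N0_rep g.2).choose) fun g h => by
    obtain ⟨c, hc, e⟩ := (N0_rep g.2).choose_spec
    obtain ⟨d, hd, e'⟩ := (N0_rep h.2).choose_spec
    obtain ⟨u, hu, e''⟩ := (N0_rep (g * h).2).choose_spec
    have := monoCo0_mul (N0_rep g.2).choose (N0_rep h.2).choose hc hd
    exact Subtype.ext (monoCo0_inj (e''.symm.trans ((congrArg₂ (· * ·) e e').trans this))).1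

theorem permPart_mono (σ : M24) (c : Finset GolayPt)
    (hc : c ∈ supports (golayCode : Set (GolayPt → ZMod 2))) :
    permPart ⟨monoCo0 σ σ.2 c hc, mono_mem_N0 σ c hc⟩ = σ := by
  obtain ⟨d, hd, e⟩ := (N0_rep (mono_mem_N0 σ c hc)).choose_spec
  exact Subtype.ext (monoCo0_inj e.symm).1

theorem permPart_eq_one {g : N0} (h : permPart g = 1) :
    ∃ c hc, (g : Co0) = sign0 c hc := by
  obtain ⟨σ, c, hc, e⟩ := N0_rep g.2
  have hg : g = ⟨monoCo0 σ σ.2 c hc, mono_mem_N0 σ c hc⟩ := Subtype.ext e
  rw [hg, permPart_mono] at h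
  subst h
  exact ⟨c, hc, e⟩

theorem permPart_surjective : Function.Surjective permPart :=
  fun σ => ⟨_, permPart_mono σ ∅ empty_code⟩

theorem index_N0 : N0.index = 8292375 := by
  have h : Nat.card N0 = 4096 * 244823040 := by
    let S := supports (golayCode : Set (GolayPt → ZMod 2))
    let Φ : M24 × S → N0 := fun x => ⟨_, mono_mem_N0 x.1 x.2.1 x.2.2⟩
    have hΦ : Function.Bijective Φ := by
      constructor
      · rintro ⟨σ, c⟩ ⟨τ, d⟩ h
        obtain ⟨h1, h2⟩ := monoCo0_inj (hσ := σ.2) (hτ := τ.2) (hc := c.2) (hd := d.2)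
          (congrArg Subtype.val h)
        exact Prod.ext (Subtype.ext h1) (Subtype.ext h2)
      · rintro ⟨g, hg⟩
        obtain ⟨σ, c, hc, rfl⟩ := N0_rep hg
        exact ⟨(σ, ⟨c, hc⟩), rfl⟩
    have hS : S.ncard = 4096 := by
      rw [← show codeList.length = 4096 by simp [codeList]]
      exact ncard_mset_list (fun m hm => isCode_lt (mem_codeList.1 hm)) codeList_nodup fun s => by
        simp [S, mem_supports_iff, mem_codeList]
    rw [← Nat.card_eq_of_bijective Φ hΦ, Nat.card_prod, card_M24, Nat.card_coe_set_eq, hS]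
  have := N0.card_mul_index
  rw [h, card_Co0] at this
  omega

end CfsgLib.Golay
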