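import Cfsg.Agent.Lib.Golay.Co0Pair
import Cfsg.Agent.Lib.Golay.Co0Mono

/-! Transitivity of the stabiliser of a minimal vector. -/

set_option autoImplicit false
set_option maxRecDepth 100000

namespace CfsgLib.Golay

open Cfsg
open scoped Pointwise

theorem pinf_ne_one : pinf ≠ pt 1 := by decide +kernel

theorem pz_ne_one : pz ≠ pt 1 := by decide +kernel

theorem mono_fix_min44 (σ : M24) (h1 : σ • pinf = pinf) (h2 : σ • pz = pz) {c : Finset GolayPt}
    (hc : c ∈ supports (golayCode : Set (GolayPt → ZMod 2))) (a1 : pinf ∉ c) (a2 : pz ∉ c) :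
    monoCo0 σ σ.2 c hc • min44 = min44 := by
  refine Subtype.ext (funext fun i => ?_)
  rw [monoCo0_smul]
  obtain ⟨i, rfl⟩ := (σ : Equiv.Perm GolayPt).surjective i
  rw [signedPerm_apply]
  have e1 : (σ : Equiv.Perm GolayPt) i = pinf ↔ i = pinf :=
    ⟨fun h => (σ : Equiv.Perm GolayPt).injective (h.trans h1.symm), fun h => h ▸ h1⟩
  have e2 : (σ : Equiv.Perm GolayPt) i = pz ↔ i = pz :=
    ⟨fun h => (σ : Equiv.Perm GolayPt).injective (h.trans h2.symm), fun h => h ▸ h2⟩
  simp only [min44_coe, Pi.add_apply, Pi.single_apply, e1, e2]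
  by_cases a : i = pinf
  · subst a
    rw [show (σ : Equiv.Perm GolayPt) pinf = pinf from h1, if_neg a1]
  · by_cases b : i = pz
    · subst b
      rw [show (σ : Equiv.Perm GolayPt) pz = pz from h2, if_neg a2]
    · simp [a, b]

/-- Sign change to make every entry `3` modulo 4. -/
theorem odd_signs {x : GolayPt → ℤ} (hx : x ∈ leechLattice) (hodd : ∀ i, x i % 2 = 1) :
    ∃ c ∈ supports (golayCode : Set (GolayPt → ZMod 2)), (∀ i, x i % 4 = 3 → i ∉ c) ∧
      ∀ i, (if i ∈ c then -x i else x i) % 4 = 3 := by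
  classical
  refine ⟨_, symmDiff_mem_supports univ_mem_supports ((odd_mem_iff hodd).1 hx).1,
    fun i hi => ?_, fun i => ?_⟩
  · simp [Finset.mem_symmDiff, hi]
  · have := hodd i
    simp only [Finset.mem_symmDiff, Finset.mem_univ, true_and, Finset.mem_filter, not_true,
      and_false, or_false]
    split_ifs with h <;> omega

/-- A vector with all entries `3` modulo 4 has few entries other than `-1`. -/
theorem ones_bound {x : GolayPt → ℤ} (h : ∀ i, x i % 4 = 3) :
    24 + 8 * ((Finset.univ.filter fun i => x i ≠ -1).card : ℤ) ≤ sqNorm x ∧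
      ∀ j, x j ≠ -1 → x j ≠ 3 →
        24 + 8 * ((Finset.univ.filter fun i => x i ≠ -1).card : ℤ) + 16 ≤ sqNorm x := by
  classical
  have e : sqNorm x = 24 + ∑ i, (x i ^ 2 - 1) := by
    rw [Finset.sum_sub_distrib, sqNorm, Finset.sum_const, Finset.card_univ]
    simp [-Fintype.sum_option]
  have hpos : ∀ i, (if x i ≠ -1 then (8 : ℤ) else 0) + (if x i ≠ -1 ∧ x i ≠ 3 then 16 else 0) ≤
      x i ^ 2 - 1 := fun i => by
    have := h i
    by_cases a : x i = -1
    · simp [a]
    by_cases b : x i = 3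
    · simp [b]
    simp only [ne_eq, a, b, not_false_eq_true, and_self, if_true]
    rcases (show x i ≥ 7 ∨ x i ≤ -5 by omega) with c | c <;> nlinarith
  have hsum := Finset.sum_le_sum (s := (Finset.univ : Finset GolayPt)) fun i _ => hpos i
  rw [Finset.sum_add_distrib, ← Finset.sum_filter, Finset.sum_const, nsmul_eq_mul] at hsum
  have h0 : (0 : ℤ) ≤ ∑ i, if x i ≠ -1 ∧ x i ≠ 3 then (16 : ℤ) else 0 :=
    Finset.sum_nonneg fun i _ => by split_ifs <;> norm_num
  refine ⟨by linarith, fun j a b => ?_⟩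
  have := Finset.single_le_sum (f := fun i => if x i ≠ -1 ∧ x i ≠ 3 then (16 : ℤ) else 0)
    (fun i _ => by split_ifs <;> norm_num) (Finset.mem_univ j)
  simp only [a, b, ne_eq, not_false_eq_true, and_self, if_true] at this
  linarith

/-- The minimal vector with entries `-1` and one `3`. -/
def odd31 : GolayPt → ℤ := fun i => if i = pt 1 then 3 else -1

/-- The vector of sum of squares 48 with entries `-1` and three `3`. -/
def odd333 : GolayPt → ℤ := fun i => if i = pinf ∨ i = pz ∨ i = pt 1 then 3 else -1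

theorem normal_odd31 {v w : leechLattice} (hv : sqNorm (v : GolayPt → ℤ) = 32)
    (hw : sqNorm (w : GolayPt → ℤ) = 32) (hd : dotInt (v : GolayPt → ℤ) w = -8) :
    ∃ g : Co0, g • v = min44 ∧ ((g • w : leechLattice) : GolayPt → ℤ) = odd31 := by
  classical
  obtain ⟨g, hg, e1, e2⟩ := normal_two hv (u := w) (by omega)
  let x : GolayPt → ℤ := ((g • w : leechLattice) : GolayPt → ℤ)
  have x1 : x pinf = -1 := by simp only [x]; omega
  have x2 : x pz = -1 := by simp only [x]; omega
  have hodd : ∀ i, x i % 2 = 1 := by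
    rcases parity_cases (g • w).2 with h | h
    · have : x pinf % 2 = 0 := h pinf
      omega
    · exact h
  obtain ⟨c, hc, hc1, hc2⟩ := odd_signs (g • w).2 hodd
  let y : GolayPt → ℤ := fun i => if i ∈ c then -x i else x i
  have hyn : sqNorm y = 32 := by
    rw [← hw, ← co0_sq g w]
    exact Finset.sum_congr rfl fun i _ => by simp only [y]; split_ifs <;> simp [x]
  obtain ⟨hb1, hb2⟩ := ones_bound (x := y) hc2
  have a1 : pinf ∉ c := hc1 _ (by show x pinf % 4 = 3; omega)
  have a2 : pz ∉ c := hc1 _ (by show x pz % 4 = 3; omega)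
  obtain ⟨j, hj⟩ : ∃ j, y j ≠ -1 := by
    by_contra hne
    push Not at hne
    have : sqNorm y = 24 := by
      rw [sqNorm, Finset.sum_congr rfl fun i _ => by rw [hne i]]; simp [-Fintype.sum_option]
    omega
  have hcard : (Finset.univ.filter fun i => y i ≠ -1) = {j} := by
    symm
    refine Finset.eq_of_subset_of_card_le (by simpa using hj) ?_
    rw [Finset.card_singleton]; omega
  have hj3 : y j = 3 := by
    by_contra hne
    have := hb2 j hj hne
    rw [hcard] at this
    simp at this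
    omega
  have hjp : j ≠ pinf ∧ j ≠ pz := by
    constructor <;> rintro rfl <;> simp only [y, a1, a2, if_false] at hj <;> omega
  obtain ⟨σ, s1, s2, s3⟩ := M24_three pinf_ne_pz hjp.1.symm hjp.2.symm pinf_ne_pz pinf_ne_one pz_ne_one
  refine ⟨monoCo0 σ σ.2 ((σ : Equiv.Perm GolayPt) • c) (smul_code σ hc) * g, ?_, ?_⟩
  · rw [mul_smul, hg]
    refine mono_fix_min44 σ s1 s2 _ ?_ ?_
    · rw [← s1]; exact fun h => a1 ((Finset.smul_mem_smul_finset_iff _).1 h)
    · rw [← s2]; exact fun h => a2 ((Finset.smul_mem_smul_finset_iff _).1 h)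
  · rw [mul_smul, monoCo0_smul]
    funext i
    obtain ⟨i, rfl⟩ := (σ : Equiv.Perm GolayPt).surjective i
    rw [signedPerm_apply]
    have e : (σ : Equiv.Perm GolayPt) i = pt 1 ↔ i = j :=
      ⟨fun h => (σ : Equiv.Perm GolayPt).injective (h.trans s3.symm), fun h => h ▸ s3⟩
    have hmem : (σ : Equiv.Perm GolayPt) i ∈ (σ : Equiv.Perm GolayPt) • c ↔ i ∈ c :=
      Finset.smul_mem_smul_finset_iff _
    simp only [odd31, e, hmem]
    show y i = _
    by_cases a : i = j
    · rw [if_pos a, a, hj3]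
    · rw [if_neg a]
      have : i ∉ Finset.univ.filter fun i => y i ≠ -1 := by rw [hcard]; simpa using a
      simpa using this

theorem normal_odd333 {v u : leechLattice} (hv : sqNorm (v : GolayPt → ℤ) = 32)
    (hu : sqNorm (u : GolayPt → ℤ) = 48) (hd : dotInt (v : GolayPt → ℤ) u = 24) :
    ∃ g : Co0, g • v = min44 ∧ ((g • u : leechLattice) : GolayPt → ℤ) = odd333 := by
  classical
  obtain ⟨g, hg, e1, e2⟩ := normal_two hv (u := u) (by omega)
  let x : GolayPt → ℤ := ((g • u : leechLattice) : GolayPt → ℤ)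
  have x1 : x pinf = 3 := by simp only [x]; omega
  have x2 : x pz = 3 := by simp only [x]; omega
  have hodd : ∀ i, x i % 2 = 1 := by
    rcases parity_cases (g • u).2 with h | h
    · have : x pinf % 2 = 0 := h pinf
      omega
    · exact h
  obtain ⟨c, hc, hc1, hc2⟩ := odd_signs (g • u).2 hodd
  let y : GolayPt → ℤ := fun i => if i ∈ c then -x i else x i
  have hyn : sqNorm y = 48 := by
    rw [← hu, ← co0_sq g u]
    exact Finset.sum_congr rfl fun i _ => by simp only [y]; split_ifs <;> simp [x]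
  obtain ⟨hb1, hb2⟩ := ones_bound (x := y) hc2
  have a1 : pinf ∉ c := hc1 _ (by show x pinf % 4 = 3; omega)
  have a2 : pz ∉ c := hc1 _ (by show x pz % 4 = 3; omega)
  have y1 : y pinf = 3 := by simp [y, a1, x1]
  have y2 : y pz = 3 := by simp [y, a2, x2]
  obtain ⟨j, hjp, hjz, hj⟩ : ∃ j, j ≠ pinf ∧ j ≠ pz ∧ y j ≠ -1 := by
    by_contra hne
    push Not at hne
    have : sqNorm y = 40 := by
      rw [sqNorm, ← Finset.sum_add_sum_compl ({pinf, pz} : Finset GolayPt),
        Finset.sum_pair pinf_ne_pz, y1, y2]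
      have hone : ∀ i ∈ ({pinf, pz} : Finset GolayPt)ᶜ, y i ^ 2 = 1 := fun i hi => by
        rw [Finset.mem_compl, Finset.mem_insert, Finset.mem_singleton, not_or] at hi
        rw [hne i hi.1 hi.2]; norm_num
      rw [Finset.sum_congr rfl hone, Finset.sum_const, Finset.card_compl,
        Finset.card_pair pinf_ne_pz]
      simp
    omega
  have h3 : ({pinf, pz, j} : Finset GolayPt).card = 3 := by
    rw [Finset.card_insert_of_notMem (by simp [pinf_ne_pz, hjp.symm]), Finset.card_pair hjz.symm]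
  have hcard : (Finset.univ.filter fun i => y i ≠ -1) = {pinf, pz, j} := by
    symm
    refine Finset.eq_of_subset_of_card_le (fun i hi => ?_) (by omega)
    simp only [Finset.mem_insert, Finset.mem_singleton] at hi
    rcases hi with rfl | rfl | rfl <;> simp [y1, y2, hj]
  have hj3 : y j = 3 := by
    by_contra hne
    have := hb2 j hj hne
    rw [hcard, h3] at this
    omega
  obtain ⟨σ, s1, s2, s3⟩ := M24_three pinf_ne_pz hjp.symm hjz.symm pinf_ne_pz pinf_ne_one pz_ne_one
  refine ⟨monoCo0 σ σ.2 ((σ : Equiv.Perm GolayPt) • c) (smul_code σ hc) * g, ?_, ?_⟩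
  · rw [mul_smul, hg]
    refine mono_fix_min44 σ s1 s2 _ ?_ ?_
    · rw [← s1]; exact fun h => a1 ((Finset.smul_mem_smul_finset_iff _).1 h)
    · rw [← s2]; exact fun h => a2 ((Finset.smul_mem_smul_finset_iff _).1 h)
  · rw [mul_smul, monoCo0_smul]
    funext i
    obtain ⟨i, rfl⟩ := (σ : Equiv.Perm GolayPt).surjective i
    rw [signedPerm_apply]
    have e : ∀ a b, σ • a = b → ((σ : Equiv.Perm GolayPt) i = b ↔ i = a) := fun a b h =>
      ⟨fun h' => (σ : Equiv.Perm GolayPt).injective (h'.trans h.symm), fun h' => h' ▸ h⟩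
    have hmem : (σ : Equiv.Perm GolayPt) i ∈ (σ : Equiv.Perm GolayPt) • c ↔ i ∈ c :=
      Finset.smul_mem_smul_finset_iff _
    simp only [odd333, e _ _ s1, e _ _ s2, e _ _ s3, hmem]
    show y i = _
    by_cases a : i = pinf ∨ i = pz ∨ i = j
    · rw [if_pos a]
      rcases a with rfl | rfl | rfl <;> assumption
    · rw [if_neg a]
      have : i ∉ Finset.univ.filter fun i => y i ≠ -1 := by
        rw [hcard]; simpa using a
      simpa using this

/-- An octad through the two marked points. -/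
theorem exists_octad_two :
    ∃ o ∈ octads, pinf ∈ o ∧ pz ∈ o := by
  have h : octList.any (fun m => Nat.testBit m 23 && Nat.testBit m 0) = true := by decide +kernel
  obtain ⟨m, hm, e⟩ := List.any_eq_true.1 h
  rw [Bool.and_eq_true] at e
  refine ⟨mset m, mem_octads_iff.2 ⟨m, hm, rfl⟩, ?_, ?_⟩
  · rw [mem_mset, show idx pinf = 23 by decide +kernel]; exact e.1
  · rw [mem_mset, show idx pz = 0 by decide +kernel]; exact e.2

/-- Shape of the minimal vectors with entries `-2` at the two marked points. -/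
theorem shape_two {x : GolayPt → ℤ} (hx : x ∈ leechLattice) (hn : sqNorm x = 32)
    (x1 : x pinf = -2) (x2 : x pz = -2) :
    ∃ o ∈ octads, pinf ∈ o ∧ pz ∈ o ∧ (∀ i ∈ o, x i = 2 ∨ x i = -2) ∧ (∀ i, i ∉ o → x i = 0) := by
  classical
  have hev : ∀ i, x i % 2 = 0 := by
    rcases parity_cases hx with h | h
    · exact h
    · have := h pinf; omega
  let a : GolayPt → ℤ := fun i => x i / 2
  have ha : ∀ i, x i = 2 * a i := fun i => by have := hev i; simp only [a]; omega
  obtain ⟨hw, -⟩ := (even_mem_iff (a := a)).1 (by convert hx using 1; funext i; exact (ha i).symm)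
  have hwc := mem_supports_word.2 hw
  have hna : sqNorm a = 8 := by
    have : sqNorm x = 4 * sqNorm a := by
      rw [sqNorm, sqNorm, Finset.mul_sum]
      exact Finset.sum_congr rfl fun i _ => by rw [ha i]; ring
    omega
  let o := support₂ (mod2 a)
  have ho1 : pinf ∈ o := by rw [mem_support_mod2]; simp [a, x1]
  have ho2 : pz ∈ o := by rw [mem_support_mod2]; simp [a, x2]
  have hsum : (o.card : ℤ) ≤ sqNorm a := by
    have := sq_card_bound (x := a) rfl o 1 fun i hi => by
      rw [mem_support_mod2] at hi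
      nlinarith [Int.one_le_abs (show a i ≠ 0 by omega), sq_abs (a i)]
    rwa [mul_one] at this
  have hpos : 0 < o.card := Finset.card_pos.2 ⟨_, ho1⟩
  have ho8 : o.card = 8 := by
    rcases supports_card hwc with e | e | e | e | e <;> simp only [o] at * <;> omega
  refine ⟨o, ⟨hwc, ho8⟩, ho1, ho2, ?_⟩
  have key : ∀ i, a i ^ 2 = if i ∈ o then 1 else 0 := by
    have hle : ∀ i, (if i ∈ o then (1 : ℤ) else 0) ≤ a i ^ 2 := fun i => by
      split_ifs with hi
      · rw [mem_support_mod2] at hi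
        nlinarith [Int.one_le_abs (show a i ≠ 0 by omega), sq_abs (a i)]
      · exact sq_nonneg _
    have e : ∑ i, (if i ∈ o then (1 : ℤ) else 0) = ∑ i, a i ^ 2 := by
      rw [Finset.sum_ite_mem, Finset.univ_inter, Finset.sum_const, ho8]
      simp only [sqNorm] at hna
      rw [hna]; simp
    intro i
    exact (((Finset.sum_eq_sum_iff_of_le fun i _ => hle i).1 e) i (Finset.mem_univ _)).symm
  constructor
  · intro i hi
    have := key i
    rw [if_pos hi, sq_eq_one_iff] at this
    have := ha i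
    omega
  · intro i hi
    have := key i
    rw [if_neg hi, sq_eq_zero_iff] at this
    have := ha i
    omega

theorem normal_oct2 {v w : leechLattice} (hv : sqNorm (v : GolayPt → ℤ) = 32)
    (hw : sqNorm (w : GolayPt → ℤ) = 32) (hd : dotInt (v : GolayPt → ℤ) w = -16)
    {o' : Finset GolayPt} (ho' : o' ∈ octads) (hp' : pinf ∈ o') (hz' : pz ∈ o') :
    ∃ g : Co0, g • v = min44 ∧
      ((g • w : leechLattice) : GolayPt → ℤ) = fun i => if i ∈ o' then -2 else 0 := by
  classical
  obtain ⟨g, hg, e1, e2⟩ := normal_two hv (u := w) (by omega)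
  let x : GolayPt → ℤ := ((g • w : leechLattice) : GolayPt → ℤ)
  have x1 : x pinf = -2 := by simp only [x]; omega
  have x2 : x pz = -2 := by simp only [x]; omega
  have hxn : sqNorm x = 32 := (co0_sq g w).trans hw
  obtain ⟨o, ho, hp, hz, hin, hout⟩ := shape_two (x := x) (g • w).2 hxn x1 x2
  let D := o.filter fun i => x i = 2
  have hDev : D.card % 2 = 0 := by
    have hev : ∀ i, x i % 2 = 0 := fun i => by
      by_cases hi : i ∈ o
      · rcases hin i hi with h | h <;> simp only [x] at * <;> omega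
      · have := hout i hi; simp only [x] at *; omega
    obtain ⟨-, h4⟩ := (even_mem_iff (a := fun i => x i / 2)).1 (by
      convert (g • w).2 using 1; funext i; have := hev i; show 2 * (x i / 2) = x i; omega)
    have e : ∑ i, x i / 2 = 2 * (D.card : ℤ) - 8 := by
      rw [← Finset.sum_subset (Finset.subset_univ o) fun i _ hi => by rw [hout i hi]; rfl]
      have : ∀ i ∈ o, x i / 2 = 2 * (if x i = 2 then 1 else 0) - 1 := fun i hi => by
        rcases hin i hi with h | h <;> rw [h] <;> norm_num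
      rw [Finset.sum_congr rfl this, Finset.sum_sub_distrib, ← Finset.mul_sum,
        Finset.sum_boole, Finset.sum_const, ho.2]
      simp [D]
    omega
  obtain ⟨c, hc, hcD⟩ := octad_even_sub ho D (Finset.filter_subset _ _) hDev
  have a1 : pinf ∉ c := fun h => by
    have h' := Finset.mem_inter.2 ⟨h, hp⟩
    rw [hcD, Finset.mem_filter, x1] at h'
    norm_num at h'
  have a2 : pz ∉ c := fun h => by
    have h' := Finset.mem_inter.2 ⟨h, hz⟩
    rw [hcD, Finset.mem_filter, x2] at h'
    norm_num at h'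
  obtain ⟨σ, s0, s1, s2⟩ := octad_two ho ho' hp hz pinf_ne_pz hp' hz' pinf_ne_pz
  refine ⟨monoCo0 σ σ.2 ((σ : Equiv.Perm GolayPt) • c) (smul_code σ hc) * g, ?_, ?_⟩
  · rw [mul_smul, hg]
    refine mono_fix_min44 σ s1 s2 _ ?_ ?_
    · rw [← s1]; exact fun h => a1 ((Finset.smul_mem_smul_finset_iff _).1 h)
    · rw [← s2]; exact fun h => a2 ((Finset.smul_mem_smul_finset_iff _).1 h)
  · rw [mul_smul, monoCo0_smul]
    funext i
    obtain ⟨i, rfl⟩ := (σ : Equiv.Perm GolayPt).surjective i
    rw [signedPerm_apply]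
    have hmem : (σ : Equiv.Perm GolayPt) i ∈ (σ : Equiv.Perm GolayPt) • c ↔ i ∈ c :=
      Finset.smul_mem_smul_finset_iff _
    have hmo : (σ : Equiv.Perm GolayPt) i ∈ o' ↔ i ∈ o := by
      rw [← s0]; exact Finset.smul_mem_smul_finset_iff _
    simp only [hmem, hmo]
    show (if i ∈ c then -x i else x i) = _
    by_cases hi : i ∈ o
    · rw [if_pos hi]
      rcases hin i hi with h | h
      · have : i ∈ c := (Finset.mem_inter.1 (hcD ▸ Finset.mem_filter.2 ⟨hi, h⟩ : i ∈ c ∩ o)).1
        rw [if_pos this, h]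
      · rw [if_neg fun h' => ?_, h]
        have h'' := Finset.mem_inter.2 ⟨h', hi⟩
        rw [hcD, Finset.mem_filter, h] at h''
        norm_num at h''
    · rw [if_neg hi, hout i hi]; simp

theorem co0_trans_m16 {v w w' : leechLattice} (hv : sqNorm (v : GolayPt → ℤ) = 32)
    (hw : sqNorm (w : GolayPt → ℤ) = 32) (hw' : sqNorm (w' : GolayPt → ℤ) = 32)
    (hd : dotInt (v : GolayPt → ℤ) w = -16) (hd' : dotInt (v : GolayPt → ℤ) w' = -16) :
    ∃ g : Co0, g • v = v ∧ g • w = w' := by
  obtain ⟨o, ho, hp, hz⟩ := exists_octad_two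
  obtain ⟨g, g1, g2⟩ := normal_oct2 hv hw hd ho hp hz
  obtain ⟨k, k1, k2⟩ := normal_oct2 hv hw' hd' ho hp hz
  refine ⟨k⁻¹ * g, by rw [mul_smul, g1, ← k1, inv_smul_smul], ?_⟩
  rw [mul_smul, show g • w = k • w' from Subtype.ext (g2.trans k2.symm), inv_smul_smul]

theorem co0_trans_m8 {v w w' : leechLattice} (hv : sqNorm (v : GolayPt → ℤ) = 32)
    (hw : sqNorm (w : GolayPt → ℤ) = 32) (hw' : sqNorm (w' : GolayPt → ℤ) = 32)
    (hd : dotInt (v : GolayPt → ℤ) w = -8) (hd' : dotInt (v : GolayPt → ℤ) w' = -8) :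
    ∃ g : Co0, g • v = v ∧ g • w = w' := by
  obtain ⟨g, g1, g2⟩ := normal_odd31 hv hw hd
  obtain ⟨k, k1, k2⟩ := normal_odd31 hv hw' hd'
  refine ⟨k⁻¹ * g, by rw [mul_smul, g1, ← k1, inv_smul_smul], ?_⟩
  rw [mul_smul, show g • w = k • w' from Subtype.ext (g2.trans k2.symm), inv_smul_smul]

/-- The stabiliser of a vector of sum of squares 48 on the minimal vectors completing it. -/
theorem co0_trans_split {u v v' : leechLattice} (hu : sqNorm (u : GolayPt → ℤ) = 48)
    (hv : sqNorm (v : GolayPt → ℤ) = 32) (hv' : sqNorm (v' : GolayPt → ℤ) = 32)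
    (hd : dotInt (v : GolayPt → ℤ) u = 24) (hd' : dotInt (v' : GolayPt → ℤ) u = 24) :
    ∃ g : Co0, g • u = u ∧ g • v = v' := by
  obtain ⟨g, g1, g2⟩ := normal_odd333 hv hu hd
  obtain ⟨k, k1, k2⟩ := normal_odd333 hv' hu hd'
  refine ⟨k⁻¹ * g, ?_, by rw [mul_smul, g1, ← k1, inv_smul_smul]⟩
  rw [mul_smul, show g • u = k • u from Subtype.ext (g2.trans k2.symm), inv_smul_smul]

end CfsgLib.Golay
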