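import Cfsg.Agent.Lib.Golay.Co0Stab
import Cfsg.Agent.Lib.Golay.Co0Normal

/-! Normal 2-subgroups of the stabiliser of a minimal vector. -/

set_option autoImplicit false
set_option maxRecDepth 100000

namespace CfsgLib.Golay

open Cfsg
open scoped Pointwise

theorem ncard_code_avoid_two :
    {c : Finset GolayPt | c ∈ supports (golayCode : Set (GolayPt → ZMod 2)) ∧ pinf ∉ c ∧ pz ∉ c}.ncard
      = 1024 := by
  have h : (codeList.filter fun m => !m.testBit 23 && !m.testBit 0).length = 1024 := by decide +kernel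
  rw [← h]
  refine ncard_mset_list (fun m hm => isCode_lt (mem_codeList.1 (List.mem_filter.1 hm).1))
    (codeList_nodup.filter _) fun s => ?_
  simp only [Set.mem_setOf_eq, List.mem_filter, mem_codeList, mem_supports_iff]
  constructor
  · rintro ⟨⟨m, hm, rfl⟩, hp, hq⟩
    refine ⟨m, ⟨hm, ?_⟩, rfl⟩
    rw [pinf, mem_mset, idx_pt (by norm_num)] at hp
    rw [pz, mem_mset, idx_pt (by norm_num)] at hq
    simp [hp, hq]
  · rintro ⟨m, ⟨hm, hb⟩, rfl⟩
    simp only [Bool.and_eq_true, Bool.not_eq_true'] at hb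
    refine ⟨⟨m, hm, rfl⟩, ?_, ?_⟩
    · rw [pinf, mem_mset, idx_pt (by norm_num)]; simp [hb.1]
    · rw [pz, mem_mset, idx_pt (by norm_num)]; simp [hb.2]

theorem card_stab_orth_pair :
    Nat.card ↥(MulAction.stabilizer Co0 min44 ⊓ MulAction.stabilizer Co0 min4n) = 443520 * 1024 := by
  classical
  let P : Subgroup M24 := MulAction.stabilizer M24 pinf ⊓ MulAction.stabilizer M24 pz
  let C := {c : Finset GolayPt //
    c ∈ supports (golayCode : Set (GolayPt → ZMod 2)) ∧ pinf ∉ c ∧ pz ∉ c}
  have hfix : ∀ (σ : P) (c : C), monoCo0 σ.1.1 σ.1.2 c.1 c.2.1 ∈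
      MulAction.stabilizer Co0 min44 ⊓ MulAction.stabilizer Co0 min4n := by
    rintro ⟨σ, hσ1, hσ2⟩ ⟨c, hc, hp, hq⟩
    refine ⟨mono_fix_min44 σ hσ1 hσ2 hc hp hq, ?_⟩
    refine Subtype.ext (funext fun i => ?_)
    rw [monoCo0_smul]
    obtain ⟨i, rfl⟩ := (σ : Equiv.Perm GolayPt).surjective i
    rw [signedPerm_apply]
    have e1 : (σ : Equiv.Perm GolayPt) i = pinf ↔ i = pinf :=
      ⟨fun h => (σ : Equiv.Perm GolayPt).injective (h.trans hσ1.symm), fun h => h ▸ hσ1⟩
    have e2 : (σ : Equiv.Perm GolayPt) i = pz ↔ i = pz :=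
      ⟨fun h => (σ : Equiv.Perm GolayPt).injective (h.trans hσ2.symm), fun h => h ▸ hσ2⟩
    simp only [min4n, Pi.add_apply, Pi.single_apply, e1, e2]
    by_cases a : i = pinf
    · subst a
      rw [show (σ : Equiv.Perm GolayPt) pinf = pinf from hσ1, if_neg hp]
    · by_cases b : i = pz
      · subst b
        rw [show (σ : Equiv.Perm GolayPt) pz = pz from hσ2, if_neg hq]
      · simp [a, b]
  let Φ : P × C → ↥(MulAction.stabilizer Co0 min44 ⊓ MulAction.stabilizer Co0 min4n) :=
    fun x => ⟨_, hfix x.1 x.2⟩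
  have hΦ : Function.Bijective Φ := by
    constructor
    · rintro ⟨σ, c⟩ ⟨τ, d⟩ h
      obtain ⟨h1, h2⟩ := monoCo0_inj (hσ := σ.1.2) (hτ := τ.1.2) (hc := c.2.1) (hd := d.2.1)
        (congrArg Subtype.val h)
      exact Prod.ext (Subtype.ext (Subtype.ext h1)) (Subtype.ext h2)
    · rintro ⟨g, hg1', hg2'⟩
      have hg1 : g • min44 = min44 := hg1'
      have hg2 : g • min4n = min4n := hg2'
      have e : g • vec8 pinf = vec8 pinf := by
        have : vec8 pinf = min44 + min4n := by decide +kernel
        rw [this, co0_add, hg1, hg2]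
      obtain ⟨σ, hσ, c, hc, rfl⟩ := co0_monomial g fun v hv => co0_fix_std g e v hv
      have a := congrArg (fun v : leechLattice => (v : GolayPt → ℤ)) hg1
      have b := congrArg (fun v : leechLattice => (v : GolayPt → ℤ)) hg2
      simp only [monoCo0_smul] at a b
      have key : ∀ p, (p = pinf ∨ p = pz) → σ p = p ∧ σ p ∉ c := by
        intro p hp
        have a' := congrFun a (σ p)
        have b' := congrFun b (σ p)
        rw [signedPerm_apply] at a' b'
        simp only [min44_coe, min4n, Pi.add_apply, Pi.single_apply] at a' b'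
        rcases hp with rfl | rfl <;>
          simp only [pinf_ne_pz, pinf_ne_pz.symm, if_true, if_false] at a' b' <;>
          split_ifs at a' b' <;> simp_all
      obtain ⟨k1, k2⟩ := key pinf (Or.inl rfl)
      obtain ⟨k3, k4⟩ := key pz (Or.inr rfl)
      rw [k1] at k2
      rw [k3] at k4
      exact ⟨(⟨⟨σ, hσ⟩, k1, k3⟩, ⟨c, hc, k2, k4⟩), rfl⟩
  have hC : Nat.card C = 1024 := by
    rw [← ncard_code_avoid_two, ← Nat.card_coe_set_eq]; rfl
  obtain ⟨χ⟩ := stab2_equiv pinf_ne_pz
  rw [← Nat.card_eq_of_bijective Φ hΦ, Nat.card_prod, hC, Nat.card_congr χ.toEquiv, card_fix22]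

/-- A code word containing one point and missing two others. -/
theorem code_sep3 {p q r : GolayPt} (h1 : p ≠ q) (h2 : p ≠ r) (h3 : q ≠ r) :
    ∃ c ∈ supports (golayCode : Set (GolayPt → ZMod 2)), p ∉ c ∧ q ∉ c ∧ r ∈ c := by
  obtain ⟨g, g1, g2, g3⟩ := M24_three (show pt 23 ≠ pt 5 by decide +kernel)
    (show pt 23 ≠ pt 0 by decide +kernel) (show pt 5 ≠ pt 0 by decide +kernel) h1 h2 h3
  refine ⟨(g : Equiv.Perm GolayPt) • mset 5279, mem_M24_iff.1 g.2 _
    (mem_supports_iff.2 ⟨5279, by decide +kernel, rfl⟩), ?_, ?_, ?_⟩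
  · rw [← g1]
    intro h
    exact absurd ((Finset.smul_mem_smul_finset_iff (g : Equiv.Perm GolayPt)).1 h) (by decide +kernel)
  · rw [← g2]
    intro h
    exact absurd ((Finset.smul_mem_smul_finset_iff (g : Equiv.Perm GolayPt)).1 h) (by decide +kernel)
  · rw [← g3]
    exact Finset.smul_mem_smul_finset (show pt 0 ∈ mset 5279 by decide +kernel)

/-- A member of a normal 2-subgroup maps an orthogonal minimal vector to itself or its negative. -/
theorem two_group_pm {M : Subgroup (MulAction.stabilizer Co0 min44)} [M.Normal] (h2 : IsPGroup 2 M)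
    {g : MulAction.stabilizer Co0 min44} (hg : g ∈ M) {w : leechLattice}
    (hw : sqNorm (w : GolayPt → ℤ) = 32) (hd : dotInt (min44 : GolayPt → ℤ) w = 0) :
    (g : Co0) • w = w ∨ (g : Co0) • w = -w := by
  classical
  obtain ⟨t, t1, t2⟩ := co0_trans_orth (v := min44) (w := min4n) (w' := w) min44_norm
    (pair4_mem pinf_ne_pz (Or.inl rfl) (Or.inr rfl)).2 hw
    (by rw [dot_min44]; decide +kernel) hd
  let T : MulAction.stabilizer Co0 min44 := ⟨t, t1⟩
  suffices hmain : ∀ k ∈ M, (k : Co0) • min4n = min4n ∨ (k : Co0) • min4n = -min4n by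
    have hk := hmain _ ((inferInstance : M.Normal).conj_mem' g hg T)
    have e : ((T⁻¹ * g * T : MulAction.stabilizer Co0 min44) : Co0) = t⁻¹ * g * t := rfl
    rw [e, mul_smul, mul_smul, t2] at hk
    rcases hk with hk | hk
    · left
      rw [← t2] at hk ⊢
      exact inv_smul_eq_iff.1 hk
    · right
      rw [inv_smul_eq_iff, co0_neg, t2] at hk
      exact hk
  intro k hk
  let H : Subgroup (MulAction.stabilizer Co0 min44) :=
    MulAction.stabilizer (MulAction.stabilizer Co0 min44) min4n
  have hHc : Nat.card H = 443520 * 1024 := by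
    rw [← card_stab_orth_pair]
    exact Nat.card_congr
      { toFun := fun a => ⟨a.1.1, a.1.2, a.2⟩
        invFun := fun a => ⟨⟨a.1, a.2.1⟩, a.2.2⟩
        left_inv := fun _ => rfl
        right_inv := fun _ => rfl }
  have hidx : H.index = 93150 := by
    have h := H.card_mul_index
    rw [hHc, card_stab32 min44_norm] at h
    omega
  obtain ⟨n, hn⟩ := IsPGroup.iff_card.1 h2
  have hrel : H.relIndex M ∣ 2 := by
    have h1 : H.relIndex M ∣ 2 ^ n := hn ▸ Subgroup.relIndex_dvd_card _ _
    have h4 : H.relIndex M ∣ 93150 := by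
      rw [← hidx]
      have e1 := Subgroup.relIndex_mul_index (inf_le_left : H ⊓ M ≤ H)
      have e2 := Subgroup.relIndex_mul_index (inf_le_right : H ⊓ M ≤ M)
      rw [Subgroup.inf_relIndex_left] at e1
      rw [Subgroup.inf_relIndex_right] at e2
      have h5 : M.relIndex H ∣ M.index := Subgroup.relIndex_dvd_index_of_normal M H
      refine Nat.dvd_of_mul_dvd_mul_right (Nat.pos_of_ne_zero (M.index_ne_zero_of_finite)) ?_
      rw [e2, ← e1, mul_comm H.index]
      exact mul_dvd_mul_right h5 _
    obtain ⟨j, hj, e⟩ := (Nat.dvd_prime_pow Nat.prime_two).1 h1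
    rw [e] at h4 ⊢
    have : j ≤ 1 := by
      by_contra hlt
      have := (pow_dvd_pow 2 (show 2 ≤ j by omega)).trans h4
      norm_num at this
    calc 2 ^ j ∣ 2 ^ 1 := pow_dvd_pow 2 this
      _ = 2 := by norm_num
  by_cases hfix : (k : Co0) • min4n = min4n
  · exact Or.inl hfix
  right
  -- the image is fixed by the stabiliser of `min4n`
  have hinv : ∀ a ∈ H, (a : Co0) • (k : Co0) • min4n = (k : Co0) • min4n := by
    intro a ha
    let Mh : Subgroup M := H.subgroupOf M
    have hidx2 : Mh.index ∣ 2 := hrel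
    let k' : M := ⟨k, hk⟩
    let m' : M := ⟨a * k * a⁻¹, (inferInstance : M.Normal).conj_mem k hk a⟩
    have hkn : k' ∉ Mh := hfix
    have hmn : m' ∉ Mh := by
      intro hm
      apply hfix
      have hm' : a * k * a⁻¹ ∈ H := hm
      have : k ∈ H := by
        have := H.mul_mem (H.mul_mem (H.inv_mem ha) hm') ha
        simpa [mul_assoc] using this
      exact this
    have h2' : Mh.index = 2 := ((Nat.dvd_prime Nat.prime_two).1 hidx2).resolve_left fun h1 => by
      rw [Subgroup.index_eq_one] at h1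
      exact hkn (h1 ▸ Subgroup.mem_top _)
    have hprod : k'⁻¹ * m' ∈ Mh := by
      rw [Subgroup.mul_mem_iff_of_index_two h2', Subgroup.inv_mem_iff]
      exact iff_of_false hkn hmn
    have e : (k⁻¹ * (a * k * a⁻¹) : MulAction.stabilizer Co0 min44) • min4n = min4n := hprod
    have hai : (a⁻¹ : MulAction.stabilizer Co0 min44) • min4n = min4n :=
      inv_smul_eq_iff.2 (MulAction.mem_stabilizer_iff.1 ha).symm
    rw [mul_smul, mul_smul, mul_smul, hai, inv_smul_eq_iff] at e
    exact e
  set y : GolayPt → ℤ := (((k : Co0) • min4n : leechLattice) : GolayPt → ℤ) with hy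
  have hsupp : ∀ r, r ≠ pinf → r ≠ pz → y r = 0 := by
    intro r hr1 hr2
    obtain ⟨c, hc, c1, c2, c3⟩ := code_sep3 pinf_ne_pz (Ne.symm hr1) (Ne.symm hr2)
    have hs1 : sign0 c hc • min44 = min44 :=
      mono_fix_min44 1 (one_smul _ _) (one_smul _ _) hc c1 c2
    have hs2 : sign0 c hc • min4n = min4n := by
      refine Subtype.ext (funext fun i => ?_)
      rw [sign0, monoCo0_smul]
      simp only [signedPerm, OneMemClass.coe_one, Equiv.Perm.one_symm, Equiv.Perm.one_apply, min4n,
        Pi.add_apply, Pi.single_apply]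
      by_cases a : i = pinf
      · subst a; rw [if_neg c1]
      · by_cases b : i = pz
        · subst b; rw [if_neg c2]
        · simp [a, b]
    have := congrArg (fun v : leechLattice => (v : GolayPt → ℤ) r)
      (hinv ⟨sign0 c hc, hs1⟩ hs2)
    simp only [sign0, monoCo0_smul] at this
    simp only [signedPerm, OneMemClass.coe_one, Equiv.Perm.one_symm, Equiv.Perm.one_apply,
      if_pos c3, ← hy] at this
    omega
  have hd0 : 4 * y pinf + 4 * y pz = 0 := by
    rw [← dot_min44, hy]
    have := co0_dot (k : Co0) min44 min4n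
    rw [MulAction.mem_stabilizer_iff.1 k.2] at this
    rw [this, dot_min44]; decide +kernel
  have hn32 : y pinf ^ 2 + y pz ^ 2 = 32 := by
    have : sqNorm y = 32 := (co0_sq (k : Co0) min4n).trans
      (pair4_mem pinf_ne_pz (Or.inl rfl) (Or.inr rfl)).2
    rw [← this, sqNorm, ← Finset.sum_pair (f := fun i => y i ^ 2) pinf_ne_pz]
    refine Finset.sum_subset (Finset.subset_univ _) fun i _ hi => ?_
    simp only [Finset.mem_insert, Finset.mem_singleton, not_or] at hi
    rw [hsupp i hi.1 hi.2]; norm_num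
  have hy4 : y pinf = 4 ∨ y pinf = -4 := by
    have e : y pz = -y pinf := by omega
    rw [e] at hn32
    have : y pinf ^ 2 = 4 ^ 2 := by linarith
    exact sq_eq_sq_iff_eq_or_eq_neg.1 this
  rcases hy4 with e | e
  · refine absurd (Subtype.ext (funext fun i => ?_)) hfix
    show y i = _
    simp only [min4n, Pi.add_apply, Pi.single_apply]
    by_cases a : i = pinf
    · subst a; rw [if_pos rfl, if_neg pinf_ne_pz, e]; norm_num
    · by_cases b : i = pz
      · subst b; rw [if_neg a, if_pos rfl]; omega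
      · rw [hsupp i a b, if_neg a, if_neg b]; norm_num
  · refine Subtype.ext (funext fun i => ?_)
    show y i = _
    simp only [AddSubgroup.coe_neg, Pi.neg_apply, min4n, Pi.add_apply, Pi.single_apply]
    by_cases a : i = pinf
    · subst a; rw [if_pos rfl, if_neg pinf_ne_pz, e]; norm_num
    · by_cases b : i = pz
      · subst b; rw [if_neg a, if_pos rfl]; omega
      · rw [hsupp i a b, if_neg a, if_neg b]; norm_num

theorem exists_notMem_small {s : Finset GolayPt} (h : s.card < 24) : ∃ x, x ∉ s := by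
  by_contra hne
  push Not at hne
  rw [Finset.eq_univ_of_forall hne, Finset.card_univ] at h
  simp at h

/-- A normal 2-subgroup of the stabiliser of a minimal vector is trivial. -/
theorem two_group_trivial {M : Subgroup (MulAction.stabilizer Co0 min44)} [M.Normal]
    (h2 : IsPGroup 2 M) : M = ⊥ := by
  classical
  rw [eq_bot_iff]
  intro g hg
  rw [Subgroup.mem_bot]
  let u : GolayPt → GolayPt → ℤ → GolayPt → ℤ := fun k l t => Pi.single k 4 + Pi.single l t
  have hpm : ∀ k l t (hkl : k ≠ l) (ht : t = 4 ∨ t = -4), k ≠ pinf → k ≠ pz → l ≠ pinf → l ≠ pz →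
      ((g : Co0) • (⟨u k l t, (pair4_mem hkl (Or.inl rfl) ht).1⟩ : leechLattice) =
          ⟨u k l t, (pair4_mem hkl (Or.inl rfl) ht).1⟩) ∨
        ((g : Co0) • (⟨u k l t, (pair4_mem hkl (Or.inl rfl) ht).1⟩ : leechLattice) =
          -⟨u k l t, (pair4_mem hkl (Or.inl rfl) ht).1⟩) := by
    intro k l t hkl ht k1 k2 l1 l2
    refine two_group_pm h2 hg (pair4_mem hkl (Or.inl rfl) ht).2 ?_
    rw [dot_min44]
    simp [u, Ne.symm k1, Ne.symm k2, Ne.symm l1, Ne.symm l2]
  -- every vector `8 e_k` off the marked points goes to itself or its negative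
  have h8 : ∀ k, k ≠ pinf → k ≠ pz →
      (g : Co0) • vec8 k = vec8 k ∨ (g : Co0) • vec8 k = -vec8 k := by
    intro k k1 k2
    obtain ⟨l, hl⟩ : ∃ l, l ∉ ({pinf, pz, k} : Finset GolayPt) := by
      apply exists_notMem_small
      exact lt_of_le_of_lt Finset.card_le_three (by norm_num)
    obtain ⟨m, hm⟩ : ∃ m, m ∉ ({pinf, pz, k, l} : Finset GolayPt) := by
      apply exists_notMem_small
      exact lt_of_le_of_lt Finset.card_le_four (by norm_num)
    simp only [Finset.mem_insert, Finset.mem_singleton, not_or] at hl hm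
    have hkl : k ≠ l := fun e => hl.2.2 e.symm
    have hkm : k ≠ m := fun e => hm.2.2.1 e.symm
    have hlm : l ≠ m := fun e => hm.2.2.2 e.symm
    let A : leechLattice := ⟨u k l 4, (pair4_mem hkl (Or.inl rfl) (Or.inl rfl)).1⟩
    let B : leechLattice := ⟨u k l (-4), (pair4_mem hkl (Or.inl rfl) (Or.inr rfl)).1⟩
    let C : leechLattice := ⟨u k m 4, (pair4_mem hkm (Or.inl rfl) (Or.inl rfl)).1⟩
    have hA : (g : Co0) • A = A ∨ (g : Co0) • A = -A :=
      hpm k l 4 hkl (Or.inl rfl) k1 k2 hl.1 hl.2.1
    have hB : (g : Co0) • B = B ∨ (g : Co0) • B = -B :=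
      hpm k l (-4) hkl (Or.inr rfl) k1 k2 hl.1 hl.2.1
    have hC : (g : Co0) • C = C ∨ (g : Co0) • C = -C :=
      hpm k m 4 hkm (Or.inl rfl) k1 k2 hm.1 hm.2.1
    have dneg : ∀ (p q : GolayPt → ℤ), dotInt (-p) q = -dotInt p q := fun p q => by
      simp [dotInt, Finset.sum_neg_distrib]
    have dAC : dotInt (A : GolayPt → ℤ) (C : GolayPt → ℤ) = 16 := by
      show dotInt (u k l 4) (Pi.single k 4 + Pi.single m 4) = 16
      rw [dotInt_pair]; simp [u, hkl, hkm.symm, hlm.symm]
    have dBC : dotInt (B : GolayPt → ℤ) (C : GolayPt → ℤ) = 16 := by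
      show dotInt (u k l (-4)) (Pi.single k 4 + Pi.single m 4) = 16
      rw [dotInt_pair]; simp [u, hkl, hkm.symm, hlm.symm]
    have eAC := co0_dot (g : Co0) A C
    have eBC := co0_dot (g : Co0) B C
    have e8 : vec8 k = A + B := by
      refine Subtype.ext (funext fun i => ?_)
      simp only [AddSubgroup.coe_add, Pi.add_apply, A, B, u, vec8, Pi.single_apply]
      split_ifs <;> norm_num
    have dnegr : ∀ (p q : GolayPt → ℤ), dotInt p (-q) = -dotInt p q := fun p q => by
      simp [dotInt, Finset.sum_neg_distrib]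
    rcases hC with hC | hC <;> rcases hA with hA | hA <;> rcases hB with hB | hB <;>
      rw [hA, hC] at eAC <;> rw [hB, hC] at eBC <;>
      simp only [AddSubgroup.coe_neg, dneg, dnegr, dAC, dBC, neg_neg] at eAC eBC <;>
      first
        | omega
        | (rw [e8, co0_add, hA, hB]; first | exact Or.inl rfl | (right; abel))
  obtain ⟨k, hk⟩ : ∃ k, k ∉ ({pinf, pz} : Finset GolayPt) := by
    apply exists_notMem_small
    exact lt_of_le_of_lt Finset.card_le_two (by norm_num)
  simp only [Finset.mem_insert, Finset.mem_singleton, not_or] at hk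
  have hN : (g : Co0) ∈ N0 := by
    show leechR.cls ((g : Co0) • vec8 pinf) = leechR.cls (vec8 pinf)
    have := co0_cls (g : Co0) (vec8_cls pinf k)
    rw [this]
    rcases h8 k hk.1 hk.2 with e | e <;> rw [e]
    · exact vec8_cls k pinf
    · rw [leechR.cls_neg]; exact vec8_cls k pinf
  obtain ⟨σ, c, hc, e⟩ := N0_rep hN
  have hσ : ∀ r, r ≠ pinf → r ≠ pz → σ • r = r := by
    intro r r1 r2
    by_contra hne
    have h := h8 r r1 r2
    rw [e] at h
    rcases h with h | h <;>
      · have h' := congrArg (fun v : leechLattice => (v : GolayPt → ℤ) ((σ : Equiv.Perm GolayPt) r)) h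
        simp only [monoCo0_smul, signedPerm_apply, AddSubgroup.coe_neg, Pi.neg_apply, vec8,
          Pi.single_eq_same] at h'
        rw [Pi.single_eq_of_ne (show (σ : Equiv.Perm GolayPt) r ≠ r from hne)] at h'
        split_ifs at h' <;> omega
  have hσ1 : σ = 1 := by
    have hp : σ • pinf = pinf := by
      by_contra hne
      have hpz : σ • pinf = pz := by
        by_contra h2'
        have := hσ _ hne h2'
        exact hne (smul_left_cancel σ this)
      obtain ⟨o, ho, ho1, ho2⟩ : ∃ o ∈ octads, pinf ∈ o ∧ pz ∉ o := by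
        have h : octList.any (fun m => Nat.testBit m 23 && !Nat.testBit m 0) = true := by decide +kernel
        obtain ⟨m, hm, e⟩ := List.any_eq_true.1 h
        rw [Bool.and_eq_true, Bool.not_eq_true'] at e
        refine ⟨mset m, mem_octads_iff.2 ⟨m, hm, rfl⟩, ?_, ?_⟩
        · rw [mem_mset, show idx pinf = 23 by decide +kernel]; exact e.1
        · rw [mem_mset, show idx pz = 0 by decide +kernel, e.2]; simp
      have hsub : o.erase pinf ⊆ σ • o ∩ o := by
        intro r hr
        rw [Finset.mem_erase] at hr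
        refine Finset.mem_inter.2 ⟨?_, hr.2⟩
        rw [← hσ r hr.1 fun h => ho2 (h ▸ hr.2)]
        exact Finset.smul_mem_smul_finset hr.2
      have h5 := Finset.card_le_card hsub
      rw [Finset.card_erase_of_mem ho1, ho.2] at h5
      have := octads_eq_of_five (M24_smul_octad σ.2 ho) ho (by exact le_trans (by norm_num) h5)
      apply ho2
      rw [← this, ← hpz]
      exact Finset.smul_mem_smul_finset (s := o) (a := σ) ho1
    have hpz : σ • pz = pz := by
      by_contra hne
      by_cases h : σ • pz = pinf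
      · exact pinf_ne_pz (smul_left_cancel σ (hp.trans h.symm))
      · exact hne (smul_left_cancel σ (hσ _ h hne))
    refine Subtype.ext (Equiv.ext fun r => ?_)
    by_cases a : r = pinf
    · subst a; exact hp
    by_cases b : r = pz
    · subst b; exact hpz
    exact hσ r a b
  subst hσ1
  have hval : ∀ i, (((g : Co0) • min44 : leechLattice) : GolayPt → ℤ) i = (min44 : GolayPt → ℤ) i :=
    fun i => by rw [MulAction.mem_stabilizer_iff.1 g.2]
  rw [e] at hval
  simp only [monoCo0_smul, signedPerm, OneMemClass.coe_one, Equiv.Perm.one_symm,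
    Equiv.Perm.one_apply] at hval
  have c1 : pinf ∉ c := fun h => by
    have := hval pinf
    rw [if_pos h, min44_coe] at this
    simp [pinf_ne_pz] at this
  have c2 : pz ∉ c := fun h => by
    have := hval pz
    rw [if_pos h, min44_coe] at this
    simp [pinf_ne_pz.symm] at this
  have hpair : ∀ k l, k ≠ pinf → k ≠ pz → l ≠ pinf → l ≠ pz → k ∈ c → l ∈ c := by
    intro k l k1 k2 l1 l2 hkc
    by_cases hkl : k = l
    · exact hkl ▸ hkc
    by_contra hlc
    rcases hpm k l 4 hkl (Or.inl rfl) k1 k2 l1 l2 with h | h <;> rw [e] at h <;>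
      · have hk' := congrArg (fun v : leechLattice => (v : GolayPt → ℤ) k) h
        have hl' := congrArg (fun v : leechLattice => (v : GolayPt → ℤ) l) h
        simp only [monoCo0_smul, signedPerm, OneMemClass.coe_one, Equiv.Perm.one_symm,
          Equiv.Perm.one_apply, AddSubgroup.coe_neg, Pi.neg_apply, u, Pi.add_apply, Pi.single_apply,
          if_pos hkc, if_neg hlc, if_neg hkl, if_neg (Ne.symm hkl), if_true] at hk' hl'
        omega
  have hc0 : c = ∅ := by
    rcases c.eq_empty_or_nonempty with h | ⟨k, hkc⟩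
    · exact h
    exfalso
    have k1 : k ≠ pinf := fun h => c1 (h ▸ hkc)
    have k2 : k ≠ pz := fun h => c2 (h ▸ hkc)
    have : c = Finset.univ \ {pinf, pz} := by
      ext l
      simp only [Finset.mem_sdiff, Finset.mem_univ, true_and, Finset.mem_insert,
        Finset.mem_singleton, not_or]
      exact ⟨fun h => ⟨fun a => c1 (a ▸ h), fun a => c2 (a ▸ h)⟩,
        fun h => hpair k l k1 k2 h.1 h.2 hkc⟩
    have hcard := supports_card hc
    rw [this, Finset.card_sdiff_of_subset (Finset.subset_univ _), Finset.card_pair pinf_ne_pz] at hcard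
    simp at hcard
  subst hc0
  refine Subtype.ext ?_
  rw [e]
  refine co0_ext fun v => Subtype.ext ?_
  show ((monoCo0 _ _ _ _ • v : leechLattice) : GolayPt → ℤ) =
    (((1 : Co0) • v : leechLattice) : GolayPt → ℤ)
  rw [monoCo0_smul, one_smul]
  funext i
  simp [signedPerm, Equiv.Perm.one_symm]

theorem x31_mem : (fun i => if i = pinf then (-3 : ℤ) else 1) ∈ leechLattice := by
  rw [odd_mem_iff (fun i => by split_ifs <;> norm_num)]
  refine ⟨?_, by decide +kernel⟩
  have e : (Finset.univ.filter fun i : GolayPt => (if i = pinf then (-3 : ℤ) else 1) % 4 = 3) = ∅ :=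
    Finset.filter_eq_empty_iff.2 fun i _ => by split_ifs <;> norm_num
  rw [e]; exact empty_code

/-- The minimal vector `(-3, 1, …, 1)`. -/
def x31 : leechLattice := ⟨_, x31_mem⟩

theorem x31_norm : sqNorm (x31 : GolayPt → ℤ) = 32 := by decide +kernel

theorem x31_pointed : IsPointed x31 :=
  ⟨by simp [x31], fun i hi => by simp [x31, hi]⟩

/-- `Co2` is simple. -/
theorem isSimple_stab32 {v : leechLattice} (hv : sqNorm (v : GolayPt → ℤ) = 32) :
    IsSimpleGroup (MulAction.stabilizer Co0 v) := by
  obtain ⟨g, hg⟩ := co0_trans32 hv x31_norm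
  obtain ⟨e⟩ := conj_stab_equiv g hg
  suffices h : IsSimpleGroup (MulAction.stabilizer Co0 x31) from
    haveI := h
    e.isSimpleGroup
  have hc := card_stab32 x31_norm
  haveI : Nontrivial (MulAction.stabilizer Co0 x31) :=
    Finite.one_lt_card_iff_nontrivial.1 (by rw [hc]; norm_num)
  constructor
  intro M hM
  by_cases h23 : 23 ∣ Nat.card M
  · exact Or.inr (stab_big x31_pointed h23)
  left
  have h2 : IsPGroup 2 M := by
    rw [IsPGroup.iff_card]
    refine ⟨_, Nat.eq_prime_pow_of_unique_prime_dvd Nat.card_pos.ne' fun {p} hp hpd => ?_⟩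
    by_contra hp2
    refine stab_prime_free x31_pointed (by rw [hc]; norm_num) h23 hp ?_ hpd
    intro a b ha hb hmod
    rw [hc] at ha
    exact pow_mod_23 hp hp2 (fun e => h23 (e ▸ hpd)) (ha.trans ⟨196560, by norm_num⟩) hb hmod
  obtain ⟨g', hg'⟩ := co0_trans32 x31_norm min44_norm
  obtain ⟨f⟩ := conj_stab_equiv g' hg'
  haveI : (M.map f.toMonoidHom).Normal := hM.map _ f.surjective
  have := two_group_trivial (M := M.map f.toMonoidHom) (h2.map _)
  exact (Subgroup.map_eq_bot_iff_of_injective M f.injective).1 this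

end CfsgLib.Golay
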