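import Cfsg.Agent.Lib.Golay.LeechCases
import Cfsg.Agent.Lib.Golay.Co0Co2

/-! Numbers of minimal vectors by their product with a given short vector. -/

set_option autoImplicit false
set_option maxRecDepth 100000

namespace CfsgLib.Golay

open Cfsg
open scoped Pointwise

theorem dot_pointed {x : leechLattice} (hx : IsPointed x) (w : GolayPt → ℤ) :
    dotInt (x : GolayPt → ℤ) w = (∑ i, w i) + ((x : GolayPt → ℤ) pinf - 1) * w pinf := by
  have e : ∀ i, (x : GolayPt → ℤ) i * w i =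
      w i + if i = pinf then ((x : GolayPt → ℤ) pinf - 1) * w pinf else 0 := fun i => by
    by_cases h : i = pinf
    · subst h; rw [if_pos rfl]; ring
    · rw [if_neg h, hx.off i h]; ring
  rw [dotInt, Finset.sum_congr rfl fun i _ => e i, Finset.sum_add_distrib, Finset.sum_ite_eq',
    if_pos (Finset.mem_univ _)]

theorem ncard_shell_dot_smul (g : Co0) (x : leechLattice) (N d : ℤ) :
    {w : leechLattice | sqNorm (w : GolayPt → ℤ) = N ∧
        dotInt ((g • x : leechLattice) : GolayPt → ℤ) w = d}.ncard =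
      {w : leechLattice | sqNorm (w : GolayPt → ℤ) = N ∧ dotInt (x : GolayPt → ℤ) w = d}.ncard := by
  rw [← Set.ncard_image_of_injective {w : leechLattice |
    sqNorm (w : GolayPt → ℤ) = N ∧ dotInt (x : GolayPt → ℤ) w = d} (MulAction.injective g)]
  refine congrArg Set.ncard (Set.ext fun w => ⟨fun h => ⟨g⁻¹ • w, ⟨?_, ?_⟩, smul_inv_smul g w⟩, ?_⟩)
  · rw [co0_sq]; exact h.1
  · rw [← co0_dot g x, smul_inv_smul]; exact h.2
  · rintro ⟨u, ⟨h1, h2⟩, rfl⟩
    exact ⟨(co0_sq g u).trans h1, (co0_dot g x u).trans h2⟩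

theorem ncard_pointed_dot {x : leechLattice} (hx : IsPointed x) {a : ℤ}
    (ha : (x : GolayPt → ℤ) pinf = a) (d : ℤ) :
    {w : leechLattice | sqNorm (w : GolayPt → ℤ) = 32 ∧ dotInt (x : GolayPt → ℤ) w = d}.ncard =
      cntDot a d 8 := by
  rw [← ncard_dot a d 8 (by norm_num),
    ncard_subtype_leech fun w => sqNorm w = 32 ∧ dotInt (x : GolayPt → ℤ) w = d]
  refine congrArg Set.ncard (Set.ext fun w => ?_)
  simp only [Set.mem_setOf_eq, dot_pointed hx, ha]
  norm_num

/-- The three census numbers at a minimal vector. -/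
theorem census32 {v : leechLattice} (hv : sqNorm (v : GolayPt → ℤ) = 32) :
    {w : leechLattice | sqNorm (w : GolayPt → ℤ) = 32 ∧ dotInt (v : GolayPt → ℤ) w = -16}.ncard = 4600 ∧
    {w : leechLattice | sqNorm (w : GolayPt → ℤ) = 32 ∧ dotInt (v : GolayPt → ℤ) w = -8}.ncard = 47104 ∧
    {w : leechLattice | sqNorm (w : GolayPt → ℤ) = 32 ∧ dotInt (v : GolayPt → ℤ) w = 0}.ncard = 93150 := by
  obtain ⟨g, hg⟩ := co0_trans32 x31_norm hv
  have ha : (x31 : GolayPt → ℤ) pinf = -3 := by simp [x31]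
  obtain ⟨c1, c2, c3, -, -⟩ := cntDot_values
  exact ⟨by rw [← hg, ncard_shell_dot_smul, ncard_pointed_dot x31_pointed ha, c1],
    by rw [← hg, ncard_shell_dot_smul, ncard_pointed_dot x31_pointed ha, c2],
    by rw [← hg, ncard_shell_dot_smul, ncard_pointed_dot x31_pointed ha, c3]⟩

/-- The two census numbers at a vector of sum of squares 48. -/
theorem census48 {u : leechLattice} (hu : sqNorm (u : GolayPt → ℤ) = 48) :
    {w : leechLattice | sqNorm (w : GolayPt → ℤ) = 32 ∧ dotInt (u : GolayPt → ℤ) w = 24}.ncard = 552 ∧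
    {w : leechLattice | sqNorm (w : GolayPt → ℤ) = 32 ∧ dotInt (u : GolayPt → ℤ) w = -16}.ncard = 11178 := by
  obtain ⟨g, hg⟩ := co0_trans48 fiveV_norm hu
  have ha : (fiveV : GolayPt → ℤ) pinf = 5 := by simp [fiveV, five]
  obtain ⟨-, -, -, c4, c5⟩ := cntDot_values
  exact ⟨by rw [← hg, ncard_shell_dot_smul, ncard_pointed_dot fiveV_pointed ha, c4],
    by rw [← hg, ncard_shell_dot_smul, ncard_pointed_dot fiveV_pointed ha, c5]⟩

theorem dot_of_diff {u x : leechLattice} (hu : sqNorm (u : GolayPt → ℤ) = 48)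
    (hx : sqNorm (x : GolayPt → ℤ) = 32) :
    sqNorm ((u - x) : GolayPt → ℤ) = 32 ↔ dotInt (u : GolayPt → ℤ) x = 24 := by
  have e := sqNorm_add ((u - x) : GolayPt → ℤ) (x : GolayPt → ℤ)
  have e2 := dotInt_add_left ((u - x) : GolayPt → ℤ) (x : GolayPt → ℤ) (x : GolayPt → ℤ)
  rw [sub_add_cancel] at e e2
  rw [dotInt_self, hx] at e2
  rw [hu, hx] at e
  constructor <;> intro h <;> omega

end CfsgLib.Golay
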