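import Cfsg.Agent.Lib.Golay.Co0Simple
import Cfsg.Agent.Lib.Golay.Stab

/-! Stabilisers of vectors fixed by the monomial subgroup fixing a point. -/

set_option autoImplicit false
set_option maxRecDepth 100000

namespace CfsgLib.Golay

open Cfsg
open scoped Pointwise

theorem pinf_none : pinf = none := by decide +kernel

/-- A vector with one entry of absolute value at least 2 and the others 1. -/
structure IsPointed (x : leechLattice) : Prop where
  at_inf : (x : GolayPt → ℤ) pinf ≠ 1 ∧ (x : GolayPt → ℤ) pinf ≠ -1 ∧ (x : GolayPt → ℤ) pinf ≠ 0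
  off : ∀ i, i ≠ pinf → (x : GolayPt → ℤ) i = 1

theorem isSimple_stab_pinf : IsSimpleGroup (MulAction.stabilizer M24 pinf) := by
  obtain ⟨e⟩ := stab1_equiv pinf
  haveI := isSimple_fix23
  exact e.isSimpleGroup

theorem card_stab_pinf : Nat.card (MulAction.stabilizer M24 pinf) = 10200960 := by
  obtain ⟨e⟩ := stab1_equiv pinf
  rw [Nat.card_congr e.toEquiv, card_fix23]

section Pointed

variable {x : leechLattice} (hx : IsPointed x)
include hx

theorem mono_mem_stab {σ : M24} (h : σ • pinf = pinf) :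
    monoCo0 σ σ.2 ∅ empty_code ∈ MulAction.stabilizer Co0 x := by
  rw [MulAction.mem_stabilizer_iff]
  refine Subtype.ext (funext fun i => ?_)
  rw [monoCo0_smul]
  obtain ⟨i, rfl⟩ := (σ : Equiv.Perm GolayPt).surjective i
  have e : (σ : Equiv.Perm GolayPt) i = pinf ↔ i = pinf :=
    ⟨fun h' => (σ : Equiv.Perm GolayPt).injective (h'.trans h.symm), fun h' => h' ▸ h⟩
  simp only [signedPerm, Finset.notMem_empty, if_false, Equiv.symm_apply_apply]
  by_cases a : i = pinf
  · rw [a, show (σ : Equiv.Perm GolayPt) pinf = pinf from h]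
  · rw [hx.off i a, hx.off _ fun h' => a (e.1 h')]

/-- The monomial elements fixing the vector. -/
noncomputable def pointedHom :
    MulAction.stabilizer M24 pinf →* MulAction.stabilizer Co0 x :=
  MonoidHom.mk' (fun σ => ⟨monoCo0 σ.1 σ.1.2 ∅ empty_code, mono_mem_stab hx σ.2⟩) fun σ τ => by
    refine Subtype.ext ?_
    show _ = monoCo0 σ.1 σ.1.2 ∅ empty_code * monoCo0 τ.1 τ.1.2 ∅ empty_code
    rw [monoCo0_mul]
    exact monoCo0_congr (hc := empty_code) rfl (by simp)

theorem pointedHom_injective : Function.Injective (pointedHom hx) := fun σ τ h =>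
  Subtype.ext (Subtype.ext (monoCo0_inj (hσ := σ.1.2) (hτ := τ.1.2) (hc := empty_code) (hd := empty_code) (congrArg Subtype.val h)).1)

theorem mem_range_pointedHom {g : MulAction.stabilizer Co0 x} (hg : (g : Co0) ∈ N0) :
    g ∈ (pointedHom hx).range := by
  classical
  obtain ⟨σ, c, hc, e⟩ := N0_rep hg
  have hfix : ∀ i, ((g : Co0) • x : leechLattice).1 i = x.1 i := fun i => by
    rw [MulAction.mem_stabilizer_iff.1 g.2]
  rw [e] at hfix
  simp only [monoCo0_smul] at hfix
  have hσ : σ • pinf = pinf := by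
    by_contra hne
    have h := hfix ((σ : Equiv.Perm GolayPt) pinf)
    rw [signedPerm_apply', hx.off _ (show (σ : Equiv.Perm GolayPt) pinf ≠ pinf from hne)] at h
    obtain ⟨h1, h2, -⟩ := hx.at_inf
    split_ifs at h <;> omega
  have hc0 : c = ∅ := by
    refine Finset.eq_empty_of_forall_notMem fun j hj => ?_
    obtain ⟨i, rfl⟩ := (σ : Equiv.Perm GolayPt).surjective j
    have h := hfix ((σ : Equiv.Perm GolayPt) i)
    rw [signedPerm_apply', if_pos hj] at h
    by_cases a : i = pinf
    · subst a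
      rw [show (σ : Equiv.Perm GolayPt) pinf = pinf from hσ] at h
      have := hx.at_inf.2.2
      omega
    · rw [hx.off i a, hx.off _ fun h' => a ((σ : Equiv.Perm GolayPt).injective (h'.trans hσ.symm))] at h
      omega
  subst hc0
  exact ⟨⟨σ, hσ⟩, Subtype.ext e.symm⟩
where
  signedPerm_apply' {σ : Equiv.Perm GolayPt} {c : Finset GolayPt} {y : GolayPt → ℤ} {i : GolayPt} :
      signedPerm σ c y (σ i) = if σ i ∈ c then -y i else y i := by
    simp [signedPerm]

/-- The translation as a member of the stabiliser. -/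
noncomputable def g23' : MulAction.stabilizer Co0 x :=
  pointedHom hx ⟨shiftM24, by rw [MulAction.mem_stabilizer_iff, pinf_none]; exact shift_none⟩

theorem orderOf_g23' : orderOf (g23' hx) = 23 := by
  rw [← Subgroup.orderOf_coe]
  exact orderOf_g23

theorem exists_sylow23 {n : MulAction.stabilizer Co0 x} (hn : orderOf n = 23) :
    ∃ S : Sylow 23 (MulAction.stabilizer Co0 x),
      (S : Subgroup (MulAction.stabilizer Co0 x)) = Subgroup.zpowers n := by
  haveI : Fact (Nat.Prime 23) := ⟨by norm_num⟩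
  have h1 : 1 ≤ (Nat.card (MulAction.stabilizer Co0 x)).factorization 23 := by
    rw [← Nat.Prime.pow_dvd_iff_le_factorization (by norm_num) Nat.card_pos.ne', pow_one, ← hn]
    exact orderOf_dvd_natCard n
  have h2 : (Nat.card (MulAction.stabilizer Co0 x)).factorization 23 ≤ 1 := by
    by_contra hne
    have h := (Nat.Prime.pow_dvd_iff_le_factorization (p := 23) (k := 2) (by norm_num)
      Nat.card_pos.ne').2 (by omega : 2 ≤ (Nat.card (MulAction.stabilizer Co0 x)).factorization 23)
    have h' := h.trans (Subgroup.card_subgroup_dvd_card _)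
    rw [card_Co0] at h'
    norm_num at h'
  refine ⟨Sylow.ofCard (Subgroup.zpowers n) ?_, rfl⟩
  rw [Nat.card_zpowers, hn, show (Nat.card (MulAction.stabilizer Co0 x)).factorization 23 = 1 by omega]
  norm_num

theorem commute_g23'_order {q : MulAction.stabilizer Co0 x} (hq : Commute q (g23' hx)) :
    orderOf q ∣ 23 := by
  have hqN : (q : Co0) ∈ N0 := by
    refine g23_fixed_class (x := (q : Co0) • vec8 pinf) (by rw [co0_q, vec8_q]) ?_
    rw [classStab_conj]
    have : (q : Co0)⁻¹ * g23 * (q : Co0) = g23 := by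
      have h : (q : Co0) * g23 = g23 * (q : Co0) := congrArg Subtype.val hq.eq
      rw [mul_assoc, ← h, inv_mul_cancel_left]
    rw [this]; exact g23_mem_N0
  obtain ⟨σ, rfl⟩ := mem_range_pointedHom hx hqN
  have hc : Commute σ ⟨shiftM24, by rw [MulAction.mem_stabilizer_iff, pinf_none]; exact shift_none⟩ :=
    pointedHom_injective hx (by rw [map_mul, map_mul]; exact hq.eq)
  set p : Equiv.Perm GolayPt := ((σ.1 : M24) : Equiv.Perm GolayPt)
  have hp0 : p none = none := by
    have h : p pinf = pinf := σ.2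
    rwa [pinf_none] at h
  obtain ⟨k, hk⟩ : ∃ k, p (some 0) = some k := by
    rcases h : p (some 0) with _ | k
    · exact absurd (p.injective (h.trans hp0.symm)) (by simp)
    · exact ⟨k, rfl⟩
  have hstep : ∀ i, p ((shiftM24 : Equiv.Perm GolayPt) i) = (shiftM24 : Equiv.Perm GolayPt) (p i) :=
    fun i => Equiv.Perm.ext_iff.1 (congrArg (fun s : MulAction.stabilizer M24 pinf =>
      ((s.1 : M24) : Equiv.Perm GolayPt)) hc.eq) i
  have hall : ∀ n : ℕ, p (some (n : ZMod 23)) = some ((n : ZMod 23) + k) := by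
    intro n
    induction n with
    | zero => simpa using hk
    | succ n ih =>
      have := hstep (some (n : ZMod 23))
      rw [shift_some, ih, shift_some] at this
      push_cast
      rw [this]; congr 1; ring
  have hσ : σ = ⟨shiftM24, by rw [MulAction.mem_stabilizer_iff, pinf_none]; exact shift_none⟩ ^ k.val := by
    refine Subtype.ext (Subtype.ext (Equiv.ext fun i => ?_))
    show p i = _
    rw [SubmonoidClass.coe_pow, SubmonoidClass.coe_pow]
    rcases i with _ | z
    · rw [hp0]
      exact (Equiv.Perm.pow_apply_eq_self_of_apply_eq_self shift_none _).symm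
    · rw [← ZMod.natCast_zmod_val z, hall]
      have : ∀ m : ℕ, ((shiftM24 : Equiv.Perm GolayPt) ^ m) (some (z.val : ZMod 23)) =
          some ((z.val : ZMod 23) + m) := fun m => by
        induction m with
        | zero => simp
        | succ m ih => rw [pow_succ', Equiv.Perm.mul_apply, ih, shift_some]; push_cast; congr 1; ring
      rw [this, ZMod.natCast_zmod_val k]
  rw [hσ, map_pow]
  exact (orderOf_pow_dvd _).trans (orderOf_g23' hx).dvd

/-- Primes of a normal subgroup prime to 23. -/
theorem stab_prime_free {M : Subgroup (MulAction.stabilizer Co0 x)} [M.Normal]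
    (hG : 23 ∣ Nat.card (MulAction.stabilizer Co0 x))
    (h23 : ¬ 23 ∣ Nat.card M) {p : ℕ} (hp : p.Prime)
    (hexp : ∀ a b : ℕ, p ^ a ∣ Nat.card (MulAction.stabilizer Co0 x) → b ≤ a →
      p ^ a ≡ p ^ b [MOD 23] → a = b) : ¬ p ∣ Nat.card M := by
  classical
  intro hpd
  haveI : Fact (Nat.Prime 23) := ⟨by norm_num⟩
  haveI : Fact p.Prime := ⟨hp⟩
  obtain ⟨Q⟩ : Nonempty (Sylow p M) := inferInstance
  let Q' : Subgroup (MulAction.stabilizer Co0 x) := (Q : Subgroup M).map M.subtype
  have hQM : Q' ≤ M := Subgroup.map_subtype_le _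
  have hsup : Subgroup.normalizer (Q' : Set (MulAction.stabilizer Co0 x)) ⊔ M = ⊤ :=
    Sylow.normalizer_sup_eq_top Q
  have hN23 : 23 ∣ Nat.card (Subgroup.normalizer (Q' : Set (MulAction.stabilizer Co0 x))) := by
    have h1 : 23 ∣ M.index := by
      have hd : 23 ∣ Nat.card M * M.index := by rw [M.card_mul_index]; exact hG
      exact ((Nat.Prime.dvd_mul (by norm_num)).1 hd).resolve_left h23
    have h2 : M.relIndex (Subgroup.normalizer (Q' : Set (MulAction.stabilizer Co0 x))) = M.index := by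
      rw [← Subgroup.relIndex_sup_right, hsup, Subgroup.relIndex_top_right]
    exact h1.trans (h2 ▸ Subgroup.relIndex_dvd_card _ _)
  obtain ⟨n, hn⟩ := exists_prime_orderOf_dvd_card' 23 hN23
  let P : Subgroup (MulAction.stabilizer Co0 x) := Subgroup.zpowers n.1
  have hn' : orderOf n.1 = 23 := by rw [Subgroup.orderOf_coe, hn]
  have hPc : Nat.card P = 23 := by rw [Nat.card_zpowers, hn']
  have hPN : P ≤ Subgroup.normalizer (Q' : Set (MulAction.stabilizer Co0 x)) :=
    Subgroup.zpowers_le.2 n.2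
  letI : MulAction P Q' :=
    { smul := fun g q => ⟨g.1 * q.1 * g.1⁻¹, (Subgroup.mem_normalizer_iff.1 (hPN g.2) q).1 q.2⟩
      one_smul := fun q => Subtype.ext
        (by show (1 : MulAction.stabilizer Co0 x) * q.1 * (1 : MulAction.stabilizer Co0 x)⁻¹ = _
            rw [one_mul, inv_one, mul_one])
      mul_smul := fun g k q => Subtype.ext (by
        show g.1 * k.1 * q.1 * (g.1 * k.1)⁻¹ = g.1 * (k.1 * q.1 * k.1⁻¹) * g.1⁻¹
        group) }
  have hP23 : IsPGroup 23 P := IsPGroup.of_card (n := 1) (by rw [hPc]; rfl)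
  have hmod := hP23.card_modEq_card_fixedPoints Q'
  let Fix : Subgroup Q' :=
    { carrier := MulAction.fixedPoints P Q'
      one_mem' := fun g => Subtype.ext (by show g.1 * 1 * g.1⁻¹ = 1; group)
      mul_mem' := fun {a b} ha hb g => Subtype.ext (by
        have h1 : g.1 * a.1 * g.1⁻¹ = a.1 := congrArg Subtype.val (ha g)
        have h2 : g.1 * b.1 * g.1⁻¹ = b.1 := congrArg Subtype.val (hb g)
        show g.1 * (a.1 * b.1) * g.1⁻¹ = a.1 * b.1
        calc _ = (g.1 * a.1 * g.1⁻¹) * (g.1 * b.1 * g.1⁻¹) := by group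
          _ = _ := by rw [h1, h2])
      inv_mem' := fun {a} ha g => Subtype.ext (by
        have h1 : g.1 * a.1 * g.1⁻¹ = a.1 := congrArg Subtype.val (ha g)
        show g.1 * a.1⁻¹ * g.1⁻¹ = a.1⁻¹
        calc _ = (g.1 * a.1 * g.1⁻¹)⁻¹ := by group
          _ = _ := by rw [h1]) }
  have hQ' : Nat.card Q' = Nat.card Q :=
    Nat.card_congr (Subgroup.equivMapOfInjective _ _ Subtype.val_injective).symm.toEquiv
  obtain ⟨a, ha⟩ := IsPGroup.iff_card.1 Q.isPGroup'
  obtain ⟨b, hb, hb'⟩ := (Nat.dvd_prime_pow hp).1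
    ((Subgroup.card_subgroup_dvd_card Fix).trans (hQ'.trans ha).dvd)
  have hfix : Nat.card (MulAction.fixedPoints P Q') = Nat.card Fix := rfl
  rw [hfix, hQ', ha, hb'] at hmod
  have hpow : p ^ a ∣ Nat.card (MulAction.stabilizer Co0 x) := by
    rw [← ha, ← hQ']; exact Subgroup.card_subgroup_dvd_card Q'
  have hab := hexp a b hpow hb hmod
  have htop : Fix = ⊤ := Subgroup.eq_top_of_card_eq Fix (by rw [hb', hQ', ha, hab])
  have hne1 : a ≠ 0 := by
    intro h0
    have := Sylow.dvd_card_of_dvd_card Q hpd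
    rw [ha, h0] at this
    exact hp.ne_one (Nat.dvd_one.1 this)
  obtain ⟨q, hq⟩ := exists_prime_orderOf_dvd_card' (G := Q') p
    (by rw [hQ', ha]; exact dvd_pow_self p hne1)
  have hcomm : ∀ k ∈ P, k * q.1 * k⁻¹ = q.1 := fun k hk => congrArg Subtype.val
    ((show q ∈ Fix by rw [htop]; trivial) ⟨k, hk⟩)
  obtain ⟨S₁, hS₁⟩ := exists_sylow23 hx hn'
  obtain ⟨S₀, hS₀⟩ := exists_sylow23 hx (orderOf_g23' hx)
  obtain ⟨h, hh⟩ := MulAction.exists_smul_eq (MulAction.stabilizer Co0 x) S₀ S₁
  have hmem : h * g23' hx * h⁻¹ ∈ P := by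
    show _ ∈ Subgroup.zpowers n.1
    rw [← hS₁, ← hh, Sylow.coe_subgroup_smul, Subgroup.mem_pointwise_smul_iff_inv_smul_mem, hS₀]
    have e : (MulAut.conj h)⁻¹ • (h * g23' hx * h⁻¹) = g23' hx := by
      simp [MulAut.smul_def]; group
    rw [e]
    exact Subgroup.mem_zpowers _
  have hq23 : orderOf (h⁻¹ * q.1 * h) ∣ 23 := by
    refine commute_g23'_order hx ?_
    have e := hcomm _ hmem
    show h⁻¹ * q.1 * h * g23' hx = g23' hx * (h⁻¹ * q.1 * h)
    calc h⁻¹ * q.1 * h * g23' hx
        = h⁻¹ * ((h * g23' hx * h⁻¹) * q.1 * (h * g23' hx * h⁻¹)⁻¹) * (h * g23' hx * h⁻¹) * h := by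
          rw [e]; group
      _ = g23' hx * (h⁻¹ * q.1 * h) := by group
  have e : orderOf (h⁻¹ * q.1 * h) = orderOf q.1 := by
    rw [show h⁻¹ * q.1 * h = MulAut.conj h⁻¹ q.1 by simp]
    exact MulEquiv.orderOf_eq _ _
  rw [e, Subgroup.orderOf_coe, hq] at hq23
  exact h23 ((Nat.prime_dvd_prime_iff_eq hp (by norm_num)).1 hq23 ▸ hpd)

theorem stab_big {M : Subgroup (MulAction.stabilizer Co0 x)} [M.Normal]
    (h23 : 23 ∣ Nat.card M) : M = ⊤ := by
  classical
  haveI : Fact (Nat.Prime 23) := ⟨by norm_num⟩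
  haveI := isSimple_stab_pinf
  obtain ⟨S₀, hS₀⟩ := exists_sylow23 hx (orderOf_g23' hx)
  obtain ⟨m, hm⟩ := exists_prime_orderOf_dvd_card' 23 h23
  obtain ⟨S₁, hS₁⟩ := exists_sylow23 hx (n := m.1) (by rw [Subgroup.orderOf_coe, hm])
  obtain ⟨h, hh⟩ := MulAction.exists_smul_eq (MulAction.stabilizer Co0 x) S₁ S₀
  have hle : (S₀ : Subgroup (MulAction.stabilizer Co0 x)) ≤ M := by
    rw [← hh, Sylow.coe_subgroup_smul, hS₁]
    intro g hg
    rw [Subgroup.mem_pointwise_smul_iff_inv_smul_mem] at hg
    have := (inferInstance : M.Normal).conj_mem _ (Subgroup.zpowers_le.2 m.2 hg) h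
    simpa [MulAut.smul_def, mul_assoc] using this
  have hg23 : g23' hx ∈ M := hle (by rw [hS₀]; exact Subgroup.mem_zpowers _)
  have hR : (pointedHom hx).range ≤ M := by
    have hK : (M.comap (pointedHom hx)).Normal := (inferInstance : M.Normal).comap _
    rcases Subgroup.Normal.eq_bot_or_eq_top hK with h0 | h1
    · exfalso
      have h2 : (⟨shiftM24, by rw [MulAction.mem_stabilizer_iff, pinf_none]; exact shift_none⟩ :
          MulAction.stabilizer M24 pinf) ∈ M.comap (pointedHom hx) := hg23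
      rw [h0, Subgroup.mem_bot] at h2
      have h3 := orderOf_g23' hx
      rw [g23', h2, map_one, orderOf_one] at h3
      omega
    · rintro _ ⟨σ, rfl⟩
      exact (show σ ∈ M.comap (pointedHom hx) by rw [h1]; trivial)
  rw [eq_top_iff, ← Sylow.normalizer_sup_eq_top' S₀ hle]
  refine sup_le (fun n hn => hR (mem_range_pointedHom hx ?_)) le_rfl
  have h1 : n⁻¹ * g23' hx * n ∈ (S₀ : Subgroup (MulAction.stabilizer Co0 x)) :=
    (Subgroup.mem_normalizer_iff''.1 hn _).1 (by rw [hS₀]; exact Subgroup.mem_zpowers _)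
  rw [hS₀, Subgroup.mem_zpowers_iff] at h1
  obtain ⟨k, hk⟩ := h1
  refine g23_fixed_class (x := (n : Co0) • vec8 pinf) (by rw [co0_q, vec8_q]) ?_
  rw [classStab_conj]
  have e : (n : Co0)⁻¹ * g23 * (n : Co0) = g23 ^ k := (congrArg Subtype.val hk).symm
  rw [e]
  exact Subgroup.zpow_mem _ g23_mem_N0 k

end Pointed

theorem card_stab_shell {x : leechLattice} {n : ℤ} {N : ℕ} (hx : leechR.q x = n)
    (htrans : ∀ y z : leechLattice, leechR.q y = n → leechR.q z = n → ∃ g : Co0, g • y = z)
    (hN : {y : leechLattice | leechR.q y = n}.ncard = N) :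
    N * Nat.card (MulAction.stabilizer Co0 x) = 8315553613086720000 := by
  have horb : MulAction.orbit Co0 x = {y : leechLattice | leechR.q y = n} := by
    ext y
    constructor
    · rintro ⟨g, rfl⟩; exact (co0_q g x).trans hx
    · intro hy; exact htrans x y hx hy
  have h := Subgroup.card_mul_index (MulAction.stabilizer Co0 x)
  rw [MulAction.index_stabilizer, horb, hN, card_Co0] at h
  rw [mul_comm]; exact h

theorem trans_q4 (y z : leechLattice) (hy : leechR.q y = 4) (hz : leechR.q z = 4) :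
    ∃ g : Co0, g • y = z := by
  rw [leech_q_iff] at hy hz
  exact co0_trans32 (by omega) (by omega)

theorem trans_q6 (y z : leechLattice) (hy : leechR.q y = 6) (hz : leechR.q z = 6) :
    ∃ g : Co0, g • y = z := by
  rw [leech_q_iff] at hy hz
  exact co0_trans48 (by omega) (by omega)

theorem card_stab32 {x : leechLattice} (hx : sqNorm (x : GolayPt → ℤ) = 32) :
    Nat.card (MulAction.stabilizer Co0 x) = 42305421312000 := by
  have h := card_stab_shell ((leech_q_iff x 4).2 (by omega)) trans_q4 leech_counts.c4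
  omega

theorem card_stab48 {x : leechLattice} (hx : sqNorm (x : GolayPt → ℤ) = 48) :
    Nat.card (MulAction.stabilizer Co0 x) = 495766656000 := by
  have h := card_stab_shell ((leech_q_iff x 6).2 (by omega)) trans_q6 leech_counts.c6
  omega

theorem five_mem : five ∈ leechLattice := by
  have hodd : ∀ i, five i % 2 = 1 := fun i => by simp only [five]; split_ifs <;> norm_num
  rw [odd_mem_iff hodd]
  refine ⟨?_, ?_⟩
  · have e : (Finset.univ.filter fun i => five i % 4 = 3) = ∅ :=
      Finset.filter_eq_empty_iff.2 fun i _ => by simp only [five]; split_ifs <;> norm_num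
    rw [e]; exact empty_code
  · decide +kernel

/-- `five` as a lattice vector. -/
def fiveV : leechLattice := ⟨five, five_mem⟩

theorem fiveV_norm : sqNorm (fiveV : GolayPt → ℤ) = 48 := by decide +kernel

theorem fiveV_pointed : IsPointed fiveV :=
  ⟨by simp [fiveV, five], fun i hi => by simp [fiveV, five, hi]⟩

theorem conj_stab_equiv {x y : leechLattice} (g : Co0) (h : g • x = y) :
    Nonempty (MulAction.stabilizer Co0 x ≃* MulAction.stabilizer Co0 y) :=
  ⟨(MulEquiv.subgroupCongr (by subst h; rfl)).trans (stabEquiv x g) |>.trans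
    (MulEquiv.subgroupCongr (by rw [h]))⟩
where
  stabEquiv (x : leechLattice) (g : Co0) :
      MulAction.stabilizer Co0 x ≃* MulAction.stabilizer Co0 (g • x) :=
    { toFun := fun a => ⟨g * a.1 * g⁻¹, by
        rw [MulAction.mem_stabilizer_iff, mul_smul, mul_smul, inv_smul_smul, a.2]⟩
      invFun := fun a => ⟨g⁻¹ * a.1 * g, by
        rw [MulAction.mem_stabilizer_iff, mul_smul, mul_smul, a.2, inv_smul_smul]⟩
      left_inv := fun a => Subtype.ext (by group)
      right_inv := fun a => Subtype.ext (by group)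
      map_mul' := fun a b => Subtype.ext (by simp only [Subgroup.coe_mul]; group) }

/-- `Co3` is simple. -/
theorem isSimple_stab48 {x : leechLattice} (hx : sqNorm (x : GolayPt → ℤ) = 48) :
    IsSimpleGroup (MulAction.stabilizer Co0 x) := by
  obtain ⟨g, hg⟩ := co0_trans48 hx fiveV_norm
  obtain ⟨e⟩ := conj_stab_equiv g hg
  suffices h : IsSimpleGroup (MulAction.stabilizer Co0 fiveV) from
    haveI := h
    e.isSimpleGroup
  have hc := card_stab48 fiveV_norm
  haveI : Nontrivial (MulAction.stabilizer Co0 fiveV) :=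
    Finite.one_lt_card_iff_nontrivial.1 (by rw [hc]; norm_num)
  constructor
  intro M hM
  by_cases h23 : 23 ∣ Nat.card M
  · exact Or.inr (stab_big fiveV_pointed h23)
  left
  apply Subgroup.eq_bot_of_card_eq
  by_contra hne
  obtain ⟨p, hp, hpd⟩ := Nat.exists_prime_and_dvd hne
  refine stab_prime_free fiveV_pointed (by rw [hc]; norm_num) h23 hp ?_ hpd
  intro a b ha hb hmod
  rw [hc] at ha
  by_cases h2 : p = 2
  · subst h2
    have ha10 : a ≤ 10 := by
      by_contra hlt
      have := (pow_dvd_pow 2 (show 11 ≤ a by omega)).trans ha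
      norm_num at this
    have hd : ∀ a ≤ 10, ∀ b < a, 2 ^ a % 23 ≠ 2 ^ b % 23 := by decide +kernel
    by_contra hab
    exact hd a ha10 b (by omega) hmod
  · exact pow_mod_23 hp h2 (fun e => h23 (e ▸ hpd))
      (ha.trans ⟨16773120, by norm_num⟩) hb hmod

end CfsgLib.Golay
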