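import Cfsg.Agent.Lib.Golay.Co0Normal
import Cfsg.Agent.Lib.Golay.Co0Stab

/-! Normal forms at a vector of sum of squares 48, and the pairs of such vectors. -/

set_option autoImplicit false
set_option maxRecDepth 100000

namespace CfsgLib.Golay

open Cfsg
open scoped Pointwise

/-- A frame through a vector of sum of squares 48 gives its normal form. -/
theorem five_frame {u w : leechLattice} (hu : sqNorm (u : GolayPt → ℤ) = 48)
    (hw : sqNorm (w : GolayPt → ℤ) = 32) (hd : dotInt (u : GolayPt → ℤ) w = -8) :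
    ∃ g : Co0, g • u = fiveV ∧
      ∀ x : leechLattice, 8 * ((g • x : leechLattice) : GolayPt → ℤ) pinf =
        dotInt (x : GolayPt → ℤ) u + dotInt (x : GolayPt → ℤ) w := by
  classical
  have hx : leechR.q (u + w) = 8 := by
    rw [leech_q_iff, AddSubgroup.coe_add, sqNorm_add, hd, hu, hw]; norm_num
  obtain ⟨g, hg⟩ := co0_to_vec8 hx pinf
  have key : ∀ x : leechLattice, 8 * ((g • x : leechLattice) : GolayPt → ℤ) pinf =
      dotInt (x : GolayPt → ℤ) u + dotInt (x : GolayPt → ℤ) w := by
    intro x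
    have h := co0_dot g x (u + w)
    rw [hg, AddSubgroup.coe_add, dotInt_comm (x : GolayPt → ℤ) ((u : GolayPt → ℤ) + w),
      dotInt_add_left, dotInt_comm (u : GolayPt → ℤ), dotInt_comm (w : GolayPt → ℤ)] at h
    rw [← h]
    simp [vec8, dotInt, Pi.single_apply, mul_comm]
  let y : GolayPt → ℤ := ((g • u : leechLattice) : GolayPt → ℤ)
  have hy5 : y pinf = 5 := by
    have := key u
    rw [dotInt_self, hu, hd] at this
    simp only [y]; omega
  have hyn : sqNorm y = 48 := (co0_sq g u).trans hu
  have hodd : ∀ i, y i % 2 = 1 := by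
    rcases parity_cases (g • u).2 with h | h
    · have : y pinf % 2 = 0 := h pinf
      omega
    · exact h
  have hone : ∀ i, i ≠ pinf → y i = 1 ∨ y i = -1 := by
    intro i hi
    by_contra hne
    push Not at hne
    have h1 : ∀ k, (1 : ℤ) ≤ y k ^ 2 := fun k => by
      have := hodd k
      nlinarith [Int.one_le_abs (show y k ≠ 0 by omega), sq_abs (y k)]
    have h9 : 9 ≤ y i ^ 2 := by
      have := hodd i
      rcases (show y i ≥ 3 ∨ y i ≤ -3 by omega) with h | h <;> nlinarith
    rw [sqNorm, ← Finset.sum_add_sum_compl ({i, pinf} : Finset GolayPt), Finset.sum_pair hi, hy5]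
      at hyn
    have h22 : ∑ _k ∈ ({i, pinf} : Finset GolayPt)ᶜ, (1 : ℤ) ≤
        ∑ k ∈ ({i, pinf} : Finset GolayPt)ᶜ, y k ^ 2 := Finset.sum_le_sum fun k _ => h1 k
    have e22 : ((Fintype.card GolayPt - 2 : ℕ) : ℤ) = 22 := by simp
    rw [Finset.sum_const, Finset.card_compl, Finset.card_pair hi, nsmul_eq_mul, mul_one, e22] at h22
    omega
  have hc := ((odd_mem_iff hodd).1 (g • u).2).1
  refine ⟨monoCo0 1 (one_mem _) _ hc * g, Subtype.ext ?_, fun x => ?_⟩
  · rw [mul_smul, monoCo0_smul]
    funext i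
    simp only [signedPerm, fiveV, five, Finset.mem_filter, Finset.mem_univ, true_and,
      Equiv.Perm.one_symm, Equiv.Perm.one_apply]
    show (if y i % 4 = 3 then -y i else y i) = _
    by_cases hi : i = pinf
    · subst hi; rw [if_pos rfl, hy5]; norm_num
    · rw [if_neg hi]
      rcases hone i hi with h | h <;> rw [h] <;> norm_num
  · rw [← key x, mul_smul, monoCo0_smul]
    simp only [signedPerm, Finset.mem_filter, Finset.mem_univ, true_and,
      Equiv.Perm.one_symm, Equiv.Perm.one_apply]
    rw [if_neg (show ¬ y pinf % 4 = 3 by omega)]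

theorem dot_five (x : GolayPt → ℤ) :
    dotInt (fiveV : GolayPt → ℤ) x = (∑ i, x i) + 4 * x pinf := by
  have e : ∀ i, (fiveV : GolayPt → ℤ) i * x i = x i + if i = pinf then 4 * x pinf else 0 := fun i => by
    by_cases h : i = pinf
    · subst h; simp [fiveV, five]; ring
    · simp [fiveV, five, h]
  rw [dotInt, Finset.sum_congr rfl fun i _ => e i, Finset.sum_add_distrib, Finset.sum_ite_eq',
    if_pos (Finset.mem_univ _)]

/-- The vector `-4 e_{23} + 4 e_0`. -/
def xhs : leechLattice :=
  ⟨Pi.single pinf (-4) + Pi.single pz 4, (pair4_mem pinf_ne_pz (Or.inr rfl) (Or.inl rfl)).1⟩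

theorem xhs_norm : sqNorm (xhs : GolayPt → ℤ) = 32 :=
  (pair4_mem pinf_ne_pz (Or.inr rfl) (Or.inl rfl)).2

theorem dot_xhs (x : GolayPt → ℤ) :
    dotInt (xhs : GolayPt → ℤ) x = -4 * x pinf + 4 * x pz := by
  rw [dotInt_comm]
  show dotInt x (Pi.single pinf (-4) + Pi.single pz 4) = _
  rw [dotInt_pair]

theorem xhs_five : dotInt (fiveV : GolayPt → ℤ) xhs = -16 := by decide +kernel

/-- Shape of a minimal vector with product `-16` and first entry `-4`. -/
theorem shape_neg4 {x : GolayPt → ℤ} (hx : x ∈ leechLattice) (hn : sqNorm x = 32)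
    (x1 : x pinf = -4) (hd : dotInt (fiveV : GolayPt → ℤ) x = -16) :
    ∃ j, j ≠ pinf ∧ x j = 4 ∧ ∀ i, i ≠ pinf → i ≠ j → x i = 0 := by
  classical
  rw [dot_five, x1] at hd
  have hev : ∀ i, x i % 2 = 0 := by
    rcases parity_cases hx with h | h
    · exact h
    · have := h pinf; omega
  let a : GolayPt → ℤ := fun i => x i / 2
  have ha : ∀ i, x i = 2 * a i := fun i => by have := hev i; simp only [a]; omega
  obtain ⟨hw, -⟩ := (even_mem_iff (a := a)).1 (by convert hx using 1; funext i; exact (ha i).symm)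
  have hna : sqNorm a = 8 := by
    have : sqNorm x = 4 * sqNorm a := by
      rw [sqNorm, sqNorm, Finset.mul_sum]
      exact Finset.sum_congr rfl fun i _ => by rw [ha i]; ring
    omega
  have hsum : ∑ i, a i = 0 := by
    have : ∑ i, x i = 2 * ∑ i, a i := by
      rw [Finset.mul_sum]; exact Finset.sum_congr rfl fun i _ => ha i
    omega
  have a1 : a pinf = -2 := by simp only [a]; omega
  have hrest : ∑ i ∈ Finset.univ.erase pinf, a i ^ 2 = 4 := by
    have := Finset.add_sum_erase Finset.univ (fun i => a i ^ 2) (Finset.mem_univ pinf)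
    simp only [sqNorm] at hna
    simp only [a1] at this
    omega
  have hs2 : ∑ i ∈ Finset.univ.erase pinf, a i = 2 := by
    have := Finset.add_sum_erase Finset.univ a (Finset.mem_univ pinf)
    omega
  have hev2 : ∀ i, a i % 2 = 0 := by
    have hle : (support₂ (mod2 a)).card ≤ 4 := by
      have : ((support₂ (mod2 a)).card : ℤ) ≤ ∑ i ∈ Finset.univ.erase pinf, a i ^ 2 := by
        rw [Finset.card_eq_sum_ones, Nat.cast_sum]
        calc ∑ i ∈ support₂ (mod2 a), ((1 : ℕ) : ℤ) ≤ ∑ i ∈ support₂ (mod2 a), a i ^ 2 :=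
              Finset.sum_le_sum fun i hi => by
                rw [mem_support_mod2] at hi
                push_cast
                nlinarith [Int.one_le_abs (show a i ≠ 0 by omega), sq_abs (a i)]
          _ ≤ _ := Finset.sum_le_sum_of_subset_of_nonneg (fun i hi => by
              rw [mem_support_mod2] at hi
              exact Finset.mem_erase.2 ⟨fun e => by subst e; omega, Finset.mem_univ _⟩)
            fun i _ _ => sq_nonneg _
      omega
    have h0 : (support₂ (mod2 a)).card = 0 := by
      rcases supports_card (mem_supports_word.2 hw) with e | e | e | e | e <;> omega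
    intro i
    have : i ∉ support₂ (mod2 a) := by rw [Finset.card_eq_zero.1 h0]; simp
    rw [mem_support_mod2] at this
    omega
  obtain ⟨j, hj, hj0⟩ := Finset.exists_ne_zero_of_sum_ne_zero (hs2.trans_ne (by norm_num))
  have hle : a j ^ 2 ≤ 4 := hrest ▸ Finset.single_le_sum (f := fun i => a i ^ 2)
    (fun i _ => sq_nonneg _) hj
  have hge : 4 ≤ a j ^ 2 := by
    have := hev2 j
    rcases (show a j ≥ 2 ∨ a j ≤ -2 by omega) with h | h <;> nlinarith
  have hzero : ∀ i, i ≠ pinf → i ≠ j → a i = 0 := by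
    intro i h1 h2
    have h3 := Finset.add_sum_erase (Finset.univ.erase pinf) (fun i => a i ^ 2) hj
    have h4 := Finset.single_le_sum (f := fun i => a i ^ 2) (fun i _ => sq_nonneg _)
      (show i ∈ (Finset.univ.erase pinf).erase j by simp [h1, h2])
    have : a i ^ 2 = 0 := le_antisymm (by omega) (sq_nonneg _)
    exact pow_eq_zero_iff two_ne_zero |>.1 this
  have haj : a j = 2 := by
    rw [Finset.sum_eq_single_of_mem j hj fun i hi h => hzero i (Finset.ne_of_mem_erase hi) h] at hs2
    exact hs2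
  refine ⟨j, Finset.ne_of_mem_erase hj, by rw [ha, haj]; norm_num, fun i h1 h2 => ?_⟩
  rw [ha, hzero i h1 h2, mul_zero]

/-- The auxiliary minimal vector for `co0_trans_eleven`. -/
theorem exists_aux16 {u : GolayPt → ℤ} (hu : u ∈ leechLattice) (hn : sqNorm u = 48)
    (u1 : u pinf = -2) (u2 : u pz = -2) :
    ∃ w : leechLattice, sqNorm (w : GolayPt → ℤ) = 32 ∧ dotInt u w = -8 ∧
      dotInt (min44 : GolayPt → ℤ) w = -16 := by
  classical
  have hev : ∀ i, u i % 2 = 0 := by
    rcases parity_cases hu with h | h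
    · exact h
    · have := h pinf; omega
  by_cases hbig : ∃ k, k ≠ pinf ∧ k ≠ pz ∧ (u k = 4 ∨ u k = -4)
  · obtain ⟨k, k1, k2, hk⟩ := hbig
    obtain ⟨h1, h2⟩ := pair4_mem (Ne.symm k1) (a := -4) (b := -u k) (Or.inr rfl) (by omega)
    refine ⟨⟨_, h1⟩, h2, ?_, ?_⟩
    · rw [dotInt_pair, u1]; rcases hk with h | h <;> rw [h] <;> norm_num
    · rw [dot_min44]; simp [pinf_ne_pz, pinf_ne_pz.symm, Ne.symm k1, Ne.symm k2]
  push Not at hbig
  let a : GolayPt → ℤ := fun i => u i / 2
  have ha : ∀ i, u i = 2 * a i := fun i => by have := hev i; simp only [a]; omega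
  obtain ⟨hw, -⟩ := (even_mem_iff (a := a)).1 (by convert hu using 1; funext i; exact (ha i).symm)
  have hna : sqNorm a = 12 := by
    have : sqNorm u = 4 * sqNorm a := by
      rw [sqNorm, sqNorm, Finset.mul_sum]
      exact Finset.sum_congr rfl fun i _ => by rw [ha i]; ring
    omega
  have hsmall : ∀ i, a i = -1 ∨ a i = 0 ∨ a i = 1 := by
    intro i
    have := hev i
    by_cases h1 : i = pinf
    · subst h1; left; simp only [a]; omega
    by_cases h2 : i = pz
    · subst h2; left; simp only [a]; omega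
    have hb : a i ^ 2 ≤ 12 := hna ▸
      Finset.single_le_sum (f := fun i => a i ^ 2) (fun j _ => sq_nonneg _) (Finset.mem_univ i)
    have h4 := hbig i h1 h2
    have hb2 : -3 ≤ a i ∧ a i ≤ 3 := ⟨by nlinarith, by nlinarith⟩
    by_contra hne
    rcases (show a i = 3 ∨ a i = -3 by have := ha i; omega) with h | h
    all_goals
      have hc := supports_card (mem_supports_word.2 hw)
      have e := sq_card_bound (x := a) rfl ((support₂ (mod2 a)).erase i) 1 fun k hk => by
        rw [Finset.mem_erase, mem_support_mod2] at hk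
        nlinarith [Int.one_le_abs (show a k ≠ 0 by omega), sq_abs (a k)]
      have hi : i ∈ support₂ (mod2 a) := by rw [mem_support_mod2, h]; norm_num
      have e2 : a i ^ 2 + ∑ k ∈ (support₂ (mod2 a)).erase i, a k ^ 2 ≤ 12 := by
        rw [Finset.add_sum_erase _ (fun k => a k ^ 2) hi, ← hna]
        exact Finset.sum_le_sum_of_subset_of_nonneg (Finset.subset_univ _) fun j _ _ => sq_nonneg _
      have e3 : (((support₂ (mod2 a)).erase i).card : ℤ) ≤
          ∑ k ∈ (support₂ (mod2 a)).erase i, a k ^ 2 := by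
        rw [Finset.card_eq_sum_ones, Nat.cast_sum]
        refine Finset.sum_le_sum fun k hk => ?_
        rw [Finset.mem_erase, mem_support_mod2] at hk
        push_cast
        nlinarith [Int.one_le_abs (show a k ≠ 0 by omega), sq_abs (a k)]
      have h1' : pinf ∈ (support₂ (mod2 a)).erase i := by
        rw [Finset.mem_erase, mem_support_mod2]
        exact ⟨Ne.symm h1, by simp [a, u1]⟩
      have hpos := Finset.card_pos.2 ⟨_, h1'⟩
      rw [Finset.card_erase_of_mem hi] at e3 hpos
      rw [h] at e2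
      omega
  set D := support₂ (mod2 a) with hD
  have hDmem : ∀ i, i ∈ D ↔ a i ≠ 0 := fun i => by
    rw [hD, mem_support_mod2]
    rcases hsmall i with h | h | h <;> rw [h] <;> norm_num
  have hD12 : D.card = 12 := by
    have : (D.card : ℤ) = sqNorm a := by
      rw [Finset.card_eq_sum_ones, Nat.cast_sum, sqNorm]
      rw [← Finset.sum_subset (Finset.subset_univ D) (f := fun i => a i ^ 2) fun i _ hi => by
        rw [hDmem, not_not] at hi; rw [hi]; norm_num]
      refine Finset.sum_congr rfl fun i hi => ?_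
      rw [hDmem] at hi
      rcases hsmall i with h | h | h <;> rw [h] at hi ⊢ <;> simp at hi ⊢
    omega
  have d1 : pinf ∈ D := by rw [hDmem]; simp [a, u1]
  have d2 : pz ∈ D := by rw [hDmem]; simp [a, u2]
  obtain ⟨S, hS1, hS2, hS5⟩ := Finset.exists_subsuperset_card_eq (n := 5)
    (show ({pinf, pz} : Finset GolayPt) ⊆ D by
      intro i hi
      rw [Finset.mem_insert, Finset.mem_singleton] at hi
      rcases hi with rfl | rfl <;> assumption)
    (by rw [Finset.card_pair pinf_ne_pz]; norm_num) (by omega)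
  obtain ⟨O, ⟨hO, hSO⟩, -⟩ := octad_exists_unique hS5
  have hOD : (O ∩ D).card = 6 := by
    have h5 : 5 ≤ (O ∩ D).card := hS5 ▸ Finset.card_le_card (Finset.subset_inter hSO hS2)
    have h8 : (O ∩ D).card ≤ 8 := hO.2 ▸ Finset.card_le_card Finset.inter_subset_left
    have hev' := supports_inter_even hO.1 (mem_supports_word.2 hw)
    have hsd := supports_card (symmDiff_mem_supports hO.1 (mem_supports_word.2 hw))
    have e := card_symmDiff_add O D
    rw [hO.2, hD12] at e
    rw [← hD] at hev' hsd
    rcases hsd with h | h | h | h | h <;> omega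
  have o1 : pinf ∈ O := hSO (hS1 (by simp))
  have o2 : pz ∈ O := hSO (hS1 (by simp))
  obtain ⟨f, hf⟩ : (O \ D).Nonempty := by
    rw [← Finset.card_pos, Finset.card_sdiff, Finset.inter_comm, hO.2, hOD]; norm_num
  rw [Finset.mem_sdiff] at hf
  let b₀ : GolayPt → ℤ := fun i =>
    if i = pinf ∨ i = pz then -1 else if i ∈ D then -a i else 1
  let ε : ℤ := if ((∑ i ∈ O.erase f, b₀ i) + 1) % 4 = 0 then 1 else -1
  let b : GolayPt → ℤ := fun i => if i = f then ε else if i ∈ O then b₀ i else 0
  have hb0 : ∀ i, b₀ i = 1 ∨ b₀ i = -1 := fun i => by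
    simp only [b₀]
    split_ifs with p q
    · exact Or.inr rfl
    · rw [hDmem] at q; rcases hsmall i with h | h | h <;> omega
    · exact Or.inl rfl
  have hb : ∀ i, (i ∈ O → b i = 1 ∨ b i = -1) ∧ (i ∉ O → b i = 0) := fun i => by
    refine ⟨fun hi => ?_, fun hi => ?_⟩
    · simp only [b, hi, if_true]
      split_ifs
      · simp only [ε]; split_ifs <;> simp
      · exact hb0 i
    · simp only [b, hi, if_false]
      rw [if_neg fun e : i = f => hi (e ▸ hf.1)]
  have hbO : ∀ (φ : GolayPt → ℤ), ∑ i, φ i * b i = φ f * ε + ∑ i ∈ O.erase f, φ i * b₀ i := by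
    intro φ
    rw [← Finset.sum_subset (Finset.subset_univ O) fun i _ hi => by rw [(hb i).2 hi, mul_zero],
      ← Finset.add_sum_erase _ (fun i => φ i * b i) hf.1]
    congr 1
    · simp [b]
    · refine Finset.sum_congr rfl fun i hi => ?_
      rw [Finset.mem_erase] at hi
      simp [b, hi.1, hi.2]
  have hbmem : (fun i => 2 * b i) ∈ leechLattice := by
    rw [even_mem_iff]
    refine ⟨?_, ?_⟩
    · rw [← mem_supports_word]
      convert hO.1 using 1
      ext i
      rw [mem_support_mod2]
      by_cases hi : i ∈ O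
      · rcases (hb i).1 hi with h | h <;> simp [hi, h]
      · simp [hi, (hb i).2 hi]
    · have h := hbO 1
      simp only [Pi.one_apply, one_mul] at h
      rw [h]
      have hodd : (∑ i ∈ O.erase f, b₀ i) % 2 = 1 := by
        have h2 : (2 : ℤ) ∣ (∑ i ∈ O.erase f, b₀ i) - ((O.erase f).card : ℤ) := by
          rw [Finset.card_eq_sum_ones, Nat.cast_sum, ← Finset.sum_sub_distrib]
          refine Finset.dvd_sum fun i _ => ?_
          rcases hb0 i with h | h <;> rw [h] <;> norm_num
        rw [Finset.card_erase_of_mem hf.1, hO.2] at h2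
        omega
      simp only [ε]
      split_ifs <;> omega
  refine ⟨⟨_, hbmem⟩, ?_, ?_, ?_⟩
  · show sqNorm (fun i => 2 * b i) = 32
    have : ∀ i, (2 * b i) ^ 2 = if i ∈ O then 4 else 0 := fun i => by
      by_cases hi : i ∈ O
      · rcases (hb i).1 hi with h | h <;> simp [hi, h]
      · simp [hi, (hb i).2 hi]
    rw [sqNorm, Finset.sum_congr rfl fun i _ => this i, Finset.sum_ite_mem, Finset.univ_inter,
      Finset.sum_const, hO.2]
    norm_num
  · have hfa : a f = 0 := by
      have := hf.2
      rw [hDmem, not_not] at this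
      exact this
    have h := hbO fun i => a i
    have e : dotInt u (fun i => 2 * b i) = 4 * ∑ i, a i * b i := by
      rw [dotInt, Finset.mul_sum]; exact Finset.sum_congr rfl fun i _ => by rw [ha i]; ring
    show dotInt u (fun i => 2 * b i) = -8
    rw [e, h, hfa, zero_mul, zero_add]
    have hterm : ∀ i ∈ O.erase f, a i * b₀ i =
        (if i ∈ D then -1 else 0) + (if i = pinf ∨ i = pz then 2 else 0) := by
      intro i _
      simp only [b₀]
      by_cases p : i = pinf ∨ i = pz
      · rw [if_pos p, if_pos p]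
        rcases p with rfl | rfl
        · rw [if_pos d1]; simp [a, u1]
        · rw [if_pos d2]; simp [a, u2]
      · rw [if_neg p, if_neg p]
        by_cases q : i ∈ D
        · rw [if_pos q, if_pos q]
          rw [hDmem] at q
          rcases hsmall i with h | h | h <;> rw [h] at q ⊢ <;> simp at q ⊢
        · rw [if_neg q, if_neg q]
          rw [hDmem, not_not] at q
          rw [q]; norm_num
    rw [Finset.sum_congr rfl hterm, Finset.sum_add_distrib, Finset.sum_ite_mem,
      show O.erase f ∩ D = O ∩ D by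
        ext i; simp only [Finset.mem_inter, Finset.mem_erase]
        exact ⟨fun h => ⟨h.1.2, h.2⟩, fun h => ⟨⟨fun e => hf.2 (e ▸ h.2), h.1⟩, h.2⟩⟩,
      Finset.sum_const, hOD, ← Finset.sum_filter,
      show (O.erase f).filter (fun i => i = pinf ∨ i = pz) = {pinf, pz} by
        ext i; simp only [Finset.mem_filter, Finset.mem_erase, Finset.mem_insert, Finset.mem_singleton]
        exact ⟨fun h => h.2, fun h => ⟨by
          rcases h with rfl | rfl
          · exact ⟨fun e => hf.2 (e ▸ d1), o1⟩
          · exact ⟨fun e => hf.2 (e ▸ d2), o2⟩, h⟩⟩,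
      Finset.sum_const, Finset.card_pair pinf_ne_pz]
    norm_num
  · rw [dot_min44]
    have e1 : b pinf = -1 := by
      simp [b, b₀, o1, show pinf ≠ f from fun e => hf.2 (e ▸ d1)]
    have e2 : b pz = -1 := by
      simp [b, b₀, o2, show pz ≠ f from fun e => hf.2 (e ▸ d2)]
    simp [e1, e2]

/-- A monomial permutation fixing the base point fixes `fiveV`. -/
theorem perm_fix_five {σ : M24} (h : σ • pinf = pinf) :
    monoCo0 σ σ.2 ∅ empty_code • fiveV = fiveV :=
  MulAction.mem_stabilizer_iff.1 (mono_mem_stab fiveV_pointed h)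

theorem perm_apply (σ : M24) (x : leechLattice) (i : GolayPt) :
    ((monoCo0 σ σ.2 ∅ empty_code • x : leechLattice) : GolayPt → ℤ) ((σ : Equiv.Perm GolayPt) i) =
      (x : GolayPt → ℤ) i := by
  rw [monoCo0_smul, signedPerm_apply]; simp

/-- Normal form of a pair with product `-16`. -/
theorem normal_eleven {u x : leechLattice} (hu : sqNorm (u : GolayPt → ℤ) = 48)
    (hx : sqNorm (x : GolayPt → ℤ) = 32) (hd : dotInt (u : GolayPt → ℤ) x = -16) :
    ∃ g : Co0, g • u = fiveV ∧ g • x = xhs := by
  classical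
  obtain ⟨k, k1, k2, k3⟩ := normal_two hx (u := u) (by omega)
  rw [dotInt_comm, hd] at k2 k3
  obtain ⟨w, w1, w2, w3⟩ := exists_aux16 (k • u).2 ((co0_sq k u).trans hu) (by omega) (by omega)
  obtain ⟨g, g1, g2⟩ := five_frame ((co0_sq k u).trans hu) w1 w2
  have h4 : ((g • k • x : leechLattice) : GolayPt → ℤ) pinf = -4 := by
    have := g2 (k • x)
    rw [co0_dot k x u, dotInt_comm, hd, k1, w3] at this
    rw [k1]
    omega
  obtain ⟨j, j1, j2, j3⟩ := shape_neg4 (g • k • x).2 (by rw [co0_sq, co0_sq, hx]) h4 (by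
    rw [← g1, co0_dot, co0_dot, hd])
  obtain ⟨σ, s1, s2⟩ := M24_two (Ne.symm j1) pinf_ne_pz
  refine ⟨monoCo0 σ σ.2 ∅ empty_code * (g * k), ?_, ?_⟩
  · rw [mul_smul, mul_smul, g1, perm_fix_five s1]
  · rw [mul_smul, mul_smul]
    refine Subtype.ext (funext fun i => ?_)
    obtain ⟨i, rfl⟩ := (σ : Equiv.Perm GolayPt).surjective i
    rw [perm_apply]
    have e : ∀ a b, σ • a = b → ((σ : Equiv.Perm GolayPt) i = b ↔ i = a) := fun a b h =>
      ⟨fun h' => (σ : Equiv.Perm GolayPt).injective (h'.trans h.symm), fun h' => h' ▸ h⟩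
    simp only [xhs, Pi.add_apply, Pi.single_apply, e _ _ s1, e _ _ s2]
    by_cases a : i = pinf
    · subst a; rw [if_pos rfl, if_neg (Ne.symm j1), h4]; norm_num
    · by_cases b : i = j
      · subst b; rw [if_neg a, if_pos rfl, j2]; norm_num
      · rw [if_neg a, if_neg b, j3 i a b]; norm_num

/-- The stabiliser of a vector of sum of squares 48 on the 11178 minimal vectors. -/
theorem co0_trans_eleven {u x x' : leechLattice} (hu : sqNorm (u : GolayPt → ℤ) = 48)
    (hx : sqNorm (x : GolayPt → ℤ) = 32) (hx' : sqNorm (x' : GolayPt → ℤ) = 32)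
    (hd : dotInt (u : GolayPt → ℤ) x = -16) (hd' : dotInt (u : GolayPt → ℤ) x' = -16) :
    ∃ g : Co0, g • u = u ∧ g • x = x' := by
  obtain ⟨g, g1, g2⟩ := normal_eleven hu hx hd
  obtain ⟨k, k1, k2⟩ := normal_eleven hu hx' hd'
  exact ⟨k⁻¹ * g, by rw [mul_smul, g1, ← k1, inv_smul_smul],
    by rw [mul_smul, g2, ← k2, inv_smul_smul]⟩

end CfsgLib.Golay
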