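import Cfsg.Agent.Lib.Golay.LeechMark
import Cfsg.Agent.Lib.Golay.Co0Order

/-! Counting lattice vectors with one or two marked entries and a given coordinate sum. -/

set_option autoImplicit false
set_option maxRecDepth 100000

namespace CfsgLib.Golay

open Cfsg

/-- Mask of the values that are odd. -/
def maskOf (P : List (ℕ × ℤ)) : ℕ := P.foldr (fun p m => 2 ^ p.1 ||| m) 0

/-- Marked values as a vector. -/
def valOf (P : List (ℕ × ℤ)) (i : GolayPt) : ℤ :=
  ((P.filter fun p => Nat.beq p.1 (idx i)).map Prod.snd).sum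

/-- The checks for a set of marks. -/
def marksGood (V1 V0 : List ℤ) (Pm P1 : ℕ) (P : List (ℕ × ℤ)) : Prop :=
  Pm < 16777216 ∧ P1 < 16777216 ∧ ∀ i : GolayPt,
    (i ∉ mset Pm → valOf P i = 0) ∧ (i ∈ mset P1 → i ∈ mset Pm) ∧
      (i ∈ mset Pm → (i ∈ mset P1 → valOf P i ∈ V1) ∧ (i ∉ mset P1 → valOf P i ∈ V0))

instance (V1 V0 : List ℤ) (Pm P1 : ℕ) (P : List (ℕ × ℤ)) : Decidable (marksGood V1 V0 Pm P1 P) := by
  unfold marksGood; infer_instance

/-- Marks halved. -/
def halfMarks (P : List (ℕ × ℤ)) : List (ℕ × ℤ) := P.map fun p => (p.1, p.2 / 2)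

/-- Count of even vectors with the marks and sum. -/
def evenCase (P : List (ℕ × ℤ)) (n : ℕ) (S : ℤ) : ℕ :=
  if S % 8 = 0 then
    cntMark [3, -3, 1, -1] [4, -4, 2, -2, 0] 0 (maskOf P)
      (maskOf ((halfMarks P).filter fun p => decide (p.2 % 2 = 1)))
      (∑ i, sqW (valOf (halfMarks P) i)) (∑ i, valOf (halfMarks P) i) n (S / 2)
  else 0

/-- Count of odd vectors with the marks and sum. -/
def oddCase (P : List (ℕ × ℤ)) (n : ℕ) (S : ℤ) : ℕ :=
  if S % 8 = 4 then
    cntMark [7, -5, 3, -1] [-7, 5, -3, 1] 0 (maskOf P)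
      (maskOf (P.filter fun p => decide (p.2 % 4 = 3)))
      (∑ i, sqW (valOf P i)) (∑ i, valOf P i) (4 * n) S
  else 0

/-- The checks of an even case. -/
def evenGood (P : List (ℕ × ℤ)) : Prop :=
  marksGood [3, -3, 1, -1] [4, -4, 2, -2, 0] (maskOf P)
      (maskOf ((halfMarks P).filter fun p => decide (p.2 % 2 = 1))) (halfMarks P) ∧
    ∀ i : GolayPt, i ∈ mset (maskOf P) → valOf P i = 2 * valOf (halfMarks P) i

instance (P : List (ℕ × ℤ)) : Decidable (evenGood P) := by unfold evenGood; infer_instance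

/-- The checks of an odd case. -/
def oddGood (P : List (ℕ × ℤ)) : Prop :=
  marksGood [7, -5, 3, -1] [-7, 5, -3, 1] (maskOf P)
      (maskOf (P.filter fun p => decide (p.2 % 4 = 3))) P

instance (P : List (ℕ × ℤ)) : Decidable (oddGood P) := by unfold oddGood; infer_instance

theorem ncard_evenCase (P : List (ℕ × ℤ)) (hP : evenGood P) (n : ℕ) (hn : n ≤ 16) (S : ℤ) :
    {x : GolayPt → ℤ | x ∈ leechLattice ∧ sqNorm x = 4 * (n : ℤ) ∧ (∀ i, x i % 2 = 0) ∧
      (∀ i ∈ mset (maskOf P), x i = valOf P i) ∧ ∑ i, x i = S}.ncard = evenCase P n S := by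
  obtain ⟨⟨h1, h2, h3⟩, h4⟩ := hP
  rw [evenCase]
  by_cases hS : S % 8 = 0
  · rw [if_pos hS, ← ncard_even_mark n hn 0 (S / 2)
      (fun s hs => by rw [zero_dvd_iff, sub_eq_zero] at hs; omega) (maskOf P) _ h1 h2
      (valOf (halfMarks P)) (fun i hi => (h3 i).1 hi) (fun i hi => (h3 i).2.1 hi)
      (fun i hi => (h3 i).2.2 hi) _ _ rfl rfl]
    refine congrArg Set.ncard (Set.ext fun x => ?_)
    simp only [Set.mem_setOf_eq]
    refine and_congr_right fun _ => and_congr_right fun _ => and_congr_right fun hev => ?_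
    have hsum : ∑ i, x i = 2 * ∑ i, x i / 2 := by
      rw [Finset.mul_sum]; exact Finset.sum_congr rfl fun i _ => by have := hev i; omega
    rw [zero_dvd_iff, sub_eq_zero, hsum]
    constructor
    · rintro ⟨hm, hs⟩
      exact ⟨fun i hi => by rw [hm i hi, h4 i hi], by omega⟩
    · rintro ⟨hm, hs⟩
      exact ⟨fun i hi => by rw [hm i hi, h4 i hi], by omega⟩
  · rw [if_neg hS]
    convert Set.ncard_empty (GolayPt → ℤ) using 2
    refine Set.eq_empty_iff_forall_notMem.2 ?_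
    rintro x ⟨hx, -, hev, -, rfl⟩
    obtain ⟨-, h4'⟩ := even_mem_iff.1 (show (fun i => 2 * (x i / 2)) ∈ leechLattice by
      convert hx using 1; funext i; have := hev i; omega)
    have hsum : ∑ i, x i = 2 * ∑ i, x i / 2 := by
      rw [Finset.mul_sum]; exact Finset.sum_congr rfl fun i _ => by have := hev i; omega
    omega

theorem ncard_oddCase (P : List (ℕ × ℤ)) (hP : oddGood P) (n : ℕ) (hn : n ≤ 16) (S : ℤ) :
    {x : GolayPt → ℤ | x ∈ leechLattice ∧ sqNorm x = 4 * (n : ℤ) ∧ (∀ i, x i % 2 = 1) ∧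
      (∀ i ∈ mset (maskOf P), x i = valOf P i) ∧ ∑ i, x i = S}.ncard = oddCase P n S := by
  obtain ⟨h1, h2, h3⟩ := hP
  rw [oddCase]
  by_cases hS : S % 8 = 4
  · rw [if_pos hS, ← ncard_odd_mark (4 * n) (by omega) 0 S
      (fun s hs => by rw [zero_dvd_iff, sub_eq_zero] at hs; omega) (maskOf P) _ h1 h2
      (valOf P) (fun i hi => (h3 i).1 hi) (fun i hi => (h3 i).2.1 hi)
      (fun i hi => (h3 i).2.2 hi) _ _ rfl rfl]
    refine congrArg Set.ncard (Set.ext fun x => ?_)
    simp only [Set.mem_setOf_eq]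
    refine and_congr_right fun _ => ?_
    rw [zero_dvd_iff, sub_eq_zero]
    push_cast
    exact Iff.rfl
  · rw [if_neg hS]
    convert Set.ncard_empty (GolayPt → ℤ) using 2
    refine Set.eq_empty_iff_forall_notMem.2 ?_
    rintro x ⟨hx, -, hodd, -, rfl⟩
    have := ((odd_mem_iff hodd).1 hx).2
    omega

/-- Count with the marks and sum, the parity being that of the first mark. -/
def markCase (P : List (ℕ × ℤ)) (n : ℕ) (S : ℤ) : ℕ :=
  match P with
  | [] => 0
  | p :: _ => if p.2 % 2 = 0 then evenCase P n S else oddCase P n S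

theorem ncard_one (s : ℤ) (hs : s ∈ Finset.Icc (-7 : ℤ) 7) (n : ℕ) (hn : n ≤ 16) (S : ℤ) :
    {x : GolayPt → ℤ | x ∈ leechLattice ∧ sqNorm x = 4 * (n : ℤ) ∧ x pinf = s ∧
      ∑ i, x i = S}.ncard = markCase [(23, s)] n S := by
  have hm : mset (maskOf [(23, s)]) = {pinf} := by
    have e : maskOf [(23, s)] = 2 ^ 23 ||| 0 := by
      unfold maskOf; rw [List.foldr_cons, List.foldr_nil]
    rw [e, mset_or, mset_two_pow (show 23 < 24 by norm_num), mset_zero, Finset.union_empty]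
    rfl
  have hv : valOf [(23, s)] pinf = s := by
    simp [valOf, pinf, idx_pt (show (23 : ℕ) < 24 by norm_num)]
  have hchk : (s % 2 = 0 → evenGood [(23, s)]) ∧ (¬ s % 2 = 0 → oddGood [(23, s)]) := by
    revert s; decide +kernel
  show _ = if s % 2 = 0 then _ else _
  by_cases h : s % 2 = 0
  · rw [if_pos h, ← ncard_evenCase _ (hchk.1 h) n hn S]
    refine congrArg Set.ncard (Set.ext fun x => ?_)
    simp only [Set.mem_setOf_eq, hm, Finset.mem_singleton, forall_eq, hv]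
    constructor
    · rintro ⟨a, b, c, d⟩
      refine ⟨a, b, ?_, c, d⟩
      rcases parity_cases a with e | e
      · exact e
      · have := e pinf; omega
    · rintro ⟨a, b, -, c, d⟩; exact ⟨a, b, c, d⟩
  · rw [if_neg h, ← ncard_oddCase _ (hchk.2 h) n hn S]
    refine congrArg Set.ncard (Set.ext fun x => ?_)
    simp only [Set.mem_setOf_eq, hm, Finset.mem_singleton, forall_eq, hv]
    constructor
    · rintro ⟨a, b, c, d⟩
      refine ⟨a, b, ?_, c, d⟩
      rcases parity_cases a with e | e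
      · have := e pinf; omega
      · exact e
    · rintro ⟨a, b, -, c, d⟩; exact ⟨a, b, c, d⟩

theorem two_marks_good : ∀ s ∈ Finset.Icc (-5 : ℤ) 5, ∀ t ∈ Finset.Icc (-5 : ℤ) 5, s % 2 = t % 2 →
    (s % 2 = 0 → evenGood [(23, s), (0, t)]) ∧
      (¬ s % 2 = 0 → oddGood [(23, s), (0, t)]) := by decide +kernel

theorem ncard_two (s t : ℤ) (hs : s ∈ Finset.Icc (-5 : ℤ) 5) (ht : t ∈ Finset.Icc (-5 : ℤ) 5)
    (hst : s % 2 = t % 2) (n : ℕ) (hn : n ≤ 16) (S : ℤ) :
    {x : GolayPt → ℤ | x ∈ leechLattice ∧ sqNorm x = 4 * (n : ℤ) ∧ x pinf = s ∧ x (pt 0) = t ∧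
      ∑ i, x i = S}.ncard = markCase [(23, s), (0, t)] n S := by
  have hm : mset (maskOf [(23, s), (0, t)]) = {pinf, pt 0} := by
    have e : maskOf [(23, s), (0, t)] = 2 ^ 23 ||| (2 ^ 0 ||| 0) := by
      unfold maskOf; rw [List.foldr_cons, List.foldr_cons, List.foldr_nil]
    rw [e, mset_or, mset_or, mset_two_pow (show 23 < 24 by norm_num),
      mset_two_pow (show 0 < 24 by norm_num), mset_zero, Finset.union_empty]
    rfl
  have hne : ¬ (23 : ℕ) = 0 := by norm_num
  have hv : valOf [(23, s), (0, t)] pinf = s ∧ valOf [(23, s), (0, t)] (pt 0) = t := by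
    constructor <;> simp [valOf, pinf, idx_pt (show (23 : ℕ) < 24 by norm_num),
      idx_pt (show (0 : ℕ) < 24 by norm_num)]
  have hchk : (s % 2 = 0 → evenGood [(23, s), (0, t)]) ∧
      (¬ s % 2 = 0 → oddGood [(23, s), (0, t)]) := by
    exact two_marks_good s hs t ht hst
  show _ = if s % 2 = 0 then _ else _
  by_cases h : s % 2 = 0
  · rw [if_pos h, ← ncard_evenCase _ (hchk.1 h) n hn S]
    refine congrArg Set.ncard (Set.ext fun x => ?_)
    simp only [Set.mem_setOf_eq, hm, Finset.mem_insert, Finset.mem_singleton, forall_eq_or_imp,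
      forall_eq, hv.1, hv.2]
    constructor
    · rintro ⟨a, b, c, c', d⟩
      refine ⟨a, b, ?_, ⟨c, c'⟩, d⟩
      rcases parity_cases a with e | e
      · exact e
      · have := e pinf; omega
    · rintro ⟨a, b, -, ⟨c, c'⟩, d⟩; exact ⟨a, b, c, c', d⟩
  · rw [if_neg h, ← ncard_oddCase _ (hchk.2 h) n hn S]
    refine congrArg Set.ncard (Set.ext fun x => ?_)
    simp only [Set.mem_setOf_eq, hm, Finset.mem_insert, Finset.mem_singleton, forall_eq_or_imp,
      forall_eq, hv.1, hv.2]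
    constructor
    · rintro ⟨a, b, c, c', d⟩
      refine ⟨a, b, ?_, ⟨c, c'⟩, d⟩
      rcases parity_cases a with e | e
      · have := e pinf; omega
      · exact e
    · rintro ⟨a, b, -, ⟨c, c'⟩, d⟩; exact ⟨a, b, c, c', d⟩

/-- Vectors split by their entry at the base point. -/
theorem ncard_split (T : Finset ℤ) (N : ℤ) (P : (GolayPt → ℤ) → Prop)
    (hT : ∀ x ∈ leechLattice, sqNorm x = N → P x → x pinf ∈ T) :
    {x : GolayPt → ℤ | x ∈ leechLattice ∧ sqNorm x = N ∧ P x}.ncard =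
      ∑ t ∈ T, {x : GolayPt → ℤ | x ∈ leechLattice ∧ sqNorm x = N ∧ P x ∧ x pinf = t}.ncard := by
  classical
  have hf : {x : GolayPt → ℤ | x ∈ leechLattice ∧ sqNorm x = N ∧ P x}.Finite :=
    (finite_norm N).subset fun x h => ⟨h.1, h.2.1⟩
  rw [Set.ncard_eq_toFinset_card _ hf,
    Finset.card_eq_sum_card_fiberwise (f := fun x => x pinf) (t := T)
      (fun x hx => by
        rw [Finset.mem_coe, Set.Finite.mem_toFinset] at hx
        exact hT x hx.1 hx.2.1 hx.2.2)]
  refine Finset.sum_congr rfl fun t _ => ?_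
  rw [← Set.ncard_coe_finset]
  congr 1
  ext x
  simp [and_assoc]

/-- Count of vectors of norm `4 n` with dot product `d` with `(a, 1, …, 1)`. -/
noncomputable def cntDot (a d : ℤ) (n : ℕ) : ℕ :=
  ∑ t ∈ Finset.Icc (-7 : ℤ) 7, markCase [(23, t)] n (d - (a - 1) * t)

theorem ncard_dot (a d : ℤ) (n : ℕ) (hn : n ≤ 15) :
    {x : GolayPt → ℤ | x ∈ leechLattice ∧ sqNorm x = 4 * (n : ℤ) ∧
      ∑ i, x i + (a - 1) * x pinf = d}.ncard = cntDot a d n := by
  rw [ncard_split (Finset.Icc (-7) 7) _ _ fun x _ hx _ => Finset.mem_Icc.2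
    (abs_entry_le (B := 7) (by norm_num) (by omega) hx pinf), cntDot]
  refine Finset.sum_congr rfl fun t ht => ?_
  rw [← ncard_one t ht n (by omega)]
  refine congrArg Set.ncard (Set.ext fun x => ?_)
  simp only [Set.mem_setOf_eq]
  constructor
  · rintro ⟨a1, a2, a3, a4⟩; exact ⟨a1, a2, a4, by rw [a4] at a3; linarith⟩
  · rintro ⟨a1, a2, a4, a3⟩; exact ⟨a1, a2, by rw [a4]; linarith, a4⟩

theorem cntDot_values :
    cntDot (-3) (-16) 8 = 4600 ∧ cntDot (-3) (-8) 8 = 47104 ∧ cntDot (-3) 0 8 = 93150 ∧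
      cntDot 5 24 8 = 552 ∧ cntDot 5 (-16) 8 = 11178 := by decide +kernel

end CfsgLib.Golay
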