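import Cfsg.Agent.Lib.Golay.Co0Five
import Cfsg.Agent.Lib.Golay.Co0Co2
import Cfsg.Agent.Lib.Golay.LeechCases

/-! The configuration of 100 minimal vectors at two vectors of sum of squares 48. -/

set_option autoImplicit false
set_option maxRecDepth 100000

namespace CfsgLib.Golay

open Cfsg
open scoped Pointwise

/-- The second vector of the standard pair. -/
def whs : leechLattice := -(fiveV + xhs)

theorem dot_whs (y : GolayPt → ℤ) :
    dotInt (whs : GolayPt → ℤ) y = -dotInt (fiveV : GolayPt → ℤ) y - dotInt (xhs : GolayPt → ℤ) y := by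
  have : (whs : GolayPt → ℤ) = fun i => -((fiveV : GolayPt → ℤ) i + (xhs : GolayPt → ℤ) i) := rfl
  rw [this, dotInt, dotInt, dotInt, ← Finset.sum_neg_distrib, ← Finset.sum_sub_distrib]
  exact Finset.sum_congr rfl fun i _ => by ring

/-- A pair with product `-32` has a normal form. -/
theorem normal_hs {v w : leechLattice} (hv : sqNorm (v : GolayPt → ℤ) = 48)
    (hw : sqNorm (w : GolayPt → ℤ) = 48) (hvw : dotInt (v : GolayPt → ℤ) w = -32) :
    ∃ g : Co0, g • v = fiveV ∧ g • w = whs := by
  have hneg : ∀ p : GolayPt → ℤ, sqNorm (-p) = sqNorm p := fun p => by simp [sqNorm]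
  have dneg : ∀ p q : GolayPt → ℤ, dotInt p (-q) = -dotInt p q := fun p q => by
    simp [dotInt, Finset.sum_neg_distrib]
  obtain ⟨g, g1, g2⟩ := normal_eleven hv (x := -(v + w)) (by
      rw [AddSubgroup.coe_neg, hneg, AddSubgroup.coe_add, sqNorm_add, hv, hw, hvw]; norm_num) (by
      rw [AddSubgroup.coe_neg, dneg, AddSubgroup.coe_add, dotInt_comm, dotInt_add_left,
        dotInt_self, hv, dotInt_comm, hvw]; norm_num)
  refine ⟨g, g1, ?_⟩
  rw [whs, ← g1, ← g2, co0_neg, co0_add]
  abel

/-- The two vectors are exchanged. -/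
theorem hs_swap {v w : leechLattice} (hv : sqNorm (v : GolayPt → ℤ) = 48)
    (hw : sqNorm (w : GolayPt → ℤ) = 48) (hvw : dotInt (v : GolayPt → ℤ) w = -32) :
    ∃ g : Co0, g • v = w ∧ g • w = v := by
  obtain ⟨g, g1, g2⟩ := normal_hs hv hw hvw
  obtain ⟨σ, s1, s2⟩ := M24_two pinf_ne_pz pinf_ne_pz.symm
  have hk : ∀ a b : leechLattice,
      (∀ i, (b : GolayPt → ℤ) ((σ : Equiv.Perm GolayPt) i) = -(a : GolayPt → ℤ) i) →
      (negCo0 * monoCo0 σ σ.2 ∅ empty_code) • a = b := by
    intro a b h
    rw [mul_smul, negCo0_smul]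
    refine Subtype.ext (funext fun i => ?_)
    obtain ⟨i, rfl⟩ := (σ : Equiv.Perm GolayPt).surjective i
    rw [AddSubgroup.coe_neg, Pi.neg_apply, perm_apply, h]
  have e1 : ∀ i, (σ : Equiv.Perm GolayPt) i = pz ↔ i = pinf := fun i =>
    ⟨fun h => (σ : Equiv.Perm GolayPt).injective (h.trans s1.symm), fun h => h ▸ s1⟩
  have e2 : ∀ i, (σ : Equiv.Perm GolayPt) i = pinf ↔ i = pz := fun i =>
    ⟨fun h => (σ : Equiv.Perm GolayPt).injective (h.trans s2.symm), fun h => h ▸ s2⟩
  have k1 := hk fiveV whs fun i => by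
    show -((fiveV : GolayPt → ℤ) _ + (xhs : GolayPt → ℤ) _) = _
    simp only [fiveV, five, xhs, Pi.add_apply, Pi.single_apply, e1, e2]
    by_cases a : i = pinf
    · subst a; simp [pinf_ne_pz]
    · by_cases b : i = pz <;> simp [a, b, pinf_ne_pz.symm]
  have k2 := hk whs fiveV fun i => by
    show _ = - -((fiveV : GolayPt → ℤ) i + (xhs : GolayPt → ℤ) i)
    simp only [fiveV, five, xhs, Pi.add_apply, Pi.single_apply, e2]
    by_cases a : i = pinf
    · subst a; simp [pinf_ne_pz]
    · by_cases b : i = pz <;> simp [a, b, pinf_ne_pz.symm]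
  refine ⟨g⁻¹ * (negCo0 * monoCo0 σ σ.2 ∅ empty_code) * g, ?_, ?_⟩
  · rw [mul_smul, g1, mul_smul, k1, ← g2, inv_smul_smul]
  · rw [mul_smul, g2, mul_smul, k2, ← g1, inv_smul_smul]

/-- The 100 vectors at the standard pair. -/
def hsPoints : Set leechLattice :=
  {y | sqNorm (y : GolayPt → ℤ) = 32 ∧ dotInt (fiveV : GolayPt → ℤ) y = 24 ∧
    dotInt (whs : GolayPt → ℤ) y = -24}

theorem mem_hsPoints {y : leechLattice} : y ∈ hsPoints ↔ sqNorm (y : GolayPt → ℤ) = 32 ∧
    (∑ i, (y : GolayPt → ℤ) i) + 4 * (y : GolayPt → ℤ) pinf = 24 ∧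
    (y : GolayPt → ℤ) pz = (y : GolayPt → ℤ) pinf := by
  simp only [hsPoints, Set.mem_setOf_eq, dot_whs, dot_five, dot_xhs]
  constructor <;> rintro ⟨h1, h2, h3⟩ <;> exact ⟨h1, h2, by omega⟩

/-- The vector with entries `2` on an octad. -/
def octP (o : Finset GolayPt) : GolayPt → ℤ := fun i => if i ∈ o then 2 else 0

/-- The vector with entries `1` and one `-3`. -/
def oddP (j : GolayPt) : GolayPt → ℤ := fun i => if i = j then -3 else 1

theorem shape_hs {y : leechLattice} (hy : y ∈ hsPoints) :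
    y = min44 ∨ (∃ o ∈ octads, pinf ∈ o ∧ pz ∈ o ∧ (y : GolayPt → ℤ) = octP o) ∨
      (∃ j, j ≠ pinf ∧ j ≠ pz ∧ (y : GolayPt → ℤ) = oddP j) := by
  classical
  obtain ⟨hn, hs, he⟩ := mem_hsPoints.1 hy
  set x : GolayPt → ℤ := (y : GolayPt → ℤ) with hx
  have hbd := abs_entry_le (B := 5) (by norm_num) (by norm_num) hn pinf
  rcases parity_cases y.2 with hev | hodd
  · let a : GolayPt → ℤ := fun i => x i / 2
    have ha : ∀ i, x i = 2 * a i := fun i => by
      have : x i % 2 = 0 := hev i
      simp only [a]; omega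
    obtain ⟨hw, -⟩ := (even_mem_iff (a := a)).1 (by convert y.2 using 1; funext i; exact (ha i).symm)
    have hna : ∑ i, a i ^ 2 = 8 := by
      have : sqNorm x = 4 * ∑ i, a i ^ 2 := by
        rw [sqNorm, Finset.mul_sum]; exact Finset.sum_congr rfl fun i _ => by rw [ha i]; ring
      omega
    have hsa : ∑ i, a i + 4 * a pinf = 12 := by
      have : ∑ i, x i = 2 * ∑ i, a i := by
        rw [Finset.mul_sum]; exact Finset.sum_congr rfl fun i _ => ha i
      have := ha pinf
      omega
    have hpr : a pz = a pinf := by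
      have := ha pz; have := ha pinf; omega
    have hge : ∀ i, 0 ≤ a i ^ 2 - a i := fun i => by
      rcases (show a i ≤ 0 ∨ a i ≥ 1 by omega) with h | h <;> nlinarith
    have htot : ∑ i, (a i ^ 2 - a i) = 4 * a pinf - 4 := by
      rw [Finset.sum_sub_distrib, hna]; linarith
    have h2 : a pinf ^ 2 - a pinf + (a pz ^ 2 - a pz) ≤ 4 * a pinf - 4 := by
      rw [← htot, ← Finset.sum_pair (f := fun i => a i ^ 2 - a i) pinf_ne_pz]
      exact Finset.sum_le_sum_of_subset_of_nonneg (Finset.subset_univ _) fun i _ _ => hge i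
    rw [hpr] at h2
    have hrest : ∀ i, i ≠ pinf → i ≠ pz → a i ^ 2 - a i ≤
        4 * a pinf - 4 - 2 * (a pinf ^ 2 - a pinf) := by
      intro i h1 h2'
      have h3 : ∑ k ∈ ({i, pinf, pz} : Finset GolayPt), (a k ^ 2 - a k) ≤ ∑ k, (a k ^ 2 - a k) :=
        Finset.sum_le_sum_of_subset_of_nonneg (Finset.subset_univ _) fun k _ _ => hge k
      rw [Finset.sum_insert (by simp [h1, h2']), Finset.sum_pair pinf_ne_pz, htot, hpr] at h3
      linarith
    rcases (show a pinf = 1 ∨ a pinf = 2 by
      rcases (show a pinf ≤ 0 ∨ a pinf = 1 ∨ a pinf = 2 ∨ 3 ≤ a pinf by omega) with h | h | h | h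
      · nlinarith [hge pinf]
      · exact Or.inl h
      · exact Or.inr h
      · nlinarith) with h1 | h2'
    · right; left
      have h01 : ∀ i, a i = 0 ∨ a i = 1 := fun i => by
        by_cases p : i = pinf
        · subst p; exact Or.inr h1
        by_cases q : i = pz
        · subst q; exact Or.inr (hpr.trans h1)
        have := hrest i p q
        rw [h1] at this
        rcases (show a i ≤ -1 ∨ a i = 0 ∨ a i = 1 ∨ 2 ≤ a i by omega) with h | h | h | h
        · nlinarith
        · exact Or.inl h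
        · exact Or.inr h
        · nlinarith
      refine ⟨support₂ (mod2 a), ⟨mem_supports_word.2 hw, ?_⟩, ?_, ?_, funext fun i => ?_⟩
      · have : ((support₂ (mod2 a)).card : ℤ) = ∑ i, a i ^ 2 := by
          rw [Finset.card_eq_sum_ones, Nat.cast_sum,
            ← Finset.sum_subset (Finset.subset_univ (support₂ (mod2 a))) (f := fun i => a i ^ 2)
              fun i _ hi => by
                rw [mem_support_mod2] at hi
                rcases h01 i with h | h <;> rw [h] at hi ⊢ <;> simp at hi ⊢]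
          refine Finset.sum_congr rfl fun i hi => ?_
          rw [mem_support_mod2] at hi
          rcases h01 i with h | h <;> rw [h] at hi ⊢ <;> simp at hi ⊢
        omega
      · rw [mem_support_mod2, h1]; norm_num
      · rw [mem_support_mod2, hpr, h1]; norm_num
      · simp only [octP, mem_support_mod2]
        rcases h01 i with h | h <;> rw [ha i, h] <;> norm_num
    · left
      refine Subtype.ext (funext fun i => ?_)
      show x i = _
      simp only [min44_coe, Pi.add_apply, Pi.single_apply]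
      by_cases p : i = pinf
      · subst p; rw [if_pos rfl, if_neg pinf_ne_pz, ha, h2']; norm_num
      by_cases q : i = pz
      · subst q; rw [if_neg p, if_pos rfl, ha, hpr, h2']; norm_num
      have h8 : a i ^ 2 ≤ 0 := by
        have h3 : ∑ k ∈ ({i, pinf, pz} : Finset GolayPt), a k ^ 2 ≤ ∑ k, a k ^ 2 :=
          Finset.sum_le_sum_of_subset_of_nonneg (Finset.subset_univ _) fun k _ _ => sq_nonneg _
        rw [Finset.sum_insert (by simp [p, q]), Finset.sum_pair pinf_ne_pz, hna, hpr, h2'] at h3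
        linarith
      have : a i = 0 := by nlinarith [sq_nonneg (a i)]
      rw [if_neg p, if_neg q, ha, this]; norm_num
  · right; right
    have hodd' : ∀ i, x i % 2 = 1 := hodd
    have hsq : ∑ i, (x i - 1) ^ 2 = 8 + 8 * x pinf := by
      have e : ∀ i, (x i - 1) ^ 2 = x i ^ 2 - 2 * x i + 1 := fun i => by ring
      rw [Finset.sum_congr rfl fun i _ => e i, Finset.sum_add_distrib, Finset.sum_sub_distrib,
        ← Finset.mul_sum, Finset.sum_const, Finset.card_univ]
      simp only [sqNorm] at hn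
      rw [hn]
      simp [-Fintype.sum_option]
      linarith
    have h2 : 2 * (x pinf - 1) ^ 2 ≤ 8 + 8 * x pinf := by
      rw [← hsq]
      calc 2 * (x pinf - 1) ^ 2 = (x pinf - 1) ^ 2 + (x pz - 1) ^ 2 := by rw [he]; ring
        _ = ∑ i ∈ ({pinf, pz} : Finset GolayPt), (x i - 1) ^ 2 :=
          (Finset.sum_pair (f := fun i => (x i - 1) ^ 2) pinf_ne_pz).symm
        _ ≤ _ := Finset.sum_le_sum_of_subset_of_nonneg (Finset.subset_univ _) fun i _ _ => sq_nonneg _
    have h22 : (22 : ℤ) + 2 * x pinf ^ 2 ≤ 32 := by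
      have h1 : ∀ k, (1 : ℤ) ≤ x k ^ 2 := fun k => by
        have := hodd' k
        nlinarith [Int.one_le_abs (show x k ≠ 0 by omega), sq_abs (x k)]
      rw [← hn, sqNorm, ← Finset.sum_add_sum_compl ({pinf, pz} : Finset GolayPt),
        Finset.sum_pair pinf_ne_pz, he]
      have h' : ∑ _k ∈ ({pinf, pz} : Finset GolayPt)ᶜ, (1 : ℤ) ≤
          ∑ k ∈ ({pinf, pz} : Finset GolayPt)ᶜ, x k ^ 2 := Finset.sum_le_sum fun k _ => h1 k
      have e22 : ((Fintype.card GolayPt - 2 : ℕ) : ℤ) = 22 := by simp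
      rw [Finset.sum_const, Finset.card_compl, Finset.card_pair pinf_ne_pz, nsmul_eq_mul, mul_one,
        e22] at h'
      linarith
    have h1 : x pinf = 1 := by
      have := hodd' pinf
      have hp : x pinf ≤ 2 ∧ -2 ≤ x pinf := ⟨by nlinarith, by nlinarith⟩
      rcases (show x pinf = 1 ∨ x pinf = -1 by omega) with h | h
      · exact h
      · rw [h] at h2; norm_num at h2
    rw [h1] at hsq
    obtain ⟨hc, -⟩ := (odd_mem_iff hodd').1 y.2
    have hc0 : (Finset.univ.filter fun i => x i % 4 = 3) = ∅ := by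
      have hle : ((Finset.univ.filter fun i => x i % 4 = 3).card : ℤ) * 4 ≤
          ∑ i, (x i - 1) ^ 2 := by
        calc ((Finset.univ.filter fun i => x i % 4 = 3).card : ℤ) * 4
            = ∑ _i ∈ Finset.univ.filter (fun i => x i % 4 = 3), (4 : ℤ) := by simp
          _ ≤ ∑ i ∈ Finset.univ.filter (fun i => x i % 4 = 3), (x i - 1) ^ 2 :=
            Finset.sum_le_sum fun i hi => by
              rw [Finset.mem_filter] at hi
              rcases (show x i ≥ 3 ∨ x i ≤ -1 by omega) with h | h <;> nlinarith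
          _ ≤ _ := Finset.sum_le_sum_of_subset_of_nonneg (Finset.subset_univ _)
            fun i _ _ => sq_nonneg _
      rw [← Finset.card_eq_zero]
      rcases supports_card hc with e | e | e | e | e <;> omega
    have h4 : ∀ i, x i % 4 = 1 := fun i => by
      have hi : i ∉ Finset.univ.filter fun i => x i % 4 = 3 := by rw [hc0]; simp
      rw [Finset.mem_filter] at hi
      simp only [Finset.mem_univ, true_and] at hi
      have := hodd' i
      omega
    have hne : ∑ i, (x i - 1) ^ 2 ≠ 0 := by rw [hsq]; norm_num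
    obtain ⟨j, -, hj⟩ := Finset.exists_ne_zero_of_sum_ne_zero hne
    have hj16 : 16 ≤ (x j - 1) ^ 2 := by
      have := h4 j
      have hj' : x j ≠ 1 := fun e => hj (by rw [e]; norm_num)
      rcases (show x j - 1 ≥ 4 ∨ x j - 1 ≤ -4 by omega) with h | h <;> nlinarith
    have hsplit := Finset.add_sum_erase Finset.univ (fun i => (x i - 1) ^ 2) (Finset.mem_univ j)
    have hrest : ∀ i, i ≠ j → x i = 1 := fun i hi => by
      have := Finset.single_le_sum (f := fun i => (x i - 1) ^ 2) (fun k _ => sq_nonneg _)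
        (show i ∈ Finset.univ.erase j by simp [hi])
      have h0 : (x i - 1) ^ 2 = 0 := le_antisymm (by omega) (sq_nonneg _)
      have := pow_eq_zero_iff two_ne_zero |>.1 h0
      omega
    have hjne : j ≠ pinf ∧ j ≠ pz := by
      constructor <;> rintro rfl
      · rw [h1] at hj16; norm_num at hj16
      · rw [he, h1] at hj16; norm_num at hj16
    have hj3 : x j = -3 := by
      have := Finset.add_sum_erase Finset.univ x (Finset.mem_univ j)
      rw [Finset.sum_congr rfl fun i hi => hrest i (Finset.ne_of_mem_erase hi), Finset.sum_const,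
        Finset.card_erase_of_mem (Finset.mem_univ _), Finset.card_univ] at this
      simp [-Fintype.sum_option] at this
      omega
    refine ⟨j, hjne.1, hjne.2, funext fun i => ?_⟩
    simp only [oddP]
    split_ifs with h
    · subst h; exact hj3
    · exact hrest i h

theorem min44_hs : min44 ∈ hsPoints := by
  rw [mem_hsPoints]
  exact ⟨min44_norm, by decide +kernel, by decide +kernel⟩

/-- The auxiliary vector moving a point of the configuration to `min44`. -/
theorem exists_aux_hs {y : leechLattice} (hy : y ∈ hsPoints) :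
    ∃ w : leechLattice, sqNorm (w : GolayPt → ℤ) = 32 ∧
      dotInt (fiveV : GolayPt → ℤ) w = -8 ∧ dotInt (xhs : GolayPt → ℤ) w = -16 ∧
      dotInt (y : GolayPt → ℤ) w = 8 := by
  classical
  obtain ⟨hn, hs, he⟩ := mem_hsPoints.1 hy
  rcases shape_hs hy with rfl | ⟨o, ho, o1, o2, hy'⟩ | ⟨j, j1, j2, hy'⟩
  · refine ⟨vec8 pinf - fiveV, ?_, ?_, ?_, ?_⟩ <;> decide +kernel
  · let x : GolayPt → ℤ := fun i =>
      if i = pinf then 1 else if i = pz then -3 else if i ∈ o then 1 else -1
    have hodd : ∀ i, x i % 2 = 1 := fun i => by simp only [x]; split_ifs <;> norm_num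
    have hval : ∀ i, x i = 2 * (if i ∈ o then 1 else 0) - 1 + if i = pz then -4 else 0 := fun i => by
      simp only [x]
      by_cases p : i = pinf
      · subst p; simp [o1, pinf_ne_pz]
      · by_cases q : i = pz
        · subst q; simp [o2, p]
        · by_cases r : i ∈ o <;> simp [p, q, r]
    have hsum : ∑ i, x i = -12 := by
      rw [Finset.sum_congr rfl fun i _ => hval i, Finset.sum_add_distrib, Finset.sum_sub_distrib,
        ← Finset.mul_sum, Finset.sum_ite_mem, Finset.univ_inter, Finset.sum_const, ho.2,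
        Finset.sum_const, Finset.card_univ, Finset.sum_ite_eq', if_pos (Finset.mem_univ _)]
      simp [-Fintype.sum_option]
    have hxm : x ∈ leechLattice := by
      rw [odd_mem_iff hodd]
      refine ⟨?_, by rw [hsum]; norm_num⟩
      convert symmDiff_mem_supports univ_mem_supports ho.1 using 1
      ext i
      simp only [Finset.mem_filter, Finset.mem_univ, true_and, Finset.mem_symmDiff, not_true,
        and_false, or_false, x]
      by_cases p : i = pinf
      · subst p; simp [o1]
      · by_cases q : i = pz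
        · subst q; simp [o2, p]
        · by_cases r : i ∈ o <;> simp [p, q, r]
    have x1 : x pinf = 1 := by simp [x]
    have x2 : x pz = -3 := by simp [x, pinf_ne_pz.symm]
    refine ⟨⟨x, hxm⟩, ?_, ?_, ?_, ?_⟩
    · show sqNorm x = 32
      have e : ∀ i, x i ^ 2 = 1 + if i = pz then 8 else 0 := fun i => by
        rw [hval i]
        by_cases q : i = pz
        · subst q; simp [o2]
        · by_cases r : i ∈ o <;> simp [r, q]
      rw [sqNorm, Finset.sum_congr rfl fun i _ => e i, Finset.sum_add_distrib, Finset.sum_const,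
        Finset.card_univ, Finset.sum_ite_eq', if_pos (Finset.mem_univ _)]
      simp [-Fintype.sum_option]
    · rw [dot_five]; show (∑ i, x i) + 4 * x pinf = -8; rw [hsum, x1]; norm_num
    · rw [dot_xhs]; show -4 * x pinf + 4 * x pz = -16; rw [x1, x2]; norm_num
    · rw [hy']
      show dotInt (octP o) x = 8
      have e : ∀ i, octP o i * x i = (if i ∈ o then 2 else 0) + if i = pz then -8 else 0 := fun i => by
        simp only [octP]
        rw [hval i]
        by_cases q : i = pz
        · subst q; simp [o2]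
        · by_cases r : i ∈ o <;> simp [r, q]
      rw [dotInt, Finset.sum_congr rfl fun i _ => e i, Finset.sum_add_distrib, Finset.sum_ite_mem,
        Finset.univ_inter, Finset.sum_const, ho.2, Finset.sum_ite_eq', if_pos (Finset.mem_univ _)]
      norm_num
  · obtain ⟨h1, h2⟩ := pair4_mem (Ne.symm j2) (a := -4) (b := -4) (Or.inr rfl) (Or.inr rfl)
    refine ⟨⟨_, h1⟩, h2, ?_, ?_, ?_⟩
    · show dotInt _ (Pi.single pz (-4) + Pi.single j (-4)) = -8
      rw [dotInt_pair]; simp [fiveV, five, pinf_ne_pz.symm, j1]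
    · show dotInt _ (Pi.single pz (-4) + Pi.single j (-4)) = -16
      rw [dotInt_pair]; simp [xhs, pinf_ne_pz.symm, j1, j2]
    · show dotInt _ (Pi.single pz (-4) + Pi.single j (-4)) = 8
      rw [hy', dotInt_pair]; simp [oddP, Ne.symm j2]

/-- The joint stabiliser moves every point to `min44`. -/
theorem hs_to_min44 {y : leechLattice} (hy : y ∈ hsPoints) :
    ∃ g : Co0, g • fiveV = fiveV ∧ g • xhs = xhs ∧ g • y = min44 := by
  classical
  obtain ⟨w, w1, w2, w3, w4⟩ := exists_aux_hs hy
  obtain ⟨hn, hs, he⟩ := mem_hsPoints.1 hy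
  obtain ⟨g, g1, g2⟩ := five_frame fiveV_norm w1 w2
  have hy0 : dotInt (y : GolayPt → ℤ) fiveV = 24 := by rw [dotInt_comm, dot_five]; exact hs
  have x4 : ((g • xhs : leechLattice) : GolayPt → ℤ) pinf = -4 := by
    have := g2 xhs
    rw [dotInt_comm, xhs_five, w3] at this
    omega
  have y4 : ((g • y : leechLattice) : GolayPt → ℤ) pinf = 4 := by
    have := g2 y
    rw [hy0, w4] at this
    omega
  have hxy : dotInt ((g • xhs : leechLattice) : GolayPt → ℤ) (g • y : leechLattice) = 0 := by
    rw [co0_dot, dot_xhs, he]; ring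
  obtain ⟨j, j1, j2, j3⟩ := shape_neg4 (g • xhs).2 ((co0_sq g xhs).trans xhs_norm) x4 (by
    rw [← g1, co0_dot, xhs_five])
  have yj : ((g • y : leechLattice) : GolayPt → ℤ) j = 4 := by
    have e : ((g • xhs : leechLattice) : GolayPt → ℤ) = Pi.single pinf (-4) + Pi.single j 4 := by
      funext i
      simp only [Pi.add_apply, Pi.single_apply]
      by_cases a : i = pinf
      · subst a; rw [if_pos rfl, if_neg (Ne.symm j1), x4]; norm_num
      · by_cases b : i = j
        · subst b; rw [if_neg a, if_pos rfl, j2]; norm_num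
        · rw [if_neg a, if_neg b, j3 i a b]; norm_num
    rw [e, dotInt_comm, dotInt_pair, y4] at hxy
    omega
  have y0 : ∀ i, i ≠ pinf → i ≠ j → ((g • y : leechLattice) : GolayPt → ℤ) i = 0 := by
    intro i h1 h2
    have hn' : sqNorm ((g • y : leechLattice) : GolayPt → ℤ) = 32 := (co0_sq g y).trans hn
    have h3 : ∑ k ∈ ({i, pinf, j} : Finset GolayPt), ((g • y : leechLattice) : GolayPt → ℤ) k ^ 2 ≤
        sqNorm ((g • y : leechLattice) : GolayPt → ℤ) :=
      Finset.sum_le_sum_of_subset_of_nonneg (Finset.subset_univ _) fun k _ _ => sq_nonneg _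
    rw [Finset.sum_insert (by simp [h1, h2]), Finset.sum_pair (Ne.symm j1), hn', y4, yj] at h3
    exact pow_eq_zero_iff two_ne_zero |>.1 (le_antisymm (by linarith) (sq_nonneg _))
  obtain ⟨σ, s1, s2⟩ := M24_two (Ne.symm j1) pinf_ne_pz
  have e : ∀ a b, σ • a = b → ∀ i, ((σ : Equiv.Perm GolayPt) i = b ↔ i = a) := fun a b h i =>
    ⟨fun h' => (σ : Equiv.Perm GolayPt).injective (h'.trans h.symm), fun h' => h' ▸ h⟩
  refine ⟨monoCo0 σ σ.2 ∅ empty_code * g, by rw [mul_smul, g1, perm_fix_five s1], ?_, ?_⟩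
  · rw [mul_smul]
    refine Subtype.ext (funext fun i => ?_)
    obtain ⟨i, rfl⟩ := (σ : Equiv.Perm GolayPt).surjective i
    rw [perm_apply]
    simp only [xhs, Pi.add_apply, Pi.single_apply, e _ _ s1, e _ _ s2]
    by_cases a : i = pinf
    · subst a; rw [if_pos rfl, if_neg (Ne.symm j1)]; simpa [xhs] using x4
    · by_cases b : i = j
      · subst b; rw [if_neg a, if_pos rfl]; simpa [xhs] using j2
      · rw [if_neg a, if_neg b]; simpa [xhs] using j3 i a b
  · rw [mul_smul]
    refine Subtype.ext (funext fun i => ?_)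
    obtain ⟨i, rfl⟩ := (σ : Equiv.Perm GolayPt).surjective i
    rw [perm_apply]
    simp only [min44_coe, Pi.add_apply, Pi.single_apply, e _ _ s1, e _ _ s2]
    by_cases a : i = pinf
    · subst a; rw [if_pos rfl, if_neg (Ne.symm j1), y4]; norm_num
    · by_cases b : i = j
      · subst b; rw [if_neg a, if_pos rfl, yj]; norm_num
      · rw [if_neg a, if_neg b, y0 i a b]; norm_num

theorem hsPoints_counts :
    (∑ t ∈ Finset.Icc (-5 : ℤ) 5, markCase [(23, t), (0, t)] 8 (24 - 4 * t)) = 100 ∧
      markCase [(23, 1), (0, 1)] 8 20 = 22 ∧ markCase [(23, 2), (0, 2)] 8 16 = 77 := by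
  decide +kernel

theorem ncard_hs_fibre (t : ℤ) (ht : t ∈ Finset.Icc (-5 : ℤ) 5) :
    {y : leechLattice | y ∈ hsPoints ∧ (y : GolayPt → ℤ) pinf = t}.ncard =
      markCase [(23, t), (0, t)] 8 (24 - 4 * t) := by
  have e : {y : leechLattice | y ∈ hsPoints ∧ (y : GolayPt → ℤ) pinf = t} =
      {y : leechLattice | sqNorm (y : GolayPt → ℤ) = 32 ∧ (y : GolayPt → ℤ) pinf = t ∧
        (y : GolayPt → ℤ) (pt 0) = t ∧ ∑ i, (y : GolayPt → ℤ) i = 24 - 4 * t} := by
    ext y
    simp only [Set.mem_setOf_eq, mem_hsPoints]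
    constructor
    · rintro ⟨⟨a, b, c⟩, d⟩; exact ⟨a, d, c.trans d, by omega⟩
    · rintro ⟨a, b, c, d⟩; exact ⟨⟨a, by omega, c.trans b.symm⟩, b⟩
  rw [e, ncard_subtype_leech fun y => sqNorm y = 32 ∧ y pinf = t ∧ y (pt 0) = t ∧
    ∑ i, y i = 24 - 4 * t, ← ncard_two t t ht ht rfl 8 (by norm_num)]
  rfl

theorem hsPoints_finite : hsPoints.Finite := by
  refine (((finite_norm 32).preimage Subtype.val_injective.injOn)).subset fun y hy => ?_
  exact ⟨y.2, (mem_hsPoints.1 hy).1⟩

theorem ncard_hsPoints : hsPoints.ncard = 100 := by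
  classical
  rw [Set.ncard_eq_toFinset_card _ hsPoints_finite,
    Finset.card_eq_sum_card_fiberwise (f := fun y : leechLattice => (y : GolayPt → ℤ) pinf)
      (t := Finset.Icc (-5) 5) (fun y hy => by
        rw [Finset.mem_coe, Set.Finite.mem_toFinset] at hy
        exact Finset.mem_Icc.2
          (abs_entry_le (B := 5) (by norm_num) (by norm_num) (mem_hsPoints.1 hy).1 pinf))]
  refine (Finset.sum_congr rfl fun t ht => ?_).trans hsPoints_counts.1
  rw [← ncard_hs_fibre t ht, ← Set.ncard_coe_finset]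
  congr 1
  ext y
  simp

theorem hs_trans {y y' : leechLattice} (hy : y ∈ hsPoints) (hy' : y' ∈ hsPoints) :
    ∃ g : Co0, g • fiveV = fiveV ∧ g • xhs = xhs ∧ g • y = y' := by
  obtain ⟨g, g1, g2, g3⟩ := hs_to_min44 hy
  obtain ⟨k, k1, k2, k3⟩ := hs_to_min44 hy'
  exact ⟨k⁻¹ * g, by rw [mul_smul, g1, inv_smul_eq_iff, k1],
    by rw [mul_smul, g2, inv_smul_eq_iff, k2], by rw [mul_smul, g3, ← k3, inv_smul_smul]⟩

end CfsgLib.Golay
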