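import Cfsg.Agent.Lib.Golay.Co0HS
import Cfsg.Agent.Lib.Golay.Co0Census

/-! The group of the configuration of 100 vectors. -/

set_option autoImplicit false
set_option maxRecDepth 100000

namespace CfsgLib.Golay

open Cfsg
open scoped Pointwise

/-- The 100 vectors at an arbitrary pair. -/
def hsAt (v w : leechLattice) : Set leechLattice :=
  {x | sqNorm (x : GolayPt → ℤ) = 32 ∧ dotInt (v : GolayPt → ℤ) x = 24 ∧
    dotInt (w : GolayPt → ℤ) x = -24}

theorem hsAt_smul (g : Co0) (v w : leechLattice) (x : leechLattice) :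
    g • x ∈ hsAt (g • v) (g • w) ↔ x ∈ hsAt v w := by
  simp only [hsAt, Set.mem_setOf_eq, co0_sq, co0_dot]

theorem hsAt_std : hsAt fiveV whs = hsPoints := rfl

theorem hsAt_count {v w : leechLattice} (hv : sqNorm (v : GolayPt → ℤ) = 48)
    (hw : sqNorm (w : GolayPt → ℤ) = 48) (hvw : dotInt (v : GolayPt → ℤ) w = -32) :
    (hsAt v w).ncard = 100 := by
  obtain ⟨g, g1, g2⟩ := normal_hs hv hw hvw
  rw [← Set.ncard_image_of_injective (hsAt v w) (MulAction.injective g), ← ncard_hsPoints]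
  refine congrArg Set.ncard (Set.ext fun x => ⟨?_, fun hx => ⟨g⁻¹ • x, ?_, smul_inv_smul g x⟩⟩)
  · rintro ⟨u, hu, rfl⟩
    rw [← hsAt_std, ← g1, ← g2, hsAt_smul]
    exact hu
  · rw [← hsAt_smul g v w, g1, g2, smul_inv_smul, hsAt_std]
    exact hx

theorem hsAt_trans {v w : leechLattice} (hv : sqNorm (v : GolayPt → ℤ) = 48)
    (hw : sqNorm (w : GolayPt → ℤ) = 48) (hvw : dotInt (v : GolayPt → ℤ) w = -32)
    {x x' : leechLattice} (hx : x ∈ hsAt v w) (hx' : x' ∈ hsAt v w) :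
    ∃ g : Co0, g • v = v ∧ g • w = w ∧ g • x = x' := by
  obtain ⟨g, g1, g2⟩ := normal_hs hv hw hvw
  rw [← hsAt_smul g, g1, g2, hsAt_std] at hx hx'
  obtain ⟨k, k1, k2, k3⟩ := hs_trans hx hx'
  refine ⟨g⁻¹ * k * g, ?_, ?_, ?_⟩
  · rw [mul_smul, g1, mul_smul, k1, ← g1, inv_smul_smul]
  · rw [mul_smul, g2, mul_smul, whs, co0_neg, co0_add, k1, k2, ← whs, ← g2, inv_smul_smul]
  · rw [mul_smul, mul_smul, k3, inv_smul_smul]

/-- A permutation fixing the two base points fixes the standard pair and `min44`. -/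
theorem perm_fix_hs {σ : M24} (h1 : σ • pinf = pinf) (h2 : σ • pz = pz) :
    monoCo0 σ σ.2 ∅ empty_code • fiveV = fiveV ∧ monoCo0 σ σ.2 ∅ empty_code • xhs = xhs ∧
      monoCo0 σ σ.2 ∅ empty_code • min44 = min44 := by
  refine ⟨perm_fix_five h1, Subtype.ext (funext fun i => ?_),
    mono_fix_min44 σ h1 h2 empty_code (Finset.notMem_empty _) (Finset.notMem_empty _)⟩
  obtain ⟨i, rfl⟩ := (σ : Equiv.Perm GolayPt).surjective i
  have e : ∀ a, σ • a = a → ((σ : Equiv.Perm GolayPt) i = a ↔ i = a) := fun a h =>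
    ⟨fun h' => (σ : Equiv.Perm GolayPt).injective (h'.trans h.symm), fun h' => h' ▸ h⟩
  rw [perm_apply]
  simp only [xhs, Pi.add_apply, Pi.single_apply, e _ h1, e _ h2]

/-- The points with first entry `1` are exchanged by permutations fixing two points. -/
theorem hs_orbit_22 {j j' : GolayPt} (h1 : j ≠ pinf) (h2 : j ≠ pz) (h1' : j' ≠ pinf) (h2' : j' ≠ pz)
    {y y' : leechLattice} (hy : (y : GolayPt → ℤ) = oddP j) (hy' : (y' : GolayPt → ℤ) = oddP j') :
    ∃ σ : M24, σ • pinf = pinf ∧ σ • pz = pz ∧ monoCo0 σ σ.2 ∅ empty_code • y = y' := by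
  obtain ⟨σ, s1, s2, s3⟩ := M24_three pinf_ne_pz h1.symm h2.symm pinf_ne_pz h1'.symm h2'.symm
  refine ⟨σ, s1, s2, Subtype.ext (funext fun i => ?_)⟩
  obtain ⟨i, rfl⟩ := (σ : Equiv.Perm GolayPt).surjective i
  rw [perm_apply, hy, hy']
  have e : (σ : Equiv.Perm GolayPt) i = j' ↔ i = j :=
    ⟨fun h => (σ : Equiv.Perm GolayPt).injective (h.trans s3.symm), fun h => h ▸ s3⟩
  simp only [oddP, e]

/-- The points with first entry `2` are exchanged by permutations fixing two points. -/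
theorem hs_orbit_77 {o o' : Finset GolayPt} (ho : o ∈ octads) (ho' : o' ∈ octads)
    (h1 : pinf ∈ o) (h2 : pz ∈ o) (h1' : pinf ∈ o') (h2' : pz ∈ o')
    {y y' : leechLattice} (hy : (y : GolayPt → ℤ) = octP o) (hy' : (y' : GolayPt → ℤ) = octP o') :
    ∃ σ : M24, σ • pinf = pinf ∧ σ • pz = pz ∧ monoCo0 σ σ.2 ∅ empty_code • y = y' := by
  obtain ⟨σ, s0, s1, s2⟩ := octad_two ho ho' h1 h2 pinf_ne_pz h1' h2' pinf_ne_pz
  refine ⟨σ, s1, s2, Subtype.ext (funext fun i => ?_)⟩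
  obtain ⟨i, rfl⟩ := (σ : Equiv.Perm GolayPt).surjective i
  rw [perm_apply, hy, hy']
  have e : (σ : Equiv.Perm GolayPt) i ∈ o' ↔ i ∈ o := by
    rw [← s0]; exact Finset.smul_mem_smul_finset_iff _
  simp only [octP, e]

/-- The subdegrees at `min44`. -/
theorem hs_rank3 :
    {y : leechLattice | y ∈ hsPoints ∧ dotInt (min44 : GolayPt → ℤ) y = 8}.ncard = 22 ∧
    {y : leechLattice | y ∈ hsPoints ∧ y ≠ min44 ∧ dotInt (min44 : GolayPt → ℤ) y ≠ 8}.ncard = 77 ∧
    ∀ y ∈ hsPoints, ∀ y' ∈ hsPoints, y ≠ min44 → y' ≠ min44 →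
      (dotInt (min44 : GolayPt → ℤ) y = 8 ↔ dotInt (min44 : GolayPt → ℤ) y' = 8) →
      ∃ σ : M24, σ • pinf = pinf ∧ σ • pz = pz ∧ monoCo0 σ σ.2 ∅ empty_code • y = y' := by
  have hd : ∀ y ∈ hsPoints, dotInt (min44 : GolayPt → ℤ) y = 8 * (y : GolayPt → ℤ) pinf := by
    intro y hy
    rw [dot_min44, (mem_hsPoints.1 hy).2.2]; ring
  refine ⟨?_, ?_, ?_⟩
  · refine Eq.trans (congrArg Set.ncard ?_)
      ((ncard_hs_fibre 1 (by decide)).trans hsPoints_counts.2.1)
    ext y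
    simp only [Set.mem_setOf_eq]
    exact and_congr_right fun hy => by rw [hd y hy]; omega
  · refine Eq.trans (congrArg Set.ncard ?_)
      ((ncard_hs_fibre 2 (by decide)).trans hsPoints_counts.2.2)
    ext y
    simp only [Set.mem_setOf_eq]
    refine and_congr_right fun hy => ?_
    rw [hd y hy]
    rcases shape_hs hy with rfl | ⟨o, -, o1, -, e⟩ | ⟨j, j1, -, e⟩
    · simp [min44_coe, pinf_ne_pz]
    · have hne : y ≠ min44 := fun h => by
        have := congrFun (e.symm.trans (congrArg Subtype.val h)) pinf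
        simp [octP, o1, min44_coe, pinf_ne_pz] at this
      simp [e, octP, o1, hne]
    · simp [e, oddP, Ne.symm j1]
  · intro y hy y' hy' hne hne' hiff
    rw [hd y hy, hd y' hy'] at hiff
    rcases shape_hs hy with h | ⟨o, ho, o1, o2, e⟩ | ⟨j, j1, j2, e⟩
    · exact absurd h hne
    all_goals rcases shape_hs hy' with h' | ⟨o', ho', o1', o2', e'⟩ | ⟨j', j1', j2', e'⟩
    · exact absurd h' hne'
    · exact hs_orbit_77 ho ho' o1 o2 o1' o2' e e'
    · simp [e, e', octP, oddP, o1, Ne.symm j1'] at hiff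
    · exact absurd h' hne'
    · simp [e, e', octP, oddP, o1', Ne.symm j1] at hiff
    · exact hs_orbit_22 j1 j2 j1' j2' e e'

theorem hsAt_rank3 {v w x : leechLattice} (hv : sqNorm (v : GolayPt → ℤ) = 48)
    (hw : sqNorm (w : GolayPt → ℤ) = 48) (hvw : dotInt (v : GolayPt → ℤ) w = -32)
    (hx : x ∈ hsAt v w) :
    {y : leechLattice | y ∈ hsAt v w ∧ dotInt (x : GolayPt → ℤ) y = 8}.ncard = 22 ∧
    {y : leechLattice | y ∈ hsAt v w ∧ y ≠ x ∧ dotInt (x : GolayPt → ℤ) y ≠ 8}.ncard = 77 ∧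
    ∀ y ∈ hsAt v w, ∀ y' ∈ hsAt v w, y ≠ x → y' ≠ x →
      (dotInt (x : GolayPt → ℤ) y = 8 ↔ dotInt (x : GolayPt → ℤ) y' = 8) →
      ∃ g : Co0, g • v = v ∧ g • w = w ∧ g • x = x ∧ g • y = y' := by
  obtain ⟨g₀, a1, a2⟩ := normal_hs hv hw hvw
  have hx0 : g₀ • x ∈ hsPoints := by rw [← hsAt_std, ← a1, ← a2, hsAt_smul]; exact hx
  obtain ⟨k, b1, b2, b3⟩ := hs_to_min44 hx0
  let g : Co0 := k * g₀
  have g1 : g • v = fiveV := by rw [mul_smul, a1, b1]
  have g2 : g • w = whs := by rw [mul_smul, a2, whs, co0_neg, co0_add, b1, b2]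
  have g3 : g • x = min44 := by rw [mul_smul, b3]
  have hm : ∀ y, g • y ∈ hsPoints ↔ y ∈ hsAt v w := fun y => by
    rw [← hsAt_std, ← g1, ← g2, hsAt_smul]
  have hd : ∀ y : leechLattice, dotInt (min44 : GolayPt → ℤ) (g • y : leechLattice) =
      dotInt (x : GolayPt → ℤ) y := fun y => by rw [← g3, co0_dot]
  obtain ⟨c1, c2, c3⟩ := hs_rank3
  refine ⟨?_, ?_, ?_⟩
  · refine Eq.trans ?_ c1
    rw [← Set.ncard_image_of_injective {y : leechLattice | y ∈ hsPoints ∧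
      dotInt (min44 : GolayPt → ℤ) y = 8} (MulAction.injective g⁻¹)]
    refine congrArg Set.ncard (Set.ext fun y => ⟨fun h => ⟨g • y, ?_, inv_smul_smul g y⟩, ?_⟩)
    · exact ⟨(hm y).2 h.1, (hd y).trans h.2⟩
    · rintro ⟨u, ⟨hu1, hu2⟩, rfl⟩
      refine ⟨(hm _).1 ?_, (hd _).symm.trans ?_⟩ <;> rwa [smul_inv_smul]
  · refine Eq.trans ?_ c2
    rw [← Set.ncard_image_of_injective {y : leechLattice | y ∈ hsPoints ∧ y ≠ min44 ∧
      dotInt (min44 : GolayPt → ℤ) y ≠ 8} (MulAction.injective g⁻¹)]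
    refine congrArg Set.ncard (Set.ext fun y => ⟨fun h => ⟨g • y, ?_, inv_smul_smul g y⟩, ?_⟩)
    · exact ⟨(hm y).2 h.1, fun e => h.2.1 (smul_left_cancel g (e.trans g3.symm)),
        fun e => h.2.2 ((hd y).symm.trans e)⟩
    · rintro ⟨u, ⟨hu1, hu2, hu3⟩, rfl⟩
      refine ⟨(hm _).1 ?_, fun e => hu2 ?_, fun e => hu3 ?_⟩
      · rwa [smul_inv_smul]
      · rw [← g3, ← e, smul_inv_smul]
      · rw [← e, ← hd, smul_inv_smul]
  · intro y hy y' hy' hne hne' hiff
    obtain ⟨σ, s1, s2, s3⟩ := c3 _ ((hm y).2 hy) _ ((hm y').2 hy')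
      (fun e => hne (smul_left_cancel g (e.trans g3.symm)))
      (fun e => hne' (smul_left_cancel g (e.trans g3.symm))) (by rwa [hd, hd])
    obtain ⟨f1, f2, f3⟩ := perm_fix_hs s1 s2
    refine ⟨g⁻¹ * monoCo0 σ σ.2 ∅ empty_code * g, ?_, ?_, ?_, ?_⟩
    · rw [mul_smul, g1, mul_smul, f1, ← g1, inv_smul_smul]
    · rw [mul_smul, g2, mul_smul, whs, co0_neg, co0_add, f1, f2, ← whs, ← g2, inv_smul_smul]
    · rw [mul_smul, g3, mul_smul, f3, ← g3, inv_smul_smul]
    · rw [mul_smul, mul_smul, s3, inv_smul_smul]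

/-- The group of the standard pair. -/
abbrev hsGroup : Subgroup Co0 :=
  MulAction.stabilizer Co0 fiveV ⊓ MulAction.stabilizer Co0 whs

theorem mem_hsGroup {g : Co0} : g ∈ hsGroup ↔ g • fiveV = fiveV ∧ g • xhs = xhs := by
  rw [Subgroup.mem_inf, MulAction.mem_stabilizer_iff, MulAction.mem_stabilizer_iff]
  refine and_congr_right fun h => ?_
  rw [whs, co0_neg, co0_add, h, neg_inj, add_right_inj]

theorem card_hsGroup : Nat.card hsGroup = 44352000 := by
  classical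
  let H : Subgroup (MulAction.stabilizer Co0 fiveV) :=
    MulAction.stabilizer (MulAction.stabilizer Co0 fiveV) xhs
  have horb : MulAction.orbit (MulAction.stabilizer Co0 fiveV) xhs =
      {x : leechLattice | sqNorm (x : GolayPt → ℤ) = 32 ∧ dotInt (fiveV : GolayPt → ℤ) x = -16} := by
    ext y
    constructor
    · rintro ⟨g, rfl⟩
      show sqNorm (((g : Co0) • xhs : leechLattice) : GolayPt → ℤ) = 32 ∧
        dotInt (fiveV : GolayPt → ℤ) ((g : Co0) • xhs : leechLattice) = -16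
      refine ⟨(co0_sq _ _).trans xhs_norm, ?_⟩
      have := co0_dot (g : Co0) fiveV xhs
      rw [MulAction.mem_stabilizer_iff.1 g.2] at this
      exact this.trans xhs_five
    · rintro ⟨h1, h2⟩
      obtain ⟨g, g1, g2⟩ := co0_trans_eleven fiveV_norm xhs_norm h1 xhs_five h2
      exact ⟨⟨g, g1⟩, g2⟩
  have hidx : H.index = 11178 := by
    rw [MulAction.index_stabilizer, horb]
    exact (census48 fiveV_norm).2
  have h := H.card_mul_index
  rw [hidx, card_stab48 fiveV_norm] at h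
  have e : Nat.card hsGroup = Nat.card H := Nat.card_congr
    { toFun := fun a => ⟨⟨a.1, (mem_hsGroup.1 a.2).1⟩, (mem_hsGroup.1 a.2).2⟩
      invFun := fun a => ⟨a.1.1, mem_hsGroup.2 ⟨a.1.2, a.2⟩⟩
      left_inv := fun _ => rfl
      right_inv := fun _ => rfl }
  omega

end CfsgLib.Golay
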