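import Cfsg.Agent.Lib.Golay.Co0HSGroup

/-! An involution without fixed points on the configuration of 100 vectors. -/

set_option autoImplicit false

namespace CfsgLib.Golay

open Cfsg
open scoped Pointwise

theorem hs_fpf {v w : leechLattice} (hv : sqNorm (v : GolayPt → ℤ) = 48)
    (hw : sqNorm (w : GolayPt → ℤ) = 48) (hvw : dotInt (v : GolayPt → ℤ) w = -32) :
    ∃ g : Co0, g • v = v ∧ g • w = w ∧ orderOf g = 2 ∧ ∀ x ∈ hsAt v w, g • x ≠ x := by
  classical
  obtain ⟨D, hD⟩ : dodecads.Nonempty :=
    Set.nonempty_of_ncard_ne_zero (by rw [dodecads_ncard]; norm_num)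
  obtain ⟨p, hp, q, hq, hpq⟩ : ∃ p ∈ Dᶜ, ∃ q ∈ Dᶜ, p ≠ q := Finset.one_lt_card.1 (by
    rw [Finset.card_compl, hD.2]; simp)
  rw [Finset.mem_compl] at hp hq
  let a : GolayPt → ℤ := fun i => if i ∈ D then 0 else 1
  have hsum : ∑ i, a i = 12 := by
    have : ∀ i, a i = if i ∈ Dᶜ then 1 else 0 := fun i => by
      by_cases h : i ∈ D <;> simp [a, h]
    rw [Finset.sum_congr rfl fun i _ => this i, Finset.sum_ite_mem, Finset.univ_inter,
      Finset.sum_const, Finset.card_compl, hD.2]
    simp [-Fintype.sum_option]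
  have hav : (fun i => 2 * a i) ∈ leechLattice := by
    rw [even_mem_iff, hsum]
    refine ⟨mem_supports_word.1 ?_, by norm_num⟩
    convert symmDiff_mem_supports univ_mem_supports hD.1 using 1
    ext i
    by_cases h : i ∈ D <;> simp [mem_support_mod2, Finset.mem_symmDiff, a, h]
  let v0 : leechLattice := ⟨_, hav⟩
  let x0 : leechLattice := ⟨_, (pair4_mem hpq (Or.inl rfl) (Or.inl rfl)).1⟩
  let w0 : leechLattice := -v0 + x0
  have hv0 : sqNorm (v0 : GolayPt → ℤ) = 48 := by
    have : ∀ i, (2 * a i) ^ 2 = 4 * a i := fun i => by simp only [a]; split_ifs <;> norm_num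
    show ∑ i, (2 * a i) ^ 2 = 48
    rw [Finset.sum_congr rfl fun i _ => this i, ← Finset.mul_sum, hsum]; norm_num
  have hx0 : sqNorm (x0 : GolayPt → ℤ) = 32 := (pair4_mem hpq (Or.inl rfl) (Or.inl rfl)).2
  have hvx : dotInt (v0 : GolayPt → ℤ) x0 = 16 := by
    show dotInt _ (Pi.single p 4 + Pi.single q 4) = 16
    rw [dotInt_pair]
    simp [v0, a, hp, hq]
  have hneg : ∀ r s : GolayPt → ℤ, dotInt (-r) s = -dotInt r s := fun r s => by
    simp [dotInt, Finset.sum_neg_distrib]
  have hw0 : sqNorm (w0 : GolayPt → ℤ) = 48 := by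
    rw [AddSubgroup.coe_add, sqNorm_add, AddSubgroup.coe_neg, hneg, hvx, hx0]
    have : sqNorm (-(v0 : GolayPt → ℤ)) = 48 := by rw [← hv0]; simp [sqNorm]
    rw [this]; norm_num
  have hvw0 : dotInt (v0 : GolayPt → ℤ) w0 = -32 := by
    rw [AddSubgroup.coe_add, dotInt_comm, dotInt_add_left, AddSubgroup.coe_neg, hneg, dotInt_self,
      hv0, dotInt_comm, hvx]; norm_num
  let e : Co0 := sign0 D hD.1
  have hval : ∀ (u : leechLattice) i, ((e • u : leechLattice) : GolayPt → ℤ) i =
      if i ∈ D then -(u : GolayPt → ℤ) i else (u : GolayPt → ℤ) i := fun u i => rfl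
  have ev : e • v0 = v0 := Subtype.ext (funext fun i => by
    rw [hval]; simp only [v0, a]; split_ifs <;> simp)
  have ex : e • x0 = x0 := Subtype.ext (funext fun i => by
    rw [hval]
    show _ = (Pi.single p 4 + Pi.single q 4 : GolayPt → ℤ) i
    split_ifs with h
    · have h1 : i ≠ p := fun h' => hp (h' ▸ h)
      have h2 : i ≠ q := fun h' => hq (h' ▸ h)
      simp [x0, h1, h2]
    · rfl)
  have ew : e • w0 = w0 := by rw [co0_add, co0_neg, ev, ex]
  obtain ⟨g, g1, g2⟩ := normal_hs hv hw hvw
  obtain ⟨k, k1, k2⟩ := normal_hs hv0 hw0 hvw0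
  let h : Co0 := g⁻¹ * k
  have h1 : h • v0 = v := by rw [mul_smul, k1, ← g1, inv_smul_smul]
  have h2 : h • w0 = w := by rw [mul_smul, k2, ← g2, inv_smul_smul]
  refine ⟨h * e * h⁻¹, ?_, ?_, ?_, ?_⟩
  · rw [mul_smul, mul_smul, inv_smul_eq_iff.2 h1.symm, ev, h1]
  · rw [mul_smul, mul_smul, inv_smul_eq_iff.2 h2.symm, ew, h2]
  · refine (orderOf_eq_prime (p := 2) ?_ ?_)
    · rw [conj_pow, sq, sign0_sq, mul_one, mul_inv_cancel]
    · intro hh
      rw [conj_eq_one_iff] at hh
      obtain ⟨d, hd⟩ : D.Nonempty := Finset.card_pos.1 (by rw [hD.2]; norm_num)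
      have := congrFun (congrArg Subtype.val (congrArg (fun c : Co0 => c • vec8 d) hh)) d
      simp only [one_smul] at this
      rw [hval, if_pos hd] at this
      simp [vec8] at this
  · intro x hx hfix
    rw [mul_smul, mul_smul, ← eq_inv_smul_iff] at hfix
    set y : leechLattice := h⁻¹ • x with hy
    have hy0 : y ∈ hsAt v0 w0 := by
      rw [← hsAt_smul h, h1, h2, hy, smul_inv_smul]; exact hx
    obtain ⟨hn, hd, -⟩ := hy0
    have hz : ∀ i ∈ D, (y : GolayPt → ℤ) i = 0 := fun i hi => by
      have := congrFun (congrArg Subtype.val hfix) i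
      rw [hval, if_pos hi] at this
      omega
    have hev : ∀ i, (y : GolayPt → ℤ) i % 2 = 0 := by
      rcases parity_cases y.2 with hp' | hp'
      · exact hp'
      · obtain ⟨d, hd'⟩ : D.Nonempty := Finset.card_pos.1 (by rw [hD.2]; norm_num)
        have := hp' d
        rw [hz d hd'] at this
        norm_num at this
    let b : GolayPt → ℤ := fun i => (y : GolayPt → ℤ) i / 2
    have hb : ∀ i, (y : GolayPt → ℤ) i = 2 * b i := fun i => by
      have := hev i; simp only [b]; omega
    have hbn : ∑ i, b i ^ 2 = 8 := by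
      have : sqNorm (y : GolayPt → ℤ) = 4 * ∑ i, b i ^ 2 := by
        rw [sqNorm, Finset.mul_sum]; exact Finset.sum_congr rfl fun i _ => by rw [hb i]; ring
      omega
    have hbs : ∑ i, b i = 6 := by
      have : dotInt (v0 : GolayPt → ℤ) y = 4 * ∑ i, b i := by
        rw [dotInt, Finset.mul_sum]
        refine Finset.sum_congr rfl fun i _ => ?_
        show 2 * a i * _ = _
        by_cases hi : i ∈ D
        · simp [a, hi, b, hz i hi]
        · simp [a, hi, hb i]; ring
      omega
    obtain ⟨hwd, -⟩ := (even_mem_iff (a := b)).1 (by convert y.2 using 1; funext i; exact (hb i).symm)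
    have hsub : ∀ i ∈ support₂ (mod2 b), i ∉ D := fun i hi hi' => by
      rw [mem_support_mod2] at hi
      simp [b, hz i hi'] at hi
    have hle : ((support₂ (mod2 b)).card : ℤ) ≤ 8 := by
      rw [← hbn, Finset.card_eq_sum_ones, Nat.cast_sum]
      calc ∑ i ∈ support₂ (mod2 b), ((1 : ℕ) : ℤ) ≤ ∑ i ∈ support₂ (mod2 b), b i ^ 2 :=
            Finset.sum_le_sum fun i hi => by
              rw [mem_support_mod2] at hi
              push_cast
              nlinarith [Int.one_le_abs (show b i ≠ 0 by omega), sq_abs (b i)]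
        _ ≤ _ := Finset.sum_le_sum_of_subset_of_nonneg (Finset.subset_univ _)
            fun i _ _ => sq_nonneg _
    have hc : (support₂ (mod2 b)).card = 0 := by
      have hs := symmDiff_mem_supports (symmDiff_mem_supports univ_mem_supports hD.1)
        (mem_supports_word.2 hwd)
      have e1 : symmDiff (symmDiff Finset.univ D) (support₂ (mod2 b)) =
          Finset.univ \ (D ∪ support₂ (mod2 b)) := by
        ext i
        have := hsub i
        simp only [Finset.mem_symmDiff, Finset.mem_sdiff, Finset.mem_union, Finset.mem_univ]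
        tauto
      have e2 := supports_card hs
      rw [e1, Finset.card_univ_sdiff, Finset.card_union_of_disjoint
        (Finset.disjoint_left.2 fun i hi hi' => hsub i hi' hi), hD.2] at e2
      simp at e2
      rcases supports_card (mem_supports_word.2 hwd) with e | e | e | e | e <;> omega
    have h2b : ∀ i, 2 * b i ≤ b i ^ 2 := fun i => by
      have hi : i ∉ support₂ (mod2 b) := by
        rw [Finset.card_eq_zero.1 hc]; simp
      rw [mem_support_mod2] at hi
      rcases (show b i ≤ 0 ∨ 2 ≤ b i by omega) with h' | h' <;> nlinarith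
    have := Finset.sum_le_sum (s := Finset.univ) fun i _ => h2b i
    rw [← Finset.mul_sum, hbn, hbs] at this
    norm_num at this

end CfsgLib.Golay
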