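import Cfsg.Agent.Lib.Golay.Co0HSGroup

/-! Simplicity of the group of the configuration of 100 vectors. -/

set_option autoImplicit false
set_option maxRecDepth 100000

namespace CfsgLib.Golay

open Cfsg
open scoped Pointwise

/-- The permutations fixing the two base points. -/
abbrev twoPts : Subgroup M24 := MulAction.stabilizer M24 pinf ⊓ MulAction.stabilizer M24 pz

theorem isSimple_twoPts : IsSimpleGroup twoPts := by
  obtain ⟨e⟩ := stab2_equiv pinf_ne_pz
  haveI := isSimple_fix22
  exact e.isSimpleGroup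

/-- The point stabiliser as monomial elements. -/
noncomputable def hsHom : twoPts →* hsGroup :=
  MonoidHom.mk' (fun σ => ⟨monoCo0 σ.1 σ.1.2 ∅ empty_code,
    mem_hsGroup.2 ⟨(perm_fix_hs σ.2.1 σ.2.2).1, (perm_fix_hs σ.2.1 σ.2.2).2.1⟩⟩) fun σ τ => by
    refine Subtype.ext ?_
    show _ = monoCo0 σ.1 σ.1.2 ∅ empty_code * monoCo0 τ.1 τ.1.2 ∅ empty_code
    rw [monoCo0_mul]
    exact monoCo0_congr (hc := empty_code) rfl (by simp)

theorem hsHom_fix (σ : twoPts) : (hsHom σ : Co0) • min44 = min44 :=
  (perm_fix_hs σ.2.1 σ.2.2).2.2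

theorem mem_range_hsHom {g : hsGroup} (hg : (g : Co0) • min44 = min44) : g ∈ hsHom.range := by
  obtain ⟨h1, h2⟩ := mem_hsGroup.1 g.2
  have h8 : vec8 pinf = min44 - xhs := by decide +kernel
  have hN : (g : Co0) ∈ N0 := by
    show leechR.cls ((g : Co0) • vec8 pinf) = leechR.cls (vec8 pinf)
    rw [h8, co0_sub, hg, h2]
  obtain ⟨⟨σ, hσ⟩, e⟩ := mem_range_pointedHom fiveV_pointed (g := ⟨(g : Co0), h1⟩) hN
  have e' : monoCo0 σ σ.2 ∅ empty_code = (g : Co0) := congrArg Subtype.val e
  have hz : σ • pz = pz := by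
    have := congrArg (fun v : leechLattice => (v : GolayPt → ℤ) ((σ : Equiv.Perm GolayPt) pz)) hg
    rw [← e'] at this
    simp only [perm_apply] at this
    by_contra hne
    have hne' : (σ : Equiv.Perm GolayPt) pz ≠ pz := hne
    have hne'' : (σ : Equiv.Perm GolayPt) pz ≠ pinf := fun h =>
      pinf_ne_pz.symm ((σ : Equiv.Perm GolayPt).injective
        (h.trans (show (σ : Equiv.Perm GolayPt) pinf = pinf from hσ).symm))
    simp [min44_coe, pinf_ne_pz.symm, hne', hne''] at this
  exact ⟨⟨σ, hσ, hz⟩, Subtype.ext e'⟩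

theorem hs_mem_points (g : hsGroup) {y : leechLattice} (hy : y ∈ hsPoints) :
    (g : Co0) • y ∈ hsPoints := by
  obtain ⟨h1, h2⟩ := mem_hsGroup.1 g.2
  have hw : (g : Co0) • whs = whs := by rw [whs, co0_neg, co0_add, h1, h2]
  rw [← hsAt_std] at hy ⊢
  have := (hsAt_smul (g : Co0) fiveV whs y).2 hy
  rwa [h1, hw] at this

/-- Sets of points invariant under the point stabiliser. -/
theorem hs_invariant_card {T : Set leechLattice} (hT : T ⊆ hsPoints)
    (hinv : ∀ σ : twoPts, ∀ y ∈ T, (hsHom σ : Co0) • y ∈ T) :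
    (min44 ∈ T → T.ncard ∈ ({1, 23, 78, 100} : Set ℕ)) ∧
      (min44 ∉ T → T.ncard ∈ ({0, 22, 77, 99} : Set ℕ)) := by
  classical
  obtain ⟨c22, c77, htr⟩ := hs_rank3
  set A := {y : leechLattice | y ∈ hsPoints ∧ dotInt (min44 : GolayPt → ℤ) y = 8} with hA
  set B := {y : leechLattice | y ∈ hsPoints ∧ y ≠ min44 ∧ dotInt (min44 : GolayPt → ℤ) y ≠ 8} with hB
  have hfA : A.Finite := hsPoints_finite.subset fun y h => h.1
  have hfB : B.Finite := hsPoints_finite.subset fun y h => h.1
  have hm : min44 ∉ A := fun h => by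
    have h2 := h.2
    rw [dotInt_self, min44_norm] at h2
    norm_num at h2
  have hcover : ∀ y ∈ hsPoints, y = min44 ∨ y ∈ A ∨ y ∈ B := fun y hy => by
    by_cases h : y = min44
    · exact Or.inl h
    by_cases h' : dotInt (min44 : GolayPt → ℤ) y = 8
    · exact Or.inr (Or.inl ⟨hy, h'⟩)
    · exact Or.inr (Or.inr ⟨hy, h, h'⟩)
  have hblock : ∀ y ∈ T, ∀ y' ∈ hsPoints, y ≠ min44 → y' ≠ min44 →
      (dotInt (min44 : GolayPt → ℤ) y = 8 ↔ dotInt (min44 : GolayPt → ℤ) y' = 8) → y' ∈ T := by
    intro y hy y' hy' h1 h2 h3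
    obtain ⟨σ, s1, s2, s3⟩ := htr y (hT hy) y' hy' h1 h2 h3
    rw [← s3]
    exact hinv ⟨σ, s1, s2⟩ y hy
  have hTA : T ∩ A = ∅ ∨ A ⊆ T := by
    rcases (T ∩ A).eq_empty_or_nonempty with h | ⟨y, hy, hyA⟩
    · exact Or.inl h
    · exact Or.inr fun z hz => hblock y hy z hz.1 (fun e => hm (e ▸ hyA)) (fun e => hm (e ▸ hz))
        (iff_of_true hyA.2 hz.2)
  have hTB : T ∩ B = ∅ ∨ B ⊆ T := by
    rcases (T ∩ B).eq_empty_or_nonempty with h | ⟨y, hy, hyB⟩
    · exact Or.inl h
    · exact Or.inr fun z hz => hblock y hy z hz.1 hyB.2.1 hz.2.1 (iff_of_false hyB.2.2 hz.2.2)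
  have hAB : Disjoint A B := Set.disjoint_left.2 fun y h h' => h'.2.2 h.2
  have hfT : T.Finite := hsPoints_finite.subset hT
  have hmB : min44 ∉ B := fun h => h.2.1 rfl
  have key : T.ncard = (if min44 ∈ T then 1 else 0) + (T ∩ A).ncard + (T ∩ B).ncard := by
    have e : T = (T ∩ {min44}) ∪ ((T ∩ A) ∪ (T ∩ B)) := by
      ext y
      constructor
      · intro hy
        rcases hcover y (hT hy) with h | h | h
        · exact Or.inl ⟨hy, h⟩
        · exact Or.inr (Or.inl ⟨hy, h⟩)
        · exact Or.inr (Or.inr ⟨hy, h⟩)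
      · rintro (h | h | h) <;> exact h.1
    conv_lhs => rw [e]
    rw [Set.ncard_union_eq ?_ ((hfT.subset Set.inter_subset_left))
        (((hfA.subset Set.inter_subset_right)).union (hfB.subset Set.inter_subset_right)),
      Set.ncard_union_eq (Disjoint.mono Set.inter_subset_right Set.inter_subset_right hAB)
        (hfA.subset Set.inter_subset_right) (hfB.subset Set.inter_subset_right), add_assoc]
    · congr 1
      split_ifs with h
      · rw [Set.inter_eq_self_of_subset_right (Set.singleton_subset_iff.2 h), Set.ncard_singleton]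
      · rw [Set.inter_singleton_eq_empty.2 h, Set.ncard_empty]
    · refine Set.disjoint_left.2 ?_
      rintro y ⟨-, rfl⟩ (h | h)
      · exact hm h.2
      · exact hmB h.2
  have eA : (T ∩ A).ncard = 0 ∨ (T ∩ A).ncard = 22 := by
    rcases hTA with h | h
    · left; rw [h, Set.ncard_empty]
    · right; rw [Set.inter_eq_self_of_subset_right h]; exact c22
  have eB : (T ∩ B).ncard = 0 ∨ (T ∩ B).ncard = 77 := by
    rcases hTB with h | h
    · left; rw [h, Set.ncard_empty]
    · right; rw [Set.inter_eq_self_of_subset_right h]; exact c77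
  simp only [Set.mem_insert_iff, Set.mem_singleton_iff]
  constructor <;> intro h
  · rw [if_pos h] at key; omega
  · rw [if_neg h] at key; omega

theorem isSimple_hsGroup : IsSimpleGroup hsGroup := by
  classical
  haveI := isSimple_twoPts
  haveI : Nontrivial hsGroup :=
    Finite.one_lt_card_iff_nontrivial.1 (by rw [card_hsGroup]; norm_num)
  constructor
  intro M hM
  let S : Subgroup hsGroup := MulAction.stabilizer hsGroup min44
  have hS : ∀ s : hsGroup, s ∈ S ↔ ∃ σ, hsHom σ = s := fun s =>
    ⟨fun h => mem_range_hsHom h, fun ⟨σ, e⟩ => e ▸ hsHom_fix σ⟩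
  let T : Set leechLattice := MulAction.orbit M min44
  have hT : T ⊆ hsPoints := by
    rintro _ ⟨m, rfl⟩
    exact hs_mem_points m.1 min44_hs
  have hconj : ∀ (σ : twoPts) (m : M),
      (hsHom σ : Co0) • ((m.1 : Co0) • min44) =
        (((hsHom σ * m.1 * (hsHom σ)⁻¹ : hsGroup)) : Co0) • min44 := by
    intro σ m
    simp only [Subgroup.coe_mul, Subgroup.coe_inv, mul_smul]
    rw [inv_smul_eq_iff.2 (hsHom_fix σ).symm]
  have hinv : ∀ σ : twoPts, ∀ y ∈ T, (hsHom σ : Co0) • y ∈ T := by
    rintro σ _ ⟨m, rfl⟩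
    refine ⟨⟨_, hM.conj_mem m.1 m.2 (hsHom σ)⟩, ?_⟩
    exact (hconj σ m).symm
  have horbS : MulAction.orbit hsGroup min44 = hsPoints := by
    ext y
    constructor
    · rintro ⟨g, rfl⟩; exact hs_mem_points g min44_hs
    · intro hy
      obtain ⟨g, g1, g2, g3⟩ := hs_trans min44_hs hy
      exact ⟨⟨g, mem_hsGroup.2 ⟨g1, g2⟩⟩, g3⟩
  have hidx : S.index = 100 := by
    rw [MulAction.index_stabilizer, horbS, ncard_hsPoints]
  have hTrel : T.ncard = S.relIndex M := by
    rw [Subgroup.relIndex, show S.subgroupOf M = MulAction.stabilizer M min44 from rfl,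
      MulAction.index_stabilizer]
  have hdvd : T.ncard ∣ 100 := by
    rw [hTrel, ← hidx]
    have e1 := Subgroup.relIndex_mul_index (inf_le_left : S ⊓ M ≤ S)
    have e2 := Subgroup.relIndex_mul_index (inf_le_right : S ⊓ M ≤ M)
    rw [Subgroup.inf_relIndex_left] at e1
    rw [Subgroup.inf_relIndex_right] at e2
    have h5 : M.relIndex S ∣ M.index := Subgroup.relIndex_dvd_index_of_normal M S
    refine Nat.dvd_of_mul_dvd_mul_right (Nat.pos_of_ne_zero (M.index_ne_zero_of_finite)) ?_
    rw [e2, ← e1, mul_comm S.index]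
    exact mul_dvd_mul_right h5 _
  have hTsize : T.ncard = 1 ∨ T.ncard = 100 := by
    have := (hs_invariant_card hT hinv).1 (MulAction.mem_orbit_self _)
    simp only [Set.mem_insert_iff, Set.mem_singleton_iff] at this
    rcases this with h | h | h | h
    · exact Or.inl h
    · rw [h] at hdvd; norm_num at hdvd
    · rw [h] at hdvd; norm_num at hdvd
    · exact Or.inr h
  have hK : (M.comap hsHom).Normal := hM.comap _
  rcases Subgroup.Normal.eq_bot_or_eq_top hK with h0 | h1
  · left
    have htriv : ∀ m : M, (m.1 : Co0) • min44 = min44 → m = 1 := by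
      intro m hm
      obtain ⟨σ, e⟩ := mem_range_hsHom (g := m.1) hm
      have : σ ∈ M.comap hsHom := by rw [Subgroup.mem_comap, e]; exact m.2
      rw [h0, Subgroup.mem_bot] at this
      subst this
      exact Subtype.ext (e.symm.trans (map_one _))
    have hinj : Function.Injective fun m : M => (m.1 : Co0) • min44 := by
      intro a b h
      have : ((a⁻¹ * b : M).1 : Co0) • min44 = min44 := by
        simp only [Subgroup.coe_mul, Subgroup.coe_inv, mul_smul]
        rw [inv_smul_eq_iff]
        exact h.symm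
      exact inv_mul_eq_one.1 (htriv _ this)
    have hcard : Nat.card M = T.ncard := by
      rw [← Nat.card_coe_set_eq, ← Nat.card_range_of_injective hinj]
      rfl
    rcases hTsize with h | h
    · exact Subgroup.eq_bot_of_card_eq _ (hcard.trans h)
    exfalso
    rw [h] at hcard
    haveI : Fact (Nat.Prime 5) := ⟨by norm_num⟩
    obtain ⟨P⟩ : Nonempty (Sylow 5 M) := inferInstance
    have hP : Nat.card P = 25 := by
      rw [P.card_eq_multiplicity, hcard]
      have : (100 : ℕ).factorization 5 = 2 := by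
        have h1 : 2 ≤ (100 : ℕ).factorization 5 := by
          rw [← Nat.Prime.pow_dvd_iff_le_factorization (by norm_num) (by norm_num)]; norm_num
        have h2 : ¬ 3 ≤ (100 : ℕ).factorization 5 := by
          rw [← Nat.Prime.pow_dvd_iff_le_factorization (by norm_num) (by norm_num)]; norm_num
        omega
      rw [this]; norm_num
    have hone : ∀ Q : Sylow 5 M, Q = P := by
      intro Q
      have h1 := card_sylow_modEq_one 5 M
      have h2 : Nat.card (Sylow 5 M) ∣ 4 := by
        have h3 := P.card_dvd_index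
        have h4 := (P : Subgroup M).card_mul_index
        have h5 : (P : Subgroup M).index = 4 := by
          have hP' : Nat.card (P : Subgroup M) = 25 := hP
          rw [hP', hcard] at h4; omega
        rwa [h5] at h3
      have h3 : Nat.card (Sylow 5 M) = 1 := by
        have := Nat.le_of_dvd (by norm_num) h2
        unfold Nat.ModEq at h1
        omega
      haveI := (Nat.card_eq_one_iff_unique.1 h3).1
      exact Subsingleton.elim _ _
    have hmem : ∀ m : M, m ∈ (P : Subgroup M) ↔ m ^ 25 = 1 := by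
      intro m
      constructor
      · intro hm
        have := orderOf_dvd_natCard (⟨m, hm⟩ : (P : Subgroup M))
        rw [show Nat.card (P : Subgroup M) = 25 from hP] at this
        exact congrArg Subtype.val (orderOf_dvd_iff_pow_eq_one.1 this)
      · intro hm
        have hz : IsPGroup 5 (Subgroup.zpowers m) := by
          obtain ⟨j, -, hj⟩ := (Nat.dvd_prime_pow (by norm_num : Nat.Prime 5)).1
            (show orderOf m ∣ 5 ^ 2 from orderOf_dvd_of_pow_eq_one (by norm_num; exact hm))
          exact IsPGroup.of_card (n := j) (by rw [Nat.card_zpowers, hj])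
        obtain ⟨Q, hQ⟩ := hz.exists_le_sylow
        rw [hone Q] at hQ
        exact hQ (Subgroup.mem_zpowers m)
    let U : Set leechLattice :=
      (fun m : M => (m.1 : Co0) • min44) '' (((P : Subgroup M) : Set M) \ {1})
    have hU : U.ncard = 24 := by
      rw [Set.ncard_image_of_injective _ hinj, Set.ncard_diff (by simp), Set.ncard_singleton,
        ← Nat.card_coe_set_eq]
      exact congrArg (· - 1) hP
    have hUs : U ⊆ hsPoints := by
      rintro _ ⟨m, -, rfl⟩; exact hs_mem_points m.1 min44_hs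
    have hUinv : ∀ σ : twoPts, ∀ y ∈ U, (hsHom σ : Co0) • y ∈ U := by
      rintro σ _ ⟨m, ⟨hm1, hm2⟩, rfl⟩
      refine ⟨⟨_, hM.conj_mem m.1 m.2 (hsHom σ)⟩, ⟨?_, ?_⟩, (hconj σ m).symm⟩
      · rw [SetLike.mem_coe, hmem] at hm1 ⊢
        refine Subtype.ext ?_
        rw [SubmonoidClass.coe_pow, OneMemClass.coe_one]
        show (hsHom σ * m.1 * (hsHom σ)⁻¹) ^ 25 = 1
        rw [conj_pow, ← SubmonoidClass.coe_pow, hm1, OneMemClass.coe_one, mul_one, mul_inv_cancel]
      · intro e
        apply hm2
        rw [Set.mem_singleton_iff] at e ⊢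
        refine Subtype.ext ?_
        have h' : hsHom σ * m.1 * (hsHom σ)⁻¹ = 1 := congrArg Subtype.val e
        rw [conj_eq_one_iff] at h'
        exact h'
    have hnot : min44 ∉ U := by
      rintro ⟨m, ⟨-, hm⟩, e⟩
      exact hm (Set.mem_singleton_iff.2 (htriv m e))
    have := (hs_invariant_card hUs hUinv).2 hnot
    rw [hU] at this
    simp at this
  · right
    have hSM : S ≤ M := by
      intro s hs
      obtain ⟨σ, rfl⟩ := (hS s).1 hs
      exact (show σ ∈ M.comap hsHom by rw [h1]; trivial)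
    rcases hTsize with h | h
    · exfalso
      have hfix : ∀ m : M, (m.1 : Co0) • min44 = min44 := by
        intro m
        obtain ⟨a, ha⟩ := Set.ncard_eq_one.1 h
        have h1 : min44 ∈ T := MulAction.mem_orbit_self _
        have h2 : (m.1 : Co0) • min44 ∈ T := ⟨m, rfl⟩
        rw [ha, Set.mem_singleton_iff] at h1 h2
        exact h2.trans h1.symm
      obtain ⟨c22, -, htr⟩ := hs_rank3
      obtain ⟨y, hy⟩ := Set.nonempty_of_ncard_ne_zero (by rw [c22]; norm_num)
      obtain ⟨g, hg⟩ : y ∈ MulAction.orbit hsGroup min44 := horbS ▸ hy.1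
      have hall : ∀ σ : twoPts, (hsHom σ : Co0) • y = y := by
        intro σ
        have := hfix ⟨_, hM.conj_mem' (hsHom σ) (hSM ((hS _).2 ⟨σ, rfl⟩)) g⟩
        simp only [Subgroup.coe_mul, Subgroup.coe_inv, mul_smul] at this
        rw [inv_smul_eq_iff] at this
        rw [← hg]
        exact this
      have hne : y ≠ min44 := by
        rintro rfl
        have h2 := hy.2
        rw [dotInt_self, min44_norm] at h2
        norm_num at h2
      have hsub : {z : leechLattice | z ∈ hsPoints ∧ dotInt (min44 : GolayPt → ℤ) z = 8} ⊆ {y} := by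
        intro z hz
        obtain ⟨σ, s1, s2, s3⟩ := htr y hy.1 z hz.1 hne
          (by rintro rfl; have h2 := hz.2; rw [dotInt_self, min44_norm] at h2; norm_num at h2)
          (iff_of_true hy.2 hz.2)
        rw [Set.mem_singleton_iff, ← s3]
        exact hall ⟨σ, s1, s2⟩
      have := Set.ncard_le_ncard hsub (Set.finite_singleton y)
      rw [c22, Set.ncard_singleton] at this
      norm_num at this
    · rw [eq_top_iff]
      intro g _
      have hTeq : T = hsPoints := Set.eq_of_subset_of_ncard_le hT (by rw [h, ncard_hsPoints])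
        hsPoints_finite
      obtain ⟨m, hm⟩ : (g : Co0) • min44 ∈ T := hTeq ▸ hs_mem_points g min44_hs
      have hs' : m.1⁻¹ * g ∈ S := by
        show ((m.1⁻¹ * g : hsGroup) : Co0) • min44 = min44
        simp only [Subgroup.coe_mul, Subgroup.coe_inv, mul_smul]
        rw [inv_smul_eq_iff]
        exact hm.symm
      simpa using M.mul_mem m.2 (hSM hs')

/-- The joint stabiliser of any pair is the simple group of order 44352000. -/
theorem hs_pair_equiv {v w : leechLattice} (hv : sqNorm (v : GolayPt → ℤ) = 48)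
    (hw : sqNorm (w : GolayPt → ℤ) = 48) (hvw : dotInt (v : GolayPt → ℤ) w = -32) :
    Nonempty (↥(MulAction.stabilizer Co0 v ⊓ MulAction.stabilizer Co0 w) ≃* hsGroup) := by
  obtain ⟨g, g1, g2⟩ := normal_hs hv hw hvw
  exact ⟨
    { toFun := fun a => ⟨g * a.1 * g⁻¹, by
        constructor
        · show (g * a.1 * g⁻¹) • fiveV = fiveV
          rw [← g1, mul_smul, mul_smul, inv_smul_smul, MulAction.mem_stabilizer_iff.1 a.2.1]
        · show (g * a.1 * g⁻¹) • whs = whs
          rw [← g2, mul_smul, mul_smul, inv_smul_smul, MulAction.mem_stabilizer_iff.1 a.2.2]⟩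
      invFun := fun a => ⟨g⁻¹ * a.1 * g, by
        constructor
        · show (g⁻¹ * a.1 * g) • v = v
          rw [mul_smul, g1, mul_smul, MulAction.mem_stabilizer_iff.1 a.2.1, ← g1, inv_smul_smul]
        · show (g⁻¹ * a.1 * g) • w = w
          rw [mul_smul, g2, mul_smul, MulAction.mem_stabilizer_iff.1 a.2.2, ← g2, inv_smul_smul]⟩
      left_inv := fun a => Subtype.ext (by group)
      right_inv := fun a => Subtype.ext (by group)
      map_mul' := fun a b => Subtype.ext (by simp only [Subgroup.coe_mul]; group) }⟩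

theorem hs_pair_simple {v w : leechLattice} (hv : sqNorm (v : GolayPt → ℤ) = 48)
    (hw : sqNorm (w : GolayPt → ℤ) = 48) (hvw : dotInt (v : GolayPt → ℤ) w = -32) :
    IsSimpleGroup ↥(MulAction.stabilizer Co0 v ⊓ MulAction.stabilizer Co0 w) ∧
      Nat.card ↥(MulAction.stabilizer Co0 v ⊓ MulAction.stabilizer Co0 w) = 44352000 := by
  obtain ⟨e⟩ := hs_pair_equiv hv hw hvw
  haveI := isSimple_hsGroup
  exact ⟨e.isSimpleGroup, by rw [Nat.card_congr e.toEquiv, card_hsGroup]⟩

end CfsgLib.Golay
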