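import Mathlib

/-! Maximality of a point stabiliser from the lengths of the suborbits. -/

set_option autoImplicit false

namespace CfsgLib.Golay

/-- If no sum of suborbit lengths containing the trivial one properly divides the degree, the
stabiliser is maximal. The suborbits are the fibres of `f` on `S`, fibre `0` being `{x}`. -/
theorem isCoatom_stabilizer_of_classes {G β : Type*} [Group G] [MulAction G β] [Finite G]
    {S : Set β} (hS : S.Finite) {x : β} (hsub : ∀ g : G, g • x ∈ S)
    (htrans : ∀ y ∈ S, ∃ g : G, g • x = y) {r : ℕ} (f : β → Fin (r + 1))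
    (h0 : ∀ y ∈ S, f y = 0 ↔ y = x)
    (hclass : ∀ y ∈ S, ∀ z ∈ S, f y = f z → ∃ g : G, g • x = x ∧ g • y = z)
    (n : Fin (r + 1) → ℕ) (hn : ∀ i, {y | y ∈ S ∧ f y = i}.ncard = n i) (hr : 1 < S.ncard)
    (hdiv : ∀ T : Finset (Fin (r + 1)), 0 ∈ T → T ≠ {0} → T ≠ Finset.univ →
      ¬ (∑ i ∈ T, n i) ∣ S.ncard) :
    IsCoatom (MulAction.stabilizer G x) := by
  classical
  have hxS : x ∈ S := by simpa using hsub 1
  have horb : ∀ (K : Subgroup G), MulAction.stabilizer G x ≤ K →
      (MulAction.orbit K x).ncard * Nat.card (MulAction.stabilizer G x) = Nat.card K := by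
    intro K hK
    have h1 := Nat.card_congr (MulAction.orbitProdStabilizerEquivGroup K x)
    rw [Nat.card_prod, Nat.card_coe_set_eq] at h1
    rw [← h1]
    congr 1
    exact Nat.card_congr
      { toFun := fun g => ⟨⟨g.1, hK g.2⟩, g.2⟩
        invFun := fun g => ⟨g.1.1, g.2⟩
        left_inv := fun _ => rfl
        right_inv := fun _ => rfl }
  have hSorb : MulAction.orbit G x = S := by
    ext y; exact ⟨fun ⟨g, e⟩ => e ▸ hsub g, fun hy => htrans y hy⟩
  have hGtop : Nat.card G = S.ncard * Nat.card (MulAction.stabilizer G x) := by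
    have h1 := Nat.card_congr (MulAction.orbitProdStabilizerEquivGroup G x)
    rw [Nat.card_prod, Nat.card_coe_set_eq, hSorb] at h1
    exact h1.symm
  constructor
  · intro htop
    obtain ⟨y, hy, z, hz, hne⟩ := (Set.one_lt_ncard hS).1 hr
    obtain ⟨g, rfl⟩ := htrans y hy
    obtain ⟨k, rfl⟩ := htrans z hz
    have hg : g • x = x := MulAction.mem_stabilizer_iff.1 (htop ▸ Subgroup.mem_top g)
    have hk : k • x = x := MulAction.mem_stabilizer_iff.1 (htop ▸ Subgroup.mem_top k)
    exact hne (hg.trans hk.symm)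
  · intro K hK
    have hle := hK.le
    set O := MulAction.orbit K x with hO
    have hOS : ∀ y ∈ O, y ∈ S := by rintro _ ⟨k, rfl⟩; exact hsub k.1
    let T : Finset (Fin (r + 1)) := Finset.univ.filter fun i => ∃ y ∈ O, f y = i
    have hunion : ∀ y ∈ S, (f y ∈ T ↔ y ∈ O) := by
      intro y hy
      simp only [T, Finset.mem_filter, Finset.mem_univ, true_and]
      refine ⟨?_, fun h => ⟨y, h, rfl⟩⟩
      rintro ⟨z, hz, hfz⟩
      obtain ⟨g, hgx, hgz⟩ := hclass z (hOS z hz) y hy hfz
      obtain ⟨k, rfl⟩ := hz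
      refine ⟨⟨g, hle hgx⟩ * k, ?_⟩
      show (g * k.1) • x = y
      rw [mul_smul]; exact hgz
    have hcard : O.ncard = ∑ i ∈ T, n i := by
      have hfin : O.Finite := hS.subset hOS
      rw [Set.ncard_eq_toFinset_card O hfin,
        Finset.card_eq_sum_card_fiberwise (f := f) (t := T)
          fun y hy => (hunion y (hOS y ((hfin.mem_toFinset).1 hy))).2 ((hfin.mem_toFinset).1 hy)]
      refine Finset.sum_congr rfl fun i hi => ?_
      rw [← hn i, ← Set.ncard_coe_finset]
      congr 1
      ext y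
      simp only [Finset.coe_filter, Set.Finite.mem_toFinset, Set.mem_setOf_eq]
      exact ⟨fun h => ⟨hOS y h.1, h.2⟩, fun h => ⟨(hunion y h.1).1 (h.2 ▸ hi), h.2⟩⟩
    have hcK := horb K hle
    have hdvd : O.ncard ∣ S.ncard := by
      have h2 := Subgroup.card_mul_index K
      rw [← hcK, hGtop] at h2
      refine ⟨K.index, Nat.eq_of_mul_eq_mul_right (Nat.card_pos (α := MulAction.stabilizer G x)) ?_⟩
      rw [← h2]; ring
    have h0T : 0 ∈ T := by
      simp only [T, Finset.mem_filter, Finset.mem_univ, true_and]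
      exact ⟨x, MulAction.mem_orbit_self x, (h0 x hxS).2 rfl⟩
    by_cases hT0 : T = {0}
    · exfalso
      refine hK.not_ge fun k hk => ?_
      have hkO : k • x ∈ O := ⟨⟨k, hk⟩, rfl⟩
      have := (hunion _ (hsub k)).2 hkO
      rw [hT0, Finset.mem_singleton] at this
      exact MulAction.mem_stabilizer_iff.2 ((h0 _ (hsub k)).1 this)
    by_cases hTu : T = Finset.univ
    · have hOeq : O = S := Set.Subset.antisymm hOS fun y hy => (hunion y hy).1 (hTu ▸ Finset.mem_univ _)
      rw [← hO, hOeq, ← hGtop] at hcK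
      exact Subgroup.eq_top_of_card_eq K hcK.symm
    exact absurd (hcard ▸ hdvd) (hdiv T h0T hT0 hTu)

/-- Maximality transfers along conjugation. -/
theorem isCoatom_stabilizer_smul {G β : Type*} [Group G] [MulAction G β] (g : G) {x : β}
    (h : IsCoatom (MulAction.stabilizer G x)) : IsCoatom (MulAction.stabilizer G (g • x)) := by
  rw [MulAction.stabilizer_smul_eq_stabilizer_map_conj]
  exact ((MulAut.conj g).mapSubgroup.isCoatom_iff _).2 h

end CfsgLib.Golay
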