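import Cfsg.Agent.Lib.Golay.Count
import Cfsg.Agent.Lib.Golay.Maximal

/-! Moving octads with marked points to given positions. -/

set_option autoImplicit false
set_option maxRecDepth 100000

namespace CfsgLib.Golay

open Cfsg
open scoped Pointwise

theorem exists_embedding_two {o : Finset GolayPt} {p q : GolayPt} (hp : p ∈ o) (hq : q ∈ o)
    (hpq : p ≠ q) (hc : 5 ≤ o.card) :
    ∃ x : Fin 5 ↪ GolayPt, (∀ i, x i ∈ o) ∧ x 0 = p ∧ x 1 = q := by
  classical
  have h3 : 3 ≤ ((o.erase p).erase q).card := by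
    rw [Finset.card_erase_of_mem (Finset.mem_erase.2 ⟨Ne.symm hpq, hq⟩),
      Finset.card_erase_of_mem hp]
    omega
  obtain ⟨y⟩ := Function.Embedding.nonempty_of_card_le
    (α := Fin 3) (β := ((o.erase p).erase q : Finset GolayPt))
    (by rw [Fintype.card_fin, Fintype.card_coe]; exact h3)
  let f : Fin 5 → GolayPt := Fin.cons p (Fin.cons q fun i => (y i : GolayPt))
  have hy : ∀ i, (y i : GolayPt) ≠ p ∧ (y i : GolayPt) ≠ q ∧ (y i : GolayPt) ∈ o := fun i => by
    have := (y i).2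
    simp only [Finset.mem_erase] at this
    exact ⟨this.2.1, this.1, this.2.2⟩
  have hf : Function.Injective f := by
    refine Fin.cons_injective_iff.2 ⟨?_, Fin.cons_injective_iff.2 ⟨?_,
      fun i j h => y.injective (Subtype.ext h)⟩⟩
    · rintro ⟨i, hi⟩
      refine Fin.cases (fun h => hpq ?_) (fun j h => (hy j).1 ?_) i hi
      · simpa using h.symm
      · simpa using h
    · rintro ⟨i, hi⟩; exact (hy i).2.1 hi
  refine ⟨⟨f, hf⟩, ?_, rfl, rfl⟩
  exact Fin.cases hp (Fin.cases hq fun i => (hy i).2.2)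

theorem octad_map {o o' : Finset GolayPt} (ho : o ∈ octads) (ho' : o' ∈ octads)
    (x y : Fin 5 ↪ GolayPt) (hx : ∀ i, x i ∈ o) (hy : ∀ i, y i ∈ o') :
    ∃ g : M24, g • o = o' ∧ ∀ i, g • x i = y i := by
  obtain ⟨g, hg⟩ := M24_five_trans x y
  refine ⟨g, ?_, fun i => DFunLike.congr_fun hg i⟩
  refine octads_eq_of_five (M24_smul_octad g.2 ho) ho' ?_
  calc 5 = (Finset.univ.map y).card := by simp
    _ ≤ _ := by
      apply Finset.card_le_card
      intro z hz
      simp only [Finset.mem_map, Finset.mem_univ, true_and] at hz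
      obtain ⟨i, rfl⟩ := hz
      refine Finset.mem_inter.2 ⟨?_, hy i⟩
      rw [show (y i : GolayPt) = g • x i from (DFunLike.congr_fun hg i).symm]
      exact Finset.smul_mem_smul_finset (hx i)

theorem octad_two {o o' : Finset GolayPt} (ho : o ∈ octads) (ho' : o' ∈ octads)
    {p q p' q' : GolayPt} (hp : p ∈ o) (hq : q ∈ o) (h : p ≠ q)
    (hp' : p' ∈ o') (hq' : q' ∈ o') (h' : p' ≠ q') :
    ∃ g : M24, g • o = o' ∧ g • p = p' ∧ g • q = q' := by
  obtain ⟨x, hx, x0, x1⟩ := exists_embedding_two hp hq h (by rw [ho.2]; norm_num)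
  obtain ⟨y, hy, y0, y1⟩ := exists_embedding_two hp' hq' h' (by rw [ho'.2]; norm_num)
  obtain ⟨g, hg, hgi⟩ := octad_map ho ho' x y hx hy
  exact ⟨g, hg, by rw [← x0, ← y0, hgi], by rw [← x1, ← y1, hgi]⟩

theorem octad_one {o o' : Finset GolayPt} (ho : o ∈ octads) (ho' : o' ∈ octads)
    {p p' : GolayPt} (hp : p ∈ o) (hp' : p' ∈ o') : ∃ g : M24, g • o = o' ∧ g • p = p' := by
  obtain ⟨q, hq, hne⟩ := Finset.exists_mem_ne (s := o) (by rw [ho.2]; norm_num) p
  obtain ⟨q', hq', hne'⟩ := Finset.exists_mem_ne (s := o') (by rw [ho'.2]; norm_num) p'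
  obtain ⟨g, h1, h2, -⟩ := octad_two ho ho' hp hq (Ne.symm hne) hp' hq' (Ne.symm hne')
  exact ⟨g, h1, h2⟩

/-- A set invariant under `fixMasks X` on which the count forces transitivity. -/
theorem class_trans {X : List ℕ} {rep : ℕ} {P : Finset GolayPt → Prop}
    (hinv : ∀ σ : fixMasks X, ∀ s, P s → P (σ • s)) (hrep : P (mset rep))
    {N a b : ℕ} (hN : {s | P s}.ncard = N) (ha : Nat.card (fixMasks X) = a)
    (hb : Nat.card (fixMasks (rep :: X)) = b) (hab : a = N * b) :
    ∀ y z, P y → P z → ∃ σ : fixMasks X, σ • y = z := fun y z hy hz =>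
  fix_orbit_of_count (S := {s | P s}) (fun σ => hinv σ _ hrep) (by rw [ha, hN, hb, hab]) y hy z hz

theorem fix_smul_pt {X : List ℕ} {i : ℕ} (hi : i < 24) (hm : Nat.shiftLeft 1 i ∈ X)
    (σ : fixMasks X) : σ.1 (pt i) = pt i := by
  have h := σ.2.2 _ hm
  have h' := (smul_mset_bit σ.1 hi (q := pt i)).1
  rw [idx_pt hi] at h'
  exact h' h

theorem fix_mem_iff {X : List ℕ} {i : ℕ} (hi : i < 24) (hm : Nat.shiftLeft 1 i ∈ X)
    (σ : fixMasks X) (s : Finset GolayPt) : pt i ∈ σ • s ↔ pt i ∈ s := by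
  rw [show (pt i ∈ σ • s) = (σ.1 (pt i) ∈ σ • s) by rw [fix_smul_pt hi hm]]
  exact Finset.smul_mem_smul_finset_iff σ

theorem fix_inter_card {X : List ℕ} {m : ℕ} (hm : m ∈ X) (σ : fixMasks X) (s : Finset GolayPt) :
    (mset m ∩ σ • s).card = (mset m ∩ s).card := by
  calc (mset m ∩ σ • s).card = (σ • mset m ∩ σ • s).card := by
        rw [show σ • mset m = mset m from σ.2.2 m hm]
    _ = _ := by rw [← Finset.smul_finset_inter, Finset.card_smul_finset]

theorem fix_smul_octad {X : List ℕ} (σ : fixMasks X) {s : Finset GolayPt} (h : s ∈ octads) :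
    σ • s ∈ octads := M24_smul_octad σ.2.1 h

theorem fix_smul_dodecad {X : List ℕ} (σ : fixMasks X) {s : Finset GolayPt} (h : s ∈ dodecads) :
    σ • s ∈ dodecads := M24_smul_dodecad σ.2.1 h

end CfsgLib.Golay
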