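import Mathlib

/-! Two simplicity criteria for doubly transitive groups of permutations. -/

set_option autoImplicit false

namespace CfsgLib.Golay

open scoped Pointwise

variable {G α : Type*} [Group G] [MulAction G α]

/-- `G` is doubly transitive on the points of `S` and faithful there, and maps `S` to itself. -/
structure TwoTransOn (G : Type*) {α : Type*} [Group G] [MulAction G α] (S : Finset α) : Prop where
  maps : ∀ g : G, ∀ a ∈ S, g • a ∈ S
  trans : ∀ a ∈ S, ∀ b ∈ S, ∀ c ∈ S, ∀ d ∈ S, a ≠ b → c ≠ d →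
    ∃ g : G, g • a = c ∧ g • b = d
  faith : ∀ g : G, (∀ a ∈ S, g • a = a) → g = 1

theorem normal_transitive {S : Finset α} (h : TwoTransOn G S) {N : Subgroup G} (hN : N.Normal)
    (hne : N ≠ ⊥) : ∀ a ∈ S, ∀ b ∈ S, ∃ n ∈ N, n • a = b := by
  obtain ⟨n, hn, hn1⟩ := (Subgroup.bot_or_exists_ne_one N).resolve_left hne
  obtain ⟨c, hc, hmove⟩ : ∃ c ∈ S, n • c ≠ c := by
    by_contra hh
    push Not at hh
    exact hn1 (h.faith n hh)
  intro a ha b hb
  by_cases hab : a = b
  · exact ⟨1, N.one_mem, by rw [one_smul, hab]⟩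
  obtain ⟨g, hga, hgb⟩ := h.trans c hc (n • c) (h.maps n c hc) a ha b hb (Ne.symm hmove) hab
  refine ⟨g * n * g⁻¹, hN.conj_mem n hn g, ?_⟩
  rw [← hga, mul_smul, mul_smul, inv_smul_smul, hgb]

theorem dvd_card_of_transitive [Finite G] {S : Finset α} (hmaps : ∀ g : G, ∀ a ∈ S, g • a ∈ S)
    {N : Subgroup G} {a : α} (ha : a ∈ S) (htr : ∀ b ∈ S, ∃ n ∈ N, n • a = b) :
    S.card ∣ Nat.card N := by
  have h1 := Nat.card_congr (MulAction.orbitProdStabilizerEquivGroup (↥N) a)
  rw [Nat.card_prod] at h1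
  have e : MulAction.orbit (↥N) a = (S : Set α) := by
    ext b
    constructor
    · rintro ⟨n, rfl⟩; exact hmaps n.1 a ha
    · intro hb; obtain ⟨n, hn, e⟩ := htr b hb; exact ⟨⟨n, hn⟩, e⟩
  rw [Nat.card_congr (Equiv.setCongr e)] at h1
  simp at h1
  exact ⟨_, h1.symm⟩

/-- Doubly transitive, generated by elements of order `p` with `p` dividing the degree and `p²`
not dividing the order: simple. -/
theorem isSimple_of_prime_gen [Finite G] {S : Finset α} (h : TwoTransOn G S) {p : ℕ}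
    (hp : p.Prime) (hpS : p ∣ S.card) (hS : 1 < S.card) (hp2 : ¬ p ^ 2 ∣ Nat.card G) {T : Set G}
    (hT : ∀ t ∈ T, t ^ p = 1) (hgen : Subgroup.closure T = ⊤) : IsSimpleGroup G := by
  classical
  obtain ⟨a, ha, b, hb, hab⟩ := Finset.one_lt_card.1 hS
  haveI : Nontrivial G := by
    obtain ⟨g, hga, -⟩ := h.trans a ha b hb b hb a ha hab (Ne.symm hab)
    exact ⟨⟨g, 1, fun e => hab (by rw [← hga, e, one_smul])⟩⟩
  refine { eq_bot_or_eq_top_of_normal := fun N hN => ?_ }
  by_cases hne : N = ⊥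
  · exact Or.inl hne
  right
  have hpN : p ∣ Nat.card N := hpS.trans
    (dvd_card_of_transitive h.maps ha (normal_transitive h hN hne a ha))
  have hidx : ¬ p ∣ N.index := fun hd => hp2 (by
    rw [sq, ← Subgroup.card_mul_index N]; exact mul_dvd_mul hpN hd)
  rw [eq_top_iff, ← hgen, Subgroup.closure_le]
  intro t ht
  haveI := hN
  rw [SetLike.mem_coe, ← QuotientGroup.eq_one_iff]
  have h1 : (t : G ⧸ N) ^ p = 1 := by rw [← QuotientGroup.mk_pow, hT t ht]; rfl
  have h2 : (t : G ⧸ N) ^ N.index = 1 := by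
    rw [Subgroup.index_eq_card]; exact pow_card_eq_one'
  have h3 := pow_gcd_eq_one.2 ⟨h1, h2⟩
  rwa [(Nat.Prime.coprime_iff_not_dvd hp).2 hidx, pow_one] at h3

/-- Doubly transitive with simple point stabiliser and degree divisible by two primes: simple. -/
theorem isSimple_of_stabilizer [Finite G] {S : Finset α} (h : TwoTransOn G S) {a : α} (ha : a ∈ S)
    (hst : IsSimpleGroup (MulAction.stabilizer G a)) {p q : ℕ} (hp : p.Prime) (hq : q.Prime)
    (hpq : p ≠ q) (hpS : p ∣ S.card) (hqS : q ∣ S.card) : IsSimpleGroup G := by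
  classical
  have hS : 1 < S.card := lt_of_lt_of_le hp.one_lt (Nat.le_of_dvd (Finset.card_pos.2 ⟨a, ha⟩) hpS)
  obtain ⟨b, hb, hab⟩ := Finset.exists_mem_ne hS a
  haveI : Nontrivial G := by
    obtain ⟨g, hga, -⟩ := h.trans a ha b hb b hb a ha (Ne.symm hab) hab
    exact ⟨⟨g, 1, fun e => hab (by rw [← hga, e, one_smul])⟩⟩
  refine { eq_bot_or_eq_top_of_normal := fun N hN => ?_ }
  by_cases hne : N = ⊥
  · exact Or.inl hne
  right
  have htr := normal_transitive h hN hne a ha
  haveI := hst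
  haveI hNa : (N.subgroupOf (MulAction.stabilizer G a)).Normal := hN.subgroupOf _
  rcases Subgroup.Normal.eq_bot_or_eq_top hNa with h0 | h1
  · exfalso
    have reg : ∀ n ∈ N, n • a = a → n = 1 := by
      intro n hn hna
      have hm : (⟨n, MulAction.mem_stabilizer_iff.2 hna⟩ : MulAction.stabilizer G a) ∈
          N.subgroupOf (MulAction.stabilizer G a) := hn
      rw [h0, Subgroup.mem_bot] at hm
      exact congrArg Subtype.val hm
    have same : ∀ x ∈ N, ∀ y ∈ N, x ≠ 1 → y ≠ 1 → orderOf x = orderOf y := by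
      intro x hx y hy hx1 hy1
      obtain ⟨g, hga, hgx⟩ := h.trans a ha (x • a) (h.maps x a ha) a ha (y • a) (h.maps y a ha)
        (fun e => hx1 (reg x hx e.symm)) (fun e => hy1 (reg y hy e.symm))
      have e : g * x * g⁻¹ = y := by
        have hm : y⁻¹ * (g * x * g⁻¹) ∈ N := N.mul_mem (N.inv_mem hy) (hN.conj_mem x hx g)
        have hfix : (y⁻¹ * (g * x * g⁻¹)) • a = a := by
          have hga' : g⁻¹ • a = a := inv_smul_eq_iff.2 hga.symm
          rw [mul_smul, mul_smul, mul_smul, hga', hgx, inv_smul_smul]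
        have := reg _ hm hfix
        rwa [inv_mul_eq_one, eq_comm] at this
      rw [← e, ← MulAut.conj_apply g x, MulEquiv.orderOf_eq]
    have hcard := dvd_card_of_transitive h.maps ha htr
    obtain ⟨x, hx⟩ := exists_prime_orderOf_dvd_card' (G := N) p (hp := ⟨hp⟩) (hpS.trans hcard)
    obtain ⟨y, hy⟩ := exists_prime_orderOf_dvd_card' (G := N) q (hp := ⟨hq⟩) (hqS.trans hcard)
    have := same x x.2 y y.2 (fun e => hp.ne_one (by rw [← hx, ← Subgroup.orderOf_coe, e, orderOf_one]))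
      (fun e => hq.ne_one (by rw [← hy, ← Subgroup.orderOf_coe, e, orderOf_one]))
    rw [Subgroup.orderOf_coe, Subgroup.orderOf_coe, hx, hy] at this
    exact hpq this
  · rw [eq_top_iff]
    intro g _
    obtain ⟨n, hn, hna⟩ := htr (g • a) (h.maps g a ha)
    have hm : (⟨n⁻¹ * g, MulAction.mem_stabilizer_iff.2
        (by rw [mul_smul, ← hna, inv_smul_smul])⟩ : MulAction.stabilizer G a) ∈
        N.subgroupOf (MulAction.stabilizer G a) := by rw [h1]; trivial
    have := N.mul_mem hn (show n⁻¹ * g ∈ N from hm)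
    rwa [mul_inv_cancel_left] at this

/-- A transitive group whose point stabiliser is transitive on the other points is doubly
transitive. -/
theorem twoTrans_of_transitive {S : Finset α} (hmaps : ∀ g : G, ∀ a ∈ S, g • a ∈ S) {a : α}
    (h1 : ∀ b ∈ S, ∃ g : G, g • a = b) {b : α}
    (h2 : ∀ c ∈ S, c ≠ a → ∃ g : G, g • a = a ∧ g • b = c) :
    ∀ x ∈ S, ∀ y ∈ S, ∀ z ∈ S, ∀ w ∈ S, x ≠ y → z ≠ w → ∃ g : G, g • x = z ∧ g • y = w := by
  intro x hx y hy z hz w hw hxy hzw
  obtain ⟨g, hg⟩ := h1 x hx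
  obtain ⟨k, hk⟩ := h1 z hz
  have hy' : g⁻¹ • y ≠ a := fun e => hxy (by rw [← hg, ← e, smul_inv_smul])
  have hw' : k⁻¹ • w ≠ a := fun e => hzw (by rw [← hk, ← e, smul_inv_smul])
  obtain ⟨u, hu1, hu2⟩ := h2 _ (hmaps _ y hy) hy'
  obtain ⟨v, hv1, hv2⟩ := h2 _ (hmaps _ w hw) hw'
  refine ⟨k * v * u⁻¹ * g⁻¹, ?_, ?_⟩
  · rw [mul_smul, mul_smul, mul_smul, inv_smul_eq_iff.2 hg.symm, inv_smul_eq_iff.2 hu1.symm, hv1, hk]
  · rw [mul_smul, mul_smul, mul_smul, inv_smul_eq_iff.2 hu2.symm, hv2, smul_inv_smul]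

/-- Orbit from a count: if the orbit of `x` lies in a finite set `S` and the stabiliser is small
enough, the orbit is all of `S`. -/
theorem exists_smul_eq_of_card {β : Type*} [MulAction G β] [Finite G] {S : Set β} (hS : S.Finite)
    {x : β} (hsub : ∀ g : G, g • x ∈ S)
    (hcard : Nat.card G = S.ncard * Nat.card (MulAction.stabilizer G x)) :
    ∀ y ∈ S, ∃ g : G, g • x = y := by
  have h1 := Nat.card_congr (MulAction.orbitProdStabilizerEquivGroup G x)
  rw [Nat.card_prod, hcard] at h1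
  have h2 := Nat.eq_of_mul_eq_mul_right Nat.card_pos h1
  have h3 : MulAction.orbit G x = S := Set.eq_of_subset_of_ncard_le
    (by rintro _ ⟨g, rfl⟩; exact hsub g)
    (by rw [← Nat.card_coe_set_eq (MulAction.orbit G x), h2]) hS
  intro y hy
  rw [← h3] at hy
  exact hy

end CfsgLib.Golay
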