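import Cfsg.Agent.Lib.Golay.Gen
import Cfsg.Agent.Lib.Golay.SimpleCrit

/-! Double transitivity and generation read off from chains. -/

set_option autoImplicit false
set_option maxRecDepth 100000

namespace CfsgLib.Golay

open Cfsg
open scoped Pointwise

theorem chainOK_level {X : List ℕ} {lv : Level} {L : List Level} {fin : List (ℕ × ℕ × ℕ)}
    (h : chainOK X (lv :: L) fin = true) :
    levelOK X lv = true ∧ chainOK (Nat.shiftLeft 1 lv.1 :: X) L fin = true := by
  simp only [chainOK, Bool.and_eq_true] at h; exact h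

/-- The orbit at the first level. -/
theorem level_orbit {X : List ℕ} {lv : Level} (h : levelOK X lv = true) {q : GolayPt} :
    (∃ σ : fixMasks X, σ • pt lv.1 = q) ↔ q ∈ mset (orbMask lv.1 lv.2.1) := by
  rw [← (levelOK_unpack h).2.2.2 q]
  constructor
  · rintro ⟨σ, e⟩; exact ⟨σ.1, σ.2, e⟩
  · rintro ⟨σ, hσ, e⟩; exact ⟨⟨σ, hσ⟩, e⟩

theorem level_maps {X : List ℕ} {lv : Level} (h : levelOK X lv = true) (g : fixMasks X)
    {a : GolayPt} (ha : a ∈ mset (orbMask lv.1 lv.2.1)) :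
    g • a ∈ mset (orbMask lv.1 lv.2.1) := by
  obtain ⟨σ, rfl⟩ := (level_orbit h).2 ha
  exact (level_orbit h).1 ⟨g * σ, by rw [mul_smul]⟩

theorem level_twoTrans {X : List ℕ} {lv lv' : Level} (h : levelOK X lv = true)
    (h' : levelOK (Nat.shiftLeft 1 lv.1 :: X) lv' = true)
    (hm : orbMask lv'.1 lv'.2.1 = Nat.xor (orbMask lv.1 lv.2.1) (Nat.shiftLeft 1 lv.1)) :
    ∀ x ∈ mset (orbMask lv.1 lv.2.1), ∀ y ∈ mset (orbMask lv.1 lv.2.1),
    ∀ z ∈ mset (orbMask lv.1 lv.2.1), ∀ w ∈ mset (orbMask lv.1 lv.2.1),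
      x ≠ y → z ≠ w → ∃ g : fixMasks X, g • x = z ∧ g • y = w := by
  have hb := (levelOK_unpack h).1
  refine twoTrans_of_transitive (G := fixMasks X) (a := pt lv.1) (b := pt lv'.1)
    (fun g a ha => level_maps h g ha) (fun q hq => (level_orbit h).2 hq) ?_
  intro c hc hne
  have hc' : c ∈ mset (orbMask lv'.1 lv'.2.1) := by
    rw [hm, mem_mset]
    show ((orbMask lv.1 lv.2.1) ^^^ (1 <<< lv.1)).testBit (idx c) = true
    rw [Nat.testBit_xor, mem_mset.1 hc, Nat.one_shiftLeft, Nat.testBit_two_pow]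
    have : lv.1 ≠ idx c := fun e => hne (by rw [e, pt_idx])
    simp [this]
  obtain ⟨σ, hσ⟩ := (level_orbit h').2 hc'
  have := (mem_fixMasks_cons hb).1 σ.2
  exact ⟨⟨σ.1, this.1⟩, this.2, hσ⟩

/-- Iterate of an encoded permutation on a point number. -/
def imgIter (g : ℕ) : ℕ → ℕ → ℕ
  | 0, i => i
  | n + 1, i => img g (imgIter g n i)

/-- `g` encodes an element of `fixMasks X` whose `p`-th power is trivial. -/
def powOneIn (X : List ℕ) (p g : ℕ) : Bool :=
  inFix X g && (List.range 24).all fun i => Nat.beq (imgIter g p i) i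

theorem imgIter_spec {g : ℕ} (h : valid g = true) (n : ℕ) {i : ℕ} (hi : i < 24) :
    (permOf g ^ n) (pt i) = pt (imgIter g n i) ∧ imgIter g n i < 24 := by
  induction n with
  | zero => exact ⟨rfl, hi⟩
  | succ n ih =>
    refine ⟨?_, valid_lt h ih.2⟩
    rw [pow_succ', Equiv.Perm.mul_apply, ih.1, permOf_pt h ih.2]; rfl

theorem powOneIn_sound {X : List ℕ} {p g : ℕ} (h : powOneIn X p g = true) :
    permOf g ∈ fixMasks X ∧ permOf g ^ p = 1 := by
  simp only [powOneIn, Bool.and_eq_true, List.all_eq_true] at h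
  refine ⟨inFix_mem h.1, Equiv.ext fun q => ?_⟩
  have := (imgIter_spec (inFix_valid h.1) p (idx_lt q)).1
  rw [pt_idx, Nat.eq_of_beq_eq_true (h.2 _ (List.mem_range.2 (idx_lt q))), pt_idx] at this
  simpa using this

theorem closure_pow_eq_top {X : List ℕ} {L : List Level} {fin : List (ℕ × ℕ × ℕ)}
    {init : List ℕ} {ops : List (ℕ × ℕ × ℕ)} {p : ℕ} (hc : chainOK X L fin = true)
    (hi : init.all (powOneIn X p) = true) (hs : slpOK init ops (chainGens L) = true) :
    Subgroup.closure {x : fixMasks X | x ^ p = 1} = ⊤ := by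
  rw [List.all_eq_true] at hi
  rw [eq_top_iff, ← Subgroup.map_subtype_le_map_subtype]
  refine (Subgroup.map_le_range _ _).trans ?_
  rw [Subgroup.range_subtype]
  refine fixMasks_le_of_gens hc (slpOK_sound (fun c hc' => ?_) hs)
  have := powOneIn_sound (hi c hc')
  exact ⟨⟨permOf c, this.1⟩, Subgroup.subset_closure (Subtype.ext this.2), rfl⟩

/-- Simplicity from a chain, in the doubly transitive prime case. -/
theorem isSimple_fixMasks {X : List ℕ} {lv lv' : Level} {L : List Level}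
    {fin : List (ℕ × ℕ × ℕ)} {init : List ℕ} {ops : List (ℕ × ℕ × ℕ)} {p : ℕ}
    (hc : chainOK X (lv :: lv' :: L) fin = true)
    (hm : orbMask lv'.1 lv'.2.1 = Nat.xor (orbMask lv.1 lv.2.1) (Nat.shiftLeft 1 lv.1))
    (hfaith : ∀ σ : fixMasks X, (∀ a ∈ mset (orbMask lv.1 lv.2.1), σ • a = a) → σ = 1)
    (hp : p.Prime) (hpS : p ∣ pop (orbMask lv.1 lv.2.1))
    (hp2 : ¬ p ^ 2 ∣ chainCard (lv :: lv' :: L))
    (hS : 1 < pop (orbMask lv.1 lv.2.1))
    (hi : init.all (powOneIn X p) = true) (hs : slpOK init ops (chainGens (lv :: lv' :: L)) = true) :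
    IsSimpleGroup (fixMasks X) := by
  obtain ⟨h1, h2⟩ := chainOK_level hc
  refine isSimple_of_prime_gen (S := mset (orbMask lv.1 lv.2.1))
    ⟨fun g a ha => level_maps h1 g ha, level_twoTrans h1 (chainOK_level h2).1 hm, hfaith⟩
    hp (by rwa [card_mset]) (by rwa [card_mset]) ?_ (T := {x | x ^ p = 1}) (fun t ht => ht)
    (closure_pow_eq_top hc hi hs)
  rwa [card_fixMasks hc]

end CfsgLib.Golay
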