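import Cfsg.Agent.Lib.Golay.ChainOctPts
import Cfsg.Agent.Lib.Golay.Trans
import Cfsg.Agent.Lib.Golay.Position

/-! Octads with marked interior points and one marked exterior point. -/

set_option autoImplicit false
set_option maxRecDepth 100000

namespace CfsgLib.Golay

open Cfsg
open scoped Pointwise

/-- The pointwise stabiliser of the standard octad moves `pt 1` to every exterior point. -/
theorem octPts_trans {q : GolayPt} (hq : q ∉ mset octMask) :
    ∃ σ : M24, (∀ p ∈ mset octMask, σ • p = p) ∧ σ • pt 1 = q := by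
  have hlv : chainOctPtsLevels = chainOctPtsLevels.headD noLevel :: chainOctPtsLevels.tail := rfl
  have h := chainOctPts_ok
  rw [hlv] at h
  have h1 := (chainOK_level h).1
  have hm : orbMask (chainOctPtsLevels.headD noLevel).1 (chainOctPtsLevels.headD noLevel).2.1 =
      3715070 := by decide +kernel
  have h23 : mset octMask ∪ mset 3715070 = Finset.univ := by decide +kernel
  have hq' : q ∈ mset 3715070 := by
    have := Finset.mem_univ q
    rw [← h23, Finset.mem_union] at this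
    exact this.resolve_left hq
  rw [← hm] at hq'
  obtain ⟨σ, hσ⟩ := (level_orbit h1).2 hq'
  have e0 := mem_fix_pointwise.1 σ.2
  have e : σ.1 ∈ Cfsg.M24 ∧ ∀ p ∈ mset octMask, σ.1 p = p :=
    ⟨(Subgroup.mem_inf.1 e0).1, fun p hp =>
      mem_fixingSubgroup_iff _ |>.1 (Subgroup.mem_inf.1 e0).2 p hp⟩
  refine ⟨⟨σ.1, e.1⟩, e.2, ?_⟩
  have hb : (chainOctPtsLevels.headD noLevel).1 = 1 := rfl
  rw [hb] at hσ
  exact hσ

theorem octad_out {o : Finset GolayPt} (ho : o ∈ octads) {r r' : GolayPt} (hr : r ∉ o)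
    (hr' : r' ∉ o) : ∃ g : M24, (∀ p ∈ o, g • p = p) ∧ g • r = r' := by
  obtain ⟨c, rfl⟩ := M24_trans_octads octMask_mem ho
  have h1 : c⁻¹ • r ∉ mset octMask := fun h => hr (by
    have := Finset.smul_mem_smul_finset (a := c) h
    rwa [smul_inv_smul] at this)
  have h2 : c⁻¹ • r' ∉ mset octMask := fun h => hr' (by
    have := Finset.smul_mem_smul_finset (a := c) h
    rwa [smul_inv_smul] at this)
  obtain ⟨a, ha, ha'⟩ := octPts_trans h1
  obtain ⟨b, hb, hb'⟩ := octPts_trans h2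
  refine ⟨c * b * a⁻¹ * c⁻¹, fun p hp => ?_, ?_⟩
  · rw [Finset.mem_smul_finset] at hp
    obtain ⟨p, hp, rfl⟩ := hp
    rw [mul_smul, inv_smul_smul, mul_smul, mul_smul, inv_smul_eq_iff.2 (ha p hp).symm, hb p hp]
  · rw [mul_smul, mul_smul, mul_smul, ← ha', inv_smul_smul, hb', smul_inv_smul]

/-- Octads with five interior points and an exterior point are carried to each other. -/
theorem octad_flag {o o' : Finset GolayPt} (ho : o ∈ octads) (ho' : o' ∈ octads)
    (x y : Fin 5 ↪ GolayPt) (hx : ∀ i, x i ∈ o) (hy : ∀ i, y i ∈ o') {r r' : GolayPt}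
    (hr : r ∉ o) (hr' : r' ∉ o') :
    ∃ g : M24, g • o = o' ∧ (∀ i, g • x i = y i) ∧ g • r = r' := by
  obtain ⟨g, hg, hgi⟩ := octad_map ho ho' x y hx hy
  have h1 : g • r ∉ o' := fun h => hr (by
    rw [← hg] at h; exact (Finset.smul_mem_smul_finset_iff g).1 h)
  obtain ⟨k, hk, hk'⟩ := octad_out ho' h1 hr'
  refine ⟨k * g, ?_, fun i => by rw [mul_smul, hgi, hk _ (hy i)], by rw [mul_smul, hk']⟩
  rw [mul_smul, hg]
  exact (Finset.eq_of_subset_of_card_le (fun p hp => by
    rw [← hk p hp]; exact Finset.smul_mem_smul_finset hp) (by rw [Finset.card_smul_finset])).symm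

/-- Two interior points and an exterior point. -/
theorem octad_two_out {o o' : Finset GolayPt} (ho : o ∈ octads) (ho' : o' ∈ octads)
    {p q p' q' r r' : GolayPt} (hp : p ∈ o) (hq : q ∈ o) (h : p ≠ q) (hp' : p' ∈ o') (hq' : q' ∈ o')
    (h' : p' ≠ q') (hr : r ∉ o) (hr' : r' ∉ o') :
    ∃ g : M24, g • o = o' ∧ g • p = p' ∧ g • q = q' ∧ g • r = r' := by
  obtain ⟨x, hx, x0, x1⟩ := exists_embedding_two hp hq h (by rw [ho.2]; norm_num)
  obtain ⟨y, hy, y0, y1⟩ := exists_embedding_two hp' hq' h' (by rw [ho'.2]; norm_num)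
  obtain ⟨g, hg, hgi, hg'⟩ := octad_flag ho ho' x y hx hy hr hr'
  exact ⟨g, hg, by rw [← x0, ← y0, hgi], by rw [← x1, ← y1, hgi], hg'⟩

end CfsgLib.Golay
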