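import Cfsg.Agent.Lib.Golay.Co0Five
import Cfsg.Agent.Lib.Golay.Co0Census
import Cfsg.Agent.Lib.Golay.OctadFlag

/-! The configuration of 275 minimal vectors at a vector of sum of squares 48 and a summand. -/

set_option autoImplicit false
set_option maxRecDepth 100000

namespace CfsgLib.Golay

open Cfsg
open scoped Pointwise

/-- The vector `4 e_∞ + 4 e_j`. -/
def pairF (j : GolayPt) : GolayPt → ℤ := Pi.single pinf 4 + Pi.single j 4

/-- The vector with `2` on an octad. -/
def octF (o : Finset GolayPt) : GolayPt → ℤ := fun i => if i ∈ o then 2 else 0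

/-- The vector with `3` at the base point and `-1` on the rest of an octad. -/
def triF (o : Finset GolayPt) : GolayPt → ℤ :=
  fun i => if i = pinf then 3 else if i ∈ o then -1 else 1

/-- The 275 vectors at the standard pair. -/
def mclPoints : Set leechLattice :=
  {y | sqNorm (y : GolayPt → ℤ) = 32 ∧ dotInt (fiveV : GolayPt → ℤ) y = 24 ∧
    dotInt (min44 : GolayPt → ℤ) y = 16}

theorem mem_mclPoints {y : leechLattice} : y ∈ mclPoints ↔ sqNorm (y : GolayPt → ℤ) = 32 ∧
    (∑ i, (y : GolayPt → ℤ) i) + 4 * (y : GolayPt → ℤ) pinf = 24 ∧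
    (y : GolayPt → ℤ) pz = 4 - (y : GolayPt → ℤ) pinf := by
  simp only [mclPoints, Set.mem_setOf_eq, dot_five, dot_min44]
  constructor <;> rintro ⟨h1, h2, h3⟩ <;> exact ⟨h1, h2, by omega⟩

theorem shape_four {x : GolayPt → ℤ} (hx : x ∈ leechLattice) (hn : sqNorm x = 32)
    (x1 : x pinf = 4) (hd : dotInt (fiveV : GolayPt → ℤ) x = 24) :
    ∃ j, j ≠ pinf ∧ x = pairF j := by
  classical
  rw [dot_five, x1] at hd
  have hev : ∀ i, x i % 2 = 0 := by
    rcases parity_cases hx with h | h
    · exact h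
    · have := h pinf; omega
  let a : GolayPt → ℤ := fun i => x i / 2
  have ha : ∀ i, x i = 2 * a i := fun i => by have := hev i; simp only [a]; omega
  obtain ⟨hw, -⟩ := (even_mem_iff (a := a)).1 (by convert hx using 1; funext i; exact (ha i).symm)
  have hna : sqNorm a = 8 := by
    have : sqNorm x = 4 * sqNorm a := by
      rw [sqNorm, sqNorm, Finset.mul_sum]
      exact Finset.sum_congr rfl fun i _ => by rw [ha i]; ring
    omega
  have hsum : ∑ i, a i = 4 := by
    have : ∑ i, x i = 2 * ∑ i, a i := by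
      rw [Finset.mul_sum]; exact Finset.sum_congr rfl fun i _ => ha i
    omega
  have a1 : a pinf = 2 := by simp only [a]; omega
  have hrest : ∑ i ∈ Finset.univ.erase pinf, a i ^ 2 = 4 := by
    have := Finset.add_sum_erase Finset.univ (fun i => a i ^ 2) (Finset.mem_univ pinf)
    simp only [sqNorm] at hna
    simp only [a1] at this
    omega
  have hs2 : ∑ i ∈ Finset.univ.erase pinf, a i = 2 := by
    have := Finset.add_sum_erase Finset.univ a (Finset.mem_univ pinf)
    omega
  have hev2 : ∀ i, a i % 2 = 0 := by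
    have hle : (support₂ (mod2 a)).card ≤ 4 := by
      have : ((support₂ (mod2 a)).card : ℤ) ≤ ∑ i ∈ Finset.univ.erase pinf, a i ^ 2 := by
        rw [Finset.card_eq_sum_ones, Nat.cast_sum]
        calc ∑ i ∈ support₂ (mod2 a), ((1 : ℕ) : ℤ) ≤ ∑ i ∈ support₂ (mod2 a), a i ^ 2 :=
              Finset.sum_le_sum fun i hi => by
                rw [mem_support_mod2] at hi
                push_cast
                nlinarith [Int.one_le_abs (show a i ≠ 0 by omega), sq_abs (a i)]
          _ ≤ _ := Finset.sum_le_sum_of_subset_of_nonneg (fun i hi => by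
              rw [mem_support_mod2] at hi
              exact Finset.mem_erase.2 ⟨fun e => by subst e; omega, Finset.mem_univ _⟩)
            fun i _ _ => sq_nonneg _
      omega
    have h0 : (support₂ (mod2 a)).card = 0 := by
      rcases supports_card (mem_supports_word.2 hw) with e | e | e | e | e <;> omega
    intro i
    have : i ∉ support₂ (mod2 a) := by rw [Finset.card_eq_zero.1 h0]; simp
    rw [mem_support_mod2] at this
    omega
  obtain ⟨j, hj, hj0⟩ := Finset.exists_ne_zero_of_sum_ne_zero (hs2.trans_ne (by norm_num))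
  have hle : a j ^ 2 ≤ 4 := hrest ▸ Finset.single_le_sum (f := fun i => a i ^ 2)
    (fun i _ => sq_nonneg _) hj
  have hge : 4 ≤ a j ^ 2 := by
    have := hev2 j
    rcases (show a j ≥ 2 ∨ a j ≤ -2 by omega) with h | h <;> nlinarith
  have hzero : ∀ i, i ≠ pinf → i ≠ j → a i = 0 := by
    intro i h1 h2
    have h3 := Finset.add_sum_erase (Finset.univ.erase pinf) (fun i => a i ^ 2) hj
    have h4 := Finset.single_le_sum (f := fun i => a i ^ 2) (fun i _ => sq_nonneg _)
      (show i ∈ (Finset.univ.erase pinf).erase j by simp [h1, h2])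
    have : a i ^ 2 = 0 := le_antisymm (by omega) (sq_nonneg _)
    exact pow_eq_zero_iff two_ne_zero |>.1 this
  have haj : a j = 2 := by
    rw [Finset.sum_eq_single_of_mem j hj fun i hi h => hzero i (Finset.ne_of_mem_erase hi) h] at hs2
    exact hs2
  have hjp := Finset.ne_of_mem_erase hj
  refine ⟨j, hjp, funext fun i => ?_⟩
  simp only [pairF, Pi.add_apply, Pi.single_apply]
  by_cases p : i = pinf
  · subst p; rw [if_pos rfl, if_neg (Ne.symm hjp), x1]; norm_num
  · by_cases q : i = j
    · subst q; rw [if_neg p, if_pos rfl, ha, haj]; norm_num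
    · rw [if_neg p, if_neg q, ha, hzero i p q]; norm_num

theorem shape_mcl {y : leechLattice} (hy : y ∈ mclPoints) :
    (∃ j, j ≠ pinf ∧ j ≠ pz ∧ (y : GolayPt → ℤ) = pairF j) ∨
    (∃ o ∈ octads, pinf ∈ o ∧ pz ∈ o ∧ (y : GolayPt → ℤ) = octF o) ∨
    (∃ o ∈ octads, pinf ∈ o ∧ pz ∉ o ∧ (y : GolayPt → ℤ) = triF o) := by
  classical
  obtain ⟨hn, hs, he⟩ := mem_mclPoints.1 hy
  set x : GolayPt → ℤ := (y : GolayPt → ℤ) with hx
  have hbd := abs_entry_le (B := 5) (by norm_num) (by norm_num) hn pinf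
  rcases parity_cases y.2 with hev | hodd
  · let a : GolayPt → ℤ := fun i => x i / 2
    have ha : ∀ i, x i = 2 * a i := fun i => by
      have : x i % 2 = 0 := hev i
      simp only [a]; omega
    obtain ⟨hw, -⟩ := (even_mem_iff (a := a)).1 (by convert y.2 using 1; funext i; exact (ha i).symm)
    have hna : ∑ i, a i ^ 2 = 8 := by
      have : sqNorm x = 4 * ∑ i, a i ^ 2 := by
        rw [sqNorm, Finset.mul_sum]; exact Finset.sum_congr rfl fun i _ => by rw [ha i]; ring
      omega
    have hsa : ∑ i, a i + 4 * a pinf = 12 := by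
      have : ∑ i, x i = 2 * ∑ i, a i := by
        rw [Finset.mul_sum]; exact Finset.sum_congr rfl fun i _ => ha i
      have := ha pinf
      omega
    have hpr : a pz = 2 - a pinf := by
      have := ha pz; have := ha pinf; omega
    have hge : ∀ i, 0 ≤ a i ^ 2 - a i := fun i => by
      rcases (show a i ≤ 0 ∨ a i ≥ 1 by omega) with h | h <;> nlinarith
    have htot : ∑ i, (a i ^ 2 - a i) = 4 * a pinf - 4 := by
      rw [Finset.sum_sub_distrib, hna]; linarith
    have h2 : a pinf ^ 2 - a pinf + (a pz ^ 2 - a pz) ≤ 4 * a pinf - 4 := by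
      rw [← htot, ← Finset.sum_pair (f := fun i => a i ^ 2 - a i) pinf_ne_pz]
      exact Finset.sum_le_sum_of_subset_of_nonneg (Finset.subset_univ _) fun i _ _ => hge i
    rw [hpr] at h2
    have hsq2 : a pinf ^ 2 + (2 - a pinf) ^ 2 ≤ 8 := by
      rw [← hpr, ← hna, ← Finset.sum_pair (f := fun i => a i ^ 2) pinf_ne_pz]
      exact Finset.sum_le_sum_of_subset_of_nonneg (Finset.subset_univ _) fun i _ _ => sq_nonneg _
    rcases (show a pinf = 1 ∨ a pinf = 2 by
      rcases (show a pinf ≤ 0 ∨ a pinf = 1 ∨ a pinf = 2 ∨ 3 ≤ a pinf by omega) with h | h | h | h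
      · nlinarith
      · exact Or.inl h
      · exact Or.inr h
      · nlinarith) with h1 | h2'
    · right; left
      have hpr1 : a pz = 1 := by rw [hpr, h1]; norm_num
      have hrest : ∀ i, i ≠ pinf → i ≠ pz → a i ^ 2 - a i ≤ 0 := by
        intro i p q
        have h3 : ∑ k ∈ ({i, pinf, pz} : Finset GolayPt), (a k ^ 2 - a k) ≤ ∑ k, (a k ^ 2 - a k) :=
          Finset.sum_le_sum_of_subset_of_nonneg (Finset.subset_univ _) fun k _ _ => hge k
        rw [Finset.sum_insert (by simp [p, q]), Finset.sum_pair pinf_ne_pz, htot, hpr1, h1] at h3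
        linarith
      have h01 : ∀ i, a i = 0 ∨ a i = 1 := fun i => by
        by_cases p : i = pinf
        · subst p; exact Or.inr h1
        by_cases q : i = pz
        · subst q; exact Or.inr hpr1
        have := hrest i p q
        rcases (show a i ≤ -1 ∨ a i = 0 ∨ a i = 1 ∨ 2 ≤ a i by omega) with h | h | h | h
        · nlinarith
        · exact Or.inl h
        · exact Or.inr h
        · nlinarith
      refine ⟨support₂ (mod2 a), ⟨mem_supports_word.2 hw, ?_⟩, ?_, ?_, funext fun i => ?_⟩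
      · have : ((support₂ (mod2 a)).card : ℤ) = ∑ i, a i ^ 2 := by
          rw [Finset.card_eq_sum_ones, Nat.cast_sum,
            ← Finset.sum_subset (Finset.subset_univ (support₂ (mod2 a))) (f := fun i => a i ^ 2)
              fun i _ hi => by
                rw [mem_support_mod2] at hi
                rcases h01 i with h | h <;> rw [h] at hi ⊢ <;> simp at hi ⊢]
          refine Finset.sum_congr rfl fun i hi => ?_
          rw [mem_support_mod2] at hi
          rcases h01 i with h | h <;> rw [h] at hi ⊢ <;> simp at hi ⊢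
        omega
      · rw [mem_support_mod2, h1]; norm_num
      · rw [mem_support_mod2, hpr1]; norm_num
      · simp only [octF, mem_support_mod2]
        rcases h01 i with h | h <;> rw [ha i, h] <;> norm_num
    · left
      have hp0 : x pz = 0 := by rw [ha, hpr, h2']; norm_num
      obtain ⟨j, hj, e⟩ := shape_four y.2 hn (show x pinf = 4 by rw [ha, h2']; norm_num) hy.2.1
      refine ⟨j, hj, ?_, e⟩
      rintro rfl
      have := congrFun e pz
      rw [← hx, hp0] at this
      simp [pairF, pinf_ne_pz.symm] at this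
  · right; right
    have hodd' : ∀ i, x i % 2 = 1 := hodd
    have h1' : ∀ k, (1 : ℤ) ≤ x k ^ 2 := fun k => by
      have := hodd' k
      nlinarith [Int.one_le_abs (show x k ≠ 0 by omega), sq_abs (x k)]
    have hsplit := Finset.sum_add_sum_compl ({pinf, pz} : Finset GolayPt) (fun i => x i ^ 2)
    rw [Finset.sum_pair pinf_ne_pz, show ∑ i, x i ^ 2 = 32 from hn, he] at hsplit
    have hn22 : (({pinf, pz} : Finset GolayPt)ᶜ.card : ℤ) = 22 := by
      rw [Finset.card_compl, Finset.card_pair pinf_ne_pz]; simp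
    have h22 : (22 : ℤ) ≤ ∑ k ∈ ({pinf, pz} : Finset GolayPt)ᶜ, x k ^ 2 := by
      calc (22 : ℤ) = ∑ _k ∈ ({pinf, pz} : Finset GolayPt)ᶜ, (1 : ℤ) := by
            rw [Finset.sum_const, nsmul_eq_mul, mul_one, hn22]
        _ ≤ _ := Finset.sum_le_sum fun k _ => h1' k
    have hs13 : x pinf = 1 ∨ x pinf = 3 := by
      have := hodd' pinf
      have : 1 ≤ x pinf ∧ x pinf ≤ 3 := ⟨by nlinarith, by nlinarith⟩
      omega
    have hone : ∀ i, i ≠ pinf → i ≠ pz → x i = 1 ∨ x i = -1 := by
      intro i p q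
      have h10 : x pinf ^ 2 + (4 - x pinf) ^ 2 = 10 := by
        rcases hs13 with h | h <;> rw [h] <;> norm_num
      have hone' : ∑ k ∈ ({pinf, pz} : Finset GolayPt)ᶜ, x k ^ 2 =
          ∑ _k ∈ ({pinf, pz} : Finset GolayPt)ᶜ, (1 : ℤ) := by
        rw [Finset.sum_const, nsmul_eq_mul, mul_one, hn22]; linarith
      have := (Finset.sum_eq_sum_iff_of_le fun k _ => h1' k).1 hone'.symm i (by simp [p, q])
      exact sq_eq_one_iff.1 this.symm
    set c := Finset.univ.filter fun i => x i % 4 = 3 with hc'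
    obtain ⟨hc, -⟩ := (odd_mem_iff hodd').1 y.2
    have hxval : ∀ i, x i = (if i = pinf then x pinf else 0) + (if i = pz then 4 - x pinf else 0) +
        (if i = pinf ∨ i = pz then 0 else 1 - 2 * (if i ∈ c then 1 else 0)) := by
      intro i
      by_cases p : i = pinf
      · subst p; simp [pinf_ne_pz]
      by_cases q : i = pz
      · subst q; simp [p, he]
      rcases hone i p q with h | h <;> simp [hc', p, q, h]
    have hm : ∑ i, x i = 4 + 22 - 2 * (((c.erase pinf).erase pz).card : ℤ) := by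
      rw [Finset.sum_congr rfl fun i _ => hxval i, Finset.sum_add_distrib, Finset.sum_add_distrib,
        Finset.sum_ite_eq', Finset.sum_ite_eq', if_pos (Finset.mem_univ _),
        if_pos (Finset.mem_univ _), Finset.sum_ite, Finset.sum_const_zero, zero_add,
        Finset.sum_sub_distrib, ← Finset.mul_sum, Finset.sum_boole, Finset.sum_const]
      have e1 : (Finset.univ.filter fun i : GolayPt => ¬(i = pinf ∨ i = pz)) =
          ({pinf, pz} : Finset GolayPt)ᶜ := by ext i; simp
      have e2 : (({pinf, pz} : Finset GolayPt)ᶜ.filter fun i => i ∈ c) = (c.erase pinf).erase pz := by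
        ext i
        simp only [Finset.mem_filter, Finset.mem_compl, Finset.mem_insert, Finset.mem_singleton,
          Finset.mem_erase, not_or]
        tauto
      rw [e1, e2, nsmul_eq_mul, mul_one, hn22]
      ring
    rcases hs13 with h | h
    · exfalso
      have p1 : pinf ∉ c := by simp [hc', h]
      have p2 : pz ∈ c := by simp [hc', he, h]
      rw [Finset.erase_eq_of_notMem p1, Finset.card_erase_of_mem p2] at hm
      have := Finset.card_pos.2 ⟨_, p2⟩
      rcases supports_card hc with e | e | e | e | e <;> rw [← hc'] at e <;> omega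
    · have p1 : pinf ∈ c := by simp [hc', h]
      have p2 : pz ∉ c := by simp [hc', he, h]
      rw [Finset.erase_eq_of_notMem (fun hh => p2 (Finset.mem_of_mem_erase hh)),
        Finset.card_erase_of_mem p1] at hm
      have := Finset.card_pos.2 ⟨_, p1⟩
      refine ⟨c, ⟨hc, by omega⟩, p1, p2, funext fun i => ?_⟩
      simp only [triF]
      by_cases p : i = pinf
      · rw [if_pos p, p, h]
      rw [if_neg p]
      by_cases q : i = pz
      · subst q; rw [if_neg p2, he, h]; norm_num
      rcases hone i p q with hi | hi <;> simp [hc', hi]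

/-- The auxiliary minimal vector: `1` on an octad with one `-3`, and `-1` outside. -/
def oddW (o : Finset GolayPt) (j : GolayPt) : GolayPt → ℤ :=
  fun i => 2 * (if i ∈ o then 1 else 0) - 1 - (if i = j then 4 else 0)

theorem oddW_mem {o : Finset GolayPt} (ho : o ∈ octads) {j : GolayPt} (hj : j ∈ o) :
    oddW o j ∈ leechLattice ∧ sqNorm (oddW o j) = 32 ∧ ∑ i, oddW o j i = -12 := by
  classical
  have hodd : ∀ i, oddW o j i % 2 = 1 := fun i => by
    simp only [oddW]; split_ifs <;> norm_num
  have hsum : ∑ i, oddW o j i = -12 := by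
    simp only [oddW]
    rw [Finset.sum_sub_distrib, Finset.sum_sub_distrib, ← Finset.mul_sum, Finset.sum_ite_mem,
      Finset.univ_inter, Finset.sum_const, ho.2, Finset.sum_const, Finset.card_univ,
      Finset.sum_ite_eq', if_pos (Finset.mem_univ _)]
    simp [-Fintype.sum_option]
  refine ⟨?_, ?_, hsum⟩
  · rw [odd_mem_iff hodd]
    refine ⟨?_, by rw [hsum]; norm_num⟩
    convert symmDiff_mem_supports univ_mem_supports ho.1 using 1
    ext i
    simp only [Finset.mem_filter, Finset.mem_univ, true_and, Finset.mem_symmDiff, not_true,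
      and_false, or_false, oddW]
    by_cases p : i ∈ o
    · by_cases q : i = j <;> simp [p, q, hj]
    · simp [p, show i ≠ j from fun e => p (e ▸ hj)]
  · have e : ∀ i, oddW o j i ^ 2 = 1 + if i = j then 8 else 0 := fun i => by
      simp only [oddW]
      by_cases q : i = j
      · subst q; simp [hj]
      · by_cases p : i ∈ o <;> simp [p, q]
    rw [sqNorm, Finset.sum_congr rfl fun i _ => e i, Finset.sum_add_distrib, Finset.sum_const,
      Finset.card_univ, Finset.sum_ite_eq', if_pos (Finset.mem_univ _)]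
    simp [-Fintype.sum_option]

theorem oddW_at {o : Finset GolayPt} {i j : GolayPt} (hi : i ∈ o) (h : i ≠ j) : oddW o j i = 1 := by
  simp [oddW, hi, h]

theorem dot_octF (o : Finset GolayPt) (f : GolayPt → ℤ) : dotInt (octF o) f = 2 * ∑ i ∈ o, f i := by
  classical
  rw [dotInt, Finset.mul_sum, ← Finset.sum_subset (Finset.subset_univ o) fun i _ hi => by
    simp [octF, hi]]
  exact Finset.sum_congr rfl fun i hi => by simp [octF, hi]

theorem sum_oddW (o s : Finset GolayPt) (j : GolayPt) :
    ∑ i ∈ s, oddW o j i = 2 * ((s ∩ o).card : ℤ) - s.card - if j ∈ s then 4 else 0 := by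
  classical
  simp only [oddW]
  rw [Finset.sum_sub_distrib, Finset.sum_sub_distrib, ← Finset.mul_sum, Finset.sum_ite_mem,
    Finset.sum_ite_eq']
  simp

/-- Product of an auxiliary vector with a vector `triF`. -/
theorem dot_triF {o o' : Finset GolayPt} (ho : o ∈ octads) (ho' : o' ∈ octads) {j : GolayPt}
    (hp : pinf ∈ o) (hp' : pinf ∈ o') (hj : j ∈ o) (hj' : j ∈ o') (hjp : j ≠ pinf)
    (h2 : (o ∩ o').card = 2) : dotInt (triF o) (oddW o' j) = 8 := by
  classical
  have e : ∀ i, triF o i * oddW o' j i =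
      oddW o' j i + (-2) * (if i ∈ o then oddW o' j i else 0) +
        (if i = pinf then 4 * oddW o' j i else 0) := fun i => by
    simp only [triF]
    by_cases p : i = pinf
    · subst p; simp [hp]; ring
    · by_cases q : i ∈ o <;> simp [p, q]; ring
  rw [dotInt, Finset.sum_congr rfl fun i _ => e i, Finset.sum_add_distrib, Finset.sum_add_distrib,
    ← Finset.mul_sum, Finset.sum_ite_mem, Finset.univ_inter, Finset.sum_ite_eq',
    if_pos (Finset.mem_univ _), (oddW_mem ho' hj').2.2, sum_oddW, if_pos hj, h2, ho.2,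
    oddW_at hp' (Ne.symm hjp)]
  norm_num

/-- A frame moving the standard pair to itself. -/
theorem mcl_move {w : leechLattice} (w1 : sqNorm (w : GolayPt → ℤ) = 32)
    (w2 : dotInt (fiveV : GolayPt → ℤ) w = -8) (w3 : dotInt (min44 : GolayPt → ℤ) w = 8) :
    ∃ g : Co0, g • fiveV = fiveV ∧ g • min44 = min44 ∧
      ∀ x : leechLattice, 8 * ((g • x : leechLattice) : GolayPt → ℤ) pinf =
        dotInt (x : GolayPt → ℤ) fiveV + dotInt (x : GolayPt → ℤ) w := by
  classical
  obtain ⟨g, g1, g2⟩ := five_frame fiveV_norm w1 w2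
  have hd : dotInt (min44 : GolayPt → ℤ) fiveV = 24 := by decide +kernel
  have x4 : ((g • min44 : leechLattice) : GolayPt → ℤ) pinf = 4 := by
    have := g2 min44
    rw [hd, w3] at this
    omega
  obtain ⟨j, hj, e⟩ := shape_four (g • min44).2 ((co0_sq g min44).trans min44_norm) x4 (by
    rw [← g1, co0_dot, dotInt_comm, hd])
  obtain ⟨σ, s1, s2⟩ := M24_two (Ne.symm hj) pinf_ne_pz
  refine ⟨monoCo0 σ σ.2 ∅ empty_code * g, by rw [mul_smul, g1, perm_fix_five s1], ?_, fun x => ?_⟩
  · rw [mul_smul]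
    refine Subtype.ext (funext fun i => ?_)
    obtain ⟨i, rfl⟩ := (σ : Equiv.Perm GolayPt).surjective i
    rw [perm_apply, e]
    have e' : ∀ a b, σ • a = b → ((σ : Equiv.Perm GolayPt) i = b ↔ i = a) := fun a b h =>
      ⟨fun h' => (σ : Equiv.Perm GolayPt).injective (h'.trans h.symm), fun h' => h' ▸ h⟩
    simp only [pairF, min44_coe, Pi.add_apply, Pi.single_apply, e' _ _ s1, e' _ _ s2]
  · rw [← g2 x, mul_smul]
    have := perm_apply σ (g • x) pinf
    rw [show (σ : Equiv.Perm GolayPt) pinf = pinf from s1] at this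
    rw [this]

/-- The base point of the configuration. -/
def pv : leechLattice :=
  ⟨pairF (pt 1), (pair4_mem pinf_ne_one (Or.inl rfl) (Or.inl rfl)).1⟩

theorem mcl_pair_perm {j : GolayPt} (h1 : j ≠ pinf) (h2 : j ≠ pz) {y : leechLattice}
    (hy : (y : GolayPt → ℤ) = pairF j) : ∃ σ : M24, σ • pinf = pinf ∧ σ • pz = pz ∧
      monoCo0 σ σ.2 ∅ empty_code • fiveV = fiveV ∧ monoCo0 σ σ.2 ∅ empty_code • min44 = min44 ∧
      monoCo0 σ σ.2 ∅ empty_code • y = pv := by
  obtain ⟨σ, s1, s2, s3⟩ := M24_three pinf_ne_pz h1.symm h2.symm pinf_ne_pz pinf_ne_one pz_ne_one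
  refine ⟨σ, s1, s2, perm_fix_five s1,
    mono_fix_min44 σ s1 s2 empty_code (Finset.notMem_empty _) (Finset.notMem_empty _),
    Subtype.ext (funext fun i => ?_)⟩
  obtain ⟨i, rfl⟩ := (σ : Equiv.Perm GolayPt).surjective i
  rw [perm_apply, hy]
  have e : ∀ a b, σ • a = b → ((σ : Equiv.Perm GolayPt) i = b ↔ i = a) := fun a b h =>
    ⟨fun h' => (σ : Equiv.Perm GolayPt).injective (h'.trans h.symm), fun h' => h' ▸ h⟩
  show pairF j i = pairF (pt 1) _
  simp only [pairF, Pi.add_apply, Pi.single_apply, e _ _ s1, e _ _ s3]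

theorem tri_partner {o : Finset GolayPt} (ho : o ∈ octads) (hp : pinf ∈ o) (hz : pz ∉ o) :
    ∃ o' ∈ octads, pinf ∈ o' ∧ pz ∈ o' ∧ (o ∩ o').card = 2 := by
  obtain ⟨m, hm, rfl⟩ := mem_octads_iff.1 ho
  have h : octList.all (fun m => !(m.testBit 23 && !m.testBit 0) ||
      octList.any (fun k => k.testBit 23 && k.testBit 0 && Nat.beq (pop (Nat.land m k)) 2)) = true := by
    decide +kernel
  have := List.all_eq_true.1 h m hm
  rw [mem_mset, show idx pinf = 23 by decide +kernel] at hp
  rw [mem_mset, show idx pz = 0 by decide +kernel, Bool.not_eq_true] at hz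
  simp only [hp, hz, Bool.not_false, Bool.and_self, Bool.not_true, Bool.false_or,
    List.any_eq_true, Bool.and_eq_true] at this
  obtain ⟨k, hk, ⟨k1, k2⟩, k3⟩ := this
  refine ⟨mset k, mem_octads_iff.2 ⟨k, hk, rfl⟩, ?_, ?_, inter_card_iff.2 k3⟩
  · rw [mem_mset, show idx pinf = 23 by decide +kernel]; exact k1
  · rw [mem_mset, show idx pz = 0 by decide +kernel]; exact k2

theorem mcl_to_pv {y : leechLattice} (hy : y ∈ mclPoints) :
    ∃ g : Co0, g • fiveV = fiveV ∧ g • min44 = min44 ∧ g • y = pv := by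
  classical
  obtain ⟨hn, hs, he⟩ := mem_mclPoints.1 hy
  have hy0 : dotInt (y : GolayPt → ℤ) fiveV = 24 := by rw [dotInt_comm, dot_five]; exact hs
  obtain ⟨w, w1, w2, w3, w4⟩ : ∃ w : leechLattice, sqNorm (w : GolayPt → ℤ) = 32 ∧
      dotInt (fiveV : GolayPt → ℤ) w = -8 ∧ dotInt (min44 : GolayPt → ℤ) w = 8 ∧
      dotInt (y : GolayPt → ℤ) w = 8 := by
    rcases shape_mcl hy with ⟨j, j1, j2, e⟩ | ⟨o, ho, o1, o2, e⟩ | ⟨o, ho, o1, o2, e⟩
    · refine ⟨vec8 pinf - fiveV, by decide +kernel, by decide +kernel, by decide +kernel, ?_⟩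
      rw [e, AddSubgroup.coe_sub, dotInt_comm]
      show dotInt _ (Pi.single pinf 4 + Pi.single j 4) = 8
      rw [dotInt_pair]
      simp [vec8, fiveV, five, j1, Ne.symm j1]
    · obtain ⟨j, hj⟩ : ((o.erase pinf).erase pz).Nonempty := by
        rw [← Finset.card_pos, Finset.card_erase_of_mem
          (Finset.mem_erase.2 ⟨pinf_ne_pz.symm, o2⟩), Finset.card_erase_of_mem o1, ho.2]; norm_num
      simp only [Finset.mem_erase] at hj
      obtain ⟨h1, h2, h3⟩ := oddW_mem ho hj.2.2
      refine ⟨⟨_, h1⟩, h2, ?_, ?_, ?_⟩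
      · rw [dot_five]
        show (∑ i, oddW o j i) + 4 * oddW o j pinf = -8
        rw [h3, oddW_at o1 (Ne.symm hj.2.1)]; norm_num
      · rw [dot_min44]
        show 4 * oddW o j pinf + 4 * oddW o j pz = 8
        rw [oddW_at o1 (Ne.symm hj.2.1), oddW_at o2 (Ne.symm hj.1)]; norm_num
      · rw [e]
        show dotInt (octF o) (oddW o j) = 8
        rw [dot_octF, sum_oddW, Finset.inter_self, ho.2, if_pos hj.2.2]; norm_num
    · obtain ⟨o', ho', p1, p2, hi⟩ := tri_partner ho o1 o2
      obtain ⟨k, hk⟩ : ((o ∩ o').erase pinf).Nonempty := by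
        rw [← Finset.card_pos, Finset.card_erase_of_mem (Finset.mem_inter.2 ⟨o1, p1⟩), hi]; norm_num
      simp only [Finset.mem_erase, Finset.mem_inter] at hk
      obtain ⟨h1, h2, h3⟩ := oddW_mem ho' hk.2.2
      have hkz : k ≠ pz := fun e => o2 (e ▸ hk.2.1)
      refine ⟨⟨_, h1⟩, h2, ?_, ?_, ?_⟩
      · rw [dot_five]
        show (∑ i, oddW o' k i) + 4 * oddW o' k pinf = -8
        rw [h3, oddW_at p1 (Ne.symm hk.1)]; norm_num
      · rw [dot_min44]
        show 4 * oddW o' k pinf + 4 * oddW o' k pz = 8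
        rw [oddW_at p1 (Ne.symm hk.1), oddW_at p2 (Ne.symm hkz)]; norm_num
      · rw [e]
        exact dot_triF ho ho' o1 p1 hk.2.1 hk.2.2 hk.1 hi
  obtain ⟨g, g1, g2, g3⟩ := mcl_move w1 w2 w3
  have y4 : ((g • y : leechLattice) : GolayPt → ℤ) pinf = 4 := by
    have := g3 y
    rw [hy0, w4] at this
    omega
  obtain ⟨j, hj, e⟩ := shape_four (g • y).2 ((co0_sq g y).trans hn) y4 (by
    rw [← g1, co0_dot, dotInt_comm, hy0])
  have hjz : j ≠ pz := by
    rintro rfl
    have h := co0_dot g min44 y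
    rw [g2, e, dot_min44, dot_min44, he] at h
    simp [pairF, pinf_ne_pz, pinf_ne_pz.symm] at h
    omega
  obtain ⟨σ, -, -, f1, f2, f3⟩ := mcl_pair_perm hj hjz e
  exact ⟨monoCo0 σ σ.2 ∅ empty_code * g, by rw [mul_smul, g1, f1], by rw [mul_smul, g2, f2],
    by rw [mul_smul, f3]⟩

theorem mcl_trans {y y' : leechLattice} (hy : y ∈ mclPoints) (hy' : y' ∈ mclPoints) :
    ∃ g : Co0, g • fiveV = fiveV ∧ g • min44 = min44 ∧ g • y = y' := by
  obtain ⟨g, g1, g2, g3⟩ := mcl_to_pv hy
  obtain ⟨k, k1, k2, k3⟩ := mcl_to_pv hy'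
  exact ⟨k⁻¹ * g, by rw [mul_smul, g1, inv_smul_eq_iff, k1],
    by rw [mul_smul, g2, inv_smul_eq_iff, k2], by rw [mul_smul, g3, ← k3, inv_smul_smul]⟩

theorem mclPoints_counts :
    (∑ t ∈ Finset.Icc (-1 : ℤ) 5, markCase [(23, t), (0, 4 - t)] 8 (24 - 4 * t)) = 275 := by
  decide +kernel

theorem mclPoints_finite : mclPoints.Finite := by
  refine (((finite_norm 32).preimage Subtype.val_injective.injOn)).subset fun y hy => ?_
  exact ⟨y.2, (mem_mclPoints.1 hy).1⟩

theorem ncard_mclPoints : mclPoints.ncard = 275 := by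
  classical
  rw [Set.ncard_eq_toFinset_card _ mclPoints_finite,
    Finset.card_eq_sum_card_fiberwise (f := fun y : leechLattice => (y : GolayPt → ℤ) pinf)
      (t := Finset.Icc (-1) 5) (fun y hy => by
        rw [Finset.mem_coe, Set.Finite.mem_toFinset] at hy
        obtain ⟨hn, -, he⟩ := mem_mclPoints.1 hy
        have a := abs_entry_le (B := 5) (by norm_num) (by norm_num) hn pinf
        have b := abs_entry_le (B := 5) (by norm_num) (by norm_num) hn pz
        show (y : GolayPt → ℤ) pinf ∈ Finset.Icc (-1 : ℤ) 5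
        exact Finset.mem_Icc.2 ⟨by omega, a.2⟩)]
  refine (Finset.sum_congr rfl fun t ht => ?_).trans mclPoints_counts
  rw [Finset.mem_Icc] at ht
  rw [← ncard_two t (4 - t) (Finset.mem_Icc.2 ⟨by omega, ht.2⟩)
    (Finset.mem_Icc.2 ⟨by omega, by omega⟩) (by omega) 8 (by norm_num), ← Set.ncard_coe_finset,
    ← ncard_subtype_leech fun y => sqNorm y = 4 * ((8 : ℕ) : ℤ) ∧ y pinf = t ∧
      y (pt 0) = 4 - t ∧ ∑ i, y i = 24 - 4 * t]
  congr 1
  ext y
  simp only [Finset.coe_filter, Set.Finite.mem_toFinset, Set.mem_setOf_eq, mem_mclPoints]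
  constructor
  · rintro ⟨⟨a, b, c⟩, d⟩
    exact ⟨by rw [a]; norm_num, d, c.trans (by omega), by omega⟩
  · rintro ⟨a, b, c, d⟩
    exact ⟨⟨by rw [a]; norm_num, by omega, c.trans (by omega)⟩, b⟩

end CfsgLib.Golay
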