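import Cfsg.Agent.Lib.Golay.Co0McL

/-! The configuration of 275 vectors at any pair. -/

set_option autoImplicit false
set_option maxRecDepth 100000

namespace CfsgLib.Golay

open Cfsg
open scoped Pointwise

theorem fiveV_min44 : dotInt (min44 : GolayPt → ℤ) fiveV = 24 := by decide +kernel

theorem normal_mcl {u v : leechLattice} (hu : sqNorm (u : GolayPt → ℤ) = 48)
    (hv : sqNorm (v : GolayPt → ℤ) = 32) (hd : dotInt (v : GolayPt → ℤ) u = 24) :
    ∃ g : Co0, g • u = fiveV ∧ g • v = min44 := by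
  obtain ⟨g, hg⟩ := co0_trans48 hu fiveV_norm
  obtain ⟨k, k1, k2⟩ := co0_trans_split fiveV_norm (v := g • v) ((co0_sq g v).trans hv) min44_norm
    (by rw [← hg, co0_dot, hd]) fiveV_min44
  exact ⟨k * g, by rw [mul_smul, hg, k1], by rw [mul_smul, k2]⟩

theorem mcl_mem_smul (g : Co0) {u v : leechLattice} (hu : sqNorm (u : GolayPt → ℤ) = 48)
    (g1 : g • u = fiveV) (g2 : g • v = min44) (x : leechLattice) :
    g • x ∈ mclPoints ↔ sqNorm (x : GolayPt → ℤ) = 32 ∧
      sqNorm ((u - x) : GolayPt → ℤ) = 32 ∧ dotInt (v : GolayPt → ℤ) x = 16 := by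
  simp only [mclPoints, Set.mem_setOf_eq, ← g1, ← g2, co0_dot, co0_sq]
  exact and_congr_right fun hx => by rw [dot_of_diff hu hx]

theorem mcl_config {u v : leechLattice} (hu : sqNorm (u : GolayPt → ℤ) = 48)
    (hv : sqNorm (v : GolayPt → ℤ) = 32 ∧ sqNorm ((u - v) : GolayPt → ℤ) = 32) :
    {x : leechLattice | sqNorm (x : GolayPt → ℤ) = 32 ∧ sqNorm ((u - x) : GolayPt → ℤ) = 32 ∧
        dotInt (v : GolayPt → ℤ) x = 16}.ncard = 275 ∧
      ∀ x ∈ {x : leechLattice | sqNorm (x : GolayPt → ℤ) = 32 ∧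
          sqNorm ((u - x) : GolayPt → ℤ) = 32 ∧ dotInt (v : GolayPt → ℤ) x = 16},
        ∀ x' ∈ {x : leechLattice | sqNorm (x : GolayPt → ℤ) = 32 ∧
          sqNorm ((u - x) : GolayPt → ℤ) = 32 ∧ dotInt (v : GolayPt → ℤ) x = 16},
        ∃ g : Co0, g • u = u ∧ g • v = v ∧ g • x = x' := by
  obtain ⟨g, g1, g2⟩ := normal_mcl hu hv.1
    (by rw [dotInt_comm]; exact (dot_of_diff hu hv.1).1 hv.2)
  have hm := mcl_mem_smul g hu g1 g2
  refine ⟨?_, fun x hx x' hx' => ?_⟩
  · refine Eq.trans ?_ ncard_mclPoints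
    rw [← Set.ncard_image_of_injective mclPoints (MulAction.injective g⁻¹)]
    refine congrArg Set.ncard (Set.ext fun x => ⟨fun h => ⟨g • x, (hm x).2 h, inv_smul_smul g x⟩, ?_⟩)
    rintro ⟨y, hy, rfl⟩
    exact (hm _).1 (by rwa [smul_inv_smul])
  · obtain ⟨k, k1, k2, k3⟩ := mcl_trans ((hm x).2 hx) ((hm x').2 hx')
    refine ⟨g⁻¹ * k * g, ?_, ?_, ?_⟩
    · rw [mul_smul, g1, mul_smul, k1, ← g1, inv_smul_smul]
    · rw [mul_smul, g2, mul_smul, k2, ← g2, inv_smul_smul]
    · rw [mul_smul, mul_smul, k3, inv_smul_smul]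

/-- The group of the standard pair. -/
abbrev mclGroup : Subgroup Co0 :=
  MulAction.stabilizer Co0 fiveV ⊓ MulAction.stabilizer Co0 min44

theorem card_mclGroup : Nat.card mclGroup = 898128000 := by
  classical
  let H : Subgroup (MulAction.stabilizer Co0 fiveV) :=
    MulAction.stabilizer (MulAction.stabilizer Co0 fiveV) min44
  have horb : MulAction.orbit (MulAction.stabilizer Co0 fiveV) min44 =
      {x : leechLattice | sqNorm (x : GolayPt → ℤ) = 32 ∧ dotInt (fiveV : GolayPt → ℤ) x = 24} := by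
    ext y
    constructor
    · rintro ⟨g, rfl⟩
      show sqNorm (((g : Co0) • min44 : leechLattice) : GolayPt → ℤ) = 32 ∧
        dotInt (fiveV : GolayPt → ℤ) ((g : Co0) • min44 : leechLattice) = 24
      refine ⟨(co0_sq _ _).trans min44_norm, ?_⟩
      have := co0_dot (g : Co0) fiveV min44
      rw [MulAction.mem_stabilizer_iff.1 g.2] at this
      rw [this, dotInt_comm]; exact fiveV_min44
    · rintro ⟨h1, h2⟩
      obtain ⟨g, g1, g2⟩ := co0_trans_split fiveV_norm min44_norm h1 fiveV_min44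
        (by rw [dotInt_comm]; exact h2)
      exact ⟨⟨g, g1⟩, g2⟩
  have hidx : H.index = 552 := by
    rw [MulAction.index_stabilizer, horb]
    exact (census48 fiveV_norm).1
  have h := H.card_mul_index
  rw [hidx, card_stab48 fiveV_norm] at h
  have e : Nat.card mclGroup = Nat.card H := Nat.card_congr
    { toFun := fun a => ⟨⟨a.1, a.2.1⟩, a.2.2⟩
      invFun := fun a => ⟨a.1.1, a.1.2, a.2⟩
      left_inv := fun _ => rfl
      right_inv := fun _ => rfl }
  omega

end CfsgLib.Golay
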