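import Cfsg.Agent.Lib.Golay.Co0McLGroup

/-! The rank 3 action on the 275 vectors. -/

set_option autoImplicit false
set_option maxRecDepth 100000

namespace CfsgLib.Golay

open Cfsg
open scoped Pointwise

theorem M24_four {p q r s p' q' r' s' : GolayPt}
    (h : Function.Injective ![p, q, r, s]) (h' : Function.Injective ![p', q', r', s']) :
    ∃ g : M24, g • p = p' ∧ g • q = q' ∧ g • r = r' ∧ g • s = s' := by
  haveI := M24_isMultiplyPretransitive
  haveI := MulAction.isMultiplyPretransitive_of_le (G := M24) (α := GolayPt) (m := 4) (n := 5)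
    (by norm_num) (by simp)
  obtain ⟨g, hg⟩ := MulAction.exists_smul_eq M24 (⟨_, h⟩ : Fin 4 ↪ GolayPt) ⟨_, h'⟩
  exact ⟨g, DFunLike.congr_fun hg 0, DFunLike.congr_fun hg 1, DFunLike.congr_fun hg 2,
    DFunLike.congr_fun hg 3⟩

theorem four_injective {p q r s : GolayPt} (h1 : p ≠ q) (h2 : p ≠ r) (h3 : p ≠ s) (h4 : q ≠ r)
    (h5 : q ≠ s) (h6 : r ≠ s) : Function.Injective ![p, q, r, s] := by
  intro i j hij
  fin_cases i <;> fin_cases j <;> first
    | rfl
    | exact absurd hij h1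
    | exact absurd hij h2
    | exact absurd hij h3
    | exact absurd hij h4
    | exact absurd hij h5
    | exact absurd hij h6
    | exact absurd hij.symm h1
    | exact absurd hij.symm h2
    | exact absurd hij.symm h3
    | exact absurd hij.symm h4
    | exact absurd hij.symm h5
    | exact absurd hij.symm h6

theorem dot_pv (f : GolayPt → ℤ) : dotInt (pv : GolayPt → ℤ) f = 4 * f pinf + 4 * f (pt 1) := by
  rw [dotInt_comm]
  show dotInt f (Pi.single pinf 4 + Pi.single (pt 1) 4) = _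
  rw [dotInt_pair]

/-- An octad with given incidences at the three base points and given intersection. -/
theorem partner_exists {o : Finset GolayPt} (ho : o ∈ octads) (b0 : Bool) (k : ℕ)
    (hb : (b0, k) ∈ [(false, 2), (true, 4)]) (hp : pinf ∈ o) (hz : pz ∈ o ↔ b0 = true)
    (h1 : pt 1 ∉ o) :
    ∃ o' ∈ octads, pinf ∈ o' ∧ pz ∈ o' ∧ pt 1 ∈ o' ∧ (o ∩ o').card = k := by
  obtain ⟨m, hm, rfl⟩ := mem_octads_iff.1 ho
  have h : ([(false, 2), (true, 4)] : List (Bool × ℕ)).all (fun c => octList.all fun m =>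
      !(m.testBit 23 && (m.testBit 0 == c.1) && !m.testBit 1) ||
      octList.any (fun k => k.testBit 23 && k.testBit 0 && k.testBit 1 &&
        Nat.beq (pop (Nat.land m k)) c.2)) = true := by
    decide +kernel
  have := List.all_eq_true.1 (List.all_eq_true.1 h _ hb) m hm
  rw [mem_mset, show idx pinf = 23 by decide +kernel] at hp
  rw [mem_mset, show idx (pt 1) = 1 by decide +kernel, Bool.not_eq_true] at h1
  rw [mem_mset, show idx pz = 0 by decide +kernel] at hz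
  have hz' : m.testBit 0 = b0 := Bool.eq_iff_iff.2 hz
  simp only [hp, hz', h1, Bool.not_false, beq_self_eq_true, Bool.and_self, Bool.not_true,
    Bool.false_or, List.any_eq_true, Bool.and_eq_true] at this
  obtain ⟨k', hk', ⟨⟨k1, k2⟩, k3⟩, k4⟩ := this
  refine ⟨mset k', mem_octads_iff.2 ⟨k', hk', rfl⟩, ?_, ?_, ?_, inter_card_iff.2 k4⟩
  · rw [mem_mset, show idx pinf = 23 by decide +kernel]; exact k1
  · rw [mem_mset, show idx pz = 0 by decide +kernel]; exact k2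
  · rw [mem_mset, show idx (pt 1) = 1 by decide +kernel]; exact k3

theorem oddW_specs {o : Finset GolayPt} (ho : o ∈ octads) (p1 : pinf ∈ o) (p2 : pz ∈ o)
    (p3 : pt 1 ∈ o) {j : GolayPt} (hj : j ∈ o) (j1 : j ≠ pinf) (j2 : j ≠ pz) (j3 : j ≠ pt 1) :
    ∃ w : leechLattice, (w : GolayPt → ℤ) = oddW o j ∧ sqNorm (w : GolayPt → ℤ) = 32 ∧
      dotInt (fiveV : GolayPt → ℤ) w = -8 ∧ dotInt (min44 : GolayPt → ℤ) w = 8 ∧
      dotInt (pv : GolayPt → ℤ) w = 8 := by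
  obtain ⟨h1, h2, h3⟩ := oddW_mem ho hj
  refine ⟨⟨_, h1⟩, rfl, h2, ?_, ?_, ?_⟩
  · rw [dot_five]
    show (∑ i, oddW o j i) + 4 * oddW o j pinf = -8
    rw [h3, oddW_at p1 (Ne.symm j1)]; norm_num
  · rw [dot_min44]
    show 4 * oddW o j pinf + 4 * oddW o j pz = 8
    rw [oddW_at p1 (Ne.symm j1), oddW_at p2 (Ne.symm j2)]; norm_num
  · rw [dot_pv]
    show 4 * oddW o j pinf + 4 * oddW o j (pt 1) = 8
    rw [oddW_at p1 (Ne.symm j1), oddW_at p3 (Ne.symm j3)]; norm_num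

/-- An element fixing the triple and changing the first entry of a given point. -/
theorem rank_move {w y : leechLattice} (w1 : sqNorm (w : GolayPt → ℤ) = 32)
    (w2 : dotInt (fiveV : GolayPt → ℤ) w = -8) (w3 : dotInt (min44 : GolayPt → ℤ) w = 8)
    (w4 : dotInt (pv : GolayPt → ℤ) w = 8) (hy : y ∈ mclPoints) :
    ∃ g : Co0, g • fiveV = fiveV ∧ g • min44 = min44 ∧ g • pv = pv ∧ g • y ∈ mclPoints ∧
      8 * ((g • y : leechLattice) : GolayPt → ℤ) pinf = 24 + dotInt (y : GolayPt → ℤ) w ∧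
      dotInt (pv : GolayPt → ℤ) (g • y : leechLattice) = dotInt (pv : GolayPt → ℤ) y := by
  obtain ⟨g, g1, g2, g3⟩ := mcl_move w1 w2 w3
  have hpd : dotInt (pv : GolayPt → ℤ) fiveV = 24 := by decide +kernel
  have hpn : sqNorm (pv : GolayPt → ℤ) = 32 := by decide +kernel
  have hpm : dotInt (min44 : GolayPt → ℤ) pv = 16 := by decide +kernel
  have p4 : ((g • pv : leechLattice) : GolayPt → ℤ) pinf = 4 := by
    have := g3 pv
    rw [hpd, w4] at this
    omega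
  obtain ⟨j, hj, e⟩ := shape_four (g • pv).2 ((co0_sq g pv).trans hpn) p4 (by
    rw [← g1, co0_dot, dotInt_comm, hpd])
  have hjz : j ≠ pz := by
    rintro rfl
    have h := co0_dot g min44 pv
    rw [g2, e, hpm, dot_min44] at h
    simp [pairF, pinf_ne_pz, pinf_ne_pz.symm] at h
  obtain ⟨σ, s1, s2, f1, f2, f3⟩ := mcl_pair_perm hj hjz e
  refine ⟨monoCo0 σ σ.2 ∅ empty_code * g, by rw [mul_smul, g1, f1], by rw [mul_smul, g2, f2],
    by rw [mul_smul, f3], ?_, ?_, ?_⟩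
  · obtain ⟨a, b, c⟩ := hy
    refine ⟨(co0_sq _ _).trans a, ?_, ?_⟩
    · rw [show (fiveV : GolayPt → ℤ) = ((monoCo0 σ σ.2 ∅ empty_code * g) • fiveV : leechLattice) by
        rw [mul_smul, g1, f1], co0_dot]
      exact b
    · rw [show (min44 : GolayPt → ℤ) = ((monoCo0 σ σ.2 ∅ empty_code * g) • min44 : leechLattice) by
        rw [mul_smul, g2, f2], co0_dot]
      exact c
  · have hy0 : dotInt (y : GolayPt → ℤ) fiveV = 24 := by rw [dotInt_comm]; exact hy.2.1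
    have := g3 y
    rw [hy0] at this
    rw [← this, mul_smul]
    have hp := perm_apply σ (g • y) pinf
    rw [show (σ : Equiv.Perm GolayPt) pinf = pinf from s1] at hp
    rw [hp]
  · conv_lhs => rw [show (pv : GolayPt → ℤ) = ((monoCo0 σ σ.2 ∅ empty_code * g) • pv : leechLattice) by
      rw [mul_smul, f3]]
    rw [co0_dot]

/-- Fixing the triple. -/
def FixTriple (g : Co0) : Prop := g • fiveV = fiveV ∧ g • min44 = min44 ∧ g • pv = pv

theorem perm_fix_triple {σ : M24} (s1 : σ • pinf = pinf) (s2 : σ • pz = pz) (s3 : σ • pt 1 = pt 1) :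
    FixTriple (monoCo0 σ σ.2 ∅ empty_code) := by
  refine ⟨perm_fix_five s1,
    mono_fix_min44 σ s1 s2 empty_code (Finset.notMem_empty _) (Finset.notMem_empty _),
    Subtype.ext (funext fun i => ?_)⟩
  obtain ⟨i, rfl⟩ := (σ : Equiv.Perm GolayPt).surjective i
  rw [perm_apply]
  have e : ∀ a, σ • a = a → ((σ : Equiv.Perm GolayPt) i = a ↔ i = a) := fun a h =>
    ⟨fun h' => (σ : Equiv.Perm GolayPt).injective (h'.trans h.symm), fun h' => h' ▸ h⟩
  show pairF (pt 1) i = pairF (pt 1) _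
  simp only [pairF, Pi.add_apply, Pi.single_apply, e _ s1, e _ s3]

theorem FixTriple.mul {g h : Co0} (hg : FixTriple g) (hh : FixTriple h) : FixTriple (g * h) :=
  ⟨by rw [mul_smul, hh.1, hg.1], by rw [mul_smul, hh.2.1, hg.2.1], by rw [mul_smul, hh.2.2, hg.2.2]⟩

theorem FixTriple.inv {g : Co0} (hg : FixTriple g) : FixTriple g⁻¹ :=
  ⟨inv_smul_eq_iff.2 hg.1.symm, inv_smul_eq_iff.2 hg.2.1.symm, inv_smul_eq_iff.2 hg.2.2.symm⟩

/-- The vector `4 e_∞ + 4 e_2`. -/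
def pv2 : leechLattice :=
  ⟨pairF (pt 2), (pair4_mem (show pinf ≠ pt 2 by decide +kernel) (Or.inl rfl) (Or.inl rfl)).1⟩

theorem orbit162 {y : leechLattice} (hy : y ∈ mclPoints) (hne : y ≠ pv)
    (hd : dotInt (pv : GolayPt → ℤ) y = 16) : ∃ g : Co0, FixTriple g ∧ g • y = pv2 := by
  classical
  have hfin : ∀ z ∈ mclPoints, z ≠ pv → (z : GolayPt → ℤ) pinf = 4 →
      ∃ g : Co0, FixTriple g ∧ g • z = pv2 := by
    intro z hz hzne z4
    obtain ⟨j, hj, e⟩ := shape_four z.2 hz.1 z4 hz.2.1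
    have hjz : j ≠ pz := by
      rintro rfl
      have h := hz.2.2
      rw [e, dot_min44] at h
      simp [pairF, pinf_ne_pz, pinf_ne_pz.symm] at h
    have hj1 : j ≠ pt 1 := by rintro rfl; exact hzne (Subtype.ext e)
    obtain ⟨σ, s1, s2, s3, s4⟩ := M24_four
      (four_injective pinf_ne_pz pinf_ne_one hj.symm pz_ne_one hjz.symm hj1.symm)
      (show Function.Injective ![pinf, pz, pt 1, pt 2] by decide +kernel)
    refine ⟨_, perm_fix_triple s1 s2 s3, Subtype.ext (funext fun i => ?_)⟩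
    obtain ⟨i, rfl⟩ := (σ : Equiv.Perm GolayPt).surjective i
    rw [perm_apply, e]
    have e' : ∀ a b, σ • a = b → ((σ : Equiv.Perm GolayPt) i = b ↔ i = a) := fun a b h =>
      ⟨fun h' => (σ : Equiv.Perm GolayPt).injective (h'.trans h.symm), fun h' => h' ▸ h⟩
    show pairF j i = pairF (pt 2) _
    simp only [pairF, Pi.add_apply, Pi.single_apply, e' _ _ s1, e' _ _ s4]
  by_cases y4 : (y : GolayPt → ℤ) pinf = 4
  · exact hfin y hy hne y4
  obtain ⟨w, w1, w2, w3, w4, w5⟩ : ∃ w : leechLattice, sqNorm (w : GolayPt → ℤ) = 32 ∧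
      dotInt (fiveV : GolayPt → ℤ) w = -8 ∧ dotInt (min44 : GolayPt → ℤ) w = 8 ∧
      dotInt (pv : GolayPt → ℤ) w = 8 ∧ dotInt (y : GolayPt → ℤ) w = 8 := by
    rw [dot_pv] at hd
    rcases shape_mcl hy with ⟨j, j1, j2, e⟩ | ⟨o, ho, o1, o2, e⟩ | ⟨o, ho, o1, o2, e⟩
    · exact absurd (by rw [e]; simp [pairF, Ne.symm j1]) y4
    · have o3 : pt 1 ∈ o := by
        by_contra h
        rw [e] at hd
        simp [octF, o1, h] at hd
      obtain ⟨j, hj⟩ : (((o.erase pinf).erase pz).erase (pt 1)).Nonempty := by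
        rw [← Finset.card_pos, Finset.card_erase_of_mem (by simp [o3, pinf_ne_one.symm, pz_ne_one.symm]),
          Finset.card_erase_of_mem (Finset.mem_erase.2 ⟨pinf_ne_pz.symm, o2⟩),
          Finset.card_erase_of_mem o1, ho.2]
        norm_num
      simp only [Finset.mem_erase] at hj
      obtain ⟨w, ew, a, b, c, d⟩ := oddW_specs ho o1 o2 o3 hj.2.2.2 hj.2.2.1 hj.2.1 hj.1
      refine ⟨w, a, b, c, d, ?_⟩
      rw [e, ew, dot_octF, sum_oddW, Finset.inter_self, ho.2, if_pos hj.2.2.2]; norm_num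
    · have o3 : pt 1 ∉ o := by
        intro h
        rw [e] at hd
        simp [triF, h, pinf_ne_one.symm] at hd
      obtain ⟨o', ho', p1, p2, p3, hi⟩ := partner_exists ho false 2 (by simp) o1
        (iff_of_false o2 (by simp)) o3
      obtain ⟨k, hk⟩ : ((o ∩ o').erase pinf).Nonempty := by
        rw [← Finset.card_pos, Finset.card_erase_of_mem (Finset.mem_inter.2 ⟨o1, p1⟩), hi]; norm_num
      simp only [Finset.mem_erase, Finset.mem_inter] at hk
      obtain ⟨w, ew, a, b, c, d⟩ := oddW_specs ho' p1 p2 p3 hk.2.2 hk.1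
        (fun h => o2 (h ▸ hk.2.1)) (fun h => o3 (h ▸ hk.2.1))
      refine ⟨w, a, b, c, d, ?_⟩
      rw [e, ew]
      exact dot_triF ho ho' o1 p1 hk.2.1 hk.2.2 hk.1 hi
  obtain ⟨g, g1, g2, g3, g4, g5, -⟩ := rank_move w1 w2 w3 w4 hy
  rw [w5] at g5
  obtain ⟨h, h1, h2⟩ := hfin (g • y) g4
    (fun e => hne (smul_left_cancel g (e.trans g3.symm))) (by omega)
  exact ⟨h * g, h1.mul ⟨g1, g2, g3⟩, by rw [mul_smul, h2]⟩

theorem orbit112 {y y' : leechLattice} (hy : y ∈ mclPoints) (hy' : y' ∈ mclPoints)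
    (hd : dotInt (pv : GolayPt → ℤ) y = 8) (hd' : dotInt (pv : GolayPt → ℤ) y' = 8) :
    ∃ g : Co0, FixTriple g ∧ g • y = y' := by
  classical
  have hnorm : ∀ z ∈ mclPoints, dotInt (pv : GolayPt → ℤ) z = 8 →
      ∃ g : Co0, FixTriple g ∧ ∃ o ∈ octads, pinf ∈ o ∧ pz ∉ o ∧ pt 1 ∈ o ∧
        ((g • z : leechLattice) : GolayPt → ℤ) = triF o := by
    intro z hz hzd
    have htri : ∀ z' ∈ mclPoints, dotInt (pv : GolayPt → ℤ) z' = 8 → (z' : GolayPt → ℤ) pinf = 3 →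
        ∃ o ∈ octads, pinf ∈ o ∧ pz ∉ o ∧ pt 1 ∈ o ∧ (z' : GolayPt → ℤ) = triF o := by
      intro z' hz' hd' h3
      rw [dot_pv] at hd'
      rcases shape_mcl hz' with ⟨j, j1, j2, e⟩ | ⟨o, ho, o1, o2, e⟩ | ⟨o, ho, o1, o2, e⟩
      · rw [e] at h3; simp [pairF, Ne.symm j1] at h3
      · rw [e] at h3; simp [octF, o1] at h3
      · refine ⟨o, ho, o1, o2, ?_, e⟩
        by_contra h
        rw [e] at hd'
        simp [triF, h, pinf_ne_one.symm] at hd'
    by_cases h3 : (z : GolayPt → ℤ) pinf = 3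
    · exact ⟨1, ⟨one_smul _ _, one_smul _ _, one_smul _ _⟩, by rw [one_smul]; exact htri z hz hzd h3⟩
    obtain ⟨w, w1, w2, w3, w4, w5⟩ : ∃ w : leechLattice, sqNorm (w : GolayPt → ℤ) = 32 ∧
        dotInt (fiveV : GolayPt → ℤ) w = -8 ∧ dotInt (min44 : GolayPt → ℤ) w = 8 ∧
        dotInt (pv : GolayPt → ℤ) w = 8 ∧ dotInt (z : GolayPt → ℤ) w = 0 := by
      rw [dot_pv] at hzd
      rcases shape_mcl hz with ⟨j, j1, j2, e⟩ | ⟨o, ho, o1, o2, e⟩ | ⟨o, ho, o1, o2, e⟩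
      · exfalso
        rw [e] at hzd
        simp [pairF, Ne.symm j1, pinf_ne_one.symm, Pi.single_apply] at hzd
        split_ifs at hzd <;> omega
      · have o3 : pt 1 ∉ o := by
          intro h
          rw [e] at hzd
          simp [octF, o1, h] at hzd
        obtain ⟨o', ho', p1, p2, p3, hi⟩ := partner_exists ho true 4 (by simp) o1
          (iff_of_true o2 rfl) o3
        obtain ⟨k, hk⟩ : ((o' \ o).erase (pt 1)).Nonempty := by
          rw [← Finset.card_pos, Finset.card_erase_of_mem (Finset.mem_sdiff.2 ⟨p3, o3⟩),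
            Finset.card_sdiff, hi, ho'.2]
          norm_num
        simp only [Finset.mem_erase, Finset.mem_sdiff] at hk
        obtain ⟨w, ew, a, b, c, d⟩ := oddW_specs ho' p1 p2 p3 hk.2.1
          (fun h => hk.2.2 (h ▸ o1)) (fun h => hk.2.2 (h ▸ o2)) hk.1
        refine ⟨w, a, b, c, d, ?_⟩
        rw [e, ew, dot_octF, sum_oddW, hi, ho.2, if_neg hk.2.2]; norm_num
      · exact absurd (by rw [e]; simp [triF]) h3
    obtain ⟨g, g1, g2, g3, g4, g5, g6⟩ := rank_move w1 w2 w3 w4 hz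
    rw [w5] at g5
    exact ⟨g, ⟨g1, g2, g3⟩, htri _ g4 (g6.trans hzd) (by omega)⟩
  obtain ⟨g, hg, o, ho, o1, o2, o3, e⟩ := hnorm y hy hd
  obtain ⟨k, hk, o', ho', q1, q2, q3, e'⟩ := hnorm y' hy' hd'
  obtain ⟨σ, s0, s1, s3, s2⟩ := octad_two_out ho ho' o1 o3 pinf_ne_one q1 q3 pinf_ne_one o2 q2
  refine ⟨k⁻¹ * (monoCo0 σ σ.2 ∅ empty_code * g), hk.inv.mul ((perm_fix_triple s1 s2 s3).mul hg), ?_⟩
  rw [mul_smul, inv_smul_eq_iff, mul_smul]
  refine Subtype.ext (funext fun i => ?_)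
  obtain ⟨i, rfl⟩ := (σ : Equiv.Perm GolayPt).surjective i
  rw [perm_apply, e, e']
  have a : (σ : Equiv.Perm GolayPt) i = pinf ↔ i = pinf :=
    ⟨fun h => (σ : Equiv.Perm GolayPt).injective (h.trans s1.symm), fun h => h ▸ s1⟩
  have b : (σ : Equiv.Perm GolayPt) i ∈ o' ↔ i ∈ o := by
    rw [← s0]; exact Finset.smul_mem_smul_finset_iff _
  simp only [triF, a, b]

theorem three_marks_good : ∀ s ∈ Finset.Icc (-1 : ℤ) 5, ∀ t ∈ Finset.Icc (-5 : ℤ) 5, s % 2 = t % 2 →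
    (s % 2 = 0 → evenGood [(23, s), (0, 4 - s), (1, t)]) ∧
      (¬ s % 2 = 0 → oddGood [(23, s), (0, 4 - s), (1, t)]) := by decide +kernel

theorem ncard_three (s t : ℤ) (hs : s ∈ Finset.Icc (-1 : ℤ) 5) (ht : t ∈ Finset.Icc (-5 : ℤ) 5)
    (hst : s % 2 = t % 2) (S : ℤ) :
    {x : GolayPt → ℤ | x ∈ leechLattice ∧ sqNorm x = 32 ∧ x pinf = s ∧ x pz = 4 - s ∧ x (pt 1) = t ∧
      ∑ i, x i = S}.ncard = markCase [(23, s), (0, 4 - s), (1, t)] 8 S := by
  have hm : mset (maskOf [(23, s), (0, 4 - s), (1, t)]) = {pinf, pz, pt 1} := by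
    have e : maskOf [(23, s), (0, 4 - s), (1, t)] = 2 ^ 23 ||| (2 ^ 0 ||| (2 ^ 1 ||| 0)) := by
      unfold maskOf; rw [List.foldr_cons, List.foldr_cons, List.foldr_cons, List.foldr_nil]
    rw [e, mset_or, mset_or, mset_or, mset_two_pow (show 23 < 24 by norm_num),
      mset_two_pow (show 0 < 24 by norm_num), mset_two_pow (show 1 < 24 by norm_num), mset_zero,
      Finset.union_empty]
    rfl
  have hv : valOf [(23, s), (0, 4 - s), (1, t)] pinf = s ∧
      valOf [(23, s), (0, 4 - s), (1, t)] pz = 4 - s ∧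
      valOf [(23, s), (0, 4 - s), (1, t)] (pt 1) = t := by
    refine ⟨?_, ?_, ?_⟩ <;> simp [valOf, pinf, pz, idx_pt (show (23 : ℕ) < 24 by norm_num),
      idx_pt (show (0 : ℕ) < 24 by norm_num), idx_pt (show (1 : ℕ) < 24 by norm_num)]
  have hchk := three_marks_good s hs t ht hst
  show _ = if s % 2 = 0 then _ else _
  by_cases h : s % 2 = 0
  · rw [if_pos h, ← ncard_evenCase _ (hchk.1 h) 8 (by norm_num) S]
    refine congrArg Set.ncard (Set.ext fun x => ?_)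
    simp only [Set.mem_setOf_eq, hm, Finset.mem_insert, Finset.mem_singleton, forall_eq_or_imp,
      forall_eq, hv.1, hv.2.1, hv.2.2, show (4 : ℤ) * ((8 : ℕ) : ℤ) = 32 by norm_num]
    constructor
    · rintro ⟨a, b, c, c', c'', d⟩
      refine ⟨a, b, ?_, ⟨c, c', c''⟩, d⟩
      rcases parity_cases a with e | e
      · exact e
      · have := e pinf; omega
    · rintro ⟨a, b, -, ⟨c, c', c''⟩, d⟩; exact ⟨a, b, c, c', c'', d⟩
  · rw [if_neg h, ← ncard_oddCase _ (hchk.2 h) 8 (by norm_num) S]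
    refine congrArg Set.ncard (Set.ext fun x => ?_)
    simp only [Set.mem_setOf_eq, hm, Finset.mem_insert, Finset.mem_singleton, forall_eq_or_imp,
      forall_eq, hv.1, hv.2.1, hv.2.2, show (4 : ℤ) * ((8 : ℕ) : ℤ) = 32 by norm_num]
    constructor
    · rintro ⟨a, b, c, c', c'', d⟩
      refine ⟨a, b, ?_, ⟨c, c', c''⟩, d⟩
      rcases parity_cases a with e | e
      · have := e pinf; omega
      · exact e
    · rintro ⟨a, b, -, ⟨c, c', c''⟩, d⟩; exact ⟨a, b, c, c', c'', d⟩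

theorem rank_counts :
    (∑ s ∈ Finset.Icc (-1 : ℤ) 5, markCase [(23, s), (0, 4 - s), (1, 2 - s)] 8 (24 - 4 * s)) = 112 ∧
    (∑ s ∈ Finset.Icc (-1 : ℤ) 5, markCase [(23, s), (0, 4 - s), (1, 4 - s)] 8 (24 - 4 * s)) = 162 := by
  decide +kernel

theorem ncard_dot_pv (d : ℤ) (hd : d = 2 ∨ d = 4) :
    {y : leechLattice | y ∈ mclPoints ∧ dotInt (pv : GolayPt → ℤ) y = 4 * d}.ncard =
      ∑ s ∈ Finset.Icc (-1 : ℤ) 5, markCase [(23, s), (0, 4 - s), (1, d - s)] 8 (24 - 4 * s) := by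
  classical
  have hfin : {y : leechLattice | y ∈ mclPoints ∧ dotInt (pv : GolayPt → ℤ) y = 4 * d}.Finite :=
    mclPoints_finite.subset fun y h => h.1
  rw [Set.ncard_eq_toFinset_card _ hfin,
    Finset.card_eq_sum_card_fiberwise (f := fun y : leechLattice => (y : GolayPt → ℤ) pinf)
      (t := Finset.Icc (-1) 5) (fun y hy => by
        rw [Finset.mem_coe, Set.Finite.mem_toFinset] at hy
        obtain ⟨hn, -, he⟩ := mem_mclPoints.1 hy.1
        have a := abs_entry_le (B := 5) (by norm_num) (by norm_num) hn pinf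
        have b := abs_entry_le (B := 5) (by norm_num) (by norm_num) hn pz
        show (y : GolayPt → ℤ) pinf ∈ Finset.Icc (-1 : ℤ) 5
        exact Finset.mem_Icc.2 ⟨by omega, a.2⟩)]
  refine Finset.sum_congr rfl fun s hs => ?_
  rw [Finset.mem_Icc] at hs
  rw [← ncard_three s (d - s) (Finset.mem_Icc.2 hs) (Finset.mem_Icc.2 ⟨by omega, by omega⟩)
    (by omega) (24 - 4 * s), ← Set.ncard_coe_finset,
    ← ncard_subtype_leech fun y => sqNorm y = 32 ∧ y pinf = s ∧ y pz = 4 - s ∧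
      y (pt 1) = d - s ∧ ∑ i, y i = 24 - 4 * s]
  congr 1
  ext y
  simp only [Finset.coe_filter, Set.Finite.mem_toFinset, Set.mem_setOf_eq, mem_mclPoints, dot_pv]
  constructor
  · rintro ⟨⟨⟨a, b, c⟩, e⟩, f⟩
    exact ⟨a, f, c.trans (by omega), by omega, by omega⟩
  · rintro ⟨a, f, c, e, b⟩
    exact ⟨⟨⟨a, by omega, c.trans (by omega)⟩, by omega⟩, f⟩

theorem dot_pv_cases {y : leechLattice} (hy : y ∈ mclPoints) (hne : y ≠ pv) :
    dotInt (pv : GolayPt → ℤ) y = 8 ∨ dotInt (pv : GolayPt → ℤ) y = 16 := by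
  rw [dot_pv]
  rcases shape_mcl hy with ⟨j, j1, j2, e⟩ | ⟨o, ho, o1, o2, e⟩ | ⟨o, ho, o1, o2, e⟩
  · have hj : j ≠ pt 1 := by rintro rfl; exact hne (Subtype.ext e)
    right; rw [e]; simp [pairF, Ne.symm j1, pinf_ne_one.symm, hj.symm]
  · rw [e]; by_cases h : pt 1 ∈ o <;> simp [octF, o1, h]
  · rw [e]; by_cases h : pt 1 ∈ o <;> simp [triF, h, pinf_ne_one.symm]

theorem mcl_rank3 :
    {y : leechLattice | y ∈ mclPoints ∧ dotInt (pv : GolayPt → ℤ) y = 8}.ncard = 112 ∧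
    {y : leechLattice | y ∈ mclPoints ∧ y ≠ pv ∧ dotInt (pv : GolayPt → ℤ) y = 16}.ncard = 162 ∧
    ∀ y ∈ mclPoints, ∀ y' ∈ mclPoints, y ≠ pv → y' ≠ pv →
      dotInt (pv : GolayPt → ℤ) y = dotInt (pv : GolayPt → ℤ) y' →
      ∃ g : Co0, FixTriple g ∧ g • y = y' := by
  refine ⟨?_, ?_, ?_⟩
  · exact (ncard_dot_pv 2 (Or.inl rfl)).trans rank_counts.1
  · refine Eq.trans (congrArg Set.ncard (Set.ext fun y => ?_))
      ((ncard_dot_pv 4 (Or.inr rfl)).trans rank_counts.2)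
    simp only [Set.mem_setOf_eq]
    refine and_congr_right fun _ => ⟨fun h => h.2, fun h => ⟨?_, h⟩⟩
    rintro rfl
    rw [show dotInt (pv : GolayPt → ℤ) pv = 32 by decide +kernel] at h
    omega
  · intro y hy y' hy' hne hne' he
    rcases dot_pv_cases hy hne with h | h
    · exact orbit112 hy hy' h (he ▸ h)
    · obtain ⟨g, g1, g2⟩ := orbit162 hy hne h
      obtain ⟨k, k1, k2⟩ := orbit162 hy' hne' (he ▸ h)
      exact ⟨k⁻¹ * g, k1.inv.mul g1, by rw [mul_smul, g2, ← k2, inv_smul_smul]⟩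

theorem mclAt_rank3 {u v x : leechLattice} (hu : sqNorm (u : GolayPt → ℤ) = 48)
    (hv : sqNorm (v : GolayPt → ℤ) = 32 ∧ sqNorm ((u - v) : GolayPt → ℤ) = 32)
    (P : leechLattice → Prop)
    (hP : ∀ z, P z ↔ sqNorm (z : GolayPt → ℤ) = 32 ∧ sqNorm ((u - z) : GolayPt → ℤ) = 32 ∧
      dotInt (v : GolayPt → ℤ) z = 16) (hx : P x) :
    {y : leechLattice | P y ∧ dotInt (x : GolayPt → ℤ) y = 8}.ncard = 112 ∧
    {y : leechLattice | P y ∧ y ≠ x ∧ dotInt (x : GolayPt → ℤ) y = 16}.ncard = 162 ∧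
    ∀ y y', P y → P y' → y ≠ x → y' ≠ x →
      dotInt (x : GolayPt → ℤ) y = dotInt (x : GolayPt → ℤ) y' →
      ∃ g : Co0, g • u = u ∧ g • v = v ∧ g • x = x ∧ g • y = y' := by
  obtain ⟨g₀, a1, a2⟩ := normal_mcl hu hv.1
    (by rw [dotInt_comm]; exact (dot_of_diff hu hv.1).1 hv.2)
  have hm₀ := mcl_mem_smul g₀ hu a1 a2
  obtain ⟨k, b1, b2, b3⟩ := mcl_to_pv ((hm₀ x).2 ((hP x).1 hx))
  let g : Co0 := k * g₀
  have g1 : g • u = fiveV := by rw [mul_smul, a1, b1]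
  have g2 : g • v = min44 := by rw [mul_smul, a2, b2]
  have g3 : g • x = pv := by rw [mul_smul, b3]
  have hm : ∀ y, g • y ∈ mclPoints ↔ P y := fun y => by
    rw [hP]; exact mcl_mem_smul g hu g1 g2 y
  have hd : ∀ y : leechLattice, dotInt (pv : GolayPt → ℤ) (g • y : leechLattice) =
      dotInt (x : GolayPt → ℤ) y := fun y => by rw [← g3, co0_dot]
  obtain ⟨c1, c2, c3⟩ := mcl_rank3
  refine ⟨?_, ?_, ?_⟩
  · refine Eq.trans ?_ c1
    rw [← Set.ncard_image_of_injective {y : leechLattice | y ∈ mclPoints ∧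
      dotInt (pv : GolayPt → ℤ) y = 8} (MulAction.injective g⁻¹)]
    refine congrArg Set.ncard (Set.ext fun y => ⟨fun h => ⟨g • y, ?_, inv_smul_smul g y⟩, ?_⟩)
    · exact ⟨(hm y).2 h.1, (hd y).trans h.2⟩
    · rintro ⟨z, ⟨hu1, hu2⟩, rfl⟩
      refine ⟨(hm _).1 ?_, (hd _).symm.trans ?_⟩ <;> rwa [smul_inv_smul]
  · refine Eq.trans ?_ c2
    rw [← Set.ncard_image_of_injective {y : leechLattice | y ∈ mclPoints ∧ y ≠ pv ∧
      dotInt (pv : GolayPt → ℤ) y = 16} (MulAction.injective g⁻¹)]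
    refine congrArg Set.ncard (Set.ext fun y => ⟨fun h => ⟨g • y, ?_, inv_smul_smul g y⟩, ?_⟩)
    · exact ⟨(hm y).2 h.1, fun e => h.2.1 (smul_left_cancel g (e.trans g3.symm)),
        (hd y).trans h.2.2⟩
    · rintro ⟨z, ⟨hu1, hu2, hu3⟩, rfl⟩
      refine ⟨(hm _).1 ?_, fun e => hu2 ?_, (hd _).symm.trans ?_⟩
      · rwa [smul_inv_smul]
      · rw [← g3, ← e, smul_inv_smul]
      · rwa [smul_inv_smul]
  · intro y y' hy hy' hne hne' he
    obtain ⟨h, ⟨f1, f2, f3⟩, f4⟩ := c3 _ ((hm y).2 hy) _ ((hm y').2 hy')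
      (fun e => hne (smul_left_cancel g (e.trans g3.symm)))
      (fun e => hne' (smul_left_cancel g (e.trans g3.symm))) (by rwa [hd, hd])
    refine ⟨g⁻¹ * h * g, ?_, ?_, ?_, ?_⟩
    · rw [mul_smul, g1, mul_smul, f1, ← g1, inv_smul_smul]
    · rw [mul_smul, g2, mul_smul, f2, ← g2, inv_smul_smul]
    · rw [mul_smul, g3, mul_smul, f3, ← g3, inv_smul_smul]
    · rw [mul_smul, mul_smul, f4, inv_smul_smul]

end CfsgLib.Golay
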