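import Cfsg.Agent.Lib.Golay.Co0Shell6
import Cfsg.Agent.Lib.Golay.Position

/-! Normal forms for pairs of short vectors. -/

set_option autoImplicit false
set_option maxRecDepth 100000

namespace CfsgLib.Golay

open Cfsg
open scoped Pointwise

/-- The point `0`. -/
def pz : GolayPt := pt 0

theorem pinf_ne_pz : pinf ≠ pz := by decide +kernel

theorem min44_coe : (min44 : GolayPt → ℤ) = Pi.single pinf 4 + Pi.single pz 4 := rfl

theorem min44_norm : sqNorm (min44 : GolayPt → ℤ) = 32 :=
  (pair4_mem pinf_ne_pz (Or.inl rfl) (Or.inl rfl)).2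

theorem dot_min44 (w : GolayPt → ℤ) :
    dotInt (min44 : GolayPt → ℤ) w = 4 * w pinf + 4 * w pz := by
  rw [dotInt_comm, min44_coe, dotInt_pair]

/-- The minimal vector `4 e_{23} - 4 e_0`. -/
def min4n : leechLattice :=
  ⟨Pi.single pinf 4 + Pi.single pz (-4), (pair4_mem pinf_ne_pz (Or.inl rfl) (Or.inr rfl)).1⟩

theorem dot_min4n (w : GolayPt → ℤ) :
    dotInt (min4n : GolayPt → ℤ) w = 4 * w pinf - 4 * w pz := by
  rw [dotInt_comm]
  show dotInt w (Pi.single pinf 4 + Pi.single pz (-4)) = _
  rw [dotInt_pair]; ring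

theorem signedPerm_apply {σ : Equiv.Perm GolayPt} {c : Finset GolayPt} {x : GolayPt → ℤ}
    (i : GolayPt) : signedPerm σ c x (σ i) = if σ i ∈ c then -x i else x i := by
  simp [signedPerm]

/-- A code word separating two points. -/
theorem code_sep {p q : GolayPt} (h : p ≠ q) :
    ∃ c ∈ supports (golayCode : Set (GolayPt → ZMod 2)), p ∉ c ∧ q ∈ c := by
  obtain ⟨g, h1, h2⟩ := M24_two (show pt 23 ≠ pt 0 by decide +kernel) h
  refine ⟨(g : Equiv.Perm GolayPt) • mset 5279, mem_M24_iff.1 g.2 _
    (mem_supports_iff.2 ⟨5279, by decide +kernel, rfl⟩), ?_, ?_⟩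
  · rw [← h1]
    show ¬ ((g : Equiv.Perm GolayPt) • pt 23) ∈ _
    rw [Finset.smul_mem_smul_finset_iff]
    decide +kernel
  · rw [← h2]
    exact Finset.smul_mem_smul_finset (show pt 0 ∈ mset 5279 by decide +kernel)

/-- An orthogonal pair of minimal vectors has a normal form. -/
theorem orth_normal {v z : leechLattice} (hv : sqNorm (v : GolayPt → ℤ) = 32)
    (hz : sqNorm (z : GolayPt → ℤ) = 32) (hd : dotInt (v : GolayPt → ℤ) (z : GolayPt → ℤ) = 0) :
    ∃ g : Co0, g • v = min44 ∧ g • z = min4n := by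
  classical
  have hx : leechR.q (v + z) = 8 := by
    rw [leech_q_iff, AddSubgroup.coe_add, sqNorm_add, hd, hv, hz]; norm_num
  have hb : leechR.b v z = 0 := by
    have h : 8 * leechR.b v z = dotInt (v : GolayPt → ℤ) z := leechForm_mul v z
    omega
  have hy : leechR.q (v - z) = 8 := by
    have h2 := leechR.q_add v z
    have h3 := leechR.q_sub v z
    omega
  obtain ⟨g, hg⟩ := co0_to_vec8 hx pinf
  have hc : ((g • (v - z) : leechLattice) : GolayPt → ℤ) ∈ stdCross := by
    rw [mem_std_iff _ pinf]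
    refine ⟨by rw [co0_q, hy], ?_⟩
    rw [← hg]
    exact co0_cls g (leechR.cls_eq_iff.2 ⟨-z, by abel⟩)
  obtain ⟨j, s, hs, hj⟩ := hc
  have hjp : j ≠ pinf := by
    rintro rfl
    have h := co0_dot g (v + z) (v - z)
    rw [hg, hj] at h
    have hl : dotInt ((v + z : leechLattice) : GolayPt → ℤ) ((v - z : leechLattice) : GolayPt → ℤ)
        = 0 := by
      have e1 := leechR.q_add v z
      have e : 8 * leechR.b (v + z) (v - z) = dotInt ((v + z : leechLattice) : GolayPt → ℤ)
        ((v - z : leechLattice) : GolayPt → ℤ) := leechForm_mul _ _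
      have e2 : leechR.b (v + z) (v - z) = leechR.q v - leechR.q z := by
        simp only [map_add, map_sub, AddMonoidHom.add_apply, Rootless.q, leechR.symm z v]
        ring
      have q1 := leech_q v
      have q2 := leech_q z
      omega
    rw [hl] at h
    simp only [vec8, dotInt, Pi.single_apply, mul_ite, mul_zero, Finset.sum_ite_eq',
      Finset.mem_univ, if_true] at h
    omega
  obtain ⟨σ, hσ1, hσ2⟩ := M24_two (Ne.symm hjp) pinf_ne_pz
  obtain ⟨c₀, hc₀, hc1, hc2⟩ := code_sep pinf_ne_pz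
  let c : Finset GolayPt := if s = 8 then ∅ else c₀
  have hc : c ∈ supports (golayCode : Set (GolayPt → ZMod 2)) := by
    simp only [c]; split_ifs
    · exact empty_code
    · exact hc₀
  let k := monoCo0 σ σ.2 c hc
  have h1 : ((k • g • (v + z) : leechLattice) : GolayPt → ℤ) = Pi.single pinf 8 := by
    rw [monoCo0_smul, hg]
    funext i
    obtain ⟨i, rfl⟩ := (σ : Equiv.Perm GolayPt).surjective i
    rw [signedPerm_apply]
    have e : (σ : Equiv.Perm GolayPt) i = pinf ↔ i = pinf :=
      ⟨fun h => (σ : Equiv.Perm GolayPt).injective (h.trans hσ1.symm), fun h => h ▸ hσ1⟩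
    simp only [vec8, Pi.single_apply, e]
    by_cases a : i = pinf
    · subst a
      rw [if_pos rfl, show (σ : Equiv.Perm GolayPt) pinf = pinf from hσ1, if_neg]
      simp only [c]; split_ifs
      · simp
      · exact hc1
    · simp [a]
  have h2 : ((k • g • (v - z) : leechLattice) : GolayPt → ℤ) = Pi.single pz 8 := by
    rw [monoCo0_smul, hj]
    funext i
    obtain ⟨i, rfl⟩ := (σ : Equiv.Perm GolayPt).surjective i
    rw [signedPerm_apply]
    have e : (σ : Equiv.Perm GolayPt) i = pz ↔ i = j :=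
      ⟨fun h => (σ : Equiv.Perm GolayPt).injective (h.trans hσ2.symm), fun h => h ▸ hσ2⟩
    simp only [Pi.single_apply, e]
    by_cases a : i = j
    · subst a
      rw [if_pos rfl, show (σ : Equiv.Perm GolayPt) i = pz from hσ2]
      rcases hs with rfl | rfl
      · simp [c]
      · rw [if_pos (by simp only [c]; rw [if_neg (by norm_num)]; exact hc2)]
        norm_num
    · simp [a]
  rw [← mul_smul, co0_add] at h1
  rw [← mul_smul, co0_sub] at h2
  rw [AddSubgroup.coe_add] at h1
  rw [AddSubgroup.coe_sub] at h2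
  refine ⟨k * g, Subtype.ext (funext fun i => ?_), Subtype.ext (funext fun i => ?_)⟩
  all_goals
    have a := congrFun h1 i
    have b := congrFun h2 i
    simp only [Pi.add_apply, Pi.sub_apply, Pi.single_apply] at a b
    simp only [min44, min4n, Pi.add_apply, Pi.single_apply]
    change _ = (if i = pinf then _ else _) + (if i = pz then _ else _)
    split_ifs at a b ⊢ <;> omega

/-- A minimal vector orthogonal to `min44` and to a short vector. -/
theorem exists_orth_two {x : GolayPt → ℤ} (hn : sqNorm x ≤ 64) :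
    ∃ z : leechLattice, sqNorm (z : GolayPt → ℤ) = 32 ∧
      dotInt (min44 : GolayPt → ℤ) z = 0 ∧ dotInt x z = 0 := by
  classical
  have hb : ∀ i, |x i| ∈ Finset.Icc (0 : ℤ) 8 := fun i => by
    have hi : x i ^ 2 ≤ sqNorm x :=
      Finset.single_le_sum (f := fun i => x i ^ 2) (fun j _ => sq_nonneg _) (Finset.mem_univ i)
    exact Finset.mem_Icc.2 ⟨abs_nonneg _, abs_le.2 ⟨by nlinarith, by nlinarith⟩⟩
  obtain ⟨i, hi, j, hj, hij, he⟩ := Finset.exists_ne_map_eq_of_card_lt_of_maps_to
    (s := (Finset.univ.erase pinf).erase pz) (t := Finset.Icc (0 : ℤ) 8) (f := fun i => |x i|)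
    (by rw [Finset.card_erase_of_mem (Finset.mem_erase.2 ⟨pinf_ne_pz.symm, Finset.mem_univ _⟩),
      Finset.card_erase_of_mem (Finset.mem_univ _)]; simp) (fun i _ => hb i)
  simp only [Finset.mem_erase, Finset.mem_univ, and_true] at hi hj
  have h0 : ∀ a b : ℤ, dotInt (min44 : GolayPt → ℤ) (Pi.single i a + Pi.single j b) = 0 := fun a b => by
    rw [dot_min44]
    simp [Ne.symm hi.1, Ne.symm hi.2, Ne.symm hj.1, Ne.symm hj.2]
  by_cases hs : x i = x j
  · obtain ⟨h1, h2⟩ := pair4_mem hij (a := 4) (b := -4) (Or.inl rfl) (Or.inr rfl)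
    exact ⟨⟨_, h1⟩, h2, h0 _ _, by rw [dotInt_pair, hs]; ring⟩
  · obtain ⟨h1, h2⟩ := pair4_mem hij (a := 4) (b := 4) (Or.inl rfl) (Or.inl rfl)
    refine ⟨⟨_, h1⟩, h2, h0 _ _, ?_⟩
    rcases abs_eq_abs.1 he with e | e
    · exact absurd e hs
    · rw [dotInt_pair, e]; ring

/-- A short vector gets equal entries at the two marked points. -/
theorem normal_two {v u : leechLattice} (hv : sqNorm (v : GolayPt → ℤ) = 32)
    (hu : sqNorm (u : GolayPt → ℤ) ≤ 64) :
    ∃ g : Co0, g • v = min44 ∧
      8 * ((g • u : leechLattice) : GolayPt → ℤ) pinf = dotInt (v : GolayPt → ℤ) u ∧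
      8 * ((g • u : leechLattice) : GolayPt → ℤ) pz = dotInt (v : GolayPt → ℤ) u := by
  obtain ⟨g, hg⟩ := co0_to_min44 hv
  obtain ⟨z, hz, hz1, hz2⟩ := exists_orth_two (x := ((g • u : leechLattice) : GolayPt → ℤ))
    (by rw [co0_sq g u]; exact hu)
  obtain ⟨k, hk1, hk2⟩ := orth_normal min44_norm hz hz1
  refine ⟨k * g, by rw [mul_smul, hg, hk1], ?_⟩
  have e1 := co0_dot (k * g) v u
  rw [mul_smul k g v, hg, hk1, dot_min44] at e1
  have e2 := co0_dot k (g • u) z
  rw [hk2, dotInt_comm (((k • g • u : leechLattice) : GolayPt → ℤ)), dot_min4n, hz2, ← mul_smul] at e2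
  omega

/-- The stabiliser of a minimal vector is transitive on the orthogonal minimal vectors. -/
theorem co0_trans_orth {v w w' : leechLattice} (hv : sqNorm (v : GolayPt → ℤ) = 32)
    (hw : sqNorm (w : GolayPt → ℤ) = 32) (hw' : sqNorm (w' : GolayPt → ℤ) = 32)
    (hd : dotInt (v : GolayPt → ℤ) w = 0) (hd' : dotInt (v : GolayPt → ℤ) w' = 0) :
    ∃ g : Co0, g • v = v ∧ g • w = w' := by
  obtain ⟨g, g1, g2⟩ := orth_normal hv hw hd
  obtain ⟨k, k1, k2⟩ := orth_normal hv hw' hd'
  exact ⟨k⁻¹ * g, by rw [mul_smul, g1, ← k1, inv_smul_smul],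
    by rw [mul_smul, g2, ← k2, inv_smul_smul]⟩

/-- A code word with prescribed even intersection with an octad. -/
theorem octad_even_sub {o : Finset GolayPt} (ho : o ∈ octads) :
    ∀ D : Finset GolayPt, D ⊆ o → D.card % 2 = 0 →
      ∃ c ∈ supports (golayCode : Set (GolayPt → ZMod 2)), c ∩ o = D := by
  classical
  have hpair : ∀ a ∈ o, ∀ b ∈ o, a ≠ b → ∃ c ∈ octads, c ∩ o = {a, b} := by
    intro a ha b hb hab
    have h0 : mset octMask ∈ octads := octMask_mem
    have hk : ∃ c ∈ octads, (c ∩ mset octMask).card = 2 := by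
      have : octList.any (fun m => Nat.beq (pop (Nat.land m octMask)) 2) = true := by decide +kernel
      obtain ⟨m, hm, e⟩ := List.any_eq_true.1 this
      exact ⟨mset m, mem_octads_iff.2 ⟨m, hm, rfl⟩, inter_card_iff.2 e⟩
    obtain ⟨c, hc, hc2⟩ := hk
    obtain ⟨x, y, hxy, he⟩ := Finset.card_eq_two.1 hc2
    have hx : x ∈ mset octMask := (Finset.mem_inter.1 (by rw [he]; simp : x ∈ c ∩ mset octMask)).2
    have hy : y ∈ mset octMask := (Finset.mem_inter.1 (by rw [he]; simp : y ∈ c ∩ mset octMask)).2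
    obtain ⟨g, hg, gx, gy⟩ := octad_two h0 ho hx hy hxy ha hb hab
    refine ⟨g • c, (smul_mem_octads_iff g).2 hc, ?_⟩
    rw [← hg, ← Finset.smul_finset_inter, he, Finset.smul_finset_insert,
      Finset.smul_finset_singleton, gx, gy]
  intro D
  induction D using Finset.strongInduction with
  | _ D ih =>
    intro hD hev
    rcases D.eq_empty_or_nonempty with rfl | ⟨a, ha⟩
    · exact ⟨∅, empty_code, Finset.empty_inter _⟩
    · obtain ⟨b, hb, hba⟩ : ∃ b ∈ D, b ≠ a := Finset.exists_mem_ne (by
        have := Finset.card_pos.2 ⟨a, ha⟩; omega) a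
      obtain ⟨c, hc, hce⟩ := ih (D \ {a, b}) (Finset.sdiff_ssubset (by
          intro x hx; simp only [Finset.mem_insert, Finset.mem_singleton] at hx
          rcases hx with rfl | rfl <;> assumption) ⟨a, by simp⟩)
        (Finset.sdiff_subset.trans hD) (by
          rw [Finset.card_sdiff_of_subset (by
            intro x hx; simp only [Finset.mem_insert, Finset.mem_singleton] at hx
            rcases hx with rfl | rfl <;> assumption), Finset.card_pair hba.symm]
          omega)
      obtain ⟨e, he, hee⟩ := hpair a (hD ha) b (hD hb) hba.symm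
      refine ⟨symmDiff c e, symmDiff_mem_supports hc he.1, ?_⟩
      ext x
      have h1 := Finset.ext_iff.1 hce x
      have h2 := Finset.ext_iff.1 hee x
      simp only [Finset.mem_inter, Finset.mem_sdiff, Finset.mem_insert, Finset.mem_singleton] at h1 h2
      simp only [Finset.mem_inter, Finset.mem_symmDiff]
      have hDx : x ∈ D → x ∈ o := fun h => hD h
      have hax : x = a → x ∈ D := fun h => h ▸ ha
      have hbx : x = b → x ∈ D := fun h => h ▸ hb
      tauto

end CfsgLib.Golay
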