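import Cfsg.Agent.Lib.Golay.Co0Trans

/-! Transitivity on vectors of sum of squares 48, and the centre. -/

set_option autoImplicit false
set_option maxRecDepth 100000

namespace CfsgLib.Golay

open Cfsg
open scoped Pointwise

theorem sq_card_bound {x : GolayPt → ℤ} {N : ℤ} (hN : sqNorm x = N) (s : Finset GolayPt) (k : ℤ)
    (h : ∀ i ∈ s, k ≤ x i ^ 2) : (s.card : ℤ) * k ≤ N := by
  rw [← hN, sqNorm]
  calc (s.card : ℤ) * k = ∑ _i ∈ s, k := by simp
    _ ≤ ∑ i ∈ s, x i ^ 2 := Finset.sum_le_sum h
    _ ≤ ∑ i, x i ^ 2 := Finset.sum_le_sum_of_subset_of_nonneg (Finset.subset_univ _)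
        fun i _ _ => sq_nonneg _

/-- A vector of sum of squares 48 has two entries whose absolute values are `1, 1` or `2, 0`. -/
theorem exists_entries_48 {x : GolayPt → ℤ} (hx : x ∈ leechLattice) (hn : sqNorm x = 48) :
    ∃ i j, i ≠ j ∧ ((x i = 2 ∨ x i = -2) ∧ x j = 0 ∨
      (x i = 1 ∨ x i = -1) ∧ (x j = 1 ∨ x j = -1)) := by
  classical
  rcases parity_cases hx with hev | hodd
  · let a : GolayPt → ℤ := fun i => x i / 2
    have ha : x = fun i => 2 * a i := by funext i; have := hev i; simp only [a]; omega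
    have hna : sqNorm a = 12 := by
      have e : sqNorm x = 4 * sqNorm a := by
        rw [ha, sqNorm, sqNorm, Finset.mul_sum]; exact Finset.sum_congr rfl fun i _ => by ring
      omega
    obtain ⟨hw, hs⟩ := even_mem_iff.1 (ha ▸ hx)
    have hz : ∃ j, a j = 0 := by
      by_contra hne
      push Not at hne
      have := sq_card_bound hna Finset.univ 1 fun i _ => by
        nlinarith [Int.one_le_abs (hne i), sq_abs (a i)]
      simp at this
    have hone : ∃ i, a i = 1 ∨ a i = -1 := by
      by_contra hne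
      push Not at hne
      have hc := supports_card (mem_supports_word.2 hw)
      have hb := sq_card_bound hna (support₂ (mod2 a)) 9 fun i hi => by
        rw [mem_support_mod2] at hi
        obtain ⟨h1, h2⟩ := hne i
        rcases (show a i ≥ 3 ∨ a i ≤ -3 by omega) with h | h <;> nlinarith
      have hc0 : (support₂ (mod2 a)).card = 0 := by omega
      have hev' : ∀ i, a i % 2 = 0 := fun i => by
        have hi : i ∉ support₂ (mod2 a) := by rw [Finset.card_eq_zero.1 hc0]; simp
        rw [mem_support_mod2] at hi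
        omega
      have e1 : (8 : ℤ) ∣ sqNorm a - 2 * ∑ i, a i := by
        rw [sqNorm, Finset.mul_sum, ← Finset.sum_sub_distrib]
        refine Finset.dvd_sum fun i _ => ?_
        obtain ⟨b, hb'⟩ : ∃ b, a i = 2 * b := ⟨a i / 2, by have := hev' i; omega⟩
        obtain ⟨t, ht⟩ := (Int.even_mul_pred_self b).two_dvd
        exact ⟨t, by rw [hb']; linear_combination 4 * ht⟩
      omega
    obtain ⟨j, hj⟩ := hz
    obtain ⟨i, hi⟩ := hone
    refine ⟨i, j, fun e => by subst e; omega, Or.inl ?_⟩
    rw [ha]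
    simp only
    omega
  · let S := Finset.univ.filter fun i => x i ≠ 1 ∧ x i ≠ -1
    have hb := sq_card_bound hn S 9 fun i hi => by
      simp only [S, Finset.mem_filter] at hi
      have := hodd i
      rcases (show x i ≥ 3 ∨ x i ≤ -3 by omega) with h | h <;> nlinarith
    have hcard : 1 < (Finset.univ \ S).card := by
      rw [Finset.card_sdiff_of_subset (Finset.subset_univ _)]
      simp
      omega
    obtain ⟨i, hi, j, hj, hij⟩ := Finset.one_lt_card.1 hcard
    refine ⟨i, j, hij, Or.inr ?_⟩
    simp only [S, Finset.mem_sdiff, Finset.mem_filter, Finset.mem_univ, true_and] at hi hj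
    omega

theorem exists_minimal_minus8 {x : GolayPt → ℤ} (hx : x ∈ leechLattice) (hn : sqNorm x = 48) :
    ∃ w ∈ leechLattice, sqNorm w = 32 ∧ dotInt x w = -8 := by
  obtain ⟨i, j, hij, h⟩ := exists_entries_48 hx hn
  obtain ⟨a, b, ha, hb, e⟩ : ∃ a b : ℤ, (a = 4 ∨ a = -4) ∧ (b = 4 ∨ b = -4) ∧
      a * x i + b * x j = -8 := by
    rcases h with ⟨hi | hi, hj⟩ | ⟨hi | hi, hj | hj⟩ <;> rw [hi, hj]
    · exact ⟨-4, 4, by norm_num⟩
    · exact ⟨4, 4, by norm_num⟩
    · exact ⟨-4, -4, by norm_num⟩
    · exact ⟨-4, 4, by norm_num⟩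
    · exact ⟨4, -4, by norm_num⟩
    · exact ⟨4, 4, by norm_num⟩
  obtain ⟨h1, h2⟩ := pair4_mem hij ha hb
  exact ⟨_, h1, h2, by rw [dotInt_pair, e]⟩

/-- The standard vector of sum of squares 48. -/
def five : GolayPt → ℤ := fun i => if i = pinf then 5 else 1

theorem co0_to_five {v : leechLattice} (hv : sqNorm (v : GolayPt → ℤ) = 48) :
    ∃ g : Co0, ((g • v : leechLattice) : GolayPt → ℤ) = five := by
  classical
  obtain ⟨w, hw, hwn, hvw⟩ := exists_minimal_minus8 v.2 hv
  let W : leechLattice := ⟨w, hw⟩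
  have hx : leechR.q (v + W) = 8 := by
    rw [leech_q_iff, AddSubgroup.coe_add, sqNorm_add, hvw, hv, hwn]; norm_num
  obtain ⟨g, hg⟩ := co0_to_vec8 hx pinf
  let y : GolayPt → ℤ := ((g • v : leechLattice) : GolayPt → ℤ)
  have hy : y ∈ leechLattice := (g • v).2
  have hyn : sqNorm y = 48 := by rw [← hv]; exact co0_sq g v
  have hy5 : y pinf = 5 := by
    have h := co0_dot g v (v + W)
    rw [hg, AddSubgroup.coe_add, dotInt_comm (v : GolayPt → ℤ) ((v : GolayPt → ℤ) + W),
      dotInt_add_left, dotInt_self, hv, dotInt_comm (W : GolayPt → ℤ), hvw] at h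
    simp only [vec8, dotInt, Pi.single_apply, mul_ite, mul_zero, Finset.sum_ite_eq',
      Finset.mem_univ, if_true] at h
    show ((g • v : leechLattice) : GolayPt → ℤ) pinf = 5
    omega
  have hodd : ∀ i, y i % 2 = 1 := by
    rcases parity_cases hy with h | h
    · have := h pinf; omega
    · exact h
  have hone : ∀ i, i ≠ pinf → y i = 1 ∨ y i = -1 := by
    intro i hi
    by_contra hne
    push Not at hne
    have h1 : ∀ k, (1 : ℤ) ≤ y k ^ 2 := fun k => by
      have := hodd k
      nlinarith [Int.one_le_abs (show y k ≠ 0 by omega), sq_abs (y k)]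
    have h9 : 9 ≤ y i ^ 2 := by
      have := hodd i
      rcases (show y i ≥ 3 ∨ y i ≤ -3 by omega) with h | h <;> nlinarith
    rw [sqNorm, ← Finset.sum_add_sum_compl ({i, pinf} : Finset GolayPt), Finset.sum_pair hi, hy5]
      at hyn
    have h22 : ∑ _k ∈ ({i, pinf} : Finset GolayPt)ᶜ, (1 : ℤ) ≤
        ∑ k ∈ ({i, pinf} : Finset GolayPt)ᶜ, y k ^ 2 := Finset.sum_le_sum fun k _ => h1 k
    have e22 : ((Fintype.card GolayPt - 2 : ℕ) : ℤ) = 22 := by simp
    rw [Finset.sum_const, Finset.card_compl, Finset.card_pair hi, nsmul_eq_mul, mul_one, e22] at h22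
    omega
  have hc := ((odd_mem_iff hodd).1 hy).1
  refine ⟨monoCo0 1 (one_mem _) _ hc * g, ?_⟩
  rw [mul_smul, monoCo0_smul]
  funext i
  simp only [signedPerm, five, Finset.mem_filter, Finset.mem_univ, true_and,
    Equiv.Perm.one_symm, Equiv.Perm.one_apply]
  show (if y i % 4 = 3 then -y i else y i) = _
  by_cases hi : i = pinf
  · subst hi; rw [if_pos rfl, hy5]; norm_num
  · rw [if_neg hi]
    rcases hone i hi with h | h <;> rw [h] <;> norm_num

theorem co0_trans48 {v w : leechLattice} (hv : sqNorm (v : GolayPt → ℤ) = 48)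
    (hw : sqNorm (w : GolayPt → ℤ) = 48) : ∃ g : Co0, g • v = w := by
  obtain ⟨g, hg⟩ := co0_to_five hv
  obtain ⟨k, hk⟩ := co0_to_five hw
  refine ⟨k⁻¹ * g, ?_⟩
  rw [mul_smul, show g • v = k • w from Subtype.ext (hg.trans hk.symm), inv_smul_smul]

/-- Negation. -/
noncomputable def negCo0 : Co0 := monoCo0 1 (one_mem _) Finset.univ univ_code

theorem negCo0_smul (v : leechLattice) : negCo0 • v = -v := by
  refine Subtype.ext ?_
  rw [negCo0, monoCo0_smul]
  funext i
  simp [signedPerm, Equiv.Perm.one_symm]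

theorem negCo0_ne_one : negCo0 ≠ 1 := fun h => by
  have := congrArg (fun g : Co0 => ((g • vec8 pinf : leechLattice) : GolayPt → ℤ) pinf) h
  simp [negCo0_smul, vec8] at this

theorem negCo0_central : negCo0 ∈ Subgroup.center Co0 := by
  rw [Subgroup.mem_center_iff]
  intro g
  refine co0_ext fun v => ?_
  rw [mul_smul, mul_smul, negCo0_smul, negCo0_smul, co0_neg]

theorem center_Co0 {z : Co0} (hz : z ∈ Subgroup.center Co0) : z = 1 ∨ z = negCo0 := by
  classical
  rw [Subgroup.mem_center_iff] at hz
  have hcomm : ∀ (g : Co0) (v : leechLattice), g • v = v → g • (z • v) = z • v := fun g v h => by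
    rw [← mul_smul, hz g, mul_smul, h]
  let u : GolayPt → ℤ := ((z • vec8 pinf : leechLattice) : GolayPt → ℤ)
  have hcover : ∀ i : Fin 23, ∃ m ∈ codeList, m.testBit i.val = true ∧ m.testBit 23 = false := by
    decide +kernel
  have hzero : ∀ i, i ≠ pinf → u i = 0 := by
    intro i hi
    have hidx : idx i < 23 := by
      have := idx_lt i
      rcases (show idx i < 23 ∨ idx i = 23 by omega) with h | h
      · exact h
      · exact absurd (by rw [pinf, ← h, pt_idx]) hi
    obtain ⟨m, hm, hb, hb'⟩ := hcover ⟨idx i, hidx⟩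
    have hc : mset m ∈ supports (golayCode : Set (GolayPt → ZMod 2)) :=
      mem_supports_iff.2 ⟨m, mem_codeList.1 hm, rfl⟩
    have hp : pinf ∉ mset m := by rw [pinf, mem_mset, idx_pt (by norm_num)]; simp [hb']
    have hfix : monoCo0 1 (one_mem _) _ hc • vec8 pinf = vec8 pinf := by
      refine Subtype.ext ?_
      rw [monoCo0_smul]
      funext k
      simp only [signedPerm, vec8, Equiv.Perm.one_symm, Equiv.Perm.one_apply, Pi.single_apply]
      by_cases hk : k = pinf
      · subst hk; simp [hp]
      · simp [hk]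
    have h := congrFun (congrArg Subtype.val (hcomm _ _ hfix)) i
    rw [monoCo0_smul] at h
    simp only [signedPerm, Equiv.Perm.one_symm, Equiv.Perm.one_apply,
      if_pos (mem_mset.2 hb)] at h
    show ((z • vec8 pinf : leechLattice) : GolayPt → ℤ) i = 0
    omega
  have hsq : u pinf ^ 2 = 64 := by
    have h := co0_sq z (vec8 pinf)
    have e1 : sqNorm u = u pinf ^ 2 := by
      rw [sqNorm]
      exact Finset.sum_eq_single pinf (fun i _ hi => by rw [hzero i hi]; ring) (by simp)
    rw [← e1]
    exact h.trans (by rw [(leech_q_iff _ 8).1 (vec8_q pinf)]; norm_num)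
  have key : ∀ z' : Co0, (∀ g, g * z' = z' * g) → z' • vec8 pinf = vec8 pinf → z' = 1 := by
    intro z' hz' hfix
    have h8 : ∀ k, z' • vec8 k = vec8 k := fun k => by
      obtain ⟨g, hg⟩ := co0_trans8 (vec8_q pinf) (vec8_q k)
      rw [← hg, ← mul_smul, ← hz' g, mul_smul, hfix]
    refine co0_ext fun v => ?_
    rw [one_smul]
    refine Subtype.ext (funext fun i => ?_)
    have h := co0_dot z' v (vec8 i)
    rw [h8] at h
    simp only [vec8, dotInt, Pi.single_apply, mul_ite, mul_zero, Finset.sum_ite_eq',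
      Finset.mem_univ, if_true] at h
    omega
  have hcase : u pinf = 8 ∨ u pinf = -8 := sq_eq_sq_iff_eq_or_eq_neg.1 (hsq.trans (by norm_num))
  rcases hcase with h | h
  · left
    refine key z hz (Subtype.ext (funext fun i => ?_))
    show u i = _
    by_cases hi : i = pinf
    · subst hi; simp [vec8, h]
    · simp [vec8, hi, hzero i hi]
  · right
    have hz' : ∀ g, g * (negCo0 * z) = (negCo0 * z) * g := fun g => by
      rw [← mul_assoc, Subgroup.mem_center_iff.1 negCo0_central g, mul_assoc, hz g, mul_assoc]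
    have h1 := key (negCo0 * z) hz' (by
      rw [mul_smul, negCo0_smul]
      refine Subtype.ext (funext fun i => ?_)
      rw [AddSubgroup.coe_neg, Pi.neg_apply]
      show -u i = _
      by_cases hi : i = pinf
      · subst hi; simp [vec8, h]
      · simp [vec8, hi, hzero i hi])
    have hnn : negCo0 * negCo0 = 1 := co0_ext fun v => by
      rw [mul_smul, negCo0_smul, negCo0_smul, neg_neg, one_smul]
    calc z = negCo0 * (negCo0 * z) := by rw [← mul_assoc, hnn, one_mul]
      _ = negCo0 := by rw [h1, mul_one]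

theorem card_center_Co0 : Nat.card (Subgroup.center Co0) = 2 := by
  have e : ((Subgroup.center Co0 : Subgroup Co0) : Set Co0) = {1, negCo0} := by
    ext z
    refine ⟨fun h => ?_, ?_⟩
    · rcases center_Co0 h with h | h <;> simp [h]
    · rintro (rfl | rfl)
      · exact one_mem _
      · exact negCo0_central
  rw [← SetLike.coe_sort_coe, Nat.card_coe_set_eq, e, Set.ncard_pair negCo0_ne_one.symm]

end CfsgLib.Golay
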