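import Cfsg.Agent.Lib.Golay.Co0Mono

/-! The normal subgroups of the automorphism group of the lattice. -/

set_option autoImplicit false
set_option maxRecDepth 100000

namespace CfsgLib.Golay

open Cfsg
open scoped Pointwise

/-- The translation of the points by one. -/
def shiftCode : ℕ := 956302485175575353788796878166559809

theorem shift_in : inM24 shiftCode = true := by decide +kernel

/-- The translation by one, as an element of `M24`. -/
noncomputable def shiftM24 : M24 := ⟨permOf shiftCode, inM24_mem shift_in⟩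

theorem shift_some (x : ZMod 23) : (shiftM24 : Equiv.Perm GolayPt) (some x) = some (x + 1) := by
  show permOf shiftCode (some x) = _
  rw [permOf_apply (inM24_valid shift_in)]
  revert x; decide +kernel

theorem shift_none : (shiftM24 : Equiv.Perm GolayPt) none = none := by
  show permOf shiftCode none = _
  rw [permOf_apply (inM24_valid shift_in)]
  decide +kernel

/-- An element of order 23 of the monomial group. -/
noncomputable def g23 : Co0 := monoCo0 shiftM24 shiftM24.2 ∅ empty_code

theorem g23_coe (v : leechLattice) :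
    ((g23 • v : leechLattice) : GolayPt → ℤ) =
      fun i => (v : GolayPt → ℤ) ((shiftM24 : Equiv.Perm GolayPt).symm i) := by
  rw [g23, monoCo0_smul]
  funext i
  simp [signedPerm]

theorem g23_pow_coe (n : ℕ) (v : leechLattice) (i : GolayPt) :
    ((g23 ^ n • v : leechLattice) : GolayPt → ℤ) i =
      (v : GolayPt → ℤ) (((shiftM24 : Equiv.Perm GolayPt).symm)^[n] i) := by
  induction n generalizing v with
  | zero => simp
  | succ n ih =>
    rw [pow_succ, mul_smul, ih, g23_coe, Function.iterate_succ_apply']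

theorem shift_pow_23 : ∀ i : GolayPt,
    ((shiftM24 : Equiv.Perm GolayPt).symm)^[23] i = i := by
  intro i
  have h : ∀ j, ((shiftM24 : Equiv.Perm GolayPt).symm) (some j) = some (j - 1) := fun j => by
    rw [Equiv.symm_apply_eq, shift_some, sub_add_cancel]
  have h0 : ((shiftM24 : Equiv.Perm GolayPt).symm) none = none := by
    rw [Equiv.symm_apply_eq, shift_none]
  rcases i with _ | x
  · exact Function.iterate_fixed h0 23
  · have : ∀ n : ℕ, ((shiftM24 : Equiv.Perm GolayPt).symm)^[n] (some x) = some (x - n) := by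
      intro n
      induction n with
      | zero => simp
      | succ n ih => rw [Function.iterate_succ_apply', ih, h]; push_cast; rw [sub_sub]
    rw [this]
    have e : ((23 : ℕ) : ZMod 23) = 0 := ZMod.natCast_self 23
    rw [e, sub_zero]

theorem orderOf_g23 : orderOf g23 = 23 := by
  haveI : Fact (Nat.Prime 23) := ⟨by norm_num⟩
  refine orderOf_eq_prime (co0_ext fun v => Subtype.ext (funext fun i => ?_)) fun h => ?_
  · rw [g23_pow_coe, shift_pow_23, one_smul]
  · have := congrArg (fun g : Co0 => ((g • vec8 (some 0) : leechLattice) : GolayPt → ℤ) (some 0)) h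
    simp only [g23_coe, one_smul] at this
    have e : ((shiftM24 : Equiv.Perm GolayPt).symm) (some 0) = some (-1) := by
      rw [Equiv.symm_apply_eq, shift_some, neg_add_cancel]
    rw [e] at this
    simp [vec8] at this

theorem g23_mem_N0 : g23 ∈ N0 := mono_mem_N0 _ _ _

theorem g23_fixed_class {x : leechLattice} (hx : leechR.q x = 8)
    (hfix : g23 ∈ classStab x) : leechR.cls x = leechR.cls (vec8 pinf) := by
  classical
  have h48 := leech_counts.structure.2 x hx
  have hfin : {y : leechLattice | leechR.q y = 8 ∧ leechR.cls y = leechR.cls x}.Finite :=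
    Set.finite_of_ncard_pos (by rw [h48]; norm_num)
  let T := {y : leechLattice // leechR.q y = 8 ∧ leechR.cls y = leechR.cls x}
  haveI : Finite T := hfin.to_subtype
  haveI : Fact (Nat.Prime 23) := ⟨by norm_num⟩
  let P := Subgroup.zpowers g23
  have hmem : ∀ g : P, (g : Co0) ∈ classStab x :=
    fun g => Subgroup.zpowers_le.2 hfix g.2
  letI : MulAction P T :=
    { smul := fun g y => ⟨(g : Co0) • y.1, by rw [co0_q]; exact y.2.1,
        by rw [co0_cls (g : Co0) y.2.2]; exact hmem g⟩
      one_smul := fun y => Subtype.ext (one_smul Co0 y.1)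
      mul_smul := fun g h y => Subtype.ext (mul_smul (g : Co0) (h : Co0) y.1) }
  have hP : IsPGroup 23 P := IsPGroup.of_card (n := 1) (by rw [Nat.card_zpowers, orderOf_g23]; rfl)
  have hmod := hP.card_modEq_card_fixedPoints T
  have hT : Nat.card T = 48 := by rw [← h48, ← Nat.card_coe_set_eq]; rfl
  obtain ⟨⟨y, hy⟩⟩ : Nonempty (MulAction.fixedPoints P T) := by
    rw [← not_isEmpty_iff]
    intro he
    rw [hT, Nat.card_of_isEmpty] at hmod
    exact absurd hmod (by decide)
  have hg : g23 • y.1 = y.1 := congrArg Subtype.val (hy ⟨g23, Subgroup.mem_zpowers _⟩)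
  -- a fixed vector is constant on the residues
  let u : GolayPt → ℤ := (y.1 : GolayPt → ℤ)
  have hconst : ∀ n : ℕ, u (some (n : ZMod 23)) = u (some 0) := by
    intro n
    induction n with
    | zero => simp
    | succ n ih =>
      have h := congrFun (congrArg Subtype.val hg) (some ((n : ZMod 23) + 1))
      simp only [g23_coe] at h
      rw [show (shiftM24 : Equiv.Perm GolayPt).symm (some ((n : ZMod 23) + 1)) = some (n : ZMod 23) by
        rw [Equiv.symm_apply_eq, shift_some]] at h
      push_cast
      show (y.1 : GolayPt → ℤ) _ = _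
      rw [← h]; exact ih
  have hall : ∀ z : ZMod 23, u (some z) = u (some 0) := fun z => by
    rw [← ZMod.natCast_zmod_val z]; exact hconst _
  have hn : u none ^ 2 + 23 * u (some 0) ^ 2 = 64 := by
    have h := (leech_q_iff y.1 8).1 y.2.1
    rw [sqNorm, Fintype.sum_option] at h
    have e : ∀ z ∈ (Finset.univ : Finset (ZMod 23)),
        (y.1 : GolayPt → ℤ) (some z) ^ 2 = u (some 0) ^ 2 := fun z _ => by
      show u (some z) ^ 2 = _
      rw [hall z]
    rw [Finset.sum_congr rfl e, Finset.sum_const, Finset.card_univ,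
      ZMod.card, nsmul_eq_mul] at h
    change u none ^ 2 + _ = _ at h
    push_cast at h
    linarith
  have hb : -1 ≤ u (some 0) ∧ u (some 0) ≤ 1 := by
    constructor <;> nlinarith [sq_nonneg (u none)]
  have ha : -8 ≤ u none ∧ u none ≤ 8 := by constructor <;> nlinarith [sq_nonneg (u (some 0))]
  have hsol : (u none = 8 ∨ u none = -8) ∧ u (some 0) = 0 := by
    obtain ⟨h1, h2⟩ := ha
    obtain ⟨h3, h4⟩ := hb
    generalize u none = a at *
    generalize u (some 0) = b at *
    interval_cases b <;> interval_cases a <;> omega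
  have hstd : (y.1 : GolayPt → ℤ) ∈ stdCross := by
    refine ⟨none, u none, hsol.1, funext fun i => ?_⟩
    rcases i with _ | z
    · simp [u]
    · show u (some z) = _
      rw [hall z, hsol.2]; simp
  rw [← y.2.2]
  exact ((mem_std_iff _ pinf).1 hstd).2

theorem unique_fixed {P : Subgroup Co0} (hP : Nat.card P = 23) :
    ∃ x : leechLattice, leechR.q x = 8 ∧ P ≤ classStab x ∧ ∀ y, leechR.q y = 8 → P ≤ classStab y →
      leechR.cls y = leechR.cls x := by
  haveI : Fact (Nat.Prime 23) := ⟨by norm_num⟩
  have hfac : (Nat.card Co0).factorization 23 = 1 := by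
    have h1 : 1 ≤ (Nat.card Co0).factorization 23 := by
      rw [← Nat.Prime.pow_dvd_iff_le_factorization (by norm_num) (by rw [card_Co0]; norm_num),
        card_Co0]
      norm_num
    have h2 : ¬ 2 ≤ (Nat.card Co0).factorization 23 := by
      rw [← Nat.Prime.pow_dvd_iff_le_factorization (by norm_num) (by rw [card_Co0]; norm_num),
        card_Co0]
      norm_num
    omega
  have hc : ∀ Q : Subgroup Co0, Nat.card Q = 23 →
      ∃ S : Sylow 23 Co0, (S : Subgroup Co0) = Q := fun Q hQ =>
    ⟨Sylow.ofCard Q (by rw [hQ, hfac]; norm_num), rfl⟩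
  obtain ⟨S, rfl⟩ := hc P hP
  obtain ⟨S₀, hS₀⟩ := hc (Subgroup.zpowers g23) (by rw [Nat.card_zpowers, orderOf_g23])
  obtain ⟨h, rfl⟩ := MulAction.exists_smul_eq Co0 S₀ S
  refine ⟨h • vec8 pinf, by rw [co0_q, vec8_q], fun g hg => ?_, fun y hy hle => ?_⟩
  · rw [Sylow.coe_subgroup_smul, Subgroup.mem_pointwise_smul_iff_inv_smul_mem, hS₀] at hg
    rw [classStab_conj]
    have e : (MulAut.conj h)⁻¹ • g = h⁻¹ * g * h := by
      simp [MulAut.smul_def, MulAut.conj_apply]
    rw [e] at hg
    exact Subgroup.zpowers_le.2 g23_mem_N0 hg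
  have hg : h * g23 * h⁻¹ ∈ classStab y := by
    apply hle
    rw [Sylow.coe_subgroup_smul, Subgroup.mem_pointwise_smul_iff_inv_smul_mem, hS₀]
    have e : (MulAut.conj h)⁻¹ • (h * g23 * h⁻¹) = g23 := by
      simp [MulAut.smul_def, MulAut.conj_apply]; group
    rw [e]
    exact Subgroup.mem_zpowers _
  have := g23_fixed_class (x := h⁻¹ • y) (by rw [co0_q, hy]) (by
    rw [classStab_conj, inv_inv]; exact hg)
  have h' := co0_cls h this
  rwa [smul_inv_smul] at h'

theorem classStab_congr {x y : leechLattice} (h : leechR.cls x = leechR.cls y) :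
    classStab x = classStab y := by
  ext g
  rw [mem_classStab, mem_classStab, co0_cls g h, h]

/-- An element fixing every class of norm 8 vectors is `±1`. -/
theorem scalar_of_all_fixed {g : Co0} (h : ∀ x, leechR.q x = 8 → g ∈ classStab x) :
    g = 1 ∨ g = negCo0 := by
  classical
  obtain ⟨σ, c, hc, rfl⟩ := N0_rep (h (vec8 pinf) (vec8_q _))
  let ind : Finset GolayPt → GolayPt → ℤ := fun T i => if i ∈ T then 2 else 0
  have hTmem : ∀ T : Finset GolayPt, T.card = 4 →
      (fun i => 2 * ind T i) ∈ leechLattice ∧ sqNorm (fun i => 2 * ind T i) = 64 := by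
    intro T hT
    refine ⟨even_mem_iff.2 ⟨?_, ?_⟩, ?_⟩
    · have : mod2 (ind T) = 0 := by
        funext i; simp only [mod2, ind, Pi.zero_apply]; split_ifs <;> rfl
      rw [this]; exact Submodule.zero_mem _
    · simp [ind, Finset.sum_ite_mem, hT]
    · rw [sqNorm, Finset.sum_congr rfl fun i _ => show (2 * ind T i) ^ 2 = if i ∈ T then 16 else 0 by
        simp only [ind]; split_ifs <;> norm_num]
      simp [Finset.sum_ite_mem, hT]
  have hT : ∀ T : Finset GolayPt, T.card = 4 →
      ∃ a : GolayPt → ℤ, mod2 a ∈ golayCode ∧ (4 : ℤ) ∣ ∑ i, a i ∧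
        ∀ i, 4 * a i = signedPerm σ c (fun i => 2 * ind T i) i - 2 * ind T i := by
    intro T hT
    obtain ⟨h1, h2⟩ := hTmem T hT
    have hfix : monoCo0 σ σ.2 c hc ∈ classStab ⟨_, h1⟩ :=
      h ⟨_, h1⟩ ((leech_q_iff _ 8).2 (by rw [h2]; norm_num))
    obtain ⟨z, hz, e⟩ := exists_two_smul_iff.1 hfix
    have hz2 : ∀ i, z i % 2 = 0 := by
      intro i
      have := congrFun e i
      rw [monoCo0_smul] at this
      simp only [Pi.sub_apply, Pi.smul_apply, nsmul_eq_mul, Nat.cast_ofNat, signedPerm, ind] at this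
      split_ifs at this <;> omega
    obtain ⟨ha1, ha2⟩ := (even_mem_iff (a := fun i => z i / 2)).1 (by
      convert hz using 1; funext i; have := hz2 i; omega)
    refine ⟨_, ha1, ha2, fun i => ?_⟩
    have := congrFun e i
    rw [monoCo0_smul] at this
    simp only [Pi.sub_apply, Pi.smul_apply, nsmul_eq_mul, Nat.cast_ofNat] at this
    have := hz2 i
    omega
  -- the permutation is trivial
  have hperm : ∀ i, (σ : Equiv.Perm GolayPt) i = i := by
    have key : ∀ T : Finset GolayPt, T.card = 4 →
        ((σ : Equiv.Perm GolayPt) • T ∩ T).Nonempty → (σ : Equiv.Perm GolayPt) • T = T := by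
      intro T hT4 hne
      obtain ⟨a, ha, -, he⟩ := hT T hT4
      have hs : support₂ (mod2 a) = symmDiff ((σ : Equiv.Perm GolayPt) • T) T := by
        ext i
        have := he i
        have hmem : i ∈ (σ : Equiv.Perm GolayPt) • T ↔ (σ : Equiv.Perm GolayPt).symm i ∈ T := by
          rw [Finset.mem_smul_finset]
          constructor
          · rintro ⟨y, hy, rfl⟩; simpa using hy
          · intro h; exact ⟨_, h, by simp⟩
        rw [mem_support_mod2, Finset.mem_symmDiff, hmem]
        simp only [signedPerm, ind] at this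
        by_cases p : (σ : Equiv.Perm GolayPt).symm i ∈ T <;> by_cases q : i ∈ T <;>
          simp only [p, q, if_true, if_false] at this ⊢ <;> split_ifs at this <;> simp <;> omega
      have hw := mem_supports_word.2 ha
      rw [hs] at hw
      have hsd := card_symmDiff_add ((σ : Equiv.Perm GolayPt) • T) T
      rw [Finset.card_smul_finset, hT4] at hsd
      have := Finset.card_pos.2 hne
      have h0 : (symmDiff ((σ : Equiv.Perm GolayPt) • T) T).card = 0 := by
        rcases supports_card hw with e | e | e | e | e <;> omega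
      rw [Finset.card_eq_zero, ← Finset.bot_eq_empty, symmDiff_eq_bot] at h0
      exact h0
    intro i
    by_contra hi
    set p := (σ : Equiv.Perm GolayPt) with hp
    obtain ⟨a, ha⟩ : ∃ a, a ∉ ({i, p i, p.symm i} : Finset GolayPt) := by
      by_contra hne
      push Not at hne
      have := Finset.card_le_card (fun k _ => hne k :
        (Finset.univ : Finset GolayPt) ⊆ {i, p i, p.symm i})
      have h3 := Finset.card_le_three (a := i) (b := p i) (c := p.symm i)
      simp at this
      omega
    simp only [Finset.mem_insert, Finset.mem_singleton, not_or] at ha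
    have hpa : p a ≠ p i := fun e => ha.1 (p.injective e)
    -- a 4-set through `i`, `a`, `p a`, avoiding `p i`
    obtain ⟨T, hsub, hsub', hT4⟩ := Finset.exists_subsuperset_card_eq (n := 4)
      (show ({i, a, p a} : Finset GolayPt) ⊆ Finset.univ.erase (p i) by
        intro x hx
        simp only [Finset.mem_insert, Finset.mem_singleton] at hx
        rw [Finset.mem_erase]
        rcases hx with rfl | rfl | rfl
        · exact ⟨fun e => hi e.symm, Finset.mem_univ _⟩
        · exact ⟨ha.2.1, Finset.mem_univ _⟩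
        · exact ⟨hpa, Finset.mem_univ _⟩)
      (le_trans Finset.card_le_three (by norm_num))
      (by rw [Finset.card_erase_of_mem (Finset.mem_univ _)]; simp)
    have hTp := key T hT4 ⟨p a, Finset.mem_inter.2
      ⟨Finset.smul_mem_smul_finset (hsub (by simp)), hsub (by simp)⟩⟩
    have : p i ∈ p • T := Finset.smul_mem_smul_finset (hsub (by simp))
    rw [hTp] at this
    exact (Finset.mem_erase.1 (hsub' this)).1 rfl
  have hσ1 : σ = 1 := Subtype.ext (Equiv.ext hperm)
  subst hσ1
  -- all signs agree
  have hsame : ∀ i j, i ∈ c → j ∈ c := by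
    intro i j hi
    by_contra hj
    obtain ⟨a, b, hab, ha1, ha2, hb1, hb2, hiff⟩ : ∃ a b : GolayPt, a ≠ b ∧ a ≠ i ∧ a ≠ j ∧
        b ≠ i ∧ b ≠ j ∧ (a ∈ c ↔ b ∈ c) := by
      let U := (Finset.univ.erase i).erase j
      have hU : 3 ≤ U.card := by
        simp only [U]
        rw [Finset.card_erase_of_mem (Finset.mem_erase.2 ⟨fun e => hj (by rw [e]; exact hi), Finset.mem_univ _⟩),
          Finset.card_erase_of_mem (Finset.mem_univ _)]
        simp
      obtain ⟨a, ha, b, hb, hab, e⟩ := Finset.exists_ne_map_eq_of_card_lt_of_maps_to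
        (s := U) (t := (Finset.univ : Finset Bool)) (f := fun k => decide (k ∈ c))
        (by simp; omega) (fun k _ => Finset.mem_univ _)
      simp only [U, Finset.mem_erase, Finset.mem_univ, and_true] at ha hb
      exact ⟨a, b, hab, ha.2, ha.1, hb.2, hb.1, by simpa using e⟩
    have hij : i ≠ j := fun e => hj (by rw [← e]; exact hi)
    obtain ⟨t, -, hs, he⟩ := hT {i, j, a, b} (by
      rw [Finset.card_insert_of_notMem (by simp [hij, ha1.symm, hb1.symm]),
        Finset.card_insert_of_notMem (by simp [ha2.symm, hb2.symm]), Finset.card_pair hab])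
    have hval : ∀ k, t k = if k ∈ ({i, j, a, b} : Finset GolayPt) ∧ k ∈ c then -2 else 0 := fun k => by
      have := he k
      simp only [signedPerm, ind, OneMemClass.coe_one, Equiv.Perm.one_symm, Equiv.Perm.one_apply]
        at this
      by_cases p : k ∈ ({i, j, a, b} : Finset GolayPt) <;> by_cases q : k ∈ c <;>
        simp only [p, q, if_true, if_false, and_true, and_false, true_and, false_and] at this ⊢ <;>
        omega
    rw [Finset.sum_congr rfl fun k _ => hval k, ← Finset.sum_filter,
      show (Finset.univ.filter fun k => k ∈ ({i, j, a, b} : Finset GolayPt) ∧ k ∈ c) =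
        ({i, j, a, b} : Finset GolayPt).filter (· ∈ c) by ext k; simp] at hs
    by_cases hac : a ∈ c
    · have hbc := hiff.1 hac
      rw [show ({i, j, a, b} : Finset GolayPt).filter (· ∈ c) = {i, a, b} by
        ext k
        simp only [Finset.mem_filter, Finset.mem_insert, Finset.mem_singleton]
        constructor
        · rintro ⟨rfl | rfl | rfl | rfl, hk⟩ <;> simp_all
        · rintro (rfl | rfl | rfl) <;> simp_all] at hs
      rw [Finset.sum_insert (by simp [ha1.symm, hb1.symm]), Finset.sum_pair hab] at hs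
      omega
    · have hbc : b ∉ c := fun e => hac (hiff.2 e)
      rw [show ({i, j, a, b} : Finset GolayPt).filter (· ∈ c) = {i} by
        ext k
        simp only [Finset.mem_filter, Finset.mem_insert, Finset.mem_singleton]
        constructor
        · rintro ⟨rfl | rfl | rfl | rfl, hk⟩ <;> simp_all
        · rintro rfl; simp_all] at hs
      rw [Finset.sum_singleton] at hs
      omega
  rcases c.eq_empty_or_nonempty with rfl | ⟨i, hi⟩
  · left
    refine co0_ext fun v => Subtype.ext ?_
    rw [monoCo0_smul, one_smul]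
    funext k; simp [signedPerm, Equiv.Perm.one_symm]
  · right
    have : c = Finset.univ := Finset.eq_univ_of_forall fun j => hsame i j hi
    subst this
    rfl

theorem prime_cases {p : ℕ} (hp : p.Prime) (h : p ∣ 8315553613086720000) :
    p = 2 ∨ p = 3 ∨ p = 5 ∨ p = 7 ∨ p = 11 ∨ p = 13 ∨ p = 23 := by
  rw [show (8315553613086720000 : ℕ) = 2 ^ 22 * 3 ^ 9 * 5 ^ 4 * 7 ^ 2 * 11 * 13 * 23 by norm_num] at h
  simp only [hp.dvd_mul] at h
  rcases h with (((((h | h) | h) | h) | h) | h) | h
  · exact Or.inl ((Nat.prime_dvd_prime_iff_eq hp Nat.prime_two).1 (hp.dvd_of_dvd_pow h))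
  · exact Or.inr (Or.inl ((Nat.prime_dvd_prime_iff_eq hp Nat.prime_three).1 (hp.dvd_of_dvd_pow h)))
  · exact Or.inr (Or.inr (Or.inl ((Nat.prime_dvd_prime_iff_eq hp (by norm_num)).1 (hp.dvd_of_dvd_pow h))))
  · exact Or.inr (Or.inr (Or.inr (Or.inl ((Nat.prime_dvd_prime_iff_eq hp (by norm_num)).1 (hp.dvd_of_dvd_pow h)))))
  all_goals
    have := (Nat.prime_dvd_prime_iff_eq hp (by norm_num)).1 h
    omega

theorem pow_mod_23 {p a b : ℕ} (hp : p.Prime) (hodd : p ≠ 2) (h23 : p ≠ 23)
    (ha : p ^ a ∣ 8315553613086720000) (hb : b ≤ a) (h : p ^ a ≡ p ^ b [MOD 23]) : a = b := by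
  have hb10 : ∀ a, p ^ a ∣ 8315553613086720000 → a ≤ 9 := by
    intro a ha
    by_contra hlt
    have h10 : p ^ 10 ∣ 8315553613086720000 := (pow_dvd_pow p (by omega)).trans ha
    by_cases h0 : a = 0
    · omega
    rcases prime_cases hp ((dvd_pow_self p h0).trans ha) with e | e | e | e | e | e | e <;>
      subst e <;> first | (norm_num at hodd; done) | (norm_num at h23; done) | (norm_num at h10; done)
  by_contra hne
  have ha9 := hb10 a ha
  have hd : ∀ p ∈ [3, 5, 7, 11, 13], ∀ a ≤ 9, ∀ b < a, p ^ a % 23 ≠ p ^ b % 23 := by decide +kernel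
  rcases prime_cases hp ((dvd_pow_self p (by omega : a ≠ 0)).trans ha) with e | e | e | e | e | e | e
  · exact hodd e
  all_goals first
    | exact h23 e
    | (subst e; exact hd _ (by decide) a ha9 b (by omega) h)

theorem normal_small {M : Subgroup Co0} [M.Normal] (h23 : ¬ 23 ∣ Nat.card M) :
    ∀ g ∈ M, g = 1 ∨ g = negCo0 := by
  classical
  haveI : Fact (Nat.Prime 23) := ⟨by norm_num⟩
  haveI := isSimple_M24
  -- the intersection with the monomial group consists of sign changes
  have hsign : ∀ g ∈ M, g ∈ N0 → g * g = 1 := by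
    intro g hgM hgN
    haveI hK : ((M.subgroupOf N0).map permPart).Normal :=
      (Subgroup.Normal.subgroupOf (inferInstance : M.Normal) N0).map permPart permPart_surjective
    rcases Subgroup.Normal.eq_bot_or_eq_top hK with h0 | h1
    · have : permPart ⟨g, hgN⟩ ∈ (M.subgroupOf N0).map permPart :=
        Subgroup.mem_map_of_mem _ hgM
      rw [h0, Subgroup.mem_bot] at this
      obtain ⟨c, hc, e⟩ := permPart_eq_one this
      simp only at e
      rw [e, sign0_sq]
    · exfalso
      apply h23
      have h2 : Nat.card M24 ∣ Nat.card (M.subgroupOf N0) := by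
        rw [← Subgroup.card_top (G := M24), ← h1]
        exact Subgroup.card_map_dvd _ _
      refine (dvd_trans ?_ h2).trans ?_
      · rw [card_M24]; norm_num
      · exact Subgroup.card_comap_dvd_of_injective M N0.subtype Subtype.val_injective
  -- the same at every norm 8 class
  have hsq : ∀ x, leechR.q x = 8 → ∀ g ∈ M, g ∈ classStab x → g * g = 1 := by
    intro x hx g hg hgx
    obtain ⟨h, rfl⟩ := co0_trans8 (vec8_q pinf) hx
    rw [classStab_conj] at hgx
    have hg' : h⁻¹ * g * h ∈ M := by
      simpa using (inferInstance : M.Normal).conj_mem g hg h⁻¹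
    have := hsign _ hg' hgx
    calc g * g = h * ((h⁻¹ * g * h) * (h⁻¹ * g * h)) * h⁻¹ := by group
      _ = 1 := by rw [this]; group
  -- `M` is a 2-group
  have h2 : IsPGroup 2 M := by
    rw [IsPGroup.iff_card]
    by_contra hne
    obtain ⟨p, hp, hpd, hp2⟩ : ∃ p, p.Prime ∧ p ∣ Nat.card M ∧ p ≠ 2 := by
      by_contra hno
      push Not at hno
      exact hne ⟨_, Nat.eq_prime_pow_of_unique_prime_dvd Nat.card_pos.ne' fun {q} hq hqd =>
        hno q hq hqd⟩
    haveI : Fact p.Prime := ⟨hp⟩
    obtain ⟨Q⟩ : Nonempty (Sylow p M) := inferInstance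
    let Q' : Subgroup Co0 := (Q : Subgroup M).map M.subtype
    have hQM : Q' ≤ M := Subgroup.map_subtype_le _
    have hsup : Subgroup.normalizer (Q' : Set Co0) ⊔ M = ⊤ := Sylow.normalizer_sup_eq_top Q
    have hN23 : 23 ∣ Nat.card (Subgroup.normalizer (Q' : Set Co0)) := by
      have h1 : 23 ∣ M.index := by
        have h := M.card_mul_index
        have hd : 23 ∣ Nat.card M * M.index := by rw [h, card_Co0]; norm_num
        exact ((Nat.Prime.dvd_mul (by norm_num)).1 hd).resolve_left h23
      have h2 : M.relIndex (Subgroup.normalizer (Q' : Set Co0)) = M.index := by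
        rw [← Subgroup.relIndex_sup_right, hsup, Subgroup.relIndex_top_right]
      exact h1.trans (h2 ▸ Subgroup.relIndex_dvd_card _ _)
    obtain ⟨n, hn⟩ := exists_prime_orderOf_dvd_card' 23 hN23
    let P : Subgroup Co0 := Subgroup.zpowers (n : Co0)
    have hPc : Nat.card P = 23 := by rw [Nat.card_zpowers, Subgroup.orderOf_coe, hn]
    have hPN : P ≤ Subgroup.normalizer (Q' : Set Co0) := Subgroup.zpowers_le.2 n.2
    obtain ⟨x, hx, hPx, huniq⟩ := unique_fixed hPc
    -- `P` centralises `Q'`
    letI : MulAction P Q' :=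
      { smul := fun g q => ⟨(g : Co0) * q * (g : Co0)⁻¹,
          (Subgroup.mem_normalizer_iff.1 (hPN g.2) q).1 q.2⟩
        one_smul := fun q => Subtype.ext (by show (1 : Co0) * _ * (1 : Co0)⁻¹ = _; simp)
        mul_smul := fun g k q => Subtype.ext (by
          show (g : Co0) * k * q * ((g : Co0) * k)⁻¹ = g * (k * q * (k : Co0)⁻¹) * (g : Co0)⁻¹
          group) }
    have hP23 : IsPGroup 23 P := IsPGroup.of_card (n := 1) (by rw [hPc]; rfl)
    have hmod := hP23.card_modEq_card_fixedPoints Q'
    let Fix : Subgroup Q' :=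
      { carrier := MulAction.fixedPoints P Q'
        one_mem' := fun g => Subtype.ext (by show (g : Co0) * 1 * (g : Co0)⁻¹ = 1; group)
        mul_mem' := fun {a b} ha hb g => Subtype.ext (by
          have h1 : (g : Co0) * a * (g : Co0)⁻¹ = a := congrArg Subtype.val (ha g)
          have h2 : (g : Co0) * b * (g : Co0)⁻¹ = b := congrArg Subtype.val (hb g)
          show (g : Co0) * (a * b : Co0) * (g : Co0)⁻¹ = a * b
          calc _ = ((g : Co0) * a * (g : Co0)⁻¹) * ((g : Co0) * b * (g : Co0)⁻¹) := by group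
            _ = _ := by rw [h1, h2])
        inv_mem' := fun {a} ha g => Subtype.ext (by
          have h1 : (g : Co0) * a * (g : Co0)⁻¹ = a := congrArg Subtype.val (ha g)
          show (g : Co0) * (a : Co0)⁻¹ * (g : Co0)⁻¹ = (a : Co0)⁻¹
          calc _ = ((g : Co0) * a * (g : Co0)⁻¹)⁻¹ := by group
            _ = _ := by rw [h1]) }
    have hQ' : Nat.card Q' = Nat.card Q :=
      Nat.card_congr (Subgroup.equivMapOfInjective _ _ Subtype.val_injective).symm.toEquiv
    obtain ⟨a, ha⟩ := IsPGroup.iff_card.1 Q.isPGroup'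
    obtain ⟨b, hb, hb'⟩ := (Nat.dvd_prime_pow hp).1
      ((Subgroup.card_subgroup_dvd_card Fix).trans (hQ'.trans ha).dvd)
    have hfix : Nat.card (MulAction.fixedPoints P Q') = Nat.card Fix := rfl
    rw [hfix, hQ', ha, hb'] at hmod
    have hp23 : p ≠ 23 := fun e => h23 (e ▸ hpd)
    have hpow : p ^ a ∣ 8315553613086720000 := by
      rw [← ha, ← hQ', ← card_Co0]; exact Subgroup.card_subgroup_dvd_card Q'
    have hab := pow_mod_23 hp hp2 hp23 hpow hb hmod
    have htop : Fix = ⊤ := Subgroup.eq_top_of_card_eq Fix (by rw [hb', hQ', ha, hab])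
    -- so `Q'` fixes the unique class of `P`
    have hQle : ∀ q ∈ Q', q ∈ classStab x := by
      intro q hq
      have hfixq : ∀ g ∈ P, g * q * g⁻¹ = q := fun g hg => congrArg Subtype.val
        ((show (⟨q, hq⟩ : Q') ∈ Fix by rw [htop]; trivial) ⟨g, hg⟩)
      show leechR.cls (q • x) = leechR.cls x
      refine huniq (q • x) (by rw [co0_q, hx]) fun k hk => ?_
      rw [classStab_conj]
      have e : q⁻¹ * k * q = k := by
        calc q⁻¹ * k * q = q⁻¹ * (k * q * k⁻¹) * k := by group
          _ = k := by rw [hfixq k hk]; group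
      rw [e]; exact hPx hk

    have hne1 : a ≠ 0 := by
      intro h0
      have := Sylow.dvd_card_of_dvd_card Q hpd
      rw [ha, h0] at this
      exact hp.ne_one (Nat.dvd_one.1 this)
    obtain ⟨q, hq⟩ := exists_prime_orderOf_dvd_card' (G := Q') p
      (by rw [hQ', ha]; exact dvd_pow_self p hne1)
    have h2' := hsq x hx q (hQM q.2) (hQle q q.2)
    have : orderOf (q : Co0) ∣ 2 := orderOf_dvd_of_pow_eq_one (by rw [sq]; exact h2')
    rw [Subgroup.orderOf_coe, hq] at this
    exact hp2 ((Nat.prime_dvd_prime_iff_eq hp Nat.prime_two).1 this)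
  -- hence inside every monomial group
  have hle : M ≤ N0 := by
    rw [← Subgroup.relIndex_eq_one]
    obtain ⟨k, hk⟩ := IsPGroup.iff_card.1 h2
    have h1 : N0.relIndex M ∣ 2 ^ k := hk ▸ Subgroup.relIndex_dvd_card _ _
    have h4 : N0.relIndex M ∣ 8292375 := by
      rw [← index_N0]
      have e1 := Subgroup.relIndex_mul_index (inf_le_left : N0 ⊓ M ≤ N0)
      have e2 := Subgroup.relIndex_mul_index (inf_le_right : N0 ⊓ M ≤ M)
      rw [Subgroup.inf_relIndex_left] at e1
      rw [Subgroup.inf_relIndex_right] at e2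
      have h5 : M.relIndex N0 ∣ M.index := Subgroup.relIndex_dvd_index_of_normal M N0
      refine Nat.dvd_of_mul_dvd_mul_right (Nat.pos_of_ne_zero (M.index_ne_zero_of_finite)) ?_
      rw [e2, ← e1, mul_comm N0.index]
      exact mul_dvd_mul_right h5 _
    exact Nat.eq_one_of_dvd_coprimes (Nat.Coprime.pow_left k (by norm_num)) h1 h4
  intro g hg
  refine scalar_of_all_fixed fun x hx => ?_
  obtain ⟨h, rfl⟩ := co0_trans8 (vec8_q pinf) hx
  rw [classStab_conj]
  exact hle (by simpa using (inferInstance : M.Normal).conj_mem g hg h⁻¹)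

theorem sign0_congr {c d : Finset GolayPt}
    {hc : c ∈ supports (golayCode : Set (GolayPt → ZMod 2))}
    {hd : d ∈ supports (golayCode : Set (GolayPt → ZMod 2))} (h : c = d) :
    sign0 c hc = sign0 d hd := by
  subst h; rfl

theorem sign0_mem_N0 (c : Finset GolayPt)
    (hc : c ∈ supports (golayCode : Set (GolayPt → ZMod 2))) : sign0 c hc ∈ N0 :=
  mono_mem_N0 1 c hc

theorem monoCo0_congr {σ τ : M24} {c d : Finset GolayPt}
    {hc : c ∈ supports (golayCode : Set (GolayPt → ZMod 2))}
    {hd : d ∈ supports (golayCode : Set (GolayPt → ZMod 2))} (h : σ = τ) (h' : c = d) :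
    monoCo0 σ σ.2 c hc = monoCo0 τ τ.2 d hd := by
  subst h; subst h'; rfl

theorem sign0_mul_mono (σ : M24) {c d : Finset GolayPt}
    (hc : c ∈ supports (golayCode : Set (GolayPt → ZMod 2)))
    (hd : d ∈ supports (golayCode : Set (GolayPt → ZMod 2))) :
    sign0 d hd * monoCo0 σ σ.2 c hc =
      monoCo0 σ σ.2 (symmDiff d c) (symmDiff_mem_supports hd hc) := by
  rw [sign0, monoCo0_mul]
  exact monoCo0_congr (one_mul σ) (by rw [OneMemClass.coe_one, one_smul])

theorem sign0_mul (c d : Finset GolayPt)
    (hc : c ∈ supports (golayCode : Set (GolayPt → ZMod 2)))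
    (hd : d ∈ supports (golayCode : Set (GolayPt → ZMod 2))) :
    sign0 c hc * sign0 d hd = sign0 (symmDiff c d) (symmDiff_mem_supports hc hd) :=
  sign0_mul_mono 1 hd hc

theorem mono_mul_sign0 (σ : M24) {c d : Finset GolayPt}
    (hc : c ∈ supports (golayCode : Set (GolayPt → ZMod 2)))
    (hd : d ∈ supports (golayCode : Set (GolayPt → ZMod 2))) :
    monoCo0 σ σ.2 c hc * sign0 d hd =
      monoCo0 σ σ.2 (symmDiff c ((σ : Equiv.Perm GolayPt) • d))
        (symmDiff_mem_supports hc (smul_code σ hd)) := by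
  rw [sign0, monoCo0_mul]
  exact monoCo0_congr (mul_one σ) rfl

theorem normal_big {M : Subgroup Co0} [M.Normal] (h23 : 23 ∣ Nat.card M)
    (hneg : negCo0 ∈ M) : M = ⊤ := by
  classical
  haveI : Fact (Nat.Prime 23) := ⟨by norm_num⟩
  haveI := isSimple_M24
  have hfac : (Nat.card Co0).factorization 23 = 1 := by
    have h1 : 1 ≤ (Nat.card Co0).factorization 23 := by
      rw [← Nat.Prime.pow_dvd_iff_le_factorization (by norm_num) (by rw [card_Co0]; norm_num),
        card_Co0]
      norm_num
    have h2 : ¬ 2 ≤ (Nat.card Co0).factorization 23 := by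
      rw [← Nat.Prime.pow_dvd_iff_le_factorization (by norm_num) (by rw [card_Co0]; norm_num),
        card_Co0]
      norm_num
    omega
  let S₀ : Sylow 23 Co0 := Sylow.ofCard (Subgroup.zpowers g23)
    (by rw [Nat.card_zpowers, orderOf_g23, hfac]; norm_num)
  obtain ⟨m, hm⟩ := exists_prime_orderOf_dvd_card' 23 h23
  let S₁ : Sylow 23 Co0 := Sylow.ofCard (Subgroup.zpowers (m : Co0))
    (by rw [Nat.card_zpowers, Subgroup.orderOf_coe, hm, hfac]; norm_num)
  obtain ⟨h, hh⟩ := MulAction.exists_smul_eq Co0 S₁ S₀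
  have hS₁ : (S₁ : Subgroup Co0) ≤ M := Subgroup.zpowers_le.2 m.2
  have hS₀ : (S₀ : Subgroup Co0) ≤ M := by
    rw [← hh, Sylow.coe_subgroup_smul]
    intro g hg
    rw [Subgroup.mem_pointwise_smul_iff_inv_smul_mem] at hg
    have := (inferInstance : M.Normal).conj_mem _ (hS₁ hg) h
    simpa [MulAut.smul_def, mul_assoc] using this
  have hg23 : g23 ∈ M := hS₀ (Subgroup.mem_zpowers _)
  -- Frattini
  have hsup : M ⊔ N0 = ⊤ := by
    rw [eq_top_iff, ← Sylow.normalizer_sup_eq_top' S₀ hS₀]
    refine sup_le (fun n hn => Subgroup.mem_sup_right ?_) le_sup_left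
    have h1 : n⁻¹ * g23 * n ∈ (S₀ : Subgroup Co0) :=
      (Subgroup.mem_normalizer_iff''.1 hn g23).1 (Subgroup.mem_zpowers _)
    have := g23_fixed_class (x := n • vec8 pinf) (by rw [co0_q, vec8_q]) (by
      rw [classStab_conj]; exact Subgroup.zpowers_le.2 g23_mem_N0 h1)
    exact this
  -- every permutation lifts
  have hlift : ∀ σ : M24, ∃ c hc, monoCo0 σ σ.2 c hc ∈ M := by
    haveI hK : ((M.subgroupOf N0).map permPart).Normal :=
      (Subgroup.Normal.subgroupOf (inferInstance : M.Normal) N0).map permPart permPart_surjective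
    rcases Subgroup.Normal.eq_bot_or_eq_top hK with h0 | h1
    · exfalso
      have h2 : permPart ⟨g23, g23_mem_N0⟩ ∈ (M.subgroupOf N0).map permPart :=
        Subgroup.mem_map_of_mem _ hg23
      rw [h0, Subgroup.mem_bot] at h2
      have h3 : shiftM24 = 1 := (permPart_mono shiftM24 ∅ empty_code).symm.trans h2
      have h4 := congrArg (fun σ : M24 => (σ : Equiv.Perm GolayPt) (some 0)) h3
      simp [shift_some] at h4
    · intro σ
      obtain ⟨⟨g, hg⟩, hgM, e⟩ : σ ∈ (M.subgroupOf N0).map permPart := by rw [h1]; trivial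
      obtain ⟨τ, c, hc, rfl⟩ := N0_rep hg
      rw [permPart_mono] at e
      subst e
      exact ⟨c, hc, hgM⟩
  have hcomm : ∀ (σ : M24) (d : Finset GolayPt) (hd : d ∈ supports (golayCode : Set (GolayPt → ZMod 2))),
      sign0 (symmDiff d ((σ : Equiv.Perm GolayPt) • d))
        (symmDiff_mem_supports hd (smul_code σ hd)) ∈ M := by
    intro σ d hd
    obtain ⟨c, hc, hcM⟩ := hlift σ
    have e : sign0 (symmDiff d ((σ : Equiv.Perm GolayPt) • d))
        (symmDiff_mem_supports hd (smul_code σ hd)) * (monoCo0 σ σ.2 c hc * sign0 d hd) =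
        sign0 d hd * monoCo0 σ σ.2 c hc := by
      rw [mono_mul_sign0, sign0_mul_mono, sign0_mul_mono]
      refine monoCo0_congr rfl ?_
      rw [symmDiff_comm c, symmDiff_assoc, symmDiff_symmDiff_cancel_left]
    rw [eq_mul_inv_of_mul_eq e]
    have e2 : sign0 d hd * monoCo0 σ σ.2 c hc * (monoCo0 σ σ.2 c hc * sign0 d hd)⁻¹ =
        (sign0 d hd * monoCo0 σ σ.2 c hc * (sign0 d hd)⁻¹) * (monoCo0 σ σ.2 c hc)⁻¹ := by
      simp only [mul_inv_rev, mul_assoc]
    rw [e2]
    exact M.mul_mem ((inferInstance : M.Normal).conj_mem _ hcM _) (M.inv_mem hcM)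
  -- an octad of a trio
  have hA : mset 5279 ∈ octads := mem_octads_iff.2 ⟨_, mem_octList.2 (by decide +kernel), rfl⟩
  have hB : mset 11952160 ∈ octads := mem_octads_iff.2 ⟨_, mem_octList.2 (by decide +kernel), rfl⟩
  have hC : mset 4819776 ∈ octads := mem_octads_iff.2 ⟨_, mem_octList.2 (by decide +kernel), rfl⟩
  obtain ⟨σ₀, hσ₀⟩ := M24_trans_octads hA hB
  have hCM : sign0 (mset 4819776) hC.1 ∈ M := by
    have h1 := hcomm σ₀ _ hA.1
    have e : (σ₀ : Equiv.Perm GolayPt) • mset 5279 = mset 11952160 := hσ₀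
    rw [sign0_congr (d := mset (5279 ^^^ 11952160)) (hd := by
      rw [mset_xor]; exact symmDiff_mem_supports hA.1 hB.1) (by rw [e, mset_xor])] at h1
    have h2 := M.mul_mem h1 hneg
    have e2 : negCo0 = sign0 Finset.univ univ_code := rfl
    rw [e2, sign0_mul] at h2
    convert h2 using 2
    rw [← mset_full, ← mset_xor]
    rfl
  have hoct : ∀ o (ho : o ∈ octads), sign0 o ho.1 ∈ M := by
    intro o ho
    obtain ⟨σ, hσ⟩ := M24_trans_octads hC ho
    obtain ⟨c, hc, hcM⟩ := hlift σ
    have e : monoCo0 σ σ.2 c hc * sign0 (mset 4819776) hC.1 = sign0 o ho.1 * monoCo0 σ σ.2 c hc := by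
      rw [mono_mul_sign0, sign0_mul_mono]
      refine monoCo0_congr rfl ?_
      rw [show (σ : Equiv.Perm GolayPt) • mset 4819776 = o from hσ, symmDiff_comm]
    rw [← mul_inv_eq_iff_eq_mul.2 e]
    exact M.mul_mem (M.mul_mem hcM hCM) (M.inv_mem hcM)
  let P : Submodule (ZMod 2) (GolayPt → ZMod 2) :=
    { carrier := {w | ∃ h : support₂ w ∈ supports (golayCode : Set (GolayPt → ZMod 2)),
        sign0 (support₂ w) h ∈ M}
      zero_mem' := by
        have e : support₂ (0 : GolayPt → ZMod 2) = ∅ := by ext i; simp [support₂]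
        refine ⟨e ▸ empty_code, ?_⟩
        rw [sign0_congr (d := ∅) (hd := empty_code) e]
        have : sign0 ∅ empty_code = 1 := by
          have := sign0_mul ∅ ∅ empty_code empty_code
          rw [sign0_congr (c := symmDiff ∅ ∅) (d := ∅) (hd := empty_code) (symmDiff_self _)] at this
          exact mul_eq_left.1 this
        rw [this]; exact M.one_mem
      add_mem' := by
        rintro a b ⟨ha, ha'⟩ ⟨hb, hb'⟩
        have e : support₂ (a + b) = symmDiff (support₂ a) (support₂ b) := by
          ext i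
          simp only [support₂, Finset.mem_filter, Finset.mem_univ, true_and, Finset.mem_symmDiff,
            Pi.add_apply]
          generalize a i = x; generalize b i = y; revert x y; decide
        refine ⟨e ▸ symmDiff_mem_supports ha hb, ?_⟩
        rw [sign0_congr (hd := symmDiff_mem_supports ha hb) e, ← sign0_mul _ _ ha hb]
        exact M.mul_mem ha' hb'
      smul_mem' := by
        intro r w hw
        rcases (show r = 0 ∨ r = 1 by revert r; decide) with rfl | rfl
        · rw [zero_smul]
          have e : support₂ (0 : GolayPt → ZMod 2) = ∅ := by ext i; simp [support₂]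
          refine ⟨e ▸ empty_code, ?_⟩
          obtain ⟨h, hw'⟩ := hw
          rw [sign0_congr (d := symmDiff (support₂ w) (support₂ w))
            (hd := symmDiff_mem_supports h h) (by rw [e, symmDiff_self]; rfl), ← sign0_mul _ _ h h]
          exact M.mul_mem hw' hw'
        · rwa [one_smul] }
  have hall : ∀ c (hc : c ∈ supports (golayCode : Set (GolayPt → ZMod 2))), sign0 c hc ∈ M := by
    intro c hc
    obtain ⟨m, hm, rfl⟩ := mem_supports_iff.1 hc
    have hmem : mword m ∈ P := by
      rw [← isCode_iff.1 hm]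
      refine mword_enc_mem_submodule P (fun x hx => ?_) _
      have ho : mset x ∈ octads := mem_octads_iff.2 ⟨x, mem_octList.2 (by
        revert x; decide +kernel), rfl⟩
      refine ⟨by rw [support_mword]; exact ho.1, ?_⟩
      rw [sign0_congr (hd := ho.1) (support_mword x)]
      exact hoct _ ho
    obtain ⟨h, h'⟩ := hmem
    rwa [sign0_congr (hd := hc) (support_mword m)] at h'
  have hN : N0 ≤ M := by
    intro g hg
    obtain ⟨σ, d, hd, rfl⟩ := N0_rep hg
    obtain ⟨c, hc, hcM⟩ := hlift σ
    have e : monoCo0 σ σ.2 d hd =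
        sign0 (symmDiff d c) (symmDiff_mem_supports hd hc) * monoCo0 σ σ.2 c hc := by
      rw [sign0_mul_mono]
      exact monoCo0_congr rfl (symmDiff_symmDiff_cancel_right _ _).symm
    rw [e]
    exact M.mul_mem (hall _ _) hcM
  rw [← hsup, sup_eq_left.2 hN]

theorem card_Co1 : Nat.card (Co0 ⧸ Subgroup.center Co0) = 4157776806543360000 := by
  have h := Subgroup.card_eq_card_quotient_mul_card_subgroup (Subgroup.center Co0)
  rw [card_center_Co0, card_Co0] at h
  omega

theorem isSimple_Co1 : IsSimpleGroup (Co0 ⧸ Subgroup.center Co0) := by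
  haveI : Nontrivial (Co0 ⧸ Subgroup.center Co0) :=
    Finite.one_lt_card_iff_nontrivial.1 (by rw [card_Co1]; norm_num)
  constructor
  intro N hN
  let M : Subgroup Co0 := N.comap (QuotientGroup.mk' (Subgroup.center Co0))
  have hc : Subgroup.center Co0 ≤ M := fun z hz => by
    show QuotientGroup.mk' _ z ∈ N
    rw [QuotientGroup.mk'_apply, (QuotientGroup.eq_one_iff z).2 hz]
    exact N.one_mem
  by_cases h23 : 23 ∣ Nat.card M
  · right
    have := normal_big h23 (hc negCo0_central)
    rw [eq_top_iff]
    intro q _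
    obtain ⟨g, rfl⟩ := QuotientGroup.mk'_surjective _ q
    show g ∈ M
    rw [this]; trivial
  · left
    rw [eq_bot_iff]
    intro q hq
    obtain ⟨g, rfl⟩ := QuotientGroup.mk'_surjective _ q
    rw [Subgroup.mem_bot, QuotientGroup.mk'_apply, QuotientGroup.eq_one_iff]
    rcases normal_small h23 g hq with rfl | rfl
    · exact Subgroup.one_mem _
    · exact negCo0_central

end CfsgLib.Golay
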