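import Cfsg.Agent.Lib.Golay.Co0Order

/-! Transitivity on the two shortest shells. -/

set_option autoImplicit false
set_option maxRecDepth 100000

namespace CfsgLib.Golay

open Cfsg
open scoped Pointwise

theorem dotInt_pair (v : GolayPt → ℤ) (i j : GolayPt) (a b : ℤ) :
    dotInt v (Pi.single i a + Pi.single j b) = a * v i + b * v j := by
  simp [dotInt, mul_add, Finset.sum_add_distrib, Pi.single_apply, mul_comm]

/-- Two entries `±4`. -/
theorem pair4_mem {i j : GolayPt} (hij : i ≠ j) {a b : ℤ} (ha : a = 4 ∨ a = -4)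
    (hb : b = 4 ∨ b = -4) :
    (Pi.single i a + Pi.single j b : GolayPt → ℤ) ∈ leechLattice ∧
      sqNorm (Pi.single i a + Pi.single j b : GolayPt → ℤ) = 32 := by
  refine ⟨?_, ?_⟩
  · have e : (Pi.single i a + Pi.single j b : GolayPt → ℤ) =
        fun k => 2 * (Pi.single i (a / 2) + Pi.single j (b / 2) : GolayPt → ℤ) k := by
      funext k
      simp only [Pi.add_apply, Pi.single_apply]
      split_ifs <;> omega
    rw [e, even_mem_iff]
    refine ⟨?_, ?_⟩
    · have : mod2 (Pi.single i (a / 2) + Pi.single j (b / 2) : GolayPt → ℤ) = 0 := by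
        funext k
        rw [mod2, Pi.zero_apply, ZMod.intCast_zmod_eq_zero_iff_dvd]
        simp only [Pi.add_apply, Pi.single_apply]
        split_ifs <;> omega
      rw [this]; exact Submodule.zero_mem _
    · simp [Finset.sum_add_distrib]
      omega
  · rw [← dotInt_self, dotInt_pair]
    simp only [Pi.add_apply, Pi.single_eq_same, Pi.single_eq_of_ne hij, Pi.single_eq_of_ne hij.symm]
    rcases ha with rfl | rfl <;> rcases hb with rfl | rfl <;> norm_num

/-- A minimal vector orthogonal to a given minimal vector. -/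
theorem exists_orth_minimal {x : GolayPt → ℤ} (hn : sqNorm x = 32) :
    ∃ w ∈ leechLattice, sqNorm w = 32 ∧ dotInt x w = 0 := by
  have hb : ∀ i, |x i| ∈ Finset.Icc (0 : ℤ) 5 := fun i => by
    obtain ⟨a, b⟩ := abs_entry_le (B := 5) (by norm_num) (by norm_num) hn i
    exact Finset.mem_Icc.2 ⟨abs_nonneg _, abs_le.2 ⟨a, b⟩⟩
  obtain ⟨i, -, j, -, hij, he⟩ := Finset.exists_ne_map_eq_of_card_lt_of_maps_to
    (s := (Finset.univ : Finset GolayPt)) (t := Finset.Icc (0 : ℤ) 5) (f := fun i => |x i|)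
    (by simp) (fun i _ => hb i)
  by_cases hs : x i = x j
  · obtain ⟨h1, h2⟩ := pair4_mem hij (a := 4) (b := -4) (Or.inl rfl) (Or.inr rfl)
    exact ⟨_, h1, h2, by rw [dotInt_pair, hs]; ring⟩
  · obtain ⟨h1, h2⟩ := pair4_mem hij (a := 4) (b := 4) (Or.inl rfl) (Or.inl rfl)
    refine ⟨_, h1, h2, ?_⟩
    rcases abs_eq_abs.1 he with e | e
    · exact absurd e hs
    · rw [dotInt_pair, e]; ring

/-- The minimal vector `4 e_{23} + 4 e_0`. -/
def min44 : leechLattice :=
  ⟨Pi.single (pt 23) 4 + Pi.single (pt 0) 4,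
    (pair4_mem (show pt 23 ≠ pt 0 by decide +kernel) (Or.inl rfl) (Or.inl rfl)).1⟩

theorem co0_to_min44 {v : leechLattice} (hv : sqNorm (v : GolayPt → ℤ) = 32) :
    ∃ g : Co0, g • v = min44 := by
  classical
  obtain ⟨w, hw, hwn, hvw⟩ := exists_orth_minimal hv
  let W : leechLattice := ⟨w, hw⟩
  have hx : leechR.q (v + W) = 8 := by
    rw [leech_q_iff, AddSubgroup.coe_add, sqNorm_add, hvw, hv, hwn]; norm_num
  have hy : leechR.q (v - W) = 8 := by
    have h1 := leech_q (v + W)
    have h2 := leechR.q_add v W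
    have h3 := leechR.q_sub v W
    have h4 : 8 * leechR.b v W = dotInt (v : GolayPt → ℤ) w := leechForm_mul v W
    omega
  obtain ⟨g, hg⟩ := co0_to_vec8 hx (pt 23)
  have hc : ((g • (v - W) : leechLattice) : GolayPt → ℤ) ∈ stdCross := by
    rw [mem_std_iff _ (pt 23)]
    refine ⟨by rw [co0_q, hy], ?_⟩
    rw [← hg]
    exact co0_cls g (leechR.cls_eq_iff.2 ⟨-W, by abel⟩)
  obtain ⟨j, s, hs, hj⟩ := hc
  have hj23 : j ≠ pt 23 := by
    rintro rfl
    have h := co0_dot g (v + W) (v - W)
    rw [hg, hj] at h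
    have hl : dotInt ((v + W : leechLattice) : GolayPt → ℤ) ((v - W : leechLattice) : GolayPt → ℤ) = 0 := by
      have h1 : sqNorm (((v + W : leechLattice) + (v - W) : leechLattice) : GolayPt → ℤ) = 4 * 32 := by
        rw [show (v + W : leechLattice) + (v - W) = v + v by abel, AddSubgroup.coe_add, sqNorm_add,
          dotInt_self, hv]; norm_num
      have h2 := (leech_q_iff (v + W) 8).1 hx
      have h3 := (leech_q_iff (v - W) 8).1 hy
      rw [AddSubgroup.coe_add, sqNorm_add, h2, h3] at h1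
      omega
    rw [hl] at h
    simp only [vec8, dotInt, Pi.single_apply, mul_ite, mul_zero, Finset.sum_ite_eq',
      Finset.mem_univ, if_true] at h
    omega
  -- the sum of the two is twice the image of `v`
  have hsum : ∀ i, 2 * ((g • v : leechLattice) : GolayPt → ℤ) i =
      (Pi.single (pt 23) 8 : GolayPt → ℤ) i + (Pi.single j s : GolayPt → ℤ) i := by
    intro i
    have e : g • (v + W) + g • (v - W) = g • v + g • v := by
      rw [← co0_add, ← co0_add]; congr 1; abel
    have e' := congrFun (congrArg Subtype.val e) i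
    rw [AddSubgroup.coe_add, AddSubgroup.coe_add, hg, hj] at e'
    simp only [Pi.add_apply, vec8] at e'
    omega
  obtain ⟨σ, hσ1, hσ2⟩ := M24_two hj23 (show pt 0 ≠ pt 23 by decide +kernel)
  let m : ℕ := if s = 8 then 0 else 5279
  have hm : isCode m = true ∧ (pt 0 ∈ mset m ↔ s ≠ 8) ∧ pt 23 ∉ mset m := by
    simp only [m]; split_ifs with h <;> simp [h] <;> decide +kernel
  refine ⟨monoCo0 σ σ.2 (mset m) (mem_supports_iff.2 ⟨m, hm.1, rfl⟩) * g, Subtype.ext ?_⟩
  rw [mul_smul, monoCo0_smul]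
  funext i
  have h := hsum ((σ : Equiv.Perm GolayPt).symm i)
  have hi1 : (σ : Equiv.Perm GolayPt).symm i = pt 23 ↔ i = pt 23 := by
    rw [Equiv.symm_apply_eq, show (σ : Equiv.Perm GolayPt) (pt 23) = pt 23 from hσ2]
  have hi2 : (σ : Equiv.Perm GolayPt).symm i = j ↔ i = pt 0 := by
    rw [Equiv.symm_apply_eq, show (σ : Equiv.Perm GolayPt) j = pt 0 from hσ1]
  simp only [Pi.single_apply, hi1, hi2] at h
  simp only [signedPerm, min44, Pi.add_apply, Pi.single_apply]
  have h023 : pt 0 ≠ pt 23 := by decide +kernel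
  by_cases a : i = pt 0
  · subst a
    simp only [h023, if_true, if_false] at h ⊢
    rcases hs with rfl | rfl
    · rw [if_neg (fun e => hm.2.1.1 e rfl)]; omega
    · rw [if_pos (hm.2.1.2 (by norm_num))]; omega
  · by_cases b : i = pt 23
    · subst b
      simp only [Ne.symm h023, if_true, if_false] at h ⊢
      rw [if_neg hm.2.2]; omega
    · simp only [a, b, if_false] at h ⊢
      split_ifs <;> omega

theorem co0_trans32 {v w : leechLattice} (hv : sqNorm (v : GolayPt → ℤ) = 32)
    (hw : sqNorm (w : GolayPt → ℤ) = 32) : ∃ g : Co0, g • v = w := by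
  obtain ⟨g, hg⟩ := co0_to_min44 hv
  obtain ⟨k, hk⟩ := co0_to_min44 hw
  exact ⟨k⁻¹ * g, by rw [mul_smul, hg, ← hk, inv_smul_smul]⟩

end CfsgLib.Golay
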