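import Cfsg.Agent.Lib.Golay.Co0Five
import Cfsg.Agent.Lib.Golay.Co0Pair

/-! Kernel search for lattice vectors of sum of squares 32 that are constant on prescribed sets. -/

set_option autoImplicit false
set_option maxRecDepth 100000

namespace CfsgLib.Golay.FixSearch

open Cfsg CfsgLib.Golay

/-- The mask of the indices below `n` satisfying `p`. -/
def maskOf (p : ℕ → Bool) : ℕ → ℕ
  | 0 => 0
  | n + 1 => if p n then maskOf p n ||| 2 ^ n else maskOf p n

theorem maskOf_testBit (p : ℕ → Bool) : ∀ n i, (maskOf p n).testBit i = (decide (i < n) && p i) := by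
  intro n
  induction n with
  | zero => intro i; simp [maskOf]
  | succ n ih =>
    intro i
    by_cases hi : i = n
    · subst hi
      cases hp : p i <;> simp [maskOf, hp, ih, Nat.testBit_or]
    · have e : (decide (i ≤ n) : Bool) = decide (i < n) := by
        simp only [decide_eq_decide]; omega
      cases hp : p n <;> simp [maskOf, hp, ih, Nat.testBit_or, Nat.testBit_two_pow, Ne.symm hi, e]

theorem maskOf_lt (p : ℕ → Bool) : maskOf p 24 < 16777216 := by
  refine Nat.lt_pow_two_of_testBit _ (n := 24) fun i hi => ?_
  rw [maskOf_testBit]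
  simp [show ¬ i < 24 by omega]

theorem mset_maskOf (q : GolayPt → Prop) [DecidablePred q] (p : ℕ → Bool)
    (h : ∀ i < 24, p i = decide (q (pt i))) : mset (maskOf p 24) = Finset.univ.filter q := by
  ext x
  rw [mem_mset, maskOf_testBit, Finset.mem_filter]
  simp [idx_lt, h _ (idx_lt x), pt_idx]

theorem isCode_of_filter (q : GolayPt → Prop) [DecidablePred q] (p : ℕ → Bool)
    (h : ∀ i < 24, p i = decide (q (pt i)))
    (hc : Finset.univ.filter q ∈ supports (golayCode : Set (GolayPt → ZMod 2))) :
    isCode (maskOf p 24) = true := by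
  rw [← mset_maskOf q p h, mset_mem_supports_iff (maskOf_lt p)] at hc
  exact hc

/-- The vector with the listed values. -/
def valL (x : List ℤ) (p : GolayPt) : ℤ := x.getD (idx p) 0

/-- The sum of a list. -/
def sumL : List ℤ → ℤ
  | [] => 0
  | a :: l => a + sumL l

theorem sum_range (f : ℕ → ℤ) : sumL ((List.range 24).map f) = ∑ i, f (idx i) := by
  have e : ∀ l : List ℕ, sumL (l.map f) = (l.map f).sum := fun l => by
    induction l with
    | nil => rfl
    | cons a l ih => simp [sumL, ih]
  rw [e, show ((List.range 24).map f).sum = ∑ i ∈ Finset.range 24, f i from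
    (List.sum_toFinset f List.nodup_range).symm.trans (by rw [List.toFinset_range]),
    Finset.sum_range]
  exact Finset.sum_bij' (fun i _ => pt i) (fun p _ => ⟨idx p, idx_lt p⟩)
    (fun _ _ => Finset.mem_univ _) (fun _ _ => Finset.mem_univ _)
    (fun i _ => Fin.ext (idx_pt i.2)) (fun p _ => pt_idx p)
    (fun i _ => by rw [idx_pt i.2])

/-- Membership of the lattice, in one direction. -/
def leechB (x : List ℤ) : Bool :=
  bif x.getD 0 0 % 2 == 0 then
    (List.range 24).all (fun i => x.getD i 0 % 2 == 0) &&
      isCode (maskOf (fun i => x.getD i 0 / 2 % 2 == 1) 24) &&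
      sumL ((List.range 24).map fun i => x.getD i 0 / 2) % 4 == 0
  else
    (List.range 24).all (fun i => x.getD i 0 % 2 == 1) &&
      isCode (maskOf (fun i => x.getD i 0 % 4 == 3) 24) &&
      (sumL ((List.range 24).map fun i => x.getD i 0) - 4) % 8 == 0

theorem leechB_sound {x : List ℤ} {y : GolayPt → ℤ} (h : ∀ i, y i = valL x i)
    (hy : y ∈ leechLattice) : leechB x = true := by
  classical
  have hv : ∀ i < 24, x.getD i 0 = y (pt i) := fun i hi => by rw [h, valL, idx_pt hi]
  rcases parity_cases hy with hev | hodd
  · have h0 : x.getD 0 0 % 2 = 0 := by rw [hv 0 (by norm_num)]; exact hev _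
    let a : GolayPt → ℤ := fun i => y i / 2
    obtain ⟨hc, hs⟩ := (even_mem_iff (a := a)).1 (by
      convert hy using 1; funext i; have := hev i; simp only [a]; omega)
    have hc' : isCode (maskOf (fun i => x.getD i 0 / 2 % 2 == 1) 24) = true := by
      refine isCode_of_filter (fun i => a i % 2 = 1) _ (fun i hi => ?_) ?_
      · simp only [hv i hi, a]; exact beq_eq_decide _ _
      · have e : (Finset.univ.filter fun i => a i % 2 = 1) = support₂ (mod2 a) := by
          ext i
          simp only [mem_support_mod2, Finset.mem_filter, Finset.mem_univ, true_and]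
        rw [e]
        exact ⟨_, hc, rfl⟩
    have hs' : sumL ((List.range 24).map fun i => x.getD i 0 / 2) % 4 = 0 := by
      rw [sum_range]
      have : ∀ i, x.getD (idx i) 0 / 2 = a i := fun i => by
        rw [hv _ (idx_lt i), pt_idx]
      simp only [this]
      exact Int.emod_eq_zero_of_dvd hs
    have hall : (List.range 24).all (fun i => x.getD i 0 % 2 == 0) = true :=
      List.all_eq_true.2 fun i hi => by
        rw [hv i (List.mem_range.1 hi), beq_iff_eq]; exact hev _
    simp only [leechB, beq_iff_eq.2 h0, cond_true, hc', hall, beq_iff_eq.2 hs', Bool.and_true]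
  · have h0 : (x.getD 0 0 % 2 == 0) = false := by
      rw [hv 0 (by norm_num), hodd]; rfl
    obtain ⟨hc, hs⟩ := (odd_mem_iff hodd).1 hy
    have hc' : isCode (maskOf (fun i => x.getD i 0 % 4 == 3) 24) = true :=
      isCode_of_filter (fun i => y i % 4 = 3) _
        (fun i hi => by simp only [hv i hi]; exact beq_eq_decide _ _) hc
    have hs' : (sumL ((List.range 24).map fun i => x.getD i 0) - 4) % 8 = 0 := by
      rw [sum_range]
      have : ∀ i, x.getD (idx i) 0 = y i := fun i => by rw [hv _ (idx_lt i), pt_idx]
      simp only [this]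
      exact Int.emod_eq_zero_of_dvd hs
    have hall : (List.range 24).all (fun i => x.getD i 0 % 2 == 1) = true :=
      List.all_eq_true.2 fun i hi => by
        rw [hv i (List.mem_range.1 hi), beq_iff_eq]; exact hodd _
    simp only [leechB, h0, cond_false, hc', hall, beq_iff_eq.2 hs', Bool.and_true]

/-- The entries that may occur. -/
def entries : List ℤ := [-5, -4, -3, -2, -1, 0, 1, 2, 3, 4, 5]

/-- The sum of `f i` over the bits of `m` below 24. -/
def bitsum (m : ℕ) (f : ℕ → ℤ) : ℤ :=
  sumL ((List.range 24).map fun i => bif m.testBit i then f i else 0)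

/-- The number of bits of `m` below 24. -/
def cnt (m : ℕ) : ℤ := bitsum m fun _ => 1

/-- The values at the extra point and at `0`, given the sum `S` over the other points and the two
prescribed products. -/
def tailVals (d S rem : ℤ) : List (List ℤ) :=
  bif (-8 - d / 4 - S) % 4 == 0 then
    bif ((-8 - d / 4 - S) / 4) * ((-8 - d / 4 - S) / 4) +
        (d / 4 - (-8 - d / 4 - S) / 4) * (d / 4 - (-8 - d / 4 - S) / 4) == rem then
      [[(-8 - d / 4 - S) / 4, d / 4 - (-8 - d / 4 - S) / 4]] else []
  else []

/-- Values on sets of the given sizes. -/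
def valuesAux (d : ℤ) : List ℤ → ℤ → ℤ → List (List ℤ)
  | [], S, rem => tailVals d S rem
  | c :: cs, S, rem => entries.flatMap fun v =>
      bif decide (c * (v * v) ≤ rem) then
        (valuesAux d cs (S + c * v) (rem - c * (v * v))).map (v :: ·) else []

/-- The vector with value `vs` on the sets `O`. -/
def buildL (O : List ℕ) (vs : List ℤ) : List ℤ :=
  (List.range 24).map fun i => sumL ((O.zip vs).map fun p => bif p.1.testBit i then p.2 else 0)

/-- The mask of the extra point and the mask of `0`. -/
def tailSets : List ℕ := [8388608, 1]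

/-- All candidates constant on the sets `O` of sizes `cs`, on `{∞}` and on `{0}`. -/
def search (d : ℤ) (O : List ℕ) (cs : List ℤ) : List (List ℤ) :=
  ((valuesAux d cs 0 32).map (buildL (O ++ tailSets))).filter leechB

/-- The sets are disjoint and cover the 24 indices. -/
def partB (O : List ℕ) : Bool :=
  (List.range 24).all fun i => Nat.beq (O.filter fun m => m.testBit i).length 1

theorem sumL_append (a b : List ℤ) : sumL (a ++ b) = sumL a + sumL b := by
  induction a with
  | nil => simp [sumL]
  | cons x a ih => simp [sumL, ih, add_assoc]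

/-- The weighted sum of squares of the values. -/
def wsum : List ℕ → List ℤ → ℤ
  | m :: O, v :: vs => cnt m * (v * v) + wsum O vs
  | _, _ => 0

theorem cnt_nonneg (m : ℕ) : 0 ≤ cnt m := by
  rw [cnt, bitsum, sum_range]
  exact Finset.sum_nonneg fun p _ => by cases m.testBit (idx p) <;> simp

/-- The weighted sum of the values. -/
def lsum : List ℕ → List ℤ → ℤ
  | m :: O, v :: vs => cnt m * v + lsum O vs
  | _, _ => 0

theorem wsum_nonneg : ∀ (O : List ℕ) (vs : List ℤ), 0 ≤ wsum O vs
  | [], _ => le_rfl
  | _ :: _, [] => le_rfl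
  | _ :: O, _ :: vs => add_nonneg (mul_nonneg (cnt_nonneg _) (mul_self_nonneg _)) (wsum_nonneg O vs)

theorem valuesAux_mem {d a b : ℤ} (hd : d = 4 * a + 4 * b) : ∀ (O : List ℕ) (vs : List ℤ) (S rem : ℤ),
    vs.length = O.length → (∀ v ∈ vs, v ∈ entries) → wsum O vs + (a * a + b * b) = rem →
    S + lsum O vs + 5 * a + b = -8 → vs ++ [a, b] ∈ valuesAux d (O.map cnt) S rem := by
  intro O
  induction O with
  | nil =>
    intro vs S rem h _ hs hl
    obtain rfl := List.eq_nil_of_length_eq_zero h
    simp only [wsum, lsum, zero_add, add_zero] at hs hl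
    have e1 : (-8 - d / 4 - S) % 4 = 0 := by omega
    have e2 : (-8 - d / 4 - S) / 4 = a := by omega
    have e3 : d / 4 - a = b := by omega
    simp [valuesAux, tailVals, e1, e2, e3, hs]
  | cons m O ih =>
    intro vs S rem h he hs hl
    rcases vs with _ | ⟨v, vs⟩
    · simp at h
    simp only [wsum] at hs
    simp only [lsum] at hl
    have hrest := wsum_nonneg O vs
    have := mul_self_nonneg a
    have := mul_self_nonneg b
    simp only [List.map_cons, valuesAux, List.mem_flatMap]
    refine ⟨v, he v (List.mem_cons_self ..), ?_⟩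
    rw [decide_eq_true (by omega : cnt m * (v * v) ≤ rem), cond_true, List.mem_map]
    exact ⟨vs ++ [a, b], ih vs _ _ (by simpa using h) (fun u hu => he u (List.mem_cons_of_mem _ hu))
      (by omega) (by omega), rfl⟩

theorem search_sound {y : GolayPt → ℤ} (hy : y ∈ leechLattice) (hn : sqNorm y = 32) {d : ℤ}
    (h5 : dotInt (fiveV : GolayPt → ℤ) y = -8) (hd : dotInt (min44 : GolayPt → ℤ) y = d)
    (O₀ : List ℕ) (cs : List ℤ) (hcs : cs = O₀.map cnt) (hp : partB (O₀ ++ tailSets) = true)
    (hc₀ : ∀ m ∈ O₀, ∃ v, ∀ i < 24, m.testBit i = true → y (pt i) = v) :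
    ∃ l ∈ search d O₀ cs, ∀ i, y i = valL l i := by
  classical
  set O := O₀ ++ tailSets with hO
  have hbits : ∀ i < 24, ((8388608 : ℕ).testBit i = true → i = 23) ∧ ((1 : ℕ).testBit i = true → i = 0) := by
    decide +kernel
  have hc : ∀ m ∈ O, ∃ v, ∀ i < 24, m.testBit i = true → y (pt i) = v := by
    intro m hm
    simp only [hO, List.mem_append, tailSets, List.mem_cons, List.not_mem_nil, or_false] at hm
    rcases hm with hm | rfl | rfl
    · exact hc₀ m hm
    · exact ⟨y (pt 23), fun i hi hb => by rw [(hbits i hi).1 hb]⟩
    · exact ⟨y (pt 0), fun i hi hb => by rw [(hbits i hi).2 hb]⟩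
  -- the value on a set: the value at one of its bits
  let val : ℕ → ℤ := fun m =>
    if h : ∃ i < 24, m.testBit i = true then y (pt h.choose) else 0
  have hval : ∀ m ∈ O, ∀ i < 24, m.testBit i = true → y (pt i) = val m := by
    intro m hm i hi hb
    obtain ⟨v, hv⟩ := hc m hm
    have h : ∃ i < 24, m.testBit i = true := ⟨i, hi, hb⟩
    simp only [val, dif_pos h]
    rw [hv i hi hb, hv _ h.choose_spec.1 h.choose_spec.2]
  have hent : ∀ m ∈ O, val m ∈ entries := by
    intro m hm
    by_cases h : ∃ i < 24, m.testBit i = true
    · have := abs_entry_le (B := 5) (by norm_num) (by norm_num) hn (pt h.choose)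
      have e : val m = y (pt h.choose) := by simp only [val, dif_pos h]
      rw [← e] at this
      obtain ⟨h1, h2⟩ := this
      generalize val m = v at h1 h2 ⊢
      interval_cases v <;> simp [entries]
    · simp [val, dif_neg h, entries]
  simp only [partB, List.all_eq_true, List.mem_range] at hp
  have hone : ∀ (f : ℤ → ℤ) (p : GolayPt),
      sumL ((O.map fun m => bif m.testBit (idx p) then f (val m) else 0)) = f (y p) := by
    intro f p
    have hlen : (O.filter fun m => m.testBit (idx p)).length = 1 :=
      Nat.eq_of_beq_eq_true (hp _ (idx_lt p))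
    have gen : ∀ l : List ℕ, (∀ m ∈ l, m ∈ O) →
        sumL (l.map fun m => bif m.testBit (idx p) then f (val m) else 0) =
          (l.filter fun m => m.testBit (idx p)).length * f (y p) := by
      intro l
      induction l with
      | nil => intro _; simp [sumL]
      | cons m l ih =>
        intro hl
        have ih' := ih fun u hu => hl u (List.mem_cons_of_mem _ hu)
        cases hb : m.testBit (idx p)
        · simp [sumL, hb, ih']
        · have e := hval m (hl m (List.mem_cons_self ..)) (idx p) (idx_lt p) hb
          rw [pt_idx] at e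
          simp [sumL, hb, ih', e]; ring
    rw [gen O fun _ h => h, hlen]; simp
  have hw : ∀ l : List ℕ, wsum l (l.map val) =
      ∑ p : GolayPt, sumL (l.map fun m => bif m.testBit (idx p) then val m * val m else 0) := by
    intro l
    induction l with
    | nil => simp [wsum, sumL]
    | cons m l ih =>
      simp only [List.map_cons, wsum, sumL, Finset.sum_add_distrib, ← ih, cnt, bitsum, sum_range,
        Finset.sum_mul]
      congr 1
      exact Finset.sum_congr rfl fun p _ => by cases m.testBit (idx p) <;> simp
  have hbuild : ∀ i, y i = valL (buildL O (O.map val)) i := by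
    intro p
    rw [valL, buildL, List.getD_eq_getElem _ _ (by simpa using idx_lt p)]
    simp only [List.getElem_map, List.getElem_range]
    refine (hone id p).symm.trans ?_
    congr 1
    clear hp hone hw hent hval hc
    induction O with
    | nil => rfl
    | cons m O ih =>
      rw [List.map_cons, List.map_cons, List.zip_cons_cons, List.map_cons, ih]
      rfl
  have hl : ∀ l : List ℕ, lsum l (l.map val) =
      ∑ p : GolayPt, sumL (l.map fun m => bif m.testBit (idx p) then val m else 0) := by
    intro l
    induction l with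
    | nil => simp [lsum, sumL]
    | cons m l ih =>
      simp only [List.map_cons, lsum, sumL, Finset.sum_add_distrib, ← ih, cnt, bitsum, sum_range,
        Finset.sum_mul]
      congr 1
      exact Finset.sum_congr rfl fun p _ => by cases m.testBit (idx p) <;> simp
  have hw' : wsum O (O.map val) = 32 := by
    rw [hw, ← hn, sqNorm]
    exact Finset.sum_congr rfl fun p _ => (hone (fun t => t * t) p).trans (sq _).symm
  have hl' : lsum O (O.map val) = ∑ p, y p := by
    rw [hl]; exact Finset.sum_congr rfl fun p _ => hone id p
  have w_app : ∀ (A B : List ℕ), wsum (A ++ B) ((A ++ B).map val) =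
      wsum A (A.map val) + wsum B (B.map val) ∧
      lsum (A ++ B) ((A ++ B).map val) = lsum A (A.map val) + lsum B (B.map val) := by
    intro A B
    induction A with
    | nil => simp [wsum, lsum]
    | cons m A ih =>
      simp only [List.cons_append, List.map_cons, wsum, lsum, ih.1, ih.2, add_assoc, and_self]
  have c1 : cnt 8388608 = 1 ∧ cnt 1 = 1 := by decide +kernel
  have va : val 8388608 = y pinf := (hval _ (by simp [hO, tailSets]) 23 (by norm_num) (by decide +kernel)).symm
  have vb : val 1 = y pz := (hval _ (by simp [hO, tailSets]) 0 (by norm_num) (by decide +kernel)).symm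
  rw [hO, (w_app _ _).1] at hw'
  rw [hO, (w_app _ _).2] at hl'
  simp only [tailSets, List.map_cons, List.map_nil, wsum, lsum, c1.1, c1.2, va, vb, one_mul,
    add_zero] at hw' hl'
  rw [dot_five] at h5
  rw [dot_min44] at hd
  refine ⟨buildL O (O.map val), List.mem_filter.2 ⟨List.mem_map_of_mem ?_,
    leechB_sound hbuild hy⟩, hbuild⟩
  rw [hO, List.map_append, hcs]
  simp only [tailSets, List.map_cons, List.map_nil, va, vb]
  refine valuesAux_mem hd.symm O₀ _ 0 32 (by simp) (fun v hv => ?_) hw' (by omega)
  obtain ⟨m, hm, rfl⟩ := List.mem_map.1 hv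
  exact hent m (by simp [hO, hm])

/-- The set of `m` is covered by the powers of `g` applied to one of its points. -/
def cycB (g m : ℕ) : Bool :=
  (List.range 24).any fun r => (List.range 24).all fun i =>
    !m.testBit i || (List.range 24).any fun k => Nat.beq (imgIter g k r) i

theorem constant_on_cycle {g m : ℕ} (hg : valid g = true) (hc : cycB g m = true) {y : GolayPt → ℤ}
    (hy : ∀ p, y (permOf g p) = y p) : ∃ v, ∀ i < 24, m.testBit i = true → y (pt i) = v := by
  simp only [cycB, List.any_eq_true, List.all_eq_true, List.mem_range, Bool.or_eq_true,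
    Bool.not_eq_true'] at hc
  obtain ⟨r, hr, hall⟩ := hc
  refine ⟨y (pt r), fun i hi hb => ?_⟩
  rcases hall i hi with h | ⟨k, -, hk⟩
  · rw [h] at hb; exact absurd hb (by decide)
  · have hn : ∀ n, y ((permOf g ^ n) (pt r)) = y (pt r) := fun n => by
      induction n with
      | zero => rfl
      | succ n ih => rw [pow_succ', Equiv.Perm.mul_apply, hy, ih]
    have := hn k
    rwa [(imgIter_spec hg k hr).1, Nat.eq_of_beq_eq_true hk] at this

theorem fixed_mem_list {g : ℕ} {O : List ℕ} {cs : List ℤ} (hg : valid g = true)
    (hO : (O.all fun m => cycB g m) = true) (hp : partB (O ++ tailSets) = true)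
    (hcs : cs = O.map cnt) {d : ℤ} {y : leechLattice} (hn : sqNorm (y : GolayPt → ℤ) = 32)
    (h5 : dotInt (fiveV : GolayPt → ℤ) y = -8) (hd : dotInt (min44 : GolayPt → ℤ) y = d)
    (hy : ∀ p, (y : GolayPt → ℤ) (permOf g p) = (y : GolayPt → ℤ) p)
    {L : List (List ℤ)} (hL : search d O cs = L) :
    ∃ l ∈ L, (y : GolayPt → ℤ) = valL l := by
  rw [← hL]
  obtain ⟨l, hl, e⟩ := search_sound y.2 hn h5 hd O cs hcs hp
    (fun m hm => constant_on_cycle hg (List.all_eq_true.1 hO m hm) hy)
  exact ⟨l, hl, funext e⟩

end CfsgLib.Golay.FixSearch
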