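import Cfsg.Agent.Lib.Golay.OctadAction
import Cfsg.Agent.Lib.Mathieu.ListData

/-!
Sets of points invariant under a subgroup of `M24` containing elements of order 5 or 7, and
orders of the stabilisers that occur.
-/

set_option autoImplicit false
set_option maxRecDepth 100000

namespace CfsgLib.Golay

open Cfsg CfsgLib.Mathieu
open scoped Pointwise

/-- The fixed points of an element. -/
def fixPts (g : M24) : Finset GolayPt := Finset.univ.filter fun p => g • p = p

theorem card_five_stab (x : Fin 5 ↪ GolayPt) :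
    Nat.card (MulAction.stabilizer M24 x) = 48 := by
  have h1 := Nat.card_congr (MulAction.orbitProdStabilizerEquivGroup M24 x)
  have hu : MulAction.orbit M24 x = Set.univ :=
    Set.eq_univ_of_forall fun y => M24_five_trans x y
  rw [Nat.card_prod, Nat.card_coe_set_eq, card_M24] at h1
  have h2 : (MulAction.orbit M24 x).ncard =
      (Fintype.card GolayPt).descFactorial (Fintype.card (Fin 5)) := by
    rw [hu, Set.ncard_univ, Nat.card_eq_fintype_card, Fintype.card_embedding_eq]
  erw [h2] at h1
  have hd : (Fintype.card GolayPt).descFactorial (Fintype.card (Fin 5)) = 5100480 := by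
    rw [show Fintype.card GolayPt = 24 by simp, Fintype.card_fin]; decide +kernel
  rw [hd] at h1
  omega

/-- An element of order 5 or 7 fixes at most four points. -/
theorem fixPts_le_four {g : M24} {p : ℕ} (hg : orderOf g = p) (hp : ¬ p ∣ 48) :
    (fixPts g).card ≤ 4 := by
  by_contra h
  push Not at h
  obtain ⟨s, hs, h5⟩ := Finset.exists_subset_card_eq (show 5 ≤ (fixPts g).card by omega)
  let x : Fin 5 ↪ GolayPt :=
    ((finCongr h5.symm).trans s.equivFin.symm).toEmbedding.trans (Function.Embedding.subtype _)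
  have hmem : g ∈ MulAction.stabilizer M24 x := by
    refine MulAction.mem_stabilizer_iff.2 (DFunLike.ext _ _ fun i => ?_)
    exact (Finset.mem_filter.1 (hs ((((finCongr h5.symm).trans s.equivFin.symm) i).2))).2
  have := orderOf_dvd_natCard (⟨g, hmem⟩ : MulAction.stabilizer M24 x)
  rw [← Subgroup.orderOf_coe, hg, card_five_stab] at this
  exact hp this

/-- An invariant set and the fixed points in it are congruent. -/
theorem invariant_modEq {g : M24} {p : ℕ} [hp : Fact p.Prime] (hg : g ^ p = 1)
    {U : Finset GolayPt} (hU : g • U = U) :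
    U.card ≡ (U ∩ fixPts g).card [MOD p] := by
  classical
  have hmem : ∀ x, g • x ∈ U ↔ x ∈ U := fun x => by
    conv_lhs => rw [← hU]
    exact Finset.smul_mem_smul_finset_iff g
  let σ : Equiv.Perm {x // x ∈ U} := (g : Equiv.Perm GolayPt).subtypePerm hmem
  have hσ : σ ^ p ^ 1 = 1 := by
    refine Equiv.ext fun x => Subtype.ext ?_
    rw [pow_one, Equiv.Perm.subtypePerm_pow]
    have := congrArg (fun h : M24 => (h : Equiv.Perm GolayPt) x.1) hg
    simpa using this
  have h := (Equiv.Perm.card_compl_support_modEq hσ).symm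
  rw [Fintype.card_coe] at h
  have e : σ.supportᶜ.map (Function.Embedding.subtype _) = U ∩ fixPts g := by
    ext x
    simp only [Finset.mem_map, Finset.mem_compl, Equiv.Perm.mem_support, not_not,
      Function.Embedding.coe_subtype, Finset.mem_inter, fixPts, Finset.mem_filter,
      Finset.mem_univ, true_and]
    constructor
    · rintro ⟨⟨y, hy⟩, hfix, rfl⟩
      exact ⟨hy, congrArg Subtype.val hfix⟩
    · rintro ⟨hx, hfix⟩
      exact ⟨⟨x, hx⟩, Subtype.ext hfix, rfl⟩
  rwa [← e, Finset.card_map]

theorem fixPts_card_mod {g : M24} {p : ℕ} [Fact p.Prime] (hg : g ^ p = 1) :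
    (fixPts g).card ≡ 24 [MOD p] := by
  have h := invariant_modEq hg (U := Finset.univ) Finset.smul_finset_univ
  rw [Finset.card_univ, Finset.univ_inter, show Fintype.card GolayPt = 24 by simp] at h
  exact h.symm

theorem seven_fix {g : M24} (hg : orderOf g = 7) : (fixPts g).card = 3 := by
  haveI : Fact (Nat.Prime 7) := ⟨by norm_num⟩
  have h1 := fixPts_le_four hg (by norm_num)
  have h2 : (fixPts g).card % 7 = 24 % 7 := fixPts_card_mod (hg ▸ pow_orderOf_eq_one g)
  omega

theorem five_fix {g : M24} (hg : orderOf g = 5) : (fixPts g).card = 4 := by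
  haveI : Fact (Nat.Prime 5) := ⟨by norm_num⟩
  have h1 := fixPts_le_four hg (by norm_num)
  have h2 : (fixPts g).card % 5 = 24 % 5 := fixPts_card_mod (hg ▸ pow_orderOf_eq_one g)
  omega

theorem fix_of_mem_inf {g : M24} {x : GolayPt} (h : g • x = x) : x ∈ fixPts g :=
  Finset.mem_filter.2 ⟨Finset.mem_univ _, h⟩

/-- In a subgroup fixing the points of `F`, an invariant set avoiding `F` is congruent modulo `p`
to at most the remaining fixed points of an element of order `p`. -/
theorem invariant_bound {H : Subgroup M24} {g : M24} {p : ℕ} [Fact p.Prime] (hgH : g ∈ H)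
    (hg : orderOf g = p) {F U : Finset GolayPt} (hF : ∀ x ∈ F, ∀ h ∈ H, h • x = x)
    (hU : ∀ h ∈ H, h • U = U) (hdis : Disjoint U F) :
    U.card % p + F.card ≤ (fixPts g).card := by
  have h1 : U.card % p = (U ∩ fixPts g).card % p :=
    invariant_modEq (hg ▸ pow_orderOf_eq_one g) (hU g hgH)
  have hle : (U ∩ fixPts g).card + F.card ≤ (fixPts g).card := by
    rw [← Finset.card_union_of_disjoint (Finset.disjoint_left.2 fun x hx hx' =>
      Finset.disjoint_left.1 hdis (Finset.mem_inter.1 hx).1 hx')]
    refine Finset.card_le_card (Finset.union_subset Finset.inter_subset_right fun x hx => ?_)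
    exact fix_of_mem_inf (hF x hx g hgH)
  have := Nat.mod_le (U ∩ fixPts g).card p
  omega

/-! ### Seven and eight element sets -/

theorem seven_check : ((List.range 24).all fun a => (List.range 24).all fun b =>
    Nat.blt a 5 || Nat.ble b a || octLit.any fun o =>
      Nat.ble 6 (pop (Nat.land o (Nat.lor 31 (Nat.lor (Nat.shiftLeft 1 a) (Nat.shiftLeft 1 b)))))) =
      true := by
  decide +kernel

/-- Seven points have six in an octad. -/
theorem seven_in_octad {S : Finset GolayPt} (hS : S.card = 7) :
    ∃ o ∈ octads, 6 ≤ (o ∩ S).card := by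
  classical
  obtain ⟨s, hs, h5⟩ := Finset.exists_subset_card_eq (show 5 ≤ S.card by omega)
  let x : Fin 5 ↪ GolayPt :=
    ((finCongr h5.symm).trans s.equivFin.symm).toEmbedding.trans (Function.Embedding.subtype _)
  obtain ⟨g, hg⟩ := M24_five_trans x ⟨fun i : Fin 5 => pt i.val, by decide +kernel⟩
  have hs31 : g • s = mset 31 := by
    refine Finset.eq_of_subset_of_card_le (fun q hq => ?_)
      (by rw [Finset.card_smul_finset, h5, card_mset]; decide +kernel)
    obtain ⟨p, hp, rfl⟩ := Finset.mem_smul_finset.1 hq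
    have h := DFunLike.congr_fun hg (((finCongr h5.symm).trans s.equivFin.symm).symm ⟨p, hp⟩)
    rw [Function.Embedding.smul_apply] at h
    have e : x (((finCongr h5.symm).trans s.equivFin.symm).symm ⟨p, hp⟩) = p := by simp [x]
    rw [e] at h
    rw [h]
    exact (show ∀ i : Fin 5, pt i.val ∈ mset 31 by decide +kernel) _
  have h2 : ((g • S) \ mset 31).card = 2 := by
    rw [← hs31, ← Finset.smul_finset_sdiff, Finset.card_smul_finset,
      Finset.card_sdiff_of_subset hs, hS, h5]
  obtain ⟨a, b, hab, he⟩ := Finset.card_eq_two.1 h2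
  have key : ∀ u v : GolayPt, u ∈ (g • S) \ mset 31 → idx u < idx v →
      g • S = mset 31 ∪ {u, v} → ∃ o ∈ octads, 6 ≤ (o ∩ g • S).card := by
    intro u v hu huv hgS
    have h := seven_check
    simp only [List.all_eq_true, List.mem_range, Bool.or_eq_true, List.any_eq_true] at h
    rcases h _ (idx_lt u) _ (idx_lt v) with (e | e) | ⟨o, ho, e⟩
    · exfalso
      refine (Finset.mem_sdiff.1 hu).2 ?_
      rw [mem_mset]
      have h5' : idx u < 5 := Nat.le_of_ble_eq_true e
      generalize idx u = n at h5'
      interval_cases n <;> decide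
    · have := Nat.le_of_ble_eq_true e
      omega
    · rw [← octList_lit] at ho
      refine ⟨mset o, mem_octads_iff.2 ⟨o, ho, rfl⟩, ?_⟩
      refine (Nat.le_of_ble_eq_true e).trans (le_of_eq ?_)
      rw [← card_mset, hgS]
      show (mset (o &&& (31 ||| (Nat.shiftLeft 1 (idx u) ||| Nat.shiftLeft 1 (idx v))))).card = _
      rw [mset_and, mset_or, mset_or]
      show (mset o ∩ (mset 31 ∪ (mset (1 <<< idx u) ∪ mset (1 <<< idx v)))).card = _
      rw [Nat.one_shiftLeft, Nat.one_shiftLeft, mset_two_pow (idx_lt u), mset_two_pow (idx_lt v),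
        pt_idx, pt_idx]
      congr 1
  have hgS : g • S = mset 31 ∪ {a, b} := by
    rw [← he, Finset.union_sdiff_of_subset]
    rw [← hs31]; exact Finset.smul_finset_subset_smul_finset hs
  obtain ⟨o, ho, h6⟩ : ∃ o ∈ octads, 6 ≤ (o ∩ g • S).card := by
    rcases Nat.lt_or_gt_of_ne (fun h => hab (idx_injective h)) with h | h
    · exact key a b (by rw [he]; simp) h hgS
    · exact key b a (by rw [he]; simp) h (by rw [hgS, Finset.pair_comm])
  refine ⟨g⁻¹ • o, M24_smul_octad (g⁻¹).2 ho, ?_⟩
  rw [← inv_smul_smul g S, ← Finset.smul_finset_inter, Finset.card_smul_finset]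
  exact h6

/-- A set of seven points invariant under an element of order seven moving all of them lies in an
octad, and the octad is invariant with it. -/
theorem seven_octad {g : M24} (hg : orderOf g = 7) {U : Finset GolayPt} (hU : g • U = U)
    (h7 : U.card = 7) (hmove : ∀ x ∈ U, g • x ≠ x) :
    ∃ o ∈ octads, U ⊆ o ∧ g • o = o := by
  haveI : Fact (Nat.Prime 7) := ⟨by norm_num⟩
  obtain ⟨o, ho, h6⟩ := seven_in_octad h7
  have hgo : g • o = o := by
    refine octads_eq_of_five (M24_smul_octad g.2 ho) ho ?_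
    have h1 : (g • (o ∩ U)) ∪ (o ∩ U) ⊆ U := by
      refine Finset.union_subset ?_ Finset.inter_subset_right
      rw [Finset.smul_finset_inter, hU]; exact Finset.inter_subset_right
    have h2 := Finset.card_le_card h1
    have h3 := Finset.card_union_add_card_inter (g • (o ∩ U)) (o ∩ U)
    rw [Finset.card_smul_finset, h7] at *
    have h4 : (g • (o ∩ U) ∩ (o ∩ U)).card ≤ (g • o ∩ o).card :=
      Finset.card_le_card (Finset.inter_subset_inter
        (Finset.smul_finset_subset_smul_finset Finset.inter_subset_left) Finset.inter_subset_left)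
    omega
  refine ⟨o, ho, ?_, hgo⟩
  have hinv : g • (o ∩ U) = o ∩ U := by rw [Finset.smul_finset_inter, hgo, hU]
  have hmod : (o ∩ U).card % 7 = ((o ∩ U) ∩ fixPts g).card % 7 :=
    invariant_modEq (hg ▸ pow_orderOf_eq_one g) hinv
  have h0 : ((o ∩ U) ∩ fixPts g) = ∅ := by
    rw [Finset.eq_empty_iff_forall_notMem]
    intro x hx
    simp only [Finset.mem_inter, fixPts, Finset.mem_filter] at hx
    exact hmove x hx.1.2 hx.2.2
  rw [h0, Finset.card_empty] at hmod
  have hle : (o ∩ U).card ≤ 7 := h7 ▸ Finset.card_le_card Finset.inter_subset_right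
  have : (o ∩ U) = U := Finset.eq_of_subset_of_card_le Finset.inter_subset_right (by omega)
  rw [← this]; exact Finset.inter_subset_left

/-! ### Stabiliser orders -/

theorem card_stab_one (x : GolayPt) : Nat.card (MulAction.stabilizer M24 x) = 10200960 := by
  obtain ⟨e⟩ := stab1_equiv x
  rw [Nat.card_congr e.toEquiv, card_fix23]

theorem card_stab_two {x q : GolayPt} (h : x ≠ q) :
    Nat.card ↥(MulAction.stabilizer M24 x ⊓ MulAction.stabilizer M24 q) = 443520 := by
  obtain ⟨e⟩ := stab2_equiv h
  rw [Nat.card_congr e.toEquiv, card_fix22]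

theorem card_stab_three {x q r : GolayPt} (h1 : x ≠ q) (h2 : x ≠ r) (h3 : q ≠ r) :
    Nat.card ↥(MulAction.stabilizer M24 x ⊓ MulAction.stabilizer M24 q ⊓
      MulAction.stabilizer M24 r) = 20160 := by
  obtain ⟨e⟩ := stab3_equiv h1 h2 h3
  rw [Nat.card_congr e.toEquiv, card_fix21]

theorem card_stab_octad {o : Finset GolayPt} (ho : o ∈ octads) :
    Nat.card (MulAction.stabilizer M24 o) = 322560 := by
  obtain ⟨e⟩ := stabO_equiv ho
  rw [Nat.card_congr e.toEquiv, card_fixOct]

theorem card_stab_octad_out {o : Finset GolayPt} (ho : o ∈ octads) {p : GolayPt} (hp : p ∉ o) :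
    Nat.card ↥(MulAction.stabilizer M24 o ⊓ MulAction.stabilizer M24 p) = 20160 := by
  obtain ⟨-, -, ⟨e⟩⟩ := octad_split ho hp
  have h : ↥(MulAction.stabilizer M24 o ⊓ MulAction.stabilizer M24 p) ≃
      ↥(octStab o ⊓ MulAction.stabilizer (Equiv.Perm GolayPt) p) :=
    { toFun := fun σ => ⟨σ.1.1, ⟨σ.1.2, σ.2.1⟩, σ.2.2⟩
      invFun := fun σ => ⟨⟨σ.1, σ.2.1.1⟩, σ.2.1.2, σ.2.2⟩
      left_inv := fun _ => rfl
      right_inv := fun _ => rfl }
  rw [Nat.card_congr h, Nat.card_congr e.toEquiv, nat_card_alternatingGroup, Nat.card_fin]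
  decide +kernel

theorem card_stab_octad_in {o : Finset GolayPt} (ho : o ∈ octads) {p : GolayPt} (hp : p ∈ o) :
    Nat.card ↥(MulAction.stabilizer M24 o ⊓ MulAction.stabilizer M24 p) = 40320 := by
  classical
  set S := MulAction.stabilizer M24 o
  have horb : MulAction.orbit S p = (o : Set GolayPt) := by
    ext q
    constructor
    · rintro ⟨g, rfl⟩
      have h := Finset.smul_mem_smul_finset (a := (g : M24)) hp
      rwa [MulAction.mem_stabilizer_iff.1 g.2] at h
    · intro hq
      obtain ⟨s, hs1, hs⟩ : ∃ s ⊆ o.erase p, s.card = 4 := Finset.exists_subset_card_eq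
        (by rw [Finset.card_erase_of_mem hp, ho.2]; norm_num)
      obtain ⟨t, ht1, ht⟩ : ∃ t ⊆ o.erase q, t.card = 4 := Finset.exists_subset_card_eq
        (by rw [Finset.card_erase_of_mem hq, ho.2]; norm_num)
      have hps : p ∉ s := fun h => (Finset.mem_erase.1 (hs1 h)).1 rfl
      have hqt : q ∉ t := fun h => (Finset.mem_erase.1 (ht1 h)).1 rfl
      let x : Fin 5 → GolayPt := Fin.cons p fun i => ((finCongr hs.symm).trans s.equivFin.symm i).1
      let y : Fin 5 → GolayPt := Fin.cons q fun i => ((finCongr ht.symm).trans t.equivFin.symm i).1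
      have hx : Function.Injective x := Fin.cons_injective_iff.2
        ⟨by rintro ⟨i, hi⟩; exact hps (hi ▸ (((finCongr hs.symm).trans s.equivFin.symm) i).2),
          Subtype.val_injective.comp (Equiv.injective _)⟩
      have hy : Function.Injective y := Fin.cons_injective_iff.2
        ⟨by rintro ⟨i, hi⟩; exact hqt (hi ▸ (((finCongr ht.symm).trans t.equivFin.symm) i).2),
          Subtype.val_injective.comp (Equiv.injective _)⟩
      obtain ⟨g, hg⟩ := M24_five_trans ⟨x, hx⟩ ⟨y, hy⟩
      have hxo : ∀ i, x i ∈ o := Fin.cases hp fun i =>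
        Finset.mem_of_mem_erase (hs1 (((finCongr hs.symm).trans s.equivFin.symm) i).2)
      have hyo : ∀ i, y i ∈ o := Fin.cases hq fun i =>
        Finset.mem_of_mem_erase (ht1 (((finCongr ht.symm).trans t.equivFin.symm) i).2)
      have hgy : ∀ i, g • x i = y i := fun i => by
        have := DFunLike.congr_fun hg i
        rwa [Function.Embedding.smul_apply] at this
      refine ⟨⟨g, ?_⟩, hgy 0⟩
      refine MulAction.mem_stabilizer_iff.2 (octads_eq_of_five (M24_smul_octad g.2 ho) ho ?_)
      calc 5 = (Finset.univ.image y).card := by rw [Finset.card_image_of_injective _ hy]; rfl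
        _ ≤ _ := Finset.card_le_card fun z hz => by
          obtain ⟨i, -, rfl⟩ := Finset.mem_image.1 hz
          exact Finset.mem_inter.2 ⟨hgy i ▸ Finset.smul_mem_smul_finset (hxo i), hyo i⟩
  have h1 := Nat.card_congr (MulAction.orbitProdStabilizerEquivGroup S p)
  rw [Nat.card_prod, Nat.card_coe_set_eq, horb, Set.ncard_coe_finset, ho.2, card_stab_octad ho] at h1
  have e : ↥(MulAction.stabilizer M24 o ⊓ MulAction.stabilizer M24 p) ≃ MulAction.stabilizer S p :=
    { toFun := fun σ => ⟨⟨σ.1, σ.2.1⟩, σ.2.2⟩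
      invFun := fun σ => ⟨σ.1.1, σ.1.2, σ.2⟩
      left_inv := fun _ => rfl
      right_inv := fun _ => rfl }
  rw [Nat.card_congr e]
  omega

theorem card_stab_duad_point {x a b : GolayPt} (h1 : x ≠ a) (h2 : x ≠ b) (h3 : a ≠ b) :
    Nat.card ↥(MulAction.stabilizer M24 ({a, b} : Finset GolayPt) ⊓
      MulAction.stabilizer M24 x) ≤ 40320 := by
  classical
  set S := MulAction.stabilizer M24 ({a, b} : Finset GolayPt) ⊓ MulAction.stabilizer M24 x
  have hsub : MulAction.orbit S a ⊆ (({a, b} : Finset GolayPt) : Set GolayPt) := by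
    rintro _ ⟨g, rfl⟩
    have h := Finset.smul_mem_smul_finset (a := (g : M24)) (show a ∈ ({a, b} : Finset GolayPt) by simp)
    rwa [MulAction.mem_stabilizer_iff.1 g.2.1] at h
  have ho : (MulAction.orbit S a).ncard ≤ 2 := by
    refine (Set.ncard_le_ncard hsub).trans ?_
    rw [Set.ncard_coe_finset]; exact Finset.card_le_two
  have h := Nat.card_congr (MulAction.orbitProdStabilizerEquivGroup S a)
  rw [Nat.card_prod, Nat.card_coe_set_eq] at h
  have hle : Nat.card (MulAction.stabilizer S a) ≤ 20160 := by
    rw [← card_stab_three h1 h2 h3]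
    refine Nat.card_le_card_of_injective (fun σ => ⟨σ.1.1, ⟨σ.1.2.2, σ.2⟩, ?_⟩) fun σ τ e => ?_
    · have hb := Finset.smul_mem_smul_finset (a := σ.1.1)
        (show b ∈ ({a, b} : Finset GolayPt) by simp)
      rw [MulAction.mem_stabilizer_iff.1 σ.1.2.1, Finset.mem_insert, Finset.mem_singleton] at hb
      rcases hb with hb | hb
      · exact absurd (MulAction.injective σ.1.1 (hb.trans (show σ.1.1 • a = a from σ.2).symm))
          (Ne.symm h3)
      · exact hb
    · exact Subtype.ext (Subtype.ext (congrArg (fun z => z.1) e))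
  rw [← h]
  calc _ ≤ 2 * 20160 := Nat.mul_le_mul ho hle
    _ = 40320 := rfl

end CfsgLib.Golay
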