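import Cfsg.Agent.Lib.Golay.InvariantSets

/-!
Subgroups of index 253 in the stabiliser of a point in `M24`.
-/

set_option autoImplicit false

namespace CfsgLib.Golay

open Cfsg CfsgLib.Mathieu
open scoped Pointwise

/-- The orbit of a point under a subgroup of `M24`, as a finset. -/
noncomputable def orbF (H : Subgroup M24) (p : GolayPt) : Finset GolayPt :=
  (Set.toFinite (MulAction.orbit H p)).toFinset

theorem mem_orbF {H : Subgroup M24} {p q : GolayPt} :
    q ∈ orbF H p ↔ ∃ h ∈ H, h • p = q := by
  rw [orbF, Set.Finite.mem_toFinset]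
  exact ⟨fun ⟨g, hg⟩ => ⟨g.1, g.2, hg⟩, fun ⟨h, hh, e⟩ => ⟨⟨h, hh⟩, e⟩⟩

theorem self_mem_orbF (H : Subgroup M24) (p : GolayPt) : p ∈ orbF H p :=
  mem_orbF.2 ⟨1, one_mem _, one_smul _ _⟩

theorem orbF_trans {H : Subgroup M24} {p q r : GolayPt} (hq : q ∈ orbF H p) (hr : r ∈ orbF H p) :
    ∃ h ∈ H, h • q = r := by
  obtain ⟨a, ha, rfl⟩ := mem_orbF.1 hq
  obtain ⟨b, hb, rfl⟩ := mem_orbF.1 hr
  exact ⟨b * a⁻¹, mul_mem hb (inv_mem ha), by rw [mul_smul, inv_smul_smul]⟩

theorem smul_orbF {H : Subgroup M24} {p : GolayPt} {h : M24} (hh : h ∈ H) :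
    h • orbF H p = orbF H p := by
  refine Finset.eq_of_subset_of_card_le (fun q hq => ?_) (by rw [Finset.card_smul_finset])
  obtain ⟨r, hr, rfl⟩ := Finset.mem_smul_finset.1 hq
  obtain ⟨a, ha, rfl⟩ := mem_orbF.1 hr
  exact mem_orbF.2 ⟨h * a, mul_mem hh ha, mul_smul _ _ _⟩

theorem card_orbF_mul (H : Subgroup M24) (p : GolayPt) :
    (orbF H p).card * Nat.card ↥(H ⊓ MulAction.stabilizer M24 p) = Nat.card H := by
  have h := Nat.card_congr (MulAction.orbitProdStabilizerEquivGroup H p)
  rw [Nat.card_prod, Nat.card_coe_set_eq] at h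
  have e : ↥(H ⊓ MulAction.stabilizer M24 p) ≃ MulAction.stabilizer H p :=
    { toFun := fun σ => ⟨⟨σ.1, σ.2.1⟩, σ.2.2⟩
      invFun := fun σ => ⟨σ.1.1, σ.1.2, σ.2⟩
      left_inv := fun _ => rfl
      right_inv := fun _ => rfl }
  rw [orbF, ← Set.ncard_eq_toFinset_card _ _, Nat.card_congr e]
  exact h

theorem card_orbF_dvd (H : Subgroup M24) (p : GolayPt) : (orbF H p).card ∣ Nat.card H :=
  Dvd.intro _ (card_orbF_mul H p)

/-- A subgroup fixes the singletons and unions of invariant sets. -/
theorem smul_compl_of_invariant {H : Subgroup M24} {U : Finset GolayPt}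
    (hU : ∀ h ∈ H, h • U = U) : ∀ h ∈ H, h • (Finset.univ \ U) = Finset.univ \ U := fun h hh => by
  rw [Finset.smul_finset_sdiff, Finset.smul_finset_univ, hU h hh]

theorem exists_orderOf_of_dvd {H : Subgroup M24} {p : ℕ} [Fact p.Prime] (h : p ∣ Nat.card H) :
    ∃ g ∈ H, orderOf g = p := by
  obtain ⟨g, hg⟩ := exists_prime_orderOf_dvd_card' p h
  exact ⟨g.1, g.2, by rw [Subgroup.orderOf_coe, hg]⟩

theorem le_stab_of_invariant {H : Subgroup M24} {U : Finset GolayPt}
    (hU : ∀ h ∈ H, h • U = U) : H ≤ MulAction.stabilizer M24 U := fun h hh =>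
  MulAction.mem_stabilizer_iff.2 (hU h hh)

/-- An invariant set of seven points without fixed point spans an invariant octad. -/
theorem seven_orbit_octad {H : Subgroup M24} {g : M24} (hgH : g ∈ H) (hg : orderOf g = 7)
    {U : Finset GolayPt} (hU : ∀ h ∈ H, h • U = U) (h7 : U.card = 7)
    (hmove : ∀ x ∈ U, g • x ≠ x) :
    ∃ o ∈ octads, U ⊆ o ∧ H ≤ MulAction.stabilizer M24 o := by
  obtain ⟨o, ho, hUo, -⟩ := seven_octad hg (hU g hgH) h7 hmove
  refine ⟨o, ho, hUo, le_stab_of_invariant fun h hh => ?_⟩
  refine octads_eq_of_five (M24_smul_octad h.2 ho) ho ?_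
  calc 5 ≤ U.card := by omega
    _ ≤ _ := Finset.card_le_card (Finset.subset_inter
      ((hU h hh).symm.subset.trans (Finset.smul_finset_subset_smul_finset hUo)) hUo)

theorem card_lt_of_le_octad_out {H : Subgroup M24} {o : Finset GolayPt} (ho : o ∈ octads)
    {p : GolayPt} (hp : p ∉ o) (h1 : H ≤ MulAction.stabilizer M24 o)
    (h2 : H ≤ MulAction.stabilizer M24 p) : Nat.card H ≤ 20160 := by
  rw [← card_stab_octad_out ho hp]
  exact Subgroup.card_le_of_le (le_inf h1 h2)

/-- The orbits of a subgroup of order 40320 fixing a point. -/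
theorem sub40320_orbits {H : Subgroup M24} {x : GolayPt} (hx : H ≤ MulAction.stabilizer M24 x)
    (hc : Nat.card H = 40320) :
    ∃ p, p ≠ x ∧ ((orbF H p).card = 1 ∨ (orbF H p).card = 2 ∨ (orbF H p).card = 7 ∨
      (orbF H p).card = 8) ∧ x ∉ orbF H p := by
  classical
  haveI : Fact (Nat.Prime 7) := ⟨by norm_num⟩
  haveI : Fact (Nat.Prime 5) := ⟨by norm_num⟩
  obtain ⟨g7, h7H, h7⟩ := exists_orderOf_of_dvd (H := H) (p := 7) (by rw [hc]; norm_num)
  obtain ⟨g5, h5H, h5⟩ := exists_orderOf_of_dvd (H := H) (p := 5) (by rw [hc]; norm_num)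
  have hF : ∀ y ∈ ({x} : Finset GolayPt), ∀ h ∈ H, h • y = y := fun y hy h hh => by
    rw [Finset.mem_singleton.1 hy]; exact hx hh
  have hnx : ∀ p, p ≠ x → x ∉ orbF H p := fun p hp hmem => by
    obtain ⟨h, hh, e⟩ := mem_orbF.1 hmem
    have e' : h⁻¹ • x = x := hx (inv_mem hh)
    rw [← e, inv_smul_smul] at e'
    exact hp (e'.trans e)
  have hsize : ∀ p, p ≠ x → (orbF H p).card ∈ [1, 2, 7, 8, 15, 16, 21] := by
    intro p hp
    have hU : ∀ h ∈ H, h • orbF H p = orbF H p := fun h hh => smul_orbF hh
    have hU' : ∀ h ∈ H, h • (orbF H p ∪ {x}) = orbF H p ∪ {x} := fun h hh => by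
      rw [Finset.smul_finset_union, hU h hh, Finset.smul_finset_singleton,
        show h • x = x from hx hh]
    have hd1 : Disjoint (orbF H p) {x} := Finset.disjoint_singleton_right.2 (hnx p hp)
    have hd2 : Disjoint (Finset.univ \ (orbF H p ∪ {x})) {x} :=
      Finset.disjoint_singleton_right.2 (by simp)
    have hn : (Finset.univ \ (orbF H p ∪ {x})).card + ((orbF H p).card + 1) = 24 := by
      have hu : (orbF H p ∪ {x}).card = (orbF H p).card + 1 := by
        rw [Finset.card_union_of_disjoint hd1, Finset.card_singleton]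
      rw [← hu, Finset.card_sdiff_add_card_eq_card (Finset.subset_univ _), Finset.card_univ]
      simp
    have a1 := invariant_bound h7H h7 hF hU hd1
    have a2 := invariant_bound h7H h7 hF (smul_compl_of_invariant hU') hd2
    have a3 := invariant_bound h5H h5 hF hU hd1
    have a4 := invariant_bound h5H h5 hF (smul_compl_of_invariant hU') hd2
    rw [seven_fix h7, Finset.card_singleton] at a1 a2
    rw [five_fix h5, Finset.card_singleton] at a3 a4
    have hd := hc ▸ card_orbF_dvd H p
    have hpos : 0 < (orbF H p).card := Finset.card_pos.2 ⟨p, self_mem_orbF H p⟩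
    generalize (Finset.univ \ (orbF H p ∪ {x})).card = m at hn a2 a4
    generalize (orbF H p).card = n at hn a1 a3 hd hpos
    obtain rfl : m = 23 - n := by omega
    have hn23 : n ≤ 23 := by omega
    interval_cases n <;> first
      | (simp; done)
      | omega
      | (exact absurd hd (by norm_num))
  obtain ⟨q, hq⟩ : ∃ q : GolayPt, q ≠ x := exists_ne x
  by_cases hs : (orbF H q).card ≤ 8
  · refine ⟨q, hq, ?_, hnx q hq⟩
    have := hsize q hq
    simp only [List.mem_cons, List.not_mem_nil, or_false] at this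
    omega
  · obtain ⟨p, hp⟩ : ∃ p, p ∉ insert x (orbF H q) := by
      by_contra h
      push Not at h
      have h2 := Finset.card_le_card (fun p (_ : p ∈ (Finset.univ : Finset GolayPt)) => h p)
      rw [Finset.card_univ, Finset.card_insert_of_notMem (hnx q hq),
        show Fintype.card GolayPt = 24 by simp] at h2
      have := hsize q hq
      simp only [List.mem_cons, List.not_mem_nil, or_false] at this
      omega
    rw [Finset.mem_insert, not_or] at hp
    refine ⟨p, hp.1, ?_, hnx p hp.1⟩
    have hd : Disjoint (orbF H p) (orbF H q) := Finset.disjoint_left.2 fun r h1 h2 => by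
      obtain ⟨h, hh, e⟩ := orbF_trans h1 (self_mem_orbF H p)
      exact hp.2 (e ▸ (smul_orbF hh ▸ Finset.smul_mem_smul_finset h2 : h • r ∈ orbF H q))
    have h2 : (orbF H p ∪ orbF H q).card ≤ (Finset.univ.erase x).card :=
      Finset.card_le_card (Finset.union_subset
        (fun r hr => Finset.mem_erase.2 ⟨fun e => hnx p hp.1 (e ▸ hr), Finset.mem_univ _⟩)
        (fun r hr => Finset.mem_erase.2 ⟨fun e => hnx q hq (e ▸ hr), Finset.mem_univ _⟩))
    rw [Finset.card_union_of_disjoint hd, Finset.card_erase_of_mem (Finset.mem_univ _),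
      Finset.card_univ, show Fintype.card GolayPt = 24 by simp] at h2
    have := hsize p hp.1
    have := hsize q hq
    simp only [List.mem_cons, List.not_mem_nil, or_false] at *
    omega

/-- A subgroup of order 40320 fixing `x` does not fix a second point. -/
theorem sub40320_not_two {H : Subgroup M24} {x q : GolayPt} (hxq : x ≠ q)
    (hx : H ≤ MulAction.stabilizer M24 x) (hq : H ≤ MulAction.stabilizer M24 q) :
    Nat.card H ≠ 40320 := by
  classical
  intro hc
  haveI : Fact (Nat.Prime 7) := ⟨by norm_num⟩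
  haveI : Fact (Nat.Prime 5) := ⟨by norm_num⟩
  obtain ⟨g7, h7H, h7⟩ := exists_orderOf_of_dvd (H := H) (p := 7) (by rw [hc]; norm_num)
  obtain ⟨g5, h5H, h5⟩ := exists_orderOf_of_dvd (H := H) (p := 5) (by rw [hc]; norm_num)
  have hF : ∀ y ∈ ({x, q} : Finset GolayPt), ∀ h ∈ H, h • y = y := fun y hy h hh => by
    rcases Finset.mem_insert.1 hy with e | e
    · exact e ▸ hx hh
    · exact (Finset.mem_singleton.1 e) ▸ hq hh
  have hnx : ∀ p, p ∉ ({x, q} : Finset GolayPt) → Disjoint (orbF H p) ({x, q} : Finset GolayPt) :=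
    fun p hp => Finset.disjoint_left.2 fun r hr hr2 => by
      obtain ⟨h, hh, e⟩ := mem_orbF.1 hr
      rw [← e] at hr2
      have := hF _ hr2 h⁻¹ (inv_mem hh)
      rw [inv_smul_smul] at this
      exact hp (this.symm ▸ hr2)
  have hsize : ∀ p, p ∉ ({x, q} : Finset GolayPt) → (orbF H p).card ∈ [1, 7, 15, 21] := by
    intro p hp
    have hU : ∀ h ∈ H, h • orbF H p = orbF H p := fun h hh => smul_orbF hh
    have hU' : ∀ h ∈ H, h • (orbF H p ∪ {x, q}) = orbF H p ∪ {x, q} := fun h hh => by
      rw [Finset.smul_finset_union, hU h hh, Finset.smul_finset_insert,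
        Finset.smul_finset_singleton, show h • x = x from hx hh, show h • q = q from hq hh]
    have hd2 : Disjoint (Finset.univ \ (orbF H p ∪ {x, q})) ({x, q} : Finset GolayPt) :=
      Finset.disjoint_left.2 fun r hr hr2 =>
        (Finset.mem_sdiff.1 hr).2 (Finset.mem_union_right _ hr2)
    have hn : (Finset.univ \ (orbF H p ∪ {x, q})).card + ((orbF H p).card + 2) = 24 := by
      have hu : (orbF H p ∪ {x, q}).card = (orbF H p).card + 2 := by
        rw [Finset.card_union_of_disjoint (hnx p hp), Finset.card_pair hxq]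
      rw [← hu, Finset.card_sdiff_add_card_eq_card (Finset.subset_univ _), Finset.card_univ]
      simp
    have a1 := invariant_bound h7H h7 hF hU (hnx p hp)
    have a2 := invariant_bound h7H h7 hF (smul_compl_of_invariant hU') hd2
    have a3 := invariant_bound h5H h5 hF hU (hnx p hp)
    have a4 := invariant_bound h5H h5 hF (smul_compl_of_invariant hU') hd2
    rw [seven_fix h7, Finset.card_pair hxq] at a1 a2
    rw [five_fix h5, Finset.card_pair hxq] at a3 a4
    have hd := hc ▸ card_orbF_dvd H p
    have hpos : 0 < (orbF H p).card := Finset.card_pos.2 ⟨p, self_mem_orbF H p⟩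
    generalize (Finset.univ \ (orbF H p ∪ {x, q})).card = m at hn a2 a4
    generalize (orbF H p).card = n at hn a1 a3 hd hpos
    obtain rfl : m = 22 - n := by omega
    have hn22 : n ≤ 22 := by omega
    interval_cases n <;> first
      | (simp; done)
      | omega
      | (exact absurd hd (by norm_num))
  obtain ⟨p, hp, hsmall⟩ : ∃ p, p ∉ ({x, q} : Finset GolayPt) ∧
      ((orbF H p).card = 1 ∨ (orbF H p).card = 7) := by
    obtain ⟨r, hr⟩ : ∃ r, r ∉ ({x, q} : Finset GolayPt) := by
      by_contra h
      push Not at h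
      have h2 := Finset.card_le_card (fun p (_ : p ∈ (Finset.univ : Finset GolayPt)) => h p)
      rw [Finset.card_univ, Finset.card_pair hxq, show Fintype.card GolayPt = 24 by simp] at h2
      omega
    have hr' := hsize r hr
    simp only [List.mem_cons, List.not_mem_nil, or_false] at hr'
    by_cases hs : (orbF H r).card ≤ 7
    · exact ⟨r, hr, by omega⟩
    · obtain ⟨p, hp⟩ : ∃ p, p ∉ ({x, q} : Finset GolayPt) ∪ orbF H r := by
        by_contra h
        push Not at h
        have h2 := Finset.card_le_card (fun p (_ : p ∈ (Finset.univ : Finset GolayPt)) => h p)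
        rw [Finset.card_univ, Finset.card_union_of_disjoint (hnx r hr).symm,
          Finset.card_pair hxq, show Fintype.card GolayPt = 24 by simp] at h2
        omega
      rw [Finset.mem_union, not_or] at hp
      refine ⟨p, hp.1, ?_⟩
      have hd : Disjoint (orbF H p) (orbF H r) := Finset.disjoint_left.2 fun z h1 h2 => by
        obtain ⟨h, hh, e⟩ := orbF_trans h1 (self_mem_orbF H p)
        exact hp.2 (e ▸ (smul_orbF hh ▸ Finset.smul_mem_smul_finset h2 : h • z ∈ orbF H r))
      have h2 : (({x, q} : Finset GolayPt) ∪ (orbF H p ∪ orbF H r)).card ≤ 24 := by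
        refine (Finset.card_le_univ _).trans (le_of_eq ?_); simp
      rw [Finset.card_union_of_disjoint (Finset.disjoint_union_right.2
          ⟨(hnx p hp.1).symm, (hnx r hr).symm⟩),
        Finset.card_union_of_disjoint hd, Finset.card_pair hxq] at h2
      have hp' := hsize p hp.1
      simp only [List.mem_cons, List.not_mem_nil, or_false] at hp'
      omega
  rcases hsmall with h1 | h7c
  · have hfix : H ≤ MulAction.stabilizer M24 p := fun h hh => by
      obtain ⟨r, hr⟩ := Finset.card_eq_one.1 h1
      have e1 : h • p ∈ orbF H p := mem_orbF.2 ⟨h, hh, rfl⟩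
      have e2 := self_mem_orbF H p
      rw [hr, Finset.mem_singleton] at e1 e2
      exact MulAction.mem_stabilizer_iff.2 (e1.trans e2.symm)
    rw [Finset.mem_insert, Finset.mem_singleton, not_or] at hp
    have := Subgroup.card_le_of_le (le_inf (le_inf hx hq) hfix)
    rw [card_stab_three hxq (Ne.symm hp.1) (Ne.symm hp.2)] at this
    omega
  · have hmove : ∀ z ∈ orbF H p, g7 • z ≠ z := fun z hz e => by
      have hmod : (orbF H p).card % 7 = (orbF H p ∩ fixPts g7).card % 7 :=
        invariant_modEq (h7 ▸ pow_orderOf_eq_one g7) (smul_orbF h7H)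
      have hpos : 0 < (orbF H p ∩ fixPts g7).card :=
        Finset.card_pos.2 ⟨z, Finset.mem_inter.2 ⟨hz, fix_of_mem_inf e⟩⟩
      have hle : (orbF H p ∩ fixPts g7).card ≤ 3 :=
        seven_fix h7 ▸ Finset.card_le_card Finset.inter_subset_right
      omega
    obtain ⟨o, ho, hUo, hHo⟩ :=
      seven_orbit_octad h7H h7 (fun h hh => smul_orbF hh) h7c hmove
    have hout : x ∉ o ∨ q ∉ o := by
      by_contra h
      push Not at h
      have h2 : (orbF H p ∪ {x, q}).card ≤ o.card :=
        Finset.card_le_card (Finset.union_subset hUo (by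
          intro z hz
          rcases Finset.mem_insert.1 hz with e | e
          · exact e ▸ h.1
          · exact (Finset.mem_singleton.1 e) ▸ h.2))
      rw [Finset.card_union_of_disjoint (hnx p hp), Finset.card_pair hxq, ho.2] at h2
      omega
    rcases hout with h | h
    · have := card_lt_of_le_octad_out ho h hHo hx; omega
    · have := card_lt_of_le_octad_out ho h hHo hq; omega

/-- A subgroup of order 40320 fixing a point is the stabiliser of a duad or a heptad. -/
theorem sub40320 {H : Subgroup M24} {x : GolayPt} (hx : H ≤ MulAction.stabilizer M24 x)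
    (hc : Nat.card H = 40320) :
    (∃ s : Finset GolayPt, s.card = 2 ∧ x ∉ s ∧
      H = MulAction.stabilizer M24 s ⊓ MulAction.stabilizer M24 x) ∨
      ∃ o ∈ octads, x ∈ o ∧ H = MulAction.stabilizer M24 o ⊓ MulAction.stabilizer M24 x := by
  classical
  haveI : Fact (Nat.Prime 7) := ⟨by norm_num⟩
  obtain ⟨g7, h7H, h7⟩ := exists_orderOf_of_dvd (H := H) (p := 7) (by rw [hc]; norm_num)
  obtain ⟨p, hpx, hn, hxU⟩ := sub40320_orbits hx hc
  have hU : ∀ h ∈ H, h • orbF H p = orbF H p := fun h hh => smul_orbF hh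
  have hle : (orbF H p ∩ fixPts g7).card ≤ 2 := by
    have h3 := seven_fix h7
    have hx7 : x ∈ fixPts g7 := fix_of_mem_inf (hx h7H)
    have : (orbF H p ∩ fixPts g7).card ≤ ((fixPts g7).erase x).card :=
      Finset.card_le_card fun z hz => Finset.mem_erase.2
        ⟨fun e => hxU (e ▸ (Finset.mem_inter.1 hz).1), (Finset.mem_inter.1 hz).2⟩
    rw [Finset.card_erase_of_mem hx7, h3] at this
    omega
  have hmod : (orbF H p).card % 7 = (orbF H p ∩ fixPts g7).card % 7 :=
    invariant_modEq (h7 ▸ pow_orderOf_eq_one g7) (hU g7 h7H)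
  rcases hn with h1 | h2 | h7c | h8
  · exfalso
    have hfix : H ≤ MulAction.stabilizer M24 p := fun h hh => by
      obtain ⟨r, hr⟩ := Finset.card_eq_one.1 h1
      have e1 : h • p ∈ orbF H p := mem_orbF.2 ⟨h, hh, rfl⟩
      have e2 := self_mem_orbF H p
      rw [hr, Finset.mem_singleton] at e1 e2
      exact MulAction.mem_stabilizer_iff.2 (e1.trans e2.symm)
    exact sub40320_not_two (Ne.symm hpx) hx hfix hc
  · left
    obtain ⟨a, b, hab, he⟩ := Finset.card_eq_two.1 h2
    refine ⟨orbF H p, h2, hxU, ?_⟩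
    refine Subgroup.eq_of_le_of_card_ge (le_inf (le_stab_of_invariant hU) hx) ?_
    rw [he] at hxU ⊢
    simp only [Finset.mem_insert, Finset.mem_singleton, not_or] at hxU
    rw [hc]
    exact card_stab_duad_point hxU.1 hxU.2 hab
  · have hmove : ∀ z ∈ orbF H p, g7 • z ≠ z := fun z hz e => by
      have hpos : 0 < (orbF H p ∩ fixPts g7).card :=
        Finset.card_pos.2 ⟨z, Finset.mem_inter.2 ⟨hz, fix_of_mem_inf e⟩⟩
      omega
    obtain ⟨o, ho, hUo, hHo⟩ := seven_orbit_octad h7H h7 hU h7c hmove
    right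
    have hxo : x ∈ o := by
      by_contra h
      have := card_lt_of_le_octad_out ho h hHo hx; omega
    refine ⟨o, ho, hxo, Subgroup.eq_of_le_of_card_ge (le_inf hHo hx) ?_⟩
    rw [hc, card_stab_octad_in ho hxo]
  · exfalso
    have h1 : (orbF H p ∩ fixPts g7).card = 1 := by omega
    obtain ⟨t, ht⟩ := Finset.card_eq_one.1 h1
    have htU : t ∈ orbF H p :=
      (Finset.mem_inter.1 (ht.symm.subset (Finset.mem_singleton_self t))).1
    have htf : g7 • t = t :=
      (Finset.mem_filter.1 (Finset.mem_inter.1 (ht.symm.subset (Finset.mem_singleton_self t))).2).2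
    have hV : g7 • (orbF H p).erase t = (orbF H p).erase t := by
      rw [Finset.erase_eq, Finset.smul_finset_sdiff, hU g7 h7H, Finset.smul_finset_singleton, htf]
    have hV7 : ((orbF H p).erase t).card = 7 := by rw [Finset.card_erase_of_mem htU, h8]
    have hmove : ∀ z ∈ (orbF H p).erase t, g7 • z ≠ z := fun z hz e => by
      have : z ∈ orbF H p ∩ fixPts g7 :=
        Finset.mem_inter.2 ⟨Finset.mem_of_mem_erase hz, fix_of_mem_inf e⟩
      rw [ht, Finset.mem_singleton] at this
      exact (Finset.mem_erase.1 hz).1 this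
    obtain ⟨o, ho, hVo, -⟩ := seven_octad h7 hV hV7 hmove
    have hHo : ∀ h ∈ H, h • o = o := fun h hh => by
      refine octads_eq_of_five (M24_smul_octad h.2 ho) ho ?_
      have h6 : 6 ≤ (h • (orbF H p).erase t ∩ (orbF H p).erase t).card := by
        have hs : h • (orbF H p).erase t ∪ (orbF H p).erase t ⊆ orbF H p := by
          refine Finset.union_subset ?_ (Finset.erase_subset _ _)
          exact (Finset.smul_finset_subset_smul_finset (Finset.erase_subset _ _)).trans
            (hU h hh).subset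
        have := Finset.card_le_card hs
        have h3 := Finset.card_union_add_card_inter (h • (orbF H p).erase t) ((orbF H p).erase t)
        rw [Finset.card_smul_finset, hV7] at h3
        omega
      exact (show 5 ≤ 6 by norm_num).trans (h6.trans (Finset.card_le_card
        (Finset.inter_subset_inter (Finset.smul_finset_subset_smul_finset hVo) hVo)))
    obtain ⟨z, hz⟩ := Finset.card_pos.1 (show 0 < ((orbF H p).erase t).card by omega)
    obtain ⟨h, hh, e⟩ := orbF_trans (Finset.mem_of_mem_erase hz) htU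
    have hto : t ∈ o := hHo h hh ▸ e ▸ Finset.smul_mem_smul_finset (hVo hz)
    have hUo : orbF H p = o := Finset.eq_of_subset_of_card_le (fun y hy => by
        by_cases hyt : y = t
        · exact hyt ▸ hto
        · exact hVo (Finset.mem_erase.2 ⟨hyt, hy⟩)) (by rw [h8, ho.2])
    have := card_lt_of_le_octad_out ho (hUo ▸ hxU) (le_stab_of_invariant hHo) hx
    omega

end CfsgLib.Golay
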