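import Cfsg.Agent.Lib.Golay.Co0McLSimple
import Cfsg.Agent.Lib.Golay.InvariantSets
import Cfsg.Agent.Lib.Golay.M23Index
import Cfsg.Agent.Lib.Golay.OctadFlag
import Cfsg.Agent.Lib.KnownA.MathieuOut

/-! Every automorphism of the stabiliser of a vector of sum of squares 48 is inner. -/

set_option autoImplicit false
set_option maxRecDepth 100000

namespace CfsgLib.Golay.Co3Out

open Cfsg CfsgLib.Golay CfsgLib.KnownA.Mathieu
open scoped Pointwise

/-- The stabiliser of `fiveV`. -/
abbrev G3 : Subgroup Co0 := MulAction.stabilizer Co0 fiveV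

/-- The vectors conjugate to `w11`. -/
def IsX (y : leechLattice) : Prop :=
  sqNorm (y : GolayPt → ℤ) = 32 ∧ dotInt (fiveV : GolayPt → ℤ) y = -8

/-- The vector with `-3` at the extra point and `-1` on `o`. -/
def octY (o : Finset GolayPt) : GolayPt → ℤ := fun i =>
  if i = pinf then -3 else if i ∈ o then -1 else 1

theorem w11_apply : ∀ i : GolayPt, (w11 : GolayPt → ℤ) i = if i = pinf then 3 else -1 := by
  decide +kernel

theorem isX_w11 : IsX w11 := ⟨w11_facts.1, w11_facts.2.1⟩

theorem isX_smul (g : G3) {y : leechLattice} (hy : IsX y) : IsX ((g : Co0) • y) := by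
  refine ⟨(co0_sq _ _).trans hy.1, ?_⟩
  rw [← MulAction.mem_stabilizer_iff.1 g.2, co0_dot]
  exact hy.2

theorem dot_w11_five (y : leechLattice) :
    dotInt (w11 : GolayPt → ℤ) y + dotInt (fiveV : GolayPt → ℤ) y = 8 * (y : GolayPt → ℤ) pinf := by
  rw [dotInt, dotInt, ← Finset.sum_add_distrib]
  have e : ∀ i, (w11 : GolayPt → ℤ) i + (fiveV : GolayPt → ℤ) i = if i = pinf then 8 else 0 := by
    decide +kernel
  rw [Finset.sum_congr rfl fun i _ =>
    show (w11 : GolayPt → ℤ) i * (y : GolayPt → ℤ) i + (fiveV : GolayPt → ℤ) i * (y : GolayPt → ℤ) i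
      = if i = pinf then 8 * (y : GolayPt → ℤ) i else 0 by
    rw [← add_mul, e]; split_ifs <;> simp]
  rw [Finset.sum_ite_eq', if_pos (Finset.mem_univ _)]

theorem sum_split_pinf (φ : GolayPt → ℤ) :
    ∑ i, φ i = φ pinf + ∑ i ∈ Finset.univ.erase pinf, φ i :=
  (Finset.add_sum_erase _ φ (Finset.mem_univ _)).symm

theorem card_erase_pinf : (Finset.univ.erase pinf : Finset GolayPt).card = 23 := by
  rw [Finset.card_erase_of_mem (Finset.mem_univ _), Finset.card_univ]
  simp

theorem isX_eq_w11 {y : leechLattice} (hy : IsX y) (h3 : (y : GolayPt → ℤ) pinf = 3) : y = w11 := by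
  obtain ⟨hn, hd⟩ := hy
  rw [dot_five, sum_split_pinf, h3] at hd
  rw [sqNorm, sum_split_pinf, h3] at hn
  have h0 : ∑ i ∈ Finset.univ.erase pinf, ((y : GolayPt → ℤ) i + 1) ^ 2 = 0 := by
    simp only [add_sq, one_pow, mul_one, Finset.sum_add_distrib, Finset.sum_const, card_erase_pinf]
    rw [← Finset.mul_sum]
    simp only [nsmul_eq_mul, mul_one]
    push_cast
    linarith
  rw [Finset.sum_eq_zero_iff_of_nonneg fun i _ => sq_nonneg _] at h0
  refine Subtype.ext (funext fun i => ?_)
  rw [w11_apply]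
  by_cases hi : i = pinf
  · rw [if_pos hi, hi, h3]
  · rw [if_neg hi]
    have := h0 i (Finset.mem_erase.2 ⟨hi, Finset.mem_univ _⟩)
    rw [pow_eq_zero_iff (by norm_num)] at this
    omega

theorem g3_to_w11 {y : leechLattice} (hy : IsX y) : ∃ g : G3, (g : Co0) • y = w11 := by
  obtain ⟨g, g1, g2⟩ := five_frame fiveV_norm hy.1 hy.2
  refine ⟨⟨g, g1⟩, isX_eq_w11 (isX_smul ⟨g, g1⟩ hy) ?_⟩
  have h := g2 y
  rw [dotInt_comm, hy.2, dotInt_self, hy.1] at h
  show ((g • y : leechLattice) : GolayPt → ℤ) pinf = 3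
  omega

theorem isX_octad {y : leechLattice} (hy : IsX y) (hd : dotInt (w11 : GolayPt → ℤ) y = -16) :
    ∃ o ∈ octads, pinf ∉ o ∧ (y : GolayPt → ℤ) = octY o := by
  classical
  obtain ⟨hn, hdf⟩ := hy
  have ha : (y : GolayPt → ℤ) pinf = -3 := by
    have := dot_w11_five y
    omega
  have hodd : ∀ i, (y : GolayPt → ℤ) i % 2 = 1 := by
    rcases parity_cases y.2 with h | h
    · have := h pinf
      omega
    · exact h
  rw [sqNorm, sum_split_pinf, ha] at hn
  have hge : ∀ i, 1 ≤ (y : GolayPt → ℤ) i ^ 2 := fun i => by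
    rcases (show (y : GolayPt → ℤ) i ≤ -1 ∨ 1 ≤ (y : GolayPt → ℤ) i by
      have := hodd i; omega) with h | h <;> nlinarith
  have hone : ∀ i, i ≠ pinf → (y : GolayPt → ℤ) i = 1 ∨ (y : GolayPt → ℤ) i = -1 := by
    intro i hi
    have h0 : ∑ k ∈ Finset.univ.erase pinf, ((y : GolayPt → ℤ) k ^ 2 - 1) = 0 := by
      rw [Finset.sum_sub_distrib, Finset.sum_const, card_erase_pinf, nsmul_eq_mul]
      push_cast
      linarith
    rw [Finset.sum_eq_zero_iff_of_nonneg fun k _ => sub_nonneg.2 (hge k)] at h0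
    exact sq_eq_one_iff.1 (sub_eq_zero.1 (h0 i (Finset.mem_erase.2 ⟨hi, Finset.mem_univ _⟩)))
  have hc := ((odd_mem_iff hodd).1 y.2).1
  set o : Finset GolayPt := Finset.univ.filter fun i => (y : GolayPt → ℤ) i % 4 = 3 with ho
  have hmem : ∀ i, i ∈ o ↔ (i ≠ pinf ∧ (y : GolayPt → ℤ) i = -1) := by
    intro i
    simp only [ho, Finset.mem_filter, Finset.mem_univ, true_and]
    by_cases hi : i = pinf
    · subst hi; simp [ha]
    · rcases hone i hi with h | h <;> simp [h, hi]
  have hy' : (y : GolayPt → ℤ) = octY o := by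
    funext i
    simp only [octY, hmem]
    by_cases hi : i = pinf
    · subst hi; simp [ha]
    · rcases hone i hi with h | h <;> simp [h, hi]
  have hsum : ∑ i, (y : GolayPt → ℤ) i = 20 - 2 * (o.card : ℤ) := by
    have e : ∀ i, (y : GolayPt → ℤ) i = 1 + ((if i = pinf then -4 else 0) +
        if i ∈ o then -2 else 0) := fun i => by
      have hp : pinf ∉ o := fun h => ((hmem _).1 h).1 rfl
      rw [congrFun hy' i]
      simp only [octY]
      by_cases hi : i = pinf
      · subst hi; simp [hp]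
      · split_ifs <;> simp
    rw [Finset.sum_congr rfl fun i _ => e i, Finset.sum_add_distrib, Finset.sum_add_distrib,
      Finset.sum_ite_eq', if_pos (Finset.mem_univ _), Finset.sum_ite_mem, Finset.univ_inter,
      Finset.sum_const, Finset.sum_const, Finset.card_univ]
    simp
    ring
  rw [dot_five, ha, hsum] at hdf
  exact ⟨o, ⟨hc, by omega⟩, fun h => ((hmem _).1 h).1 rfl, hy'⟩

/-- The permutations fixing an octad and the extra point. -/
abbrev octL (o : Finset GolayPt) : Subgroup M24 :=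
  MulAction.stabilizer M24 o ⊓ MulAction.stabilizer M24 pinf

theorem octL_facts {o : Finset GolayPt} (ho : o ∈ octads) (hp : pinf ∉ o) :
    (∀ a ∈ o, ∀ b ∈ o, ∃ s ∈ octL o, s • a = b) ∧
      (∀ a ∉ o, a ≠ pinf → ∀ b ∉ o, b ≠ pinf → ∃ s ∈ octL o, s • a = b) ∧
      ∃ f ∈ octL o, ∃ a ∈ o, ∃ b, b ∉ o ∧ b ≠ pinf ∧ fixPts f = {pinf, a, b} := by
  classical
  have hcard : Nat.card (octL o) = 20160 := card_stab_octad_out ho hp
  have hinv : ∀ s ∈ octL o, s • o = o := fun s hs => hs.1
  have hinf : ∀ s ∈ octL o, s • pinf = pinf := fun s hs => hs.2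
  have hm : ∀ (s : M24) p, p ∈ fixPts s ↔ s • p = p := fun s p => by simp [fixPts]
  have htrans : ∀ a ∈ o, ∀ b ∈ o, ∃ s ∈ octL o, s • a = b := by
    intro a ha b hb
    obtain ⟨c, hc, hca⟩ : ∃ c ∈ o, c ≠ a :=
      Finset.exists_mem_ne (by rw [ho.2]; norm_num) a
    obtain ⟨d, hd, hdb⟩ : ∃ d ∈ o, d ≠ b :=
      Finset.exists_mem_ne (by rw [ho.2]; norm_num) b
    obtain ⟨g, g1, g2, -, g4⟩ := octad_two_out ho ho ha hc hca.symm hb hd hdb.symm hp hp
    exact ⟨g, ⟨g1, g4⟩, g2⟩
  haveI : Fact (Nat.Prime 5) := ⟨by norm_num⟩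
  haveI : Fact (Nat.Prime 7) := ⟨by norm_num⟩
  obtain ⟨g, hgL, hg⟩ := exists_orderOf_of_dvd (H := octL o) (p := 5) (by rw [hcard]; norm_num)
  obtain ⟨f, hfL, hf⟩ := exists_orderOf_of_dvd (H := octL o) (p := 7) (by rw [hcard]; norm_num)
  have g4 := five_fix hg
  have f3 := seven_fix hf
  have go : o.card % 5 = (o ∩ fixPts g).card % 5 :=
    invariant_modEq (hg ▸ pow_orderOf_eq_one g) (hinv g hgL)
  have fo : o.card % 7 = (o ∩ fixPts f).card % 7 :=
    invariant_modEq (hf ▸ pow_orderOf_eq_one f) (hinv f hfL)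
  rw [ho.2] at go fo
  have hsplit : ∀ s ∈ octL o, (fixPts s).card =
      1 + (o ∩ fixPts s).card + (((fixPts s).erase pinf) \ o).card := by
    intro s hs
    rw [← Finset.card_erase_add_one ((hm s pinf).2 (hinf s hs)),
      ← Finset.card_inter_add_card_sdiff ((fixPts s).erase pinf) o]
    have e : (fixPts s).erase pinf ∩ o = o ∩ fixPts s := by
      ext i
      simp only [Finset.mem_inter, Finset.mem_erase]
      exact ⟨fun h => ⟨h.2, h.1.2⟩, fun h => ⟨⟨fun e => hp (e ▸ h.1), h.2⟩, h.1⟩⟩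
    rw [e]
    omega
  have hg' := hsplit g hgL
  have hf' := hsplit f hfL
  obtain ⟨a, ha⟩ := Finset.card_eq_one.1 (show (o ∩ fixPts f).card = 1 by omega)
  obtain ⟨b, hb⟩ := Finset.card_eq_one.1 (show (((fixPts f).erase pinf) \ o).card = 1 by omega)
  have hout0 : ((fixPts g).erase pinf \ o) = ∅ := Finset.card_eq_zero.1 (by omega)
  have haf : a ∈ o ∧ f • a = a := by
    have : a ∈ o ∩ fixPts f := by rw [ha]; exact Finset.mem_singleton_self a
    exact ⟨(Finset.mem_inter.1 this).1, (hm f a).1 (Finset.mem_inter.1 this).2⟩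
  have hbf : b ∉ o ∧ b ≠ pinf ∧ f • b = b := by
    have : b ∈ (fixPts f).erase pinf \ o := by rw [hb]; exact Finset.mem_singleton_self b
    simp only [Finset.mem_sdiff, Finset.mem_erase] at this
    exact ⟨this.2, this.1.1, (hm f b).1 this.1.2⟩
  refine ⟨htrans, ?_, f, hfL, a, haf.1, b, hbf.1, hbf.2.1, ?_⟩
  · intro p hpo hpi q hqo hqi
    suffices h15 : ∀ r ∉ o, r ≠ pinf → (orbF (octL o) r) = (Finset.univ.erase pinf) \ o by
      have : q ∈ orbF (octL o) p := by rw [h15 p hpo hpi]; simp [hqo, hqi]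
      obtain ⟨s, hs, e⟩ := mem_orbF.1 this
      exact ⟨s, hs, e⟩
    intro r hro hri
    have hsub : orbF (octL o) r ⊆ (Finset.univ.erase pinf) \ o := by
      intro u hu
      obtain ⟨s, hs, rfl⟩ := mem_orbF.1 hu
      simp only [Finset.mem_sdiff, Finset.mem_erase, Finset.mem_univ, and_true]
      refine ⟨fun e => hri ?_, fun h => hro ?_⟩
      · rw [← hinf s hs] at e; exact MulAction.injective s e
      · rw [← hinv s hs] at h; exact (Finset.smul_mem_smul_finset_iff s).1 h
    refine Finset.eq_of_subset_of_card_le hsub ?_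
    have hU : ∀ s ∈ octL o, s • orbF (octL o) r = orbF (octL o) r := fun s hs => smul_orbF hs
    have m5 : (orbF (octL o) r).card % 5 = (orbF (octL o) r ∩ fixPts g).card % 5 :=
      invariant_modEq (hg ▸ pow_orderOf_eq_one g) (hU g hgL)
    have m7 : (orbF (octL o) r).card % 7 = (orbF (octL o) r ∩ fixPts f).card % 7 :=
      invariant_modEq (hf ▸ pow_orderOf_eq_one f) (hU f hfL)
    have e5 : orbF (octL o) r ∩ fixPts g = ∅ := by
      rw [Finset.eq_empty_iff_forall_notMem]
      intro u hu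
      obtain ⟨h1, h2⟩ := Finset.mem_inter.1 hu
      have h1' := hsub h1
      simp only [Finset.mem_sdiff, Finset.mem_erase] at h1'
      have : u ∈ ((fixPts g).erase pinf \ o) := by simp [h2, h1'.1.1, h1'.2]
      rw [hout0] at this
      exact absurd this (Finset.notMem_empty u)
    have e7 : (orbF (octL o) r ∩ fixPts f).card ≤ 1 := by
      refine (Finset.card_le_card (t := (fixPts f).erase pinf \ o) fun u hu => ?_).trans
        (by rw [hb, Finset.card_singleton])
      obtain ⟨h1, h2⟩ := Finset.mem_inter.1 hu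
      have h1' := hsub h1
      simp only [Finset.mem_sdiff, Finset.mem_erase] at h1' ⊢
      exact ⟨⟨h1'.1.1, h2⟩, h1'.2⟩
    rw [e5, Finset.card_empty] at m5
    have hle := Finset.card_le_card hsub
    have h23 : ((Finset.univ.erase pinf) \ o).card = 15 := by
      rw [Finset.card_sdiff_of_subset (fun u hu => Finset.mem_erase.2
        ⟨fun e => hp (by rwa [e] at hu), Finset.mem_univ _⟩), card_erase_pinf, ho.2]
    have hpos : 0 < (orbF (octL o) r).card := Finset.card_pos.2 ⟨r, self_mem_orbF _ r⟩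
    rcases (show (orbF (octL o) r).card = 5 ∨ (orbF (octL o) r).card = 10 ∨
      (orbF (octL o) r).card = 15 by omega) with h | h | h <;> rw [h] at m7 ⊢ <;> omega
  · refine (Finset.eq_of_subset_of_card_le ?_ ?_).symm
    · intro i hi
      simp only [Finset.mem_insert, Finset.mem_singleton] at hi
      rcases hi with rfl | rfl | rfl
      · exact (hm f _).2 (hinf f hfL)
      · exact (hm f _).2 haf.2
      · exact (hm f _).2 hbf.2.2
    · rw [f3]
      have h1 : a ≠ b := fun e => hbf.1 (e ▸ haf.1)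
      have h2 : pinf ≠ a := fun e => hp (e ▸ haf.1)
      have h3 : pinf ≠ b := hbf.2.1.symm
      rw [Finset.card_insert_of_notMem (by simp [h2, h3]), Finset.card_pair h1]

theorem mono_fix_iff (s : M24) (y : leechLattice) :
    monoCo0 s s.2 ∅ empty_code • y = y ↔ ∀ i, (y : GolayPt → ℤ) (s • i) = (y : GolayPt → ℤ) i := by
  constructor
  · intro h i
    conv_lhs => rw [← h]
    exact perm_apply s y i
  · intro h
    refine Subtype.ext (funext fun i => ?_)
    obtain ⟨i, rfl⟩ := (s : Equiv.Perm GolayPt).surjective i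
    exact (perm_apply s y i).trans (h i).symm

theorem fixed_octL {o : Finset GolayPt} (ho : o ∈ octads) (hp : pinf ∉ o) {y : leechLattice}
    (hy : IsX y) (hfix : ∀ s ∈ octL o, monoCo0 s s.2 ∅ empty_code • y = y) :
    y = w11 ∨ (y : GolayPt → ℤ) = octY o := by
  classical
  obtain ⟨t1, t2, -⟩ := octL_facts ho hp
  obtain ⟨a, hao⟩ : o.Nonempty := Finset.card_pos.1 (by rw [ho.2]; norm_num)
  have hout : ((Finset.univ.erase pinf) \ o).card = 15 := by
    rw [Finset.card_sdiff_of_subset (fun u hu => Finset.mem_erase.2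
      ⟨fun e => hp (by rwa [e] at hu), Finset.mem_univ _⟩), card_erase_pinf, ho.2]
  obtain ⟨b, hb⟩ : ((Finset.univ.erase pinf) \ o).Nonempty := Finset.card_pos.1 (by omega)
  simp only [Finset.mem_sdiff, Finset.mem_erase, Finset.mem_univ, and_true] at hb
  set x : GolayPt → ℤ := (y : GolayPt → ℤ) with hx
  have hq : ∀ i ∈ o, x i = x a := fun i hi => by
    obtain ⟨s, hs, e⟩ := t1 a hao i hi
    rw [← e]; exact (mono_fix_iff s y).1 (hfix s hs) a
  have hr : ∀ i ∉ o, i ≠ pinf → x i = x b := fun i hi hi' => by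
    obtain ⟨s, hs, e⟩ := t2 b hb.2 hb.1 i hi hi'
    rw [← e]; exact (mono_fix_iff s y).1 (hfix s hs) b
  have hsum : ∀ φ : ℤ → ℤ, ∑ i, φ (x i) = φ (x pinf) + 8 * φ (x a) + 15 * φ (x b) := by
    intro φ
    rw [sum_split_pinf (fun i => φ (x i)), ← Finset.sum_sdiff (s₁ := o) (fun u hu => Finset.mem_erase.2
      ⟨fun e => hp (by rwa [e] at hu), Finset.mem_univ _⟩),
      Finset.sum_congr rfl (g := fun _ => φ (x b)) fun i hi => by
        simp only [Finset.mem_sdiff, Finset.mem_erase] at hi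
        rw [hr i hi.2 hi.1.1],
      Finset.sum_congr (rfl : o = o) (g := fun _ => φ (x a)) fun i hi => by rw [hq i hi],
      Finset.sum_const, Finset.sum_const, hout, ho.2]
    simp only [nsmul_eq_mul, Nat.cast_ofNat]
    ring
  obtain ⟨hn, hd⟩ := hy
  have hn' := hsum fun t => t ^ 2
  rw [show ∑ i, x i ^ 2 = 32 from hn] at hn'
  have hd' := hsum id
  simp only [id] at hd'
  rw [dot_five] at hd
  have hbd : ∀ i, -5 ≤ x i ∧ x i ≤ 5 := abs_entry_le (by norm_num) (by norm_num) hn
  have key : (x pinf = 3 ∧ x a = -1 ∧ x b = -1) ∨ (x pinf = -3 ∧ x a = -1 ∧ x b = 1) := by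
    have h1 := hbd pinf
    change (∑ i, x i) + 4 * x pinf = -8 at hd
    generalize ∑ i, x i = S at hd hd'
    generalize x pinf = p at hn' hd hd' h1 ⊢
    generalize x a = q at hn' hd' ⊢
    generalize x b = r at hn' hd' ⊢
    have hqb : -2 ≤ q ∧ q ≤ 2 := by constructor <;> nlinarith [sq_nonneg p, sq_nonneg r]
    have hrb : -1 ≤ r ∧ r ≤ 1 := by constructor <;> nlinarith [sq_nonneg p, sq_nonneg q]
    obtain ⟨q1, q2⟩ := hqb
    obtain ⟨r1, r2⟩ := hrb
    obtain ⟨p1, p2⟩ := h1
    interval_cases q <;> interval_cases r <;>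
      first
        | omega
        | (have : p = 3 := by omega
           subst this; norm_num at hn' ⊢)
        | (have : p = -3 := by omega
           subst this; norm_num at hn' ⊢)
        | (exfalso; have : p = 0 := by omega
           subst this; norm_num at hn')
  rcases key with ⟨k1, k2, k3⟩ | ⟨k1, k2, k3⟩
  · exact Or.inl (isX_eq_w11 ⟨hn, by rw [dot_five]; exact hd⟩ k1)
  · right
    funext i
    simp only [octY]
    split_ifs with h1 h2
    · rw [h1, k1]
    · rw [hq i h2, k2]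
    · rw [hr i h2 h1, k3]

/-- The stabiliser of `w11`. -/
abbrev M3 : Subgroup G3 := MulAction.stabilizer G3 w11

/-- The monomial elements. -/
noncomputable abbrev ι3 : MulAction.stabilizer M24 pinf →* G3 := pointedHom fiveV_pointed

theorem vec8_eq : vec8 pinf = fiveV + w11 := by rw [w11]; abel

theorem mono_w11 {s : M24} (hs : s • pinf = pinf) : monoCo0 s s.2 ∅ empty_code • w11 = w11 :=
  (mono_fix_iff s w11).2 fun i => by
    simp only [w11_apply]
    have : s • i = pinf ↔ i = pinf :=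
      ⟨fun h => MulAction.injective s (h.trans hs.symm), fun h => h ▸ hs⟩
    simp only [this]

theorem range_ι3 : ι3.range = M3 := by
  ext g
  constructor
  · rintro ⟨s, rfl⟩
    exact mono_w11 s.2
  · intro hg
    refine mem_range_pointedHom fiveV_pointed ?_
    show leechR.cls ((g : Co0) • vec8 pinf) = leechR.cls (vec8 pinf)
    rw [vec8_eq, co0_add, MulAction.mem_stabilizer_iff.1 g.2,
      show (g : Co0) • w11 = w11 from hg]

theorem card_M3 : Nat.card M3 = 10200960 := by
  rw [← range_ι3, ← Nat.card_congr (MonoidHom.ofInjective (pointedHom_injective fiveV_pointed)).toEquiv,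
    card_stab_pinf]

theorem index_M3 : M3.index = 48600 := by
  have h := M3.card_mul_index
  rw [card_M3, card_stab48 fiveV_norm] at h
  omega

theorem pt23 : pt 23 = pinf := rfl

theorem mem_fix23 {σ : Equiv.Perm GolayPt} :
    σ ∈ fixMasks X23 ↔ σ ∈ M24 ∧ σ pinf = pinf := by
  rw [show X23 = [Nat.shiftLeft 1 23] from rfl, mem_fixMasks_bit (by norm_num : 23 < 24),
    fixMasks_nil, pt23]

/-- An element of the point stabiliser given by its code. -/
noncomputable def elem (c : ℕ) (h : inFix X23 c = true) : MulAction.stabilizer M24 pinf :=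
  ⟨⟨permOf c, (mem_fix23.1 (inFix_mem h)).1⟩, (mem_fix23.1 (inFix_mem h)).2⟩

theorem inM_D : inFix X23 codeD23 = true := by decide +kernel

/-- The element of order 23. -/
noncomputable def eA : MulAction.stabilizer M24 pinf := elem codeA inM_A
/-- The element of order 11. -/
noncomputable def eC : MulAction.stabilizer M24 pinf := elem codeC inM_C
/-- An element of order 5. -/
noncomputable def eD : MulAction.stabilizer M24 pinf := elem codeD23 inM_D

theorem word_rels : eA ^ 23 = 1 ∧ eA ≠ 1 ∧ eC ^ 11 = 1 ∧ eC ≠ 1 ∧ eC * eA = eA * eA * eC ∧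
    eD * eC = eC ^ 3 * eD ∧ eD ^ 5 = 1 := by
  have hv : ∀ L : List ℕ, (∀ g ∈ L, g = codeA ∨ g = codeC ∨ g = codeD23) → L.all valid = true := by
    intro L hL
    rw [List.all_eq_true]
    intro g hg
    rcases hL g hg with rfl | rfl | rfl
    · exact inFix_valid inM_A
    · exact inFix_valid inM_C
    · exact inFix_valid inM_D
  have ext' : ∀ {u v : MulAction.stabilizer M24 pinf},
      ((u : M24) : Equiv.Perm GolayPt) = ((v : M24) : Equiv.Perm GolayPt) → u = v :=
    fun h => Subtype.ext (Subtype.ext h)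
  refine ⟨ext' ?_, ?_, ext' ?_, ?_, ext' ?_, ext' ?_, ext' ?_⟩
  · have := eqW_sound (hv _ (by simp)) (show eqW (List.replicate 23 codeA) [] = true by decide +kernel)
    rw [List.map_replicate, List.prod_replicate] at this
    simpa [eA, elem] using this
  · intro h
    refine neW_sound (hv _ (by simp)) (show eqW [codeA] [] = false by decide +kernel) ?_
    simpa [eA, elem] using congrArg (fun u : MulAction.stabilizer M24 pinf =>
      ((u : M24) : Equiv.Perm GolayPt)) h
  · have := eqW_sound (hv _ (by simp)) (show eqW (List.replicate 11 codeC) [] = true by decide +kernel)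
    rw [List.map_replicate, List.prod_replicate] at this
    simpa [eC, elem] using this
  · intro h
    refine neW_sound (hv _ (by simp)) (show eqW [codeC] [] = false by decide +kernel) ?_
    simpa [eC, elem] using congrArg (fun u : MulAction.stabilizer M24 pinf =>
      ((u : M24) : Equiv.Perm GolayPt)) h
  · have := eqW_sound (hv _ (by simp))
      (show eqW [codeC, codeA] [codeA, codeA, codeC] = true by decide +kernel)
    simpa [eA, eC, elem, mul_assoc] using this
  · have := eqW_sound (hv _ (by intro g hg; simp [List.mem_replicate] at hg ⊢; tauto))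
      (show eqW [codeD23, codeC] (List.replicate 3 codeC ++ [codeD23]) = true by decide +kernel)
    simpa [eC, eD, elem, mul_assoc, pow_succ] using this
  · have := eqW_sound (hv _ (by simp))
      (show eqW (List.replicate 5 codeD23) [] = true by decide +kernel)
    rw [List.map_replicate, List.prod_replicate] at this
    simpa [eD, elem] using this

theorem closure_gens : Subgroup.closure ({eA, eC, eD} : Set (MulAction.stabilizer M24 pinf)) = ⊤ := by
  let j : MulAction.stabilizer M24 pinf →* Equiv.Perm GolayPt :=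
    M24.subtype.comp (MulAction.stabilizer M24 pinf).subtype
  have hj : Function.Injective j := fun u v h => Subtype.ext (Subtype.ext h)
  rw [eq_top_iff]
  intro u _
  have hu : j u ∈ fixMasks X23 := mem_fix23.2 ⟨u.1.2, u.2⟩
  have hle : fixMasks X23 ≤
      (Subgroup.closure ({eA, eC, eD} : Set (MulAction.stabilizer M24 pinf))).map j := by
    refine fixMasks_le_of_gens chain23 (slpOK_sound (fun g hg => slpOK_sound (fun g' hg' => ?_)
      (show slpOK [codeA, codeC, codeD23] ops23 M23genInit = true by decide +kernel) g hg) M23gen_ok)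
    simp only [List.mem_cons, List.not_mem_nil, or_false] at hg'
    rcases hg' with rfl | rfl | rfl
    · exact ⟨eA, Subgroup.subset_closure (by simp), rfl⟩
    · exact ⟨eC, Subgroup.subset_closure (by simp), rfl⟩
    · exact ⟨eD, Subgroup.subset_closure (by simp), rfl⟩
  obtain ⟨v, hv, e⟩ := hle hu
  rwa [← hj e]

theorem commute_eA {u : MulAction.stabilizer M24 pinf} (h : u * eA = eA * u) :
    u ∈ Subgroup.zpowers eA := by
  obtain ⟨i, hi⟩ := cent_A ((u : M24) : Equiv.Perm GolayPt)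
    (congrArg (fun v : MulAction.stabilizer M24 pinf => ((v : M24) : Equiv.Perm GolayPt)) h)
  rw [show u = eA ^ i from Subtype.ext (Subtype.ext (by rw [hi]; rfl))]
  exact pow_mem (Subgroup.mem_zpowers eA) i

theorem eA_eq : eA = ⟨shiftM24, by rw [MulAction.mem_stabilizer_iff, pinf_none]; exact shift_none⟩ :=
  Subtype.ext (Subtype.ext rfl)

/-- An element of the stabiliser. -/
noncomputable def A3 : G3 := ι3 eA
/-- An element of the stabiliser. -/
noncomputable def C3 : G3 := ι3 eC
/-- An element of the stabiliser. -/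
noncomputable def D3 : G3 := ι3 eD

theorem A3_order : orderOf A3 = 23 := by
  haveI : Fact (Nat.Prime 23) := ⟨by norm_num⟩
  rw [A3, orderOf_injective _ (pointedHom_injective fiveV_pointed)]
  exact orderOf_eq_prime word_rels.1 word_rels.2.1

theorem A3_fixed {y : leechLattice} (hy : IsX y) (hfix : (A3 : Co0) • y = y) : y = w11 := by
  have hstep : ∀ z : ZMod 23, (y : GolayPt → ℤ) (some (z + 1)) = (y : GolayPt → ℤ) (some z) := by
    intro z
    have := (mono_fix_iff (eA : M24) y).1 hfix (some z)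
    rw [eA_eq] at this
    rw [← shift_some z]
    exact this
  have hall : ∀ z : ZMod 23, (y : GolayPt → ℤ) (some z) = (y : GolayPt → ℤ) (some 0) := by
    have : ∀ n : ℕ, (y : GolayPt → ℤ) (some (n : ZMod 23)) = (y : GolayPt → ℤ) (some 0) := by
      intro n
      induction n with
      | zero => simp
      | succ n ih => push_cast; rw [hstep, ih]
    intro z
    rw [← ZMod.natCast_zmod_val z]
    exact this _
  refine isX_eq_w11 hy ?_
  obtain ⟨hn, hd⟩ := hy
  have hsum : ∀ φ : ℤ → ℤ, ∑ i, φ ((y : GolayPt → ℤ) i) =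
      φ ((y : GolayPt → ℤ) pinf) + 23 * φ ((y : GolayPt → ℤ) (some 0)) := fun φ => by
    rw [Fintype.sum_option, pinf_none,
      Finset.sum_congr rfl (g := fun _ => φ ((y : GolayPt → ℤ) (some 0))) fun z _ => by rw [hall z],
      Finset.sum_const, Finset.card_univ, ZMod.card, nsmul_eq_mul]
    rfl
  have h2 := hsum fun t => t ^ 2
  have h1 := hsum id
  simp only [id] at h1
  rw [show ∑ i, (y : GolayPt → ℤ) i ^ 2 = 32 from hn] at h2
  rw [dot_five, h1] at hd
  have hbd := abs_entry_le (B := 5) (by norm_num) (by norm_num) hn pinf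
  generalize (y : GolayPt → ℤ) pinf = p at hd h2 hbd ⊢
  generalize (y : GolayPt → ℤ) (some 0) = b at hd h2
  obtain ⟨b1, b2⟩ : -1 ≤ b ∧ b ≤ 1 := by constructor <;> nlinarith [sq_nonneg p]
  interval_cases b <;> first
    | omega
    | (exfalso; have : p = 3 ∨ p = -3 := by omega
       rcases this with rfl | rfl <;> norm_num at h2)

theorem A3_normalizer {n : G3} (h : n⁻¹ * A3 * n ∈ Subgroup.zpowers A3) : n ∈ M3 := by
  refine A3_fixed (isX_smul n isX_w11) ?_
  have hA : Subgroup.zpowers A3 ≤ M3 :=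
    Subgroup.zpowers_le.2 (range_ι3 ▸ ⟨eA, rfl⟩)
  have hk : (n⁻¹ * A3 * n : G3) • w11 = w11 := hA h
  calc (A3 : Co0) • ((n : Co0) • w11) = (n : Co0) • ((n⁻¹ * A3 * n : G3) • w11) := by
        show _ = (n : Co0) • (((n⁻¹ * A3 * n : G3) : Co0) • w11)
        rw [smul_smul, smul_smul]
        congr 1
        simp only [Subgroup.coe_mul, Subgroup.coe_inv]
        group
    _ = (n : Co0) • w11 := by rw [hk]

theorem eC_eq : (eC : M24) = mulM24 := Subtype.ext rfl

theorem shape_minus : ∀ i : GolayPt,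
    (if i = pinf then (-1 : ℤ) else if i = pz then -3 else if (∃ n < 11, i = some (2 ^ n * 1)) then -1
      else - -1) % 4 = 3 ↔ (i = pinf ∨ ∃ n < 11, i = some (2 ^ n * 1)) := by decide +kernel

/-- The fixed vectors of the element of order 11. -/
theorem C3_fixed {y y' : leechLattice} (hy : IsX y) (hfy : (C3 : Co0) • y = y) (hne : y ≠ w11)
    (hy' : IsX y') (hfy' : (C3 : Co0) • y' = y') (hne' : y' ≠ w11) : y = y' := by
  classical
  have e0 : pz = some 0 := by decide +kernel
  have key : ∀ u : leechLattice, IsX u → (C3 : Co0) • u = u → u ≠ w11 →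
      ∃ c : ℤ, (c = 1 ∨ c = -1) ∧ ∀ i, (u : GolayPt → ℤ) i = if i = pinf then -1 else if i = pz then -3
        else if (∃ n < 11, i = some (2 ^ n * 1)) then c else -c := by
    intro u hu hfu hnu
    set x : GolayPt → ℤ := (u : GolayPt → ℤ) with hx
    have hstep : ∀ z : ZMod 23, x (some (2 * z)) = x (some z) := by
      intro z
      have := (mono_fix_iff (eC : M24) u).1 hfu (some z)
      rw [eC_eq] at this
      rw [← mul_some z]
      exact this
    have hpow : ∀ (n : ℕ) z, x (some (2 ^ n * z)) = x (some z) := by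
      intro n
      induction n with
      | zero => intro z; simp
      | succ n ih => intro z; rw [pow_succ', mul_assoc, hstep, ih]
    have hval : ∀ z : ZMod 23, z ≠ 0 →
        x (some z) = if (∃ n < 11, z = 2 ^ n * 1) then x (some 1) else x (some 5) := by
      intro z hz
      split_ifs with h
      · obtain ⟨n, -, rfl⟩ := h; exact hpow n 1
      · rcases residues z with r | r | ⟨n, -, rfl⟩
        · exact absurd r hz
        · exact absurd r h
        · exact hpow n 5
    have hsum : ∀ φ : ℤ → ℤ, ∑ i, φ (x i) =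
        φ (x pinf) + φ (x pz) + 11 * φ (x (some 1)) + 11 * φ (x (some 5)) := by
      intro φ
      rw [Fintype.sum_option, pinf_none, e0,
        ← Finset.add_sum_erase Finset.univ (fun z => φ (x (some z))) (Finset.mem_univ (0 : ZMod 23))]
      have : ∀ z ∈ Finset.univ.erase (0 : ZMod 23), φ (x (some z)) =
          if (∃ n < 11, z = 2 ^ n * 1) then φ (x (some 1)) else φ (x (some 5)) := fun z hz => by
        rw [hval z (Finset.ne_of_mem_erase hz)]; split_ifs <;> rfl
      rw [Finset.sum_congr rfl this, Finset.sum_ite, Finset.sum_const, Finset.sum_const,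
        show ((Finset.univ.erase (0 : ZMod 23)).filter fun z => ∃ n < 11, z = 2 ^ n * 1).card = 11 by
          decide +kernel,
        show ((Finset.univ.erase (0 : ZMod 23)).filter fun z => ¬∃ n < 11, z = 2 ^ n * 1).card = 11 by
          decide +kernel]
      simp only [nsmul_eq_mul, Nat.cast_ofNat]
      ring
    obtain ⟨hn, hd⟩ := hu
    have hs := hsum id
    have hq := hsum fun t => t ^ 2
    rw [show ∑ i, x i ^ 2 = 32 from hn] at hq
    rw [dot_five] at hd
    simp only [id] at hs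
    have hne3 : x pinf ≠ 3 := fun h3 => hnu (isX_eq_w11 ⟨hn, by rw [dot_five]; exact hd⟩ h3)
    have ha : -5 ≤ x pinf ∧ x pinf ≤ 5 := abs_entry_le (by norm_num) (by norm_num) hn pinf
    have hb : -5 ≤ x pz ∧ x pz ≤ 5 := abs_entry_le (by norm_num) (by norm_num) hn pz
    have e : x pinf = -1 ∧ x pz = -3 ∧ (x (some 1) = 1 ∧ x (some 5) = -1 ∨
        x (some 1) = -1 ∧ x (some 5) = 1) := by
      change (∑ i, x i) + 4 * x pinf = -8 at hd
      generalize ∑ i, x i = S at hs hd
      generalize x (some 1) = c at hs hq ⊢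
      generalize x (some 5) = d at hs hq ⊢
      generalize x pinf = a at hs hq hd hne3 ha ⊢
      generalize x pz = b at hs hq hb ⊢
      have hc : -1 ≤ c ∧ c ≤ 1 := by
        constructor <;> nlinarith [sq_nonneg a, sq_nonneg b, sq_nonneg d]
      have hd' : -1 ≤ d ∧ d ≤ 1 := by
        constructor <;> nlinarith [sq_nonneg a, sq_nonneg b, sq_nonneg c]
      obtain ⟨hc1, hc2⟩ := hc
      obtain ⟨hd1, hd2⟩ := hd'
      obtain ⟨a1, a2⟩ := ha
      have hb' : b = -8 - 5 * a - 11 * c - 11 * d := by omega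
      subst hb'
      interval_cases c <;> interval_cases d <;> interval_cases a <;>
        first | omega | (norm_num at hq; done) | norm_num
    obtain ⟨e1, e2, e3⟩ := e
    refine ⟨x (some 1), by omega, fun i => ?_⟩
    rcases i with _ | z
    · rw [if_pos pinf_none.symm, ← pinf_none, e1]
    · rw [if_neg (by rw [pinf_none]; simp), e0]
      by_cases hz : z = 0
      · subst hz; rw [if_pos rfl, ← e0, e2]
      · rw [if_neg (by simp [hz]), hval z hz]
        simp only [Option.some.injEq]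
        split_ifs
        · rfl
        · omega
  have pos : ∀ u : leechLattice, IsX u → (C3 : Co0) • u = u → u ≠ w11 →
      ∀ i, (u : GolayPt → ℤ) i = if i = pinf then -1 else if i = pz then -3
        else if (∃ n < 11, i = some (2 ^ n * 1)) then 1 else -1 := by
    intro u hu hfu hnu
    obtain ⟨c, hc, h⟩ := key u hu hfu hnu
    rcases hc with rfl | rfl
    · exact h
    exfalso
    have hodd : ∀ i, (u : GolayPt → ℤ) i % 2 = 1 := fun i => by
      rw [h i]; split_ifs <;> norm_num
    have hc := ((odd_mem_iff hodd).1 u.2).1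
    rw [show (Finset.univ.filter fun i => (u : GolayPt → ℤ) i % 4 = 3) =
        (Finset.univ.filter fun i => i = pinf ∨ ∃ n < 11, i = some (2 ^ n * 1)) from
      Finset.filter_congr fun i _ => by rw [h i]; exact shape_minus i] at hc
    have := supports_inter_even hc sqMask_mem.1
    revert this
    decide +kernel
  exact Subtype.ext (funext fun i => by rw [pos y hy hfy hne i, pos y' hy' hfy' hne' i])

theorem mem_M3 {g : G3} : g ∈ M3 ↔ (g : Co0) • w11 = w11 := Iff.rfl

theorem gens_mem : A3 ∈ M3 ∧ C3 ∈ M3 ∧ D3 ∈ M3 :=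
  ⟨range_ι3 ▸ ⟨eA, rfl⟩, range_ι3 ▸ ⟨eC, rfl⟩, range_ι3 ▸ ⟨eD, rfl⟩⟩

theorem closure_M3 : Subgroup.closure ({A3, C3, D3} : Set G3) = M3 := by
  rw [← range_ι3, MonoidHom.range_eq_map, ← closure_gens, MonoidHom.map_closure]
  congr 1
  simp [Set.image_insert_eq, A3, C3, D3]

theorem rels3 : A3 ^ 23 = 1 ∧ C3 ^ 11 = 1 ∧ C3 ≠ 1 ∧ C3 * A3 * C3⁻¹ = A3 ^ 2 ∧
    D3 * C3 = C3 ^ 3 * D3 ∧ D3 ^ 5 = 1 := by
  obtain ⟨r1, -, r3, r4, r5, r6, r7⟩ := word_rels
  refine ⟨?_, ?_, ?_, ?_, ?_, ?_⟩
  · rw [A3, ← map_pow, r1, map_one]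
  · rw [C3, ← map_pow, r3, map_one]
  · exact fun h => r4 (pointedHom_injective fiveV_pointed (h.trans (map_one _).symm))
  · rw [mul_inv_eq_iff_eq_mul, A3, C3, ← map_mul, r5, pow_two, map_mul, map_mul]
  · rw [D3, C3, ← map_mul, r6, map_mul, map_pow]
  · rw [D3, ← map_pow, r7, map_one]

/-- Elements normalising `⟨C3⟩` with order dividing 5 fix `w11`. -/
theorem five_mem_M3 {d : G3} (h : d * C3 = C3 ^ 3 * d) (h5 : d ^ 5 = 1) : d ∈ M3 := by
  obtain ⟨r1, r3, r4, r5, r6, r7⟩ := rels3
  have hCw : (C3 : Co0) • w11 = w11 := mem_M3.1 gens_mem.2.1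
  have hC3 : ∀ y : leechLattice, ((C3 : G3) : Co0) • y = y → ((C3 ^ 3 : G3) : Co0) • y = y := by
    intro y hy
    exact pow_mem (show C3 ∈ MulAction.stabilizer G3 y from hy) 3
  have key : ∀ y, IsX y → (C3 : Co0) • y = y →
      IsX ((d : Co0) • y) ∧ (C3 : Co0) • ((d : Co0) • y) = (d : Co0) • y := by
    intro y hy hfy
    refine ⟨isX_smul d hy, ?_⟩
    have h3 : ((C3 ^ 3 : G3) : Co0) • ((d : Co0) • y) = (d : Co0) • y := by
      rw [← mul_smul, ← Subgroup.coe_mul, ← h, Subgroup.coe_mul, mul_smul, hfy]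
    have h4 : C3 = ((C3 ^ 3) ^ 4 : G3) := by
      rw [← pow_mul, show 3 * 4 = 11 + 1 by norm_num, pow_succ, r3, one_mul]
    have hs : C3 ∈ MulAction.stabilizer G3 ((d : Co0) • y) :=
      h4 ▸ pow_mem (show C3 ^ 3 ∈ MulAction.stabilizer G3 ((d : Co0) • y) from h3) 4
    exact hs
  by_contra hd
  rw [mem_M3] at hd
  obtain ⟨k1, k2⟩ := key w11 isX_w11 hCw
  set y := (d : Co0) • w11 with hy
  obtain ⟨k3, k4⟩ := key y k1 k2
  have hdy : (d : Co0) • y = w11 := by
    by_contra hne
    have := C3_fixed k1 k2 hd k3 k4 hne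
    exact hd (smul_left_cancel (d : Co0) this).symm
  have h5' : ((d ^ 5 : G3) : Co0) • w11 = w11 := by rw [h5]; exact one_smul _ _
  simp only [pow_succ, pow_zero, one_mul, Subgroup.coe_mul, mul_smul] at h5'
  rw [← hy, hdy, ← hy, hdy, ← hy] at h5'
  exact hd h5'

theorem card_G3 : Nat.card G3 = 495766656000 := card_stab48 fiveV_norm

theorem sylow_move (φ : MulAut G3) : ∃ g : G3, g * φ A3 * g⁻¹ ∈ Subgroup.zpowers A3 := by
  classical
  haveI : Fact (Nat.Prime 23) := ⟨by norm_num⟩
  haveI : Finite G3 := Nat.finite_of_card_ne_zero (by rw [card_G3]; norm_num)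
  have hsyl : ∀ x : G3, orderOf x = 23 → Nat.card (Subgroup.zpowers x) =
      23 ^ (Nat.card G3).factorization 23 := by
    intro x hx
    rw [Nat.card_zpowers, hx, show (Nat.card G3).factorization 23 = 1 from ?_, pow_one]
    refine le_antisymm ?_ ((by norm_num : Nat.Prime 23).factorization_pos_of_dvd Nat.card_pos.ne'
      (by rw [card_G3]; norm_num))
    by_contra hc
    have := (Nat.pow_dvd_pow 23 (not_le.mp hc)).trans (Nat.ordProj_dvd (Nat.card G3) _)
    rw [card_G3] at this
    norm_num at this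
  have hφA : orderOf (φ A3) = 23 := (MulEquiv.orderOf_eq φ A3).trans A3_order
  obtain ⟨g, hg⟩ := MulAction.exists_smul_eq G3 (Sylow.ofCard _ (hsyl _ hφA))
    (Sylow.ofCard _ (hsyl _ A3_order))
  refine ⟨g, ?_⟩
  have h' : g * φ A3 * g⁻¹ ∈
      ((g • Sylow.ofCard (Subgroup.zpowers (φ A3)) (hsyl _ hφA) : Sylow 23 G3) : Subgroup G3) :=
    ⟨φ A3, Subgroup.mem_zpowers _, rfl⟩
  rw [hg] at h'
  exact h'

/-- After an inner automorphism, the monomial subgroup is preserved. -/
theorem exists_preserving (φ : MulAut G3) :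
    ∃ g : G3, M3.map (MulAut.conj g * φ).toMonoidHom = M3 := by
  classical
  haveI : Finite G3 := Nat.finite_of_card_ne_zero (by rw [card_G3]; norm_num)
  haveI : Fact (Nat.Prime 23) := ⟨by norm_num⟩
  obtain ⟨g, hg⟩ := sylow_move φ
  obtain ⟨r1, r3, r4, r5, r6, r7⟩ := rels3
  let ψ := MulAut.conj g * φ
  have hψA : ψ A3 ∈ Subgroup.zpowers A3 := hg
  obtain ⟨k, hk⟩ := (Submonoid.mem_powers_iff _ _).1
    (mem_powers_iff_mem_zpowers.2 hψA)
  have hk0 : k % 23 ≠ 0 := fun h => by
    have : ψ A3 = ψ 1 := by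
      rw [← hk, map_one, pow_eq_pow_mod k r1, h, pow_zero]
    have := congrArg orderOf (ψ.injective this)
    rw [A3_order, orderOf_one] at this
    norm_num at this
  obtain ⟨l, hl⟩ : ∃ l, (A3 ^ k) ^ l = A3 := by
    refine exists_pow_eq_self_of_coprime ?_
    rw [A3_order, Nat.coprime_comm, (by norm_num : Nat.Prime 23).coprime_iff_not_dvd]
    omega
  set u := ψ C3 with hu
  have huA : u * A3 * u⁻¹ = A3 ^ 2 := by
    have h1 : u * ψ A3 * u⁻¹ = (ψ A3) ^ 2 := by rw [← map_inv, ← map_mul, ← map_mul, r5, map_pow]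
    rw [← hk] at h1
    calc u * A3 * u⁻¹ = (u * A3 ^ k * u⁻¹) ^ l := by rw [conj_pow, hl]
      _ = ((A3 ^ k) ^ l) ^ 2 := by rw [h1, pow_right_comm]
      _ = A3 ^ 2 := by rw [hl]
  set v := C3⁻¹ * u with hv
  have hvA : v * A3 = A3 * v := by
    have : v * A3 * v⁻¹ = A3 := by
      calc v * A3 * v⁻¹ = C3⁻¹ * (u * A3 * u⁻¹) * C3 := by rw [hv]; group
        _ = A3 := by rw [huA, ← r5]; group
    exact mul_inv_eq_iff_eq_mul.1 this
  have hvM : v ∈ M3 := A3_normalizer (by
    rw [mul_assoc, ← hvA, ← mul_assoc, inv_mul_cancel, one_mul]; exact Subgroup.mem_zpowers A3)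
  obtain ⟨v', hv'⟩ : v ∈ ι3.range := range_ι3 ▸ hvM
  obtain ⟨i, hi⟩ : ∃ i : ℕ, v = A3 ^ i := by
    have hc : v' * eA = eA * v' := pointedHom_injective fiveV_pointed (by
      rw [map_mul, map_mul, hv']; exact hvA)
    obtain ⟨i, hi⟩ := (Submonoid.mem_powers_iff _ _).1
      (mem_powers_iff_mem_zpowers.2 (commute_eA hc))
    exact ⟨i, by rw [← hv', ← hi, map_pow]; rfl⟩
  have hCA : ∀ n, C3 * A3 ^ n * C3⁻¹ = A3 ^ (2 * n) := fun n => by
    rw [← conj_pow, r5, ← pow_mul]
  set t := A3 ^ i with ht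
  have hu' : u = C3 * t := by rw [← hi, hv]; group
  have hconj : t * u * t⁻¹ = A3 ^ i * C3 := by rw [hu', ht]; group
  -- remove the power of `A3`
  obtain ⟨n, hn⟩ : ∃ n : ℕ, n = 22 * i := ⟨_, rfl⟩
  have hC' : A3 ^ (2 * i) * u * (A3 ^ (2 * i))⁻¹ = A3 ^ (2 * i) * C3 * (A3 ^ i)⁻¹ := by
    rw [hu', ht, two_mul, pow_add]; group
  have hfin : A3 ^ (2 * i) * C3 * (A3 ^ i)⁻¹ = C3 := by
    rw [← hCA i]; group
  refine ⟨A3 ^ (2 * i) * g, ?_⟩
  set χ := MulAut.conj (A3 ^ (2 * i) * g) * φ with hχdef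
  have hχ : ∀ x, χ x = A3 ^ (2 * i) * ψ x * (A3 ^ (2 * i))⁻¹ := fun x => by
    show MulAut.conj (A3 ^ (2 * i) * g) (φ x) = A3 ^ (2 * i) * MulAut.conj g (φ x) * _
    rw [MulAut.conj_apply, MulAut.conj_apply]; group
  have hχC : χ C3 = C3 := by rw [hχ, ← hu, hC', hfin]
  have hχD : χ D3 ∈ M3 := five_mem_M3
    (by rw [← hχC, ← map_pow, ← map_mul, ← map_mul, r6])
    (by rw [← map_pow, r7, map_one])
  obtain ⟨m1, m2, -⟩ := gens_mem
  have hle : M3.map χ.toMonoidHom ≤ M3 := by
    conv_lhs => rw [← closure_M3]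
    rw [MonoidHom.map_closure, Subgroup.closure_le]
    rintro _ ⟨x, hx, rfl⟩
    simp only [Set.mem_insert_iff, Set.mem_singleton_iff] at hx
    rcases hx with rfl | rfl | rfl
    · show χ A3 ∈ M3
      rw [hχ, ← hk]
      exact M3.mul_mem (M3.mul_mem (pow_mem m1 _) (pow_mem m1 _)) (M3.inv_mem (pow_mem m1 _))
    · show χ C3 ∈ M3
      rw [hχC]; exact m2
    · exact hχD
  refine Subgroup.eq_of_le_of_card_ge hle (le_of_eq ?_)
  exact Nat.card_congr (M3.equivMapOfInjective _ χ.injective).toEquiv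

theorem exists_fixing (φ : MulAut G3) :
    ∃ g : G3, ∀ m ∈ M3, (MulAut.conj g * φ) m = m := by
  obtain ⟨g, hg⟩ := exists_preserving φ
  set ψ := MulAut.conj g * φ
  have e : Nonempty (Spor.M23 ≃* M3) := by
    refine ⟨MulEquiv.trans ?_ ((MonoidHom.ofInjective (pointedHom_injective fiveV_pointed)).trans
      (MulEquiv.subgroupCongr range_ι3))⟩
    exact
      { toFun := fun s => ⟨⟨s.1, (mem_fix23.1 ((SetLike.ext_iff.1 sporM23_eq _).1 s.2)).1⟩,
          (mem_fix23.1 ((SetLike.ext_iff.1 sporM23_eq _).1 s.2)).2⟩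
        invFun := fun s => ⟨s.1.1, (SetLike.ext_iff.1 sporM23_eq _).2 (mem_fix23.2 ⟨s.1.2, s.2⟩)⟩
        left_inv := fun s => rfl
        right_inv := fun s => rfl
        map_mul' := fun s t => rfl }
  obtain ⟨e⟩ := e
  let r : MulAut M3 := (M3.equivMapOfInjective ψ.toMonoidHom ψ.injective).trans
    (MulEquiv.subgroupCongr hg)
  let r' : MulAut Spor.M23 := e.trans (r.trans e.symm)
  obtain ⟨a, ha⟩ : r' ∈ Cfsg.Inn Spor.M23 := by
    obtain ⟨⟨hs⟩, -⟩ := Nat.card_eq_one_iff_unique.1 out_M23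
    exact (QuotientGroup.eq_one_iff r').1 (hs _ _)
  refine ⟨(e a : G3)⁻¹ * g, fun m hm => ?_⟩
  obtain ⟨s, hs⟩ := e.surjective ⟨m, hm⟩
  have h1 : e.symm (r (e s)) = a * s * a⁻¹ := (DFunLike.congr_fun ha s).symm
  rw [MulEquiv.symm_apply_eq, hs, map_mul, map_mul, map_inv] at h1
  have h2 : ψ m = (e a : G3) * (e s : G3) * (e a : G3)⁻¹ := congrArg Subtype.val h1
  rw [hs] at h2
  show ((e a : G3)⁻¹ * g) * φ m * ((e a : G3)⁻¹ * g)⁻¹ = m
  calc _ = (e a : G3)⁻¹ * ψ m * (e a : G3) := by simp [ψ]; group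
    _ = m := by rw [h2]; group

/-- A point with entries `1`, `-3` and `-1`. -/
def zFun : GolayPt → ℤ := fun i => if i = pt 0 then -3 else if i ∈ mset 8391797 then 1 else -1

theorem octads_example : mset 8391797 ∈ octads ∧ mset 10558 ∈ octads ∧ pinf ∈ mset 8391797 ∧
    pt 0 ∈ mset 8391797 ∧ pinf ∉ mset 10558 :=
  ⟨mem_octads_iff.2 ⟨_, mem_octList.2 (by decide +kernel), rfl⟩,
    mem_octads_iff.2 ⟨_, mem_octList.2 (by decide +kernel), rfl⟩,
    by decide +kernel, by decide +kernel, by decide +kernel⟩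

theorem zFun_mem : zFun ∈ leechLattice := by
  rw [odd_mem_iff (by decide +kernel)]
  refine ⟨?_, by decide +kernel⟩
  rw [show (Finset.univ.filter fun i => zFun i % 4 = 3) = mset 8385418 by decide +kernel]
  exact mem_supports_iff.2 ⟨_, by decide +kernel, rfl⟩

theorem octY_mem : octY (mset 10558) ∈ leechLattice := by
  rw [odd_mem_iff (by decide +kernel)]
  refine ⟨?_, by decide +kernel⟩
  rw [show (Finset.univ.filter fun i => octY (mset 10558) i % 4 = 3) = mset 10558 by decide +kernel]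
  exact mem_supports_iff.2 ⟨_, by decide +kernel, rfl⟩

/-- The example vector. -/
def zVec : leechLattice := ⟨zFun, zFun_mem⟩
/-- The example vector. -/
def yVec : leechLattice := ⟨octY (mset 10558), octY_mem⟩

theorem vec_facts : IsX zVec ∧ IsX yVec ∧ dotInt (w11 : GolayPt → ℤ) yVec = -16 ∧
    dotInt (yVec : GolayPt → ℤ) zVec = -16 ∧ zVec ≠ yVec ∧ zVec ≠ w11 ∧ yVec ≠ w11 ∧
    dotInt (w11 : GolayPt → ℤ) zVec = 16 := by
  refine ⟨⟨?_, ?_⟩, ⟨?_, ?_⟩, ?_, ?_, ?_, ?_, ?_, ?_⟩
  all_goals first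
    | decide +kernel
    | exact fun h => absurd (congrArg (fun v : leechLattice => (v : GolayPt → ℤ) pinf) h)
        (by decide +kernel)

theorem octY_fixed_iff {o : Finset GolayPt} (hp : pinf ∉ o) {s : M24} (hs : s • pinf = pinf) :
    (∀ i, octY o (s • i) = octY o i) ↔ s • o = o := by
  have h1 : ∀ i, s • i = pinf ↔ i = pinf := fun i =>
    ⟨fun h => MulAction.injective s (h.trans hs.symm), fun h => h ▸ hs⟩
  constructor
  · intro h
    ext i
    rw [← smul_inv_smul s i, Finset.smul_mem_smul_finset_iff]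
    have := h (s⁻¹ • i)
    rw [smul_inv_smul] at this
    simp only [octY] at this
    by_cases hi : i = pinf
    · subst hi
      rw [smul_inv_smul]
      refine iff_of_false (fun hm => hp ?_) hp
      rwa [inv_smul_eq_iff.2 hs.symm] at hm
    · have hi' : s⁻¹ • i ≠ pinf := fun e => hi (by rw [← h1] at e; rwa [smul_inv_smul] at e)
      rw [if_neg hi, if_neg hi'] at this
      rw [smul_inv_smul]
      by_cases a : s⁻¹ • i ∈ o <;> by_cases b : i ∈ o <;> simp [a, b] at this ⊢
  · intro h i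
    have : s • i ∈ o ↔ i ∈ o := by
      conv_lhs => rw [← h]
      exact Finset.smul_mem_smul_finset_iff s
    simp only [octY, h1, this]

theorem centraliser_trivial {u : leechLattice} (hu : IsX u)
    (hdot : dotInt (w11 : GolayPt → ℤ) u = -16) {m : G3} (hmw : (m : Co0) • w11 = w11)
    (hm : ∀ k : G3, (k : Co0) • w11 = w11 → (k : Co0) • u = u → k * m = m * k) : m = 1 := by
  classical
  obtain ⟨o, ho, hp, hy⟩ := isX_octad hu hdot
  have hne : u ≠ w11 := fun h => by
    rw [h, dotInt_self, w11_facts.1] at hdot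
    norm_num at hdot
  -- the lift of a permutation fixing `o`
  have lift : ∀ s : M24, s ∈ octL o → ∃ k : G3, (k : Co0) = monoCo0 s s.2 ∅ empty_code ∧
      (k : Co0) • w11 = w11 ∧ (k : Co0) • u = u := fun s hs =>
    ⟨⟨monoCo0 s s.2 ∅ empty_code, perm_fix_five hs.2⟩, rfl, mono_w11 hs.2,
      (mono_fix_iff s u).2 fun i => by rw [hy]; exact (octY_fixed_iff hp hs.2).2 hs.1 i⟩
  have hmv : ∀ y, IsX y → (∀ s ∈ octL o, monoCo0 s s.2 ∅ empty_code • y = y) →
      ∀ s ∈ octL o, monoCo0 s s.2 ∅ empty_code • ((m : Co0) • y) = (m : Co0) • y := by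
    intro y hy' hf s hs
    obtain ⟨k, k1, k2, k3⟩ := lift s hs
    rw [← k1, ← mul_smul, ← Subgroup.coe_mul, hm k k2 k3, Subgroup.coe_mul, mul_smul, k1, hf s hs]
  have hw : ∀ s ∈ octL o, monoCo0 s s.2 ∅ empty_code • w11 = w11 := fun s hs => mono_w11 hs.2
  have hu' : ∀ s ∈ octL o, monoCo0 s s.2 ∅ empty_code • u = u := fun s hs => by
    obtain ⟨k, k1, -, k3⟩ := lift s hs
    rwa [← k1]
  have cases2 : ∀ y, IsX y → (∀ s ∈ octL o, monoCo0 s s.2 ∅ empty_code • y = y) →
      (m : Co0) • y = w11 ∨ (m : Co0) • y = u := by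
    intro y hy' hf
    rcases fixed_octL ho hp (isX_smul m hy') (hmv y hy' hf) with h | h
    · exact Or.inl h
    · exact Or.inr (Subtype.ext (h.trans hy.symm))
  obtain ⟨t1, t2, f, hfL, a, ha, b, hb, hbi, hfix⟩ := octL_facts ho hp
  obtain ⟨σ, hσ⟩ : m ∈ ι3.range := range_ι3 ▸ hmw
  have hcomm : ∀ s : M24, s ∈ octL o → s * σ.1 = σ.1 * s := by
    intro s hs
    have hk := hm (ι3 ⟨s, hs.2⟩) (mono_w11 hs.2) (hu' s hs)
    rw [← hσ, ← map_mul, ← map_mul] at hk
    exact congrArg Subtype.val (pointedHom_injective fiveV_pointed hk)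
  have hσo : σ.1 • o = o := by
    refine (octY_fixed_iff hp σ.2).1 fun i => ?_
    have hmu : (m : Co0) • u = u := by
      rcases cases2 u hu hu' with h' | h'
      · exact absurd (smul_left_cancel (m : Co0) (h'.trans hmw.symm)) hne
      · exact h'
    have := (mono_fix_iff σ.1 u).1 (by rw [← hσ] at hmu; exact hmu) i
    rwa [hy] at this
  have hperm : ∀ p, p ∈ fixPts f → σ.1 • p ∈ fixPts f := fun p hp' => by
    simp only [fixPts, Finset.mem_filter, Finset.mem_univ, true_and] at hp' ⊢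
    rw [← mul_smul, hcomm f hfL, mul_smul, hp']
  have hin : ∀ p, σ.1 • p ∈ o ↔ p ∈ o := fun p => by
    conv_lhs => rw [← hσo]
    exact Finset.smul_mem_smul_finset_iff σ.1
  have hfa : σ.1 • a = a := by
    have := hperm a (by rw [hfix]; simp)
    have h2 := (hin a).2 ha
    rw [hfix] at this
    simp only [Finset.mem_insert, Finset.mem_singleton] at this
    rcases this with h | h | h
    · exact absurd (h ▸ h2) hp
    · exact h
    · exact absurd (h ▸ h2) hb
  have hfb : σ.1 • b = b := by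
    have := hperm b (by rw [hfix]; simp)
    rw [hfix] at this
    simp only [Finset.mem_insert, Finset.mem_singleton] at this
    rcases this with h | h | h
    · exact absurd (MulAction.injective σ.1 (h.trans σ.2.symm)) hbi
    · exact absurd ((hin b).1 (h ▸ ha)) hb
    · exact h
  have hσ1 : σ = 1 := Subtype.ext (Subtype.ext (Equiv.ext fun p => by
    show σ.1 • p = p
    by_cases h1 : p ∈ o
    · obtain ⟨s, hs, rfl⟩ := t1 a ha p h1
      rw [← mul_smul, ← hcomm s hs, mul_smul, hfa]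
    by_cases h2 : p = pinf
    · rw [h2]; exact σ.2
    obtain ⟨s, hs, rfl⟩ := t2 b hb hbi p h1 h2
    rw [← mul_smul, ← hcomm s hs, mul_smul, hfb]))
  rw [← hσ, hσ1, map_one]

/-- An automorphism fixing the monomial subgroup pointwise fixes every element carrying `w11` to
a vector with product `-16`. -/
theorem fixed_of_dot {φ : MulAut G3} (hφ : ∀ m ∈ M3, φ m = m) {h : G3}
    (hd : dotInt (w11 : GolayPt → ℤ) ((h : Co0) • w11 : leechLattice) = -16) : φ h = h := by
  obtain ⟨o, ho, hp, hy⟩ := isX_octad (isX_smul h isX_w11) hd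
  have hfix : ∀ s ∈ octL o,
      monoCo0 s s.2 ∅ empty_code • ((φ h : Co0) • w11) = (φ h : Co0) • w11 := by
    intro s hs
    let k : G3 := ⟨monoCo0 s s.2 ∅ empty_code, perm_fix_five hs.2⟩
    have k1 : k ∈ M3 := mono_w11 hs.2
    have k2 : (k : Co0) • ((h : Co0) • w11) = (h : Co0) • w11 :=
      (mono_fix_iff s _).2 fun i => by rw [hy]; exact (octY_fixed_iff hp hs.2).2 hs.1 i
    have k3 : h⁻¹ * k * h ∈ M3 := by
      rw [mem_M3, Subgroup.coe_mul, Subgroup.coe_mul, Subgroup.coe_inv, mul_smul, mul_smul, k2,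
        inv_smul_smul]
    have e := hφ _ k3
    rw [map_mul, map_mul, map_inv, hφ k k1] at e
    have e2 : ((φ h)⁻¹ * k * φ h : G3) ∈ M3 := e ▸ k3
    rw [mem_M3, Subgroup.coe_mul, Subgroup.coe_mul, Subgroup.coe_inv, mul_smul, mul_smul,
      inv_smul_eq_iff] at e2
    exact e2
  have hφh : (φ h : Co0) • w11 = (h : Co0) • w11 := by
    rcases fixed_octL ho hp (isX_smul (φ h) isX_w11) hfix with e | e
    · exfalso
      have e1 : φ (φ h) = φ h := hφ _ (mem_M3.2 e)
      rw [φ.injective e1] at e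
      rw [e, dotInt_self, w11_facts.1] at hd
      norm_num at hd
    · exact Subtype.ext (e.trans hy.symm)
  have h' := centraliser_trivial (u := (h : Co0)⁻¹ • w11) (isX_smul h⁻¹ isX_w11) ?_
    (m := h⁻¹ * φ h) ?_ ?_
  · exact (inv_mul_eq_one.1 h').symm
  · rw [← co0_dot (h : Co0), smul_inv_smul, dotInt_comm]
    exact hd
  · rw [Subgroup.coe_mul, Subgroup.coe_inv, mul_smul, hφh, inv_smul_smul]
  · intro k k1 k2
    have hk' : h * k * h⁻¹ ∈ M3 := by
      rw [mem_M3, Subgroup.coe_mul, Subgroup.coe_mul, Subgroup.coe_inv, mul_smul, mul_smul, k2,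
        smul_inv_smul]
    have e := hφ _ hk'
    rw [map_mul, map_mul, map_inv, hφ k (mem_M3.2 k1)] at e
    calc k * (h⁻¹ * φ h) = h⁻¹ * (h * k * h⁻¹) * φ h := by group
      _ = h⁻¹ * (φ h * k * (φ h)⁻¹) * φ h := by rw [e]
      _ = h⁻¹ * φ h * k := by group

theorem zVec_stab : ∀ s : M24, s • pinf = pinf → monoCo0 s s.2 ∅ empty_code • zVec = zVec →
    s ∈ MulAction.stabilizer M24 (mset 8391797) ⊓ MulAction.stabilizer M24 pinf ⊓
      MulAction.stabilizer M24 (pt 0) := by
  intro s hs h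
  have hz : ∀ i, zFun (s • i) = zFun i := (mono_fix_iff s zVec).1 h
  have e1 : ∀ i, i ∈ mset 8391797 ↔ zFun i ≠ -1 := by decide +kernel
  have e2 : ∀ i, i = pt 0 ↔ zFun i = -3 := by decide +kernel
  refine ⟨⟨?_, hs⟩, (e2 _).2 ((hz _).trans ((e2 _).1 rfl))⟩
  show s • mset 8391797 = mset 8391797
  ext i
  rw [← smul_inv_smul s i, Finset.smul_mem_smul_finset_iff, e1, e1, hz]

theorem card_flag : Nat.card ↥(MulAction.stabilizer M24 (mset 8391797) ⊓
    MulAction.stabilizer M24 pinf ⊓ MulAction.stabilizer M24 (pt 0)) ≤ 5760 := by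
  classical
  obtain ⟨ho, -, hp, hj, -⟩ := octads_example
  set S := MulAction.stabilizer M24 (mset 8391797) ⊓ MulAction.stabilizer M24 pinf with hS
  have hne : pinf ≠ pt 0 := pinf_ne_pz
  have h7 : 7 ≤ (MulAction.orbit S (pt 0)).ncard := by
    have hsub : (((mset 8391797).erase pinf : Finset GolayPt) : Set GolayPt) ⊆
        MulAction.orbit S (pt 0) := fun q hq => by
      obtain ⟨q1, q2⟩ := Finset.mem_erase.1 hq
      obtain ⟨g, g1, g2, g3⟩ := octad_two ho ho hp hj hne hp q2 q1.symm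
      exact ⟨⟨g, g1, g2⟩, g3⟩
    refine le_trans (le_of_eq ?_) (Set.ncard_le_ncard hsub (Set.toFinite _))
    rw [Set.ncard_coe_finset, Finset.card_erase_of_mem hp, ho.2]
  have h := (MulAction.stabilizer S (pt 0)).card_mul_index
  rw [MulAction.index_stabilizer, card_stab_octad_in ho hp] at h
  have h5 : Nat.card (MulAction.stabilizer S (pt 0)) ≤ 5760 := by
    by_contra hlt
    have h' : 5761 * 7 ≤ Nat.card (MulAction.stabilizer S (pt 0)) *
        (MulAction.orbit S (pt 0)).ncard := Nat.mul_le_mul (by omega) h7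
    rw [h] at h'
    norm_num at h'
  refine le_trans (Nat.card_le_card_of_injective
    (fun k => (⟨⟨k.1, k.2.1⟩, k.2.2⟩ : MulAction.stabilizer S (pt 0)))
    fun a b e => Subtype.ext (congrArg (fun x : MulAction.stabilizer S (pt 0) => x.1.1) e)) h5

theorem inner_of_fixing {φ : MulAut G3} (hφ : ∀ m ∈ M3, φ m = m) : φ = 1 := by
  classical
  haveI : Finite G3 := Nat.finite_of_card_ne_zero (by rw [card_G3]; norm_num)
  haveI : Fact (Nat.Prime 23) := ⟨by norm_num⟩
  let H : Subgroup G3 := φ.toMonoidHom.eqLocus (MonoidHom.id G3)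
  have hMH : M3 ≤ H := fun m hm => hφ m hm
  let T : Set leechLattice := MulAction.orbit H w11
  obtain ⟨fz, fy, d1, d2, n1, n2, n3, d3⟩ := vec_facts
  have h506 : ∀ y, IsX y → dotInt (w11 : GolayPt → ℤ) y = -16 →
      ∃ h ∈ H, (h : Co0) • w11 = y := by
    intro y hy hd
    obtain ⟨g, hg⟩ := g3_to_w11 hy
    have e : ((g⁻¹ : G3) : Co0) • w11 = y := by rw [← hg, Subgroup.coe_inv, inv_smul_smul]
    exact ⟨g⁻¹, fixed_of_dot hφ (by rw [e]; exact hd), e⟩
  have hyT : yVec ∈ T := by
    obtain ⟨h, hh, e⟩ := h506 yVec fy d1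
    exact ⟨⟨h, hh⟩, e⟩
  have hzT : zVec ∈ T := by
    obtain ⟨h, hh, e⟩ := h506 yVec fy d1
    have hd : dotInt (w11 : GolayPt → ℤ) ((h : Co0)⁻¹ • zVec : leechLattice) = -16 := by
      rw [← co0_dot (h : Co0), smul_inv_smul, e]
      exact d2
    obtain ⟨k, hk, e'⟩ := h506 _ (isX_smul h⁻¹ fz) hd
    refine ⟨⟨h * k, H.mul_mem hh hk⟩, ?_⟩
    show ((h * k : G3) : Co0) • w11 = zVec
    rw [Subgroup.coe_mul, mul_smul, e']; exact smul_inv_smul _ _
  -- the orbits of the monomial group
  let Oy : Set leechLattice := MulAction.orbit M3 yVec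
  let Oz : Set leechLattice := MulAction.orbit M3 zVec
  have hTfin : T.Finite := Set.finite_range _
  haveI : Finite T := hTfin.to_subtype
  have hsub : ∀ y ∈ T, MulAction.orbit M3 y ⊆ T := by
    rintro _ ⟨h, rfl⟩ _ ⟨m, rfl⟩
    exact ⟨⟨(m : G3) * h, H.mul_mem (hMH m.2) h.2⟩, mul_smul (((m : G3)) : Co0) ((h : G3) : Co0) w11⟩
  have horb : ∀ (y : leechLattice) (S : Subgroup M24) (n : ℕ),
      (∀ s : M24, s • pinf = pinf → monoCo0 s s.2 ∅ empty_code • y = y → s ∈ S) →
      Nat.card S ≤ n → 10200960 ≤ (MulAction.orbit M3 y).ncard * n := by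
    intro y S n hS hn
    have h := (MulAction.stabilizer M3 y).card_mul_index
    rw [MulAction.index_stabilizer, card_M3] at h
    refine h ▸ (mul_comm _ _).le.trans (Nat.mul_le_mul_left _ (le_trans ?_ hn))
    have hx : ∀ k : MulAction.stabilizer M3 y, ∃ s : MulAction.stabilizer M24 pinf,
        ι3 s = (k : G3) := fun k => show ((k : M3) : G3) ∈ ι3.range by rw [range_ι3]; exact k.1.2
    choose s hs using hx
    refine Nat.card_le_card_of_injective (fun k => (⟨(s k).1, hS _ (s k).2 ?_⟩ : S)) fun k k' e => ?_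
    · have : ((k : G3) : Co0) • y = y := k.2
      rw [← hs k] at this
      exact this
    · have e' : s k = s k' := Subtype.ext (congrArg (fun q : S => (q : M24)) e)
      exact Subtype.ext (Subtype.ext (by rw [← hs k, ← hs k', e']))
  obtain ⟨ho1, ho2, ho3, ho4, ho5⟩ := octads_example
  have hy506 : 506 ≤ Oy.ncard := by
    have := horb yVec (octL (mset 10558)) 20160 (fun s hs h => ⟨(octY_fixed_iff ho5 hs).1
      ((mono_fix_iff s yVec).1 h), hs⟩) (card_stab_octad_out ho2 ho5).le
    show 506 ≤ (MulAction.orbit M3 yVec).ncard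
    omega
  have hz1771 : 1771 ≤ Oz.ncard := by
    have := horb zVec (MulAction.stabilizer M24 (mset 8391797) ⊓ MulAction.stabilizer M24 pinf ⊓
      MulAction.stabilizer M24 (pt 0)) 5760 zVec_stab card_flag
    show 1771 ≤ (MulAction.orbit M3 zVec).ncard
    omega
  have hdot : ∀ y : leechLattice, ∀ z : leechLattice, z ∈ MulAction.orbit M3 y →
      dotInt (w11 : GolayPt → ℤ) z = dotInt (w11 : GolayPt → ℤ) y := by
    rintro y _ ⟨m, rfl⟩
    have hm : ((m : G3) : Co0) • w11 = w11 := m.2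
    conv_lhs => rw [← hm]
    exact co0_dot _ _ _
  have hdisj : Disjoint Oy Oz := Set.disjoint_left.2 fun u h1 h2 => by
    have := (hdot _ u h1).symm.trans (hdot _ u h2)
    omega
  have hbig : 2277 ≤ T.ncard := by
    have := Set.ncard_le_ncard (Set.union_subset (hsub _ hyT) (hsub _ hzT)) hTfin
    rw [Set.ncard_union_eq hdisj (Set.finite_range _) (Set.finite_range _)] at this
    have e1 : Oy = MulAction.orbit M3 yVec := rfl
    have e2 : Oz = MulAction.orbit M3 zVec := rfl
    omega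
  -- the orbit
  have hTX : ∀ y ∈ T, IsX y := by rintro _ ⟨h, rfl⟩; exact isX_smul h.1 isX_w11
  have hA : A3 ∈ H := hMH gens_mem.1
  have hmod : T.ncard % 23 = 1 := by
    have hP : IsPGroup 23 (Subgroup.zpowers (⟨A3, hA⟩ : H)) := IsPGroup.of_card (n := 1) (by
      rw [Nat.card_zpowers, ← Subgroup.orderOf_coe, A3_order, pow_one])
    have h := hP.card_modEq_card_fixedPoints T
    rw [Nat.card_coe_set_eq] at h
    have e : MulAction.fixedPoints (Subgroup.zpowers (⟨A3, hA⟩ : H)) T =
        {⟨w11, MulAction.mem_orbit_self w11⟩} := by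
      ext ⟨y, hy⟩
      constructor
      · intro hf
        exact Subtype.ext (A3_fixed (hTX y hy)
          (congrArg Subtype.val (hf ⟨_, Subgroup.mem_zpowers _⟩)))
      · intro e
        rw [Set.mem_singleton_iff] at e
        rw [e]
        rintro ⟨_, n, rfl⟩
        have hs : (⟨A3, hA⟩ : H) ∈
            MulAction.stabilizer H (⟨w11, MulAction.mem_orbit_self w11⟩ : T) :=
          Subtype.ext (mem_M3.1 gens_mem.1)
        exact MulAction.mem_stabilizer_iff.1 (Subgroup.zpow_mem _ hs n)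
    rw [e, Nat.card_coe_set_eq, Set.ncard_singleton] at h
    exact h
  have hidx : T.ncard * H.index = 48600 := by
    rw [← index_M3, ← Subgroup.relIndex_mul_index hMH, Subgroup.relIndex]
    congr 1
    rw [show M3.subgroupOf H = MulAction.stabilizer H w11 from rfl, MulAction.index_stabilizer]
  have hkey : T.ncard = 48600 := by
    have hall : ((List.range 48600).all fun d => !(Nat.ble 2277 d && (48600 % d == 0) &&
        (d % 23 == 1))) = true := by decide +kernel
    by_contra hne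
    have hd : T.ncard ∣ 48600 := ⟨_, hidx.symm⟩
    have hlt : T.ncard < 48600 := lt_of_le_of_ne (Nat.le_of_dvd (by norm_num) hd) hne
    have := List.all_eq_true.1 hall _ (List.mem_range.2 hlt)
    simp [show Nat.ble 2277 T.ncard = true from Nat.ble_eq ▸ hbig, Nat.dvd_iff_mod_eq_zero.1 hd, hmod] at this
  rw [hkey] at hidx
  have htop : H = ⊤ := Subgroup.index_eq_one.1 (by omega)
  refine MulEquiv.ext fun g => ?_
  exact (show g ∈ H by rw [htop]; trivial)

/-- The outer automorphism group is trivial. -/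
theorem card_out_G3 : Nat.card (Cfsg.Out G3) = 1 := by
  refine Out_card_eq_one fun φ => ?_
  obtain ⟨g, hg⟩ := exists_fixing φ
  refine ⟨g⁻¹, ?_⟩
  have h := inner_of_fixing hg
  rw [map_inv, eq_inv_iff_mul_eq_one]
  exact mul_eq_one_comm.1 h

end CfsgLib.Golay.Co3Out
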