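import Cfsg.Agent.Lib.Golay.CocodeExtData
import Cfsg.Agent.Lib.Golay.Co3Out
import Cfsg.Agent.Lib.Golay.FixSearch

/-!
A non-split extension of `M23` by the cocode module: pairs of a permutation and a function on the
code words vanishing at the extra point whose coboundary is the variation of the loop cocycle.
-/

set_option autoImplicit false
set_option maxRecDepth 100000
set_option maxHeartbeats 300000

namespace CfsgLib.Golay.CocodeExt

open Cfsg CfsgLib.Golay CfsgLib.Mathieu
open CfsgLib.KnownA.Mathieu (eqW eqW_sound codeA codeC codeD23)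

/-- Words. -/
abbrev W : Type := GolayPt → ZMod 2

theorem add_self (a : ZMod 2) : a + a = 0 := CharTwo.add_self_eq_zero a

theorem z2 (a : ZMod 2) : a = 0 ∨ a = 1 := by revert a; decide

theorem wadd_self (x : W) : x + x = 0 := funext fun p => add_self (x p)

/-- The action on words. -/
def act (σ : Equiv.Perm GolayPt) (x : W) : W := fun p => x (σ⁻¹ p)

theorem act_one (x : W) : act 1 x = x := by funext p; simp [act]

theorem act_mul (σ τ : Equiv.Perm GolayPt) (x : W) : act (σ * τ) x = act σ (act τ x) := by
  funext p; simp [act, mul_inv_rev]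

theorem act_add (σ : Equiv.Perm GolayPt) (x y : W) : act σ (x + y) = act σ x + act σ y := rfl

/-- The code words vanishing at the extra point. -/
def code0 : Submodule (ZMod 2) W :=
  golayCode ⊓ LinearMap.ker (LinearMap.proj (R := ZMod 2) (φ := fun _ : GolayPt => ZMod 2) none)

theorem mem_code0 {x : W} : x ∈ code0 ↔ x ∈ golayCode ∧ x none = 0 := Iff.rfl

theorem act_code {σ : Equiv.Perm GolayPt} (hσ : σ ∈ M24) {x : W} (hx : x ∈ golayCode) :
    act σ x ∈ golayCode := by
  obtain ⟨w, hw, e⟩ := mem_M24_iff.1 hσ _ ⟨x, hx, rfl⟩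
  rw [smul_support₂] at e
  rw [support₂_injective e] at hw
  exact hw

theorem act_code0 (σ : Spor.M23) {x : W} (hx : x ∈ code0) :
    act (σ : Equiv.Perm GolayPt) x ∈ code0 := by
  refine ⟨act_code σ.2.1 hx.1, ?_⟩
  show x ((σ : Equiv.Perm GolayPt)⁻¹ none) = 0
  rw [Equiv.Perm.inv_eq_iff_eq.2 (σ.2.2 : (σ : Equiv.Perm GolayPt) none = none).symm]
  exact hx.2

/-- The action on the module. -/
def actV (σ : Spor.M23) (x : code0) : code0 := ⟨act σ x, act_code0 σ x.2⟩

theorem actV_one (x : code0) : actV 1 x = x := Subtype.ext (act_one _)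

theorem actV_mul (σ τ : Spor.M23) (x : code0) : actV (σ * τ) x = actV σ (actV τ x) :=
  Subtype.ext (act_mul _ _ _)

theorem actV_add (σ : Spor.M23) (x y : code0) : actV σ (x + y) = actV σ x + actV σ y := rfl

/-- The cocycle. -/
def th (x y : W) : ZMod 2 :=
  (U2.map fun p => x (pt p.1) * y (pt p.2)).sum +
    (U3.map fun p => x (pt p.1) * x (pt p.2.1) * y (pt p.2.2)).sum

/-- The coboundary of the cocycle, in expanded form. -/
def tri (x y z : W) : ZMod 2 :=
  (U3.map fun p => (x (pt p.1) * y (pt p.2.1) + x (pt p.2.1) * y (pt p.1)) * z (pt p.2.2)).sum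

theorem th_coboundary (x y z : W) :
    th y z + th (x + y) z + th x (y + z) + th x y = tri x y z := by
  have h2 : ∀ L : List (ℕ × ℕ),
      (L.map fun p => y (pt p.1) * z (pt p.2)).sum +
        (L.map fun p => (x + y) (pt p.1) * z (pt p.2)).sum +
        (L.map fun p => x (pt p.1) * (y + z) (pt p.2)).sum +
        (L.map fun p => x (pt p.1) * y (pt p.2)).sum = 0 := fun L => by
    simp only [← List.sum_map_add]
    refine List.sum_eq_zero fun a ha => ?_
    obtain ⟨p, -, rfl⟩ := List.mem_map.1 ha
    simp only [Pi.add_apply]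
    generalize x (pt p.1) = a; generalize y (pt p.1) = b; generalize y (pt p.2) = c
    generalize z (pt p.2) = d
    revert a b c d; decide
  have h3 : ∀ L : List (ℕ × ℕ × ℕ),
      (L.map fun p => y (pt p.1) * y (pt p.2.1) * z (pt p.2.2)).sum +
        (L.map fun p => (x + y) (pt p.1) * (x + y) (pt p.2.1) * z (pt p.2.2)).sum +
        (L.map fun p => x (pt p.1) * x (pt p.2.1) * (y + z) (pt p.2.2)).sum +
        (L.map fun p => x (pt p.1) * x (pt p.2.1) * y (pt p.2.2)).sum =
      (L.map fun p => (x (pt p.1) * y (pt p.2.1) + x (pt p.2.1) * y (pt p.1)) * z (pt p.2.2)).sum :=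
    fun L => by
    simp only [← List.sum_map_add]
    refine congrArg List.sum (List.map_congr_left fun p _ => ?_)
    simp only [Pi.add_apply]
    generalize x (pt p.1) = a; generalize y (pt p.1) = b; generalize x (pt p.2.1) = a'
    generalize y (pt p.2.1) = b'; generalize y (pt p.2.2) = c; generalize z (pt p.2.2) = d
    revert a b a' b' c d; decide
  have e := congrArg₂ (· + ·) (h2 U2) (h3 U3)
  simp only [zero_add] at e
  rw [tri, ← e, th, th, th, th]
  abel

theorem mword_bit (m i : ℕ) (hi : i < 24) :
    mword m (pt i) = if m.testBit i then 1 else 0 := by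
  simp [mword, idx_pt hi]

theorem bool_add (a b : Bool) : (if Bool.xor a b then (1 : ZMod 2) else 0) =
    (if a then 1 else 0) + (if b then 1 else 0) := by
  revert a b; decide

theorem foldr_sum {α : Type} (L : List α) (f : α → Bool) :
    (if L.foldr (fun p s => Bool.xor (f p) s) false then (1 : ZMod 2) else 0) =
      (L.map fun p => if f p then (1 : ZMod 2) else 0).sum := by
  induction L with
  | nil => rfl
  | cons p L ih => rw [List.foldr_cons, List.map_cons, List.sum_cons, bool_add, ih]

theorem U_lt : (∀ p ∈ U2, p.1 < 24 ∧ p.2 < 24) ∧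
    ∀ p ∈ U3, p.1 < 24 ∧ p.2.1 < 24 ∧ p.2.2 < 24 := by decide +kernel

theorem th_mword (a b : ℕ) : th (mword a) (mword b) = if thM a b then 1 else 0 := by
  rw [thM, bool_add, foldr_sum, foldr_sum, th]
  refine congrArg₂ (· + ·) (congrArg List.sum (List.map_congr_left fun p hp => ?_))
    (congrArg List.sum (List.map_congr_left fun p hp => ?_))
  · rw [mword_bit _ _ (U_lt.1 p hp).1, mword_bit _ _ (U_lt.1 p hp).2, bitB_eq, bitB_eq]
    cases a.testBit p.1 <;> cases b.testBit p.2 <;> rfl
  · obtain ⟨h1, h2, h3⟩ := U_lt.2 p hp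
    rw [mword_bit _ _ h1, mword_bit _ _ h2, mword_bit _ _ h3, bitB_eq, bitB_eq, bitB_eq]
    cases a.testBit p.1 <;> cases a.testBit p.2.1 <;> cases b.testBit p.2.2 <;> rfl

theorem tri_mword (a b c : ℕ) :
    tri (mword a) (mword b) (mword c) = if triM a b c then 1 else 0 := by
  rw [triM, foldr_sum, tri]
  refine congrArg List.sum (List.map_congr_left fun p hp => ?_)
  obtain ⟨h1, h2, h3⟩ := U_lt.2 p hp
  rw [mword_bit _ _ h1, mword_bit _ _ h2, mword_bit _ _ h1, mword_bit _ _ h2, mword_bit _ _ h3,
    bitB_eq, bitB_eq, bitB_eq, bitB_eq, bitB_eq]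
  cases a.testBit p.1 <;> cases b.testBit p.1 <;> cases a.testBit p.2.1 <;>
    cases b.testBit p.2.1 <;> cases c.testBit p.2.2 <;> rfl

attribute [local irreducible] th tri

theorem code_induction (P : W → Prop) (h0 : P 0) (hadd : ∀ x y, P x → P y → P (x + y))
    (hgen : ∀ g ∈ gens, P (mword g)) {x : W} (hx : x ∈ golayCode) : P x := by
  obtain ⟨m, hm, rfl⟩ := mem_golayCode_iff.1 hx
  rw [← isCode_iff.1 hm]
  let S : Submodule (ZMod 2) W :=
    { carrier := {w | P w}
      zero_mem' := h0
      add_mem' := fun {a b} ha hb => hadd a b ha hb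
      smul_mem' := fun r w hw => by
        rcases z2 r with rfl | rfl
        · rw [zero_smul]; exact h0
        · rw [one_smul]; exact hw }
  exact mword_enc_mem_submodule S hgen _

/-- The triple intersection parity. -/
def inter3 (x y z : W) : ZMod 2 := ∑ p, x p * y p * z p

theorem inter3_mword (a b c : ℕ) : inter3 (mword a) (mword b) (mword c) =
    if Nat.beq (pop (a &&& b &&& c) % 2) 1 then 1 else 0 := by
  have e : ∀ p, mword a p * mword b p * mword c p = if p ∈ mset (a &&& b &&& c) then 1 else 0 := by
    intro p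
    simp only [mem_mset, Nat.testBit_and, mword]
    cases a.testBit (idx p) <;> cases b.testBit (idx p) <;> cases c.testBit (idx p) <;> rfl
  rw [inter3, Finset.sum_congr rfl fun p _ => e p, Finset.sum_boole, Finset.filter_mem_eq_inter,
    Finset.univ_inter, card_mset, ← ZMod.natCast_mod]
  rcases Nat.mod_two_eq_zero_or_one (pop (a &&& b &&& c)) with h | h <;> rw [h] <;> rfl

theorem tri_eq {x y z : W} (hx : x ∈ golayCode) (hy : y ∈ golayCode) (hz : z ∈ golayCode) :
    tri x y z = inter3 x y z := by
  have key : ∀ a ∈ gens, ∀ b ∈ gens, ∀ c ∈ gens, tri (mword a) (mword b) (mword c) =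
      inter3 (mword a) (mword b) (mword c) := by
    intro a ha b hb c hc
    rw [tri_mword, inter3_mword, tri_check ha hb hc]
  have a1 : ∀ x x' y z, tri (x + x') y z = tri x y z + tri x' y z := fun x x' y z => by
    simp only [tri, ← List.sum_map_add, Pi.add_apply]
    exact congrArg List.sum (List.map_congr_left fun p _ => by ring)
  have a2 : ∀ x y y' z, tri x (y + y') z = tri x y z + tri x y' z := fun x y y' z => by
    simp only [tri, ← List.sum_map_add, Pi.add_apply]
    exact congrArg List.sum (List.map_congr_left fun p _ => by ring)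
  have a3 : ∀ x y z z', tri x y (z + z') = tri x y z + tri x y z' := fun x y z z' => by
    simp only [tri, ← List.sum_map_add, Pi.add_apply]
    exact congrArg List.sum (List.map_congr_left fun p _ => by ring)
  have b1 : ∀ x x' y z, inter3 (x + x') y z = inter3 x y z + inter3 x' y z := fun x x' y z => by
    simp only [inter3, ← Finset.sum_add_distrib, Pi.add_apply]
    exact Finset.sum_congr rfl fun p _ => by ring
  have b2 : ∀ x y y' z, inter3 x (y + y') z = inter3 x y z + inter3 x y' z := fun x y y' z => by
    simp only [inter3, ← Finset.sum_add_distrib, Pi.add_apply]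
    exact Finset.sum_congr rfl fun p _ => by ring
  have b3 : ∀ x y z z', inter3 x y (z + z') = inter3 x y z + inter3 x y z' := fun x y z z' => by
    simp only [inter3, ← Finset.sum_add_distrib, Pi.add_apply]
    exact Finset.sum_congr rfl fun p _ => by ring
  refine code_induction (fun x => tri x y z = inter3 x y z) (by simp [tri, inter3])
    (fun u v hu hv => by rw [a1, b1, hu, hv]) (fun a ha => ?_) hx
  refine code_induction (fun y => tri (mword a) y z = inter3 (mword a) y z) (by simp [tri, inter3])
    (fun u v hu hv => by rw [a2, b2, hu, hv]) (fun b hb => ?_) hy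
  exact code_induction (fun z => tri (mword a) (mword b) z = inter3 (mword a) (mword b) z)
    (by simp [tri, inter3]) (fun u v hu hv => by rw [a3, b3, hu, hv]) (fun c hc => key a ha b hb c hc)
    hz

/-- The variation of the cocycle. -/
def dl (σ : Equiv.Perm GolayPt) (x y : W) : ZMod 2 := th (act σ x) (act σ y) + th x y

theorem th_zero : th 0 0 = 0 := by simp [th]

theorem dl_cocycle (σ : Spor.M23) (x y z : code0) :
    dl σ y z + dl σ (x + y : code0) z + dl σ x (y + z : code0) + dl σ x y = 0 := by
  have e1 := th_coboundary (act σ (x : W)) (act σ y) (act σ z)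
  have e2 := th_coboundary (x : W) y z
  rw [tri_eq (act_code σ.2.1 x.2.1) (act_code σ.2.1 y.2.1) (act_code σ.2.1 z.2.1)] at e1
  rw [tri_eq x.2.1 y.2.1 z.2.1] at e2
  have e3 : inter3 (act σ (x : W)) (act σ y) (act σ z) = inter3 x y z := by
    show ∑ p, (x : W) _ * (y : W) _ * (z : W) _ = _
    exact Equiv.sum_comp ((σ : Equiv.Perm GolayPt)⁻¹) fun p => (x : W) p * (y : W) p * (z : W) p
  rw [e3] at e1
  simp only [dl, Submodule.coe_add, act_add]
  have := congrArg₂ (· + ·) e1 e2
  rw [add_self] at this
  rw [← this]
  abel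

section Coboundary

variable {V : Type*} [AddCommGroup V] [Module (ZMod 2) V] (δ : V → V → ZMod 2)

/-- A symmetric cocycle with zero diagonal is a coboundary. -/
theorem exists_coboundary [Finite V]
    (hc : ∀ x y z, δ y z + δ (x + y) z + δ x (y + z) + δ x y = 0)
    (hs : ∀ x y, δ x y = δ y x) (hd : ∀ x, δ x x = 0) :
    ∃ f : V → ZMod 2, ∀ x y, δ x y = f x + f y + f (x + y) := by
  classical
  have vadd : ∀ v : V, v + v = 0 := fun v => by
    rw [← two_smul (ZMod 2) v, show (2 : ZMod 2) = 0 from rfl, zero_smul]
  have hv0 : ∀ v, δ v 0 = 0 := fun v => by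
    have := hc v 0 0
    rw [add_zero, add_zero, hd 0, zero_add, add_self, zero_add] at this
    exact this
  have hve : ∀ v e, δ (v + e) e = δ v e := fun v e => by
    have := hc v e e
    rw [hd, vadd, hv0, zero_add, add_zero] at this
    exact CharTwo.add_eq_zero.1 this
  suffices h : ∀ S : Finset V, ∃ f : V → ZMod 2,
      ∀ x ∈ Submodule.span (ZMod 2) (S : Set V), ∀ y ∈ Submodule.span (ZMod 2) (S : Set V),
        δ x y = f x + f y + f (x + y) by
    haveI := Fintype.ofFinite V
    obtain ⟨f, hf⟩ := h Finset.univ
    exact ⟨f, fun x y => hf x (Submodule.subset_span (by simp)) y (Submodule.subset_span (by simp))⟩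
  intro S
  induction S using Finset.induction_on with
  | empty =>
    refine ⟨0, fun x hx y hy => ?_⟩
    simp only [Finset.coe_empty, Submodule.span_empty, Submodule.mem_bot] at hx hy
    subst hx hy
    simp [hd]
  | insert e S _ ih =>
    obtain ⟨f, hf⟩ := ih
    set U := Submodule.span (ZMod 2) (S : Set V) with hU
    by_cases he : e ∈ U
    · refine ⟨f, ?_⟩
      rw [Finset.coe_insert, Submodule.span_insert_eq_span he]
      exact hf
    refine ⟨fun v => if v ∈ U then f v else f (v + e) + δ (v + e) e, ?_⟩
    rw [Finset.coe_insert]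
    have hsplit : ∀ v ∈ Submodule.span (ZMod 2) (insert e (S : Set V)),
        v ∈ U ∨ ∃ w ∈ U, v = w + e := by
      intro v hv
      obtain ⟨a, w, hw, rfl⟩ := Submodule.mem_span_insert.1 hv
      rcases z2 a with rfl | rfl
      · left; rwa [zero_smul, zero_add]
      · right; exact ⟨w, hw, by rw [one_smul, add_comm]⟩
    have hout : ∀ w ∈ U, w + e ∉ U := fun w hw h => he (by
      have := U.add_mem hw h; rwa [← add_assoc, vadd, zero_add] at this)
    have hee : ∀ w : V, w + e + e = w := fun w => by rw [add_assoc, vadd, add_zero]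
    have mixed : ∀ w ∈ U, ∀ y ∈ U, δ (w + e) y =
        f w + δ w e + f y + (f (w + y) + δ (w + y) e) := by
      intro w hw y hy
      have h1 : δ y (w + e) = δ w e + δ (y + w) e + δ y w := by
        have := hc y w e
        linear_combination this - add_self (δ w e) - add_self (δ (y + w) e) - add_self (δ y w)
      rw [hs, h1, hf y hy w hw, add_comm y w]
      ring
    intro x hx y hy
    rcases hsplit x hx with hx | ⟨w, hw, rfl⟩ <;> rcases hsplit y hy with hy | ⟨w', hw', rfl⟩
    · simp only [if_pos hx, if_pos hy, if_pos (U.add_mem hx hy)]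
      exact hf x hx y hy
    · have e1 : x + (w' + e) = (w' + x) + e := by abel
      simp only [if_pos hx, if_neg (hout w' hw'), e1, if_neg (hout _ (U.add_mem hw' hx)), hee]
      rw [hs, mixed w' hw' x hx]
      ring
    · have e1 : w + e + y = (w + y) + e := by abel
      simp only [if_pos hy, if_neg (hout w hw), e1, if_neg (hout _ (U.add_mem hw hy)), hee]
      rw [mixed w hw y hy]
    · have e1 : w + e + (w' + e) = w + w' := by
        rw [add_add_add_comm, vadd, add_zero]
      simp only [if_neg (hout w hw), if_neg (hout w' hw'), e1, if_pos (U.add_mem hw hw'), hee]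
      have h1 := hc (w + e) w' e
      have h2 : δ (w + e + w') e = δ (w + w') e := by
        rw [show w + e + w' = (w + w') + e by abel, hve]
      rw [h2, mixed w hw w' hw'] at h1
      have h3 := hf w hw w' hw'
      linear_combination h1 - add_self (δ w e) - add_self (δ w' e) - add_self (f w) -
        add_self (f w') - add_self (f (w + w')) - add_self (δ (w + w') e)

end Coboundary

theorem code0_induction (P : code0 → Prop) (h0 : P 0) (hadd : ∀ x y, P x → P y → P (x + y))
    (hgen : ∀ b ∈ B11, ∀ h, P ⟨mword b, h⟩) (x : code0) : P x := by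
  have hB : ∀ b ∈ B11, mword b ∈ code0 := fun b hb => by
    have h := List.all_eq_true.1 B11_ok b hb
    simp only [Bool.and_eq_true, Bool.not_eq_true'] at h
    refine ⟨mem_golayCode_iff.2 ⟨b, h.1, rfl⟩, ?_⟩
    show mword b none = 0
    simp [mword, idx, h.2]
  let S : Submodule (ZMod 2) W :=
    { carrier := {w | ∃ h : w ∈ code0, P ⟨w, h⟩}
      zero_mem' := ⟨Submodule.zero_mem _, h0⟩
      add_mem' := fun {a b} ha hb => ⟨Submodule.add_mem _ ha.choose hb.choose,
        hadd _ _ ha.choose_spec hb.choose_spec⟩
      smul_mem' := fun r w hw => by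
        rcases z2 r with rfl | rfl
        · rw [zero_smul]; exact ⟨Submodule.zero_mem _, h0⟩
        · rw [one_smul]; exact hw }
  have hle : golayCode ≤ S ⊔ Submodule.span (ZMod 2) {mword 13062145} := by
    intro w hw
    refine code_induction (fun w => w ∈ S ⊔ Submodule.span (ZMod 2) {mword 13062145})
      (Submodule.zero_mem _) (fun _ _ => Submodule.add_mem _) (fun g hg => ?_) hw
    have h := List.all_eq_true.1 gens_B11 g hg
    simp only [Bool.or_eq_true, List.contains_iff_mem] at h
    rcases h with (h | h) | h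
    · exact Submodule.mem_sup_left ⟨hB g h, hgen g h _⟩
    · rw [show mword g = mword (g ^^^ 13062145) + mword 13062145 by
        rw [mword_xor, add_assoc, wadd_self, add_zero]]
      exact Submodule.add_mem _ (Submodule.mem_sup_left ⟨hB _ h, hgen _ h _⟩)
        (Submodule.mem_sup_right (Submodule.mem_span_singleton_self _))
    · rw [Nat.eq_of_beq_eq_true h]
      exact Submodule.mem_sup_right (Submodule.mem_span_singleton_self _)
  obtain ⟨y, hy, z, hz, e⟩ := Submodule.mem_sup.1 (hle x.2.1)
  obtain ⟨a, rfl⟩ := Submodule.mem_span_singleton.1 hz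
  have hn := congrFun e none
  rw [Pi.add_apply, Pi.smul_apply, show (x : W) none = 0 from x.2.2,
    show y none = 0 from hy.choose.2, show mword 13062145 none = 1 by decide +kernel] at hn
  have ha : a = 0 := by simpa using hn
  subst ha
  rw [zero_smul, add_zero] at e
  subst e
  exact hy.choose_spec

theorem mword_act {g : ℕ} (hv : valid g = true) (m : ℕ) :
    act (permOf g) (mword m) = mword (mimg g m) := by
  apply support₂_injective
  show support₂ (fun p => mword m ((permOf g)⁻¹ p)) = _
  rw [← smul_support₂, support_mword, support_mword, smul_mset hv]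

theorem dl_mword {g : ℕ} (hv : valid g = true) (a b : ℕ) :
    dl (permOf g) (mword a) (mword b) = if deltaM g a b then 1 else 0 := by
  rw [dl, mword_act hv, mword_act hv, th_mword, th_mword, deltaM, bool_add]

attribute [local irreducible] mword

/-- The functions with coboundary equal to the variation. -/
def Lifts (σ : Spor.M23) (f : code0 → ZMod 2) : Prop :=
  ∀ x y : code0, dl σ x y = f x + f y + f (x + y)

theorem dl_mul (σ τ : Spor.M23) (x y : code0) :
    dl ((σ * τ : Spor.M23) : Equiv.Perm GolayPt) x y =
      dl σ (actV τ x) (actV τ y) + dl τ x y := by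
  simp only [dl, Subgroup.coe_mul, act_mul, actV]
  rw [add_assoc, ← add_assoc (th (act (τ : Equiv.Perm GolayPt) x) (act (τ : Equiv.Perm GolayPt) y)),
    add_self, zero_add]

theorem dl_one (x y : code0) : dl ((1 : Spor.M23) : Equiv.Perm GolayPt) x y = 0 := by
  simp only [dl, OneMemClass.coe_one, act_one, add_self]

attribute [local irreducible] dl

/-- An element of the extension. -/
@[ext] structure Elt where
  /-- The permutation. -/
  perm : Spor.M23
  /-- The function. -/
  fn : code0 → ZMod 2
  /-- The condition. -/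
  lifts : Lifts perm fn

instance : One Elt := ⟨⟨1, 0, fun x y => by rw [dl_one]; simp⟩⟩

instance : Mul Elt := ⟨fun a b => ⟨a.perm * b.perm, fun x => a.fn (actV b.perm x) + b.fn x,
  fun x y => by rw [dl_mul, a.lifts, b.lifts]; simp only [actV_add]; ring⟩⟩

instance : Inv Elt := ⟨fun a => ⟨a.perm⁻¹, fun x => a.fn (actV a.perm⁻¹ x), fun x y => by
  have h := dl_mul a.perm a.perm⁻¹ x y
  rw [mul_inv_cancel, dl_one, eq_comm, CharTwo.add_eq_zero] at h
  rw [← h, a.lifts]; simp only [actV_add]⟩⟩

theorem mul_perm (a b : Elt) : (a * b).perm = a.perm * b.perm := rfl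
theorem mul_fn (a b : Elt) (x : code0) : (a * b).fn x = a.fn (actV b.perm x) + b.fn x := rfl
theorem one_perm : (1 : Elt).perm = 1 := rfl
theorem one_fn (x : code0) : (1 : Elt).fn x = 0 := rfl

instance : Group Elt :=
  Group.ofLeftAxioms
    (fun a b c => Elt.ext (mul_assoc _ _ _) (funext fun x => by
      simp only [mul_fn, mul_perm, actV_mul, add_assoc]))
    (fun a => Elt.ext (one_mul _) (funext fun x => by simp [mul_fn, one_fn]))
    (fun a => Elt.ext (inv_mul_cancel _) (funext fun x => by
      show a.fn (actV a.perm⁻¹ (actV a.perm x)) + a.fn x = 0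
      rw [← actV_mul, inv_mul_cancel, actV_one, add_self]))

instance : Finite Elt :=
  Finite.of_injective (fun a => (a.perm, a.fn)) fun a b h =>
    Elt.ext (congrArg Prod.fst h) (congrArg Prod.snd h)

/-- The projection. -/
def projE : Elt →* Spor.M23 := MonoidHom.mk' Elt.perm mul_perm

theorem exists_lift_of_check {g : ℕ} (hg : g ∈ [codeA, codeC, codeD23]) (σ : Spor.M23)
    (hσ : (σ : Equiv.Perm GolayPt) = permOf g) : ∃ a : Elt, a.perm = σ := by
  have hl := List.all_eq_true.1 letter_ok g (by
    simp only [List.mem_cons, List.not_mem_nil, or_false] at hg ⊢; tauto)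
  simp only [Bool.and_eq_true] at hl
  have hv := inM24_valid hl.1
  have hchk := List.all_eq_true.1 sym_check g hg
  simp only [List.all_eq_true, Bool.and_eq_true, Bool.not_eq_true', beq_iff_eq] at hchk
  -- the commutator of the variation is biadditive
  set C : code0 → code0 → ZMod 2 := fun x y => dl σ x y + dl σ y x with hC
  have hbi : ∀ x y z, C x (y + z) = C x y + C x z := by
    intro x y z
    have h1 := dl_cocycle σ x y z
    have h2 := dl_cocycle σ y x z
    have h3 := dl_cocycle σ y z x
    rw [add_comm y x] at h2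
    rw [add_comm z x] at h3
    simp only [hC]
    linear_combination h1 + h2 + h3 - add_self (dl σ (x + y : code0) z) -
      add_self (dl σ y (x + z : code0)) - add_self (dl σ y z) - add_self (dl σ x y) -
      add_self (dl σ y x) - add_self (dl σ x z) - add_self (dl σ z x)
  have hsymC : ∀ x y, C x y = C y x := fun x y => add_comm _ _
  have hzero : ∀ x y, C x y = 0 := by
    intro x y
    have hb : ∀ b ∈ B11, ∀ hb' x, C x ⟨mword b, hb'⟩ = 0 := by
      intro b hb hb' x
      refine code0_induction (fun x => C x ⟨mword b, hb'⟩ = 0) ?_ (fun u v hu hv => by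
        rw [hsymC, hbi, hsymC, hu, hsymC, hv, add_zero]) (fun a ha ha' => ?_) x
      · rw [hsymC]
        have := hbi ⟨mword b, hb'⟩ 0 0
        rw [add_zero, add_self] at this
        exact this
      · simp only [hC, hσ, dl_mword hv, (hchk a ha).2 b hb, add_self]
    refine code0_induction (fun y => C x y = 0) ?_ (fun u v hu hv => by rw [hbi, hu, hv, add_zero])
      (fun b hb' h => hb b hb' h x) y
    have := hbi x 0 0
    rw [add_zero, add_self] at this
    exact this
  have hsym : ∀ x y : code0, dl σ x y = dl σ y x := fun x y => CharTwo.add_eq_zero.1 (hzero x y)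
  have hdiag : ∀ x : code0, dl σ x x = 0 := by
    refine code0_induction _ ?_ (fun u v hu hv => ?_) (fun a ha ha' => ?_)
    · simp only [dl, Submodule.coe_zero]
      rw [show act (σ : Equiv.Perm GolayPt) 0 = 0 from rfl, th_zero, add_zero]
    · have h00 : ∀ w : code0, dl σ w (0 : code0) = 0 := fun w => by
        have := dl_cocycle σ w 0 0
        rw [add_zero, add_zero] at this
        have e : dl σ (0 : code0) (0 : code0) = 0 := by
          simp only [dl, Submodule.coe_zero]
          rw [show act (σ : Equiv.Perm GolayPt) 0 = 0 from rfl, th_zero, add_zero]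
        rw [e, zero_add, add_self, zero_add] at this
        exact this
      have h1 := dl_cocycle σ u v (u + v)
      have h2 := dl_cocycle σ v v u
      have huv : v + (u + v) = u := by
        rw [add_left_comm, Subtype.ext (wadd_self (v : W)) (a1 := v + v) (a2 := (0 : code0)),
          add_zero]
      rw [huv, hu] at h1
      rw [show v + v = (0 : code0) from Subtype.ext (wadd_self _), hv, add_comm v u] at h2
      rw [hsym (0 : code0) u, h00] at h2
      linear_combination h1 - h2 + hsym v u
    · simp only [hσ, dl_mword hv, (hchk a ha).1, Bool.false_eq_true, if_false]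
  obtain ⟨f, hf⟩ := exists_coboundary (fun x y : code0 => dl σ x y) (dl_cocycle σ) hsym hdiag
  exact ⟨⟨σ, f, hf⟩, rfl⟩

theorem mem_M23 {g : ℕ} (hg : g ∈ [codeA, codeC, codeD23, mA, mT]) :
    permOf g ∈ Spor.M23 := by
  have hl := List.all_eq_true.1 letter_ok g hg
  simp only [Bool.and_eq_true] at hl
  refine ⟨inM24_mem hl.1, ?_⟩
  show permOf g none = none
  rw [permOf_apply (inM24_valid hl.1), idx, Nat.eq_of_beq_eq_true hl.2]
  rfl

theorem projE_surjective : Function.Surjective projE := by
  rw [← MonoidHom.range_eq_top, eq_top_iff]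
  intro σ _
  let ι : MulAction.stabilizer M24 pinf →* Spor.M23 :=
    MonoidHom.mk' (fun s => ⟨(s.1 : Equiv.Perm GolayPt), s.1.2,
      show (s.1 : Equiv.Perm GolayPt) none = none by rw [← pinf_none]; exact s.2⟩) fun _ _ => rfl
  have hσ : σ = ι ⟨⟨σ, σ.2.1⟩, show (σ : Equiv.Perm GolayPt) pinf = pinf by
      rw [pinf_none]; exact σ.2.2⟩ := rfl
  rw [hσ]
  have hle : Subgroup.closure ({Co3Out.eA, Co3Out.eC, Co3Out.eD} :
      Set (MulAction.stabilizer M24 pinf)) ≤ projE.range.comap ι := by
    rw [Subgroup.closure_le]
    rintro s (rfl | rfl | rfl)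
    · exact exists_lift_of_check (g := codeA) (by simp) (ι Co3Out.eA) rfl
    · exact exists_lift_of_check (g := codeC) (by simp) (ι Co3Out.eC) rfl
    · exact exists_lift_of_check (g := codeD23) (by simp) (ι Co3Out.eD) rfl
  rw [Co3Out.closure_gens] at hle
  exact hle trivial

/-- The pairing. -/
def pair (w : W) (x : code0) : ZMod 2 := ∑ p, w p * (x : W) p

theorem pair_lifts (w : W) : Lifts 1 (pair w) := fun x y => by
  rw [dl_one]
  simp only [pair, ← Finset.sum_add_distrib, Submodule.coe_add, Pi.add_apply]
  exact (Finset.sum_eq_zero fun p _ => by rw [mul_add, add_self]).symm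

/-- The kernel as the image of all words. -/
def thE : W →+ Additive projE.ker :=
  AddMonoidHom.mk' (fun w => Additive.ofMul ⟨⟨1, pair w, pair_lifts w⟩, rfl⟩) fun v w => by
    refine congrArg Additive.ofMul (Subtype.ext (Elt.ext (one_mul 1).symm (funext fun x => ?_)))
    show pair (v + w) x = pair v (actV 1 x) + pair w x
    rw [actV_one]
    simp only [pair, ← Finset.sum_add_distrib, Pi.add_apply, add_mul]

theorem thE_apply (w : W) : (Additive.toMul (thE w) : projE.ker).1 = ⟨1, pair w, pair_lifts w⟩ :=
  rfl

attribute [local irreducible] pair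

theorem thE_surjective : Function.Surjective thE := by
  intro n
  obtain ⟨⟨⟨σ, f, hf⟩, hk⟩, rfl⟩ := Additive.ofMul.surjective n
  have hσ : σ = 1 := hk
  subst hσ
  have hadd : ∀ x y, f (x + y) = f x + f y := fun x y => by
    have := hf x y
    rw [dl_one] at this
    exact (CharTwo.add_eq_zero.1 this.symm).symm
  let L : code0 →ₗ[ZMod 2] ZMod 2 := (AddMonoidHom.mk' f hadd).toZModLinearMap 2
  obtain ⟨L', hL⟩ := LinearMap.exists_extend L
  refine ⟨fun p => L' (Pi.single p 1), ?_⟩
  refine Additive.toMul.injective (Subtype.ext ?_)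
  rw [thE_apply]
  refine Elt.ext rfl (funext fun x => ?_)
  show pair _ x = f x
  have hx : (x : W) = ∑ p, (x : W) p • Pi.single p (1 : ZMod 2) := by
    funext q
    simp [Finset.sum_apply, Pi.single_apply]
  have : L' (x : W) = f x := LinearMap.congr_fun hL x
  rw [← this]
  conv_rhs => rw [hx]
  rw [map_sum, pair]
  exact Finset.sum_congr rfl fun p _ => by rw [map_smul, smul_eq_mul, mul_comm]

theorem code_inter_even {u v : W} (hu : u ∈ golayCode) (hv : v ∈ golayCode) :
    Even (support₂ u ∩ support₂ v).card :=
  even_iff_two_dvd.2 (supports_inter_even ⟨u, hu, rfl⟩ ⟨v, hv, rfl⟩)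

theorem pop_xor_mod_two (a b : ℕ) : pop (a ^^^ b) % 2 = (pop a + pop b) % 2 := by
  rw [← card_mset, ← card_mset, ← card_mset, mset_xor]
  have h1 := Finset.card_sdiff_add_card_inter (mset a) (mset b)
  have h2 := Finset.card_sdiff_add_card_inter (mset b) (mset a)
  rw [Finset.inter_comm] at h2
  rw [symmDiff_def, Finset.sup_eq_union, Finset.card_union_of_disjoint disjoint_sdiff_sdiff]
  omega

theorem orth_code {w : W} (h : ∀ x ∈ golayCode, ∑ p, w p * x p = 0) : w ∈ golayCode := by
  set k : ℕ := FixSearch.maskOf (fun i => decide (w (pt i) = 1)) 24 with hk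
  have hw : w = mword k := by
    funext p
    simp only [mword, hk, FixSearch.maskOf_testBit, idx_lt, pt_idx, decide_true, Bool.true_and]
    generalize w p = a; revert a; decide
  have hlt : k < 16777216 := FixSearch.maskOf_lt _
  have horth : ∀ g, isCode g = true → pop (k &&& g) % 2 = 0 := fun g hg => by
    have h1 := h (mword g) (mem_golayCode_iff.2 ⟨g, hg, rfl⟩)
    have e : ∀ p, w p * mword g p = if p ∈ mset (k &&& g) then 1 else 0 := fun p => by
      simp only [hw, mem_mset, Nat.testBit_and, mword]
      cases k.testBit (idx p) <;> cases g.testBit (idx p) <;> rfl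
    rw [Finset.sum_congr rfl fun p _ => e p, Finset.sum_boole, Finset.filter_mem_eq_inter,
      Finset.univ_inter, card_mset, ZMod.natCast_eq_zero_iff_even] at h1
    exact Nat.even_iff.1 h1
  have henc : isCode (enc (k % 4096)) = true := isCode_enc (Nat.mod_lt _ (by norm_num))
  set z := k ^^^ enc (k % 4096) with hz
  obtain ⟨f1, f2⟩ := enc_facts (k % 4096) (Nat.mod_lt _ (by norm_num))
  have hzlt : z < 2 ^ 24 := Nat.xor_lt_two_pow (by simpa using hlt) (by simpa using f2)
  have hz0 : z % 2 ^ 12 = 0 := by
    rw [hz, Nat.xor_mod_two_pow, show (2 : ℕ) ^ 12 = 4096 by norm_num, f1, Nat.xor_self]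
  have hgen : ∀ g ∈ gens, pop (z &&& g) % 2 = 0 := by
    intro g hg
    have hgc : isCode g = true := by revert g; decide +kernel
    have h1 := horth g hgc
    have h2 : pop (enc (k % 4096) &&& g) % 2 = 0 := by
      have hev := code_inter_even (mem_golayCode_iff.2 ⟨_, henc, rfl⟩)
        (mem_golayCode_iff.2 ⟨g, hgc, rfl⟩)
      rw [support_mword, support_mword] at hev
      rw [← card_mset, mset_and]
      exact Nat.even_iff.1 hev
    rw [hz, Nat.and_xor_distrib_right, pop_xor_mod_two, Nat.add_mod, h1, h2]
  have hzz : z = 0 := by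
    have hchk := allB_range orth_check (k := z / 2 ^ 12)
      ((Nat.div_lt_iff_lt_mul (by norm_num)).2 hzlt)
    have hshift : Nat.shiftLeft (z / 2 ^ 12) 12 = z := by
      show (z / 2 ^ 12) <<< 12 = z
      rw [Nat.shiftLeft_eq, Nat.div_mul_cancel (Nat.dvd_of_mod_eq_zero hz0)]
    rw [hshift] at hchk
    simp only [Bool.or_eq_true, List.any_eq_true] at hchk
    rcases hchk with h0 | ⟨g, hg, h1⟩
    · have := Nat.eq_of_beq_eq_true h0
      rw [← Nat.div_add_mod z (2 ^ 12), this, hz0, mul_zero]
    · have := Nat.eq_of_beq_eq_true h1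
      rw [show Nat.land z g = z &&& g from rfl, hgen g hg] at this
      exact absurd this (by norm_num)
  have : k = enc (k % 4096) := by
    have := congrArg (· ^^^ enc (k % 4096)) hzz
    simpa [hz, Nat.xor_assoc] using this
  rw [hw]
  exact mem_golayCode_iff.2 ⟨k, this ▸ henc, rfl⟩

theorem thE_eq_zero_iff (w : W) :
    thE w = 0 ↔ (w ∈ golayCode ∨ w + Pi.single none 1 ∈ golayCode) := by
  have hiff : thE w = 0 ↔ ∀ x : code0, pair w x = 0 := by
    constructor
    · intro h x
      have e := congrArg (fun a : Additive projE.ker => (Additive.toMul a : projE.ker).1.fn) h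
      simp only [thE_apply] at e
      exact congrFun e x
    · intro h
      refine Additive.toMul.injective (Subtype.ext ?_)
      rw [thE_apply]
      exact Elt.ext rfl (funext h)
  rw [hiff]
  have hcode : ∀ u ∈ golayCode, ∀ x ∈ golayCode, ∑ p, u p * x p = (0 : ZMod 2) := by
    intro u hu x hx
    obtain ⟨a, ha, rfl⟩ := mem_golayCode_iff.1 hu
    obtain ⟨b, hb, rfl⟩ := mem_golayCode_iff.1 hx
    have e : ∀ p, mword a p * mword b p = if p ∈ mset (a &&& b) then 1 else 0 := fun p => by
      simp only [mem_mset, Nat.testBit_and, mword]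
      cases a.testBit (idx p) <;> cases b.testBit (idx p) <;> rfl
    rw [Finset.sum_congr rfl fun p _ => e p, Finset.sum_boole, Finset.filter_mem_eq_inter,
      Finset.univ_inter, ZMod.natCast_eq_zero_iff_even, mset_and]
    have hev := code_inter_even hu hx
    rwa [support_mword, support_mword] at hev
  constructor
  · intro h
    have hg0 : mword 13062145 ∈ golayCode := mem_golayCode_iff.2 ⟨_, by decide +kernel, rfl⟩
    have hn : mword 13062145 none = 1 := by decide +kernel
    set α := ∑ p, w p * mword 13062145 p with hα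
    have key : w + Pi.single none α ∈ golayCode := by
      refine orth_code fun x hx => ?_
      set a := x none with ha
      have hy : x + a • mword 13062145 ∈ code0 := by
        refine ⟨Submodule.add_mem _ hx (Submodule.smul_mem _ _ hg0), ?_⟩
        show x none + a * mword 13062145 none = 0
        rw [hn, mul_one, ← ha, add_self]
      have h1 := h ⟨_, hy⟩
      simp only [pair, Pi.add_apply, Pi.smul_apply, smul_eq_mul, mul_add, Finset.sum_add_distrib]
        at h1
      have h2 : ∑ p, w p * (a * mword 13062145 p) = a * α := by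
        rw [hα, Finset.mul_sum]; exact Finset.sum_congr rfl fun p _ => by ring
      rw [h2] at h1
      simp only [Pi.add_apply, add_mul, Finset.sum_add_distrib]
      rw [Finset.sum_eq_single_of_mem (f := fun p => (Pi.single none α : W) p * x p) none
        (Finset.mem_univ _) (fun p _ hp => by simp [Pi.single_eq_of_ne hp]), Pi.single_eq_same,
        ← ha, mul_comm α a]
      exact h1
    rcases z2 α with e | e <;> rw [e] at key
    · left; simpa using key
    · exact Or.inr key
  · rintro (h | h) x
    · rw [pair]; exact hcode w h x x.2.1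
    · have := hcode _ h x x.2.1
      simp only [Pi.add_apply, add_mul, Finset.sum_add_distrib] at this
      rw [Finset.sum_eq_single_of_mem (f := fun p => (Pi.single none (1 : ZMod 2) : W) p * (x : W) p)
        none (Finset.mem_univ _) (fun p _ hp => by simp [Pi.single_eq_of_ne hp]),
        show (x : W) none = 0 from x.2.2, mul_zero, add_zero] at this
      rw [pair]; exact this

theorem thE_conj (g : Elt) (w : W) :
    ((thE (w ∘ ⇑((g.perm : Equiv.Perm GolayPt)⁻¹))).toMul : Elt) =
      g * ((thE w).toMul : Elt) * g⁻¹ := by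
  rw [thE_apply, thE_apply]
  refine Elt.ext ?_ (funext fun x => ?_)
  · show 1 = g.perm * 1 * g.perm⁻¹
    rw [mul_one, mul_inv_cancel]
  · show pair (w ∘ ⇑((g.perm : Equiv.Perm GolayPt)⁻¹)) x =
      g.fn (actV 1 (actV g.perm⁻¹ x)) + pair w (actV g.perm⁻¹ x) + g.fn (actV g.perm⁻¹ x)
    rw [actV_one, add_comm (g.fn _) (pair w _), add_assoc, add_self, add_zero]
    rw [pair, pair]
    show ∑ p, w ((g.perm : Equiv.Perm GolayPt)⁻¹ p) * (x : W) p =
      ∑ p, w p * (x : W) (((g.perm⁻¹ : Spor.M23) : Equiv.Perm GolayPt)⁻¹ p)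
    rw [Subgroup.coe_inv, inv_inv]
    exact (Equiv.sum_comp (g.perm : Equiv.Perm GolayPt)
      (fun p => w ((g.perm : Equiv.Perm GolayPt)⁻¹ p) * (x : W) p)).symm.trans
        (Finset.sum_congr rfl fun p _ => by simp)

/-! ### No complement -/

/-- The function of an element, extended by zero. -/
noncomputable def ext0 (a : Elt) (y : W) : ZMod 2 := by
  classical exact if h : y ∈ code0 then a.fn ⟨y, h⟩ else 0

theorem ext0_mem (a : Elt) {y : W} (h : y ∈ code0) : ext0 a y = a.fn ⟨y, h⟩ := by
  simp [ext0, h]

attribute [local irreducible] ext0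

theorem mimg_code0 (b : Bool) {m : ℕ} (h : mword m ∈ code0) : mword (mimg (letter b) m) ∈ code0 := by
  have hg : letter b ∈ [codeA, codeC, codeD23, mA, mT] := by cases b <;> simp [letter]
  have hl := List.all_eq_true.1 letter_ok _ hg
  simp only [Bool.and_eq_true] at hl
  rw [← mword_act (inM24_valid hl.1)]
  exact act_code0 ⟨_, mem_M23 hg⟩ h

theorem word_fn {u v : Elt} (hu : (u.perm : Equiv.Perm GolayPt) = permOf mA)
    (hv : (v.perm : Equiv.Perm GolayPt) = permOf mT) :
    ∀ (w : List Bool) (m : ℕ) (h : mword m ∈ code0),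
      (∀ t ∈ (terms w m).1, mword t.2 ∈ code0) ∧ mword (terms w m).2 ∈ code0 ∧
      act ((w.map fun b : Bool => if b then v else u).prod.perm : Equiv.Perm GolayPt) (mword m) =
        mword (terms w m).2 ∧
      (w.map fun b : Bool => if b then v else u).prod.fn ⟨mword m, h⟩ =
        ((terms w m).1.map fun t => ext0 (if t.1 then v else u) (mword t.2)).sum := by
  intro w
  induction w with
  | nil =>
    intro m h
    refine ⟨by simp [terms], h, ?_, ?_⟩
    · simp [terms, one_perm, act_one]
    · simp [terms, one_fn]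
  | cons b w ih =>
    intro m h
    obtain ⟨i1, i2, i3, i4⟩ := ih m h
    have hlv : valid (letter b) = true := by
      have hg : letter b ∈ [codeA, codeC, codeD23, mA, mT] := by cases b <;> simp [letter]
      have hl := List.all_eq_true.1 letter_ok _ hg
      simp only [Bool.and_eq_true] at hl
      exact inM24_valid hl.1
    have hp : ((if b then v else u).perm : Equiv.Perm GolayPt) = permOf (letter b) := by
      cases b <;> simp [letter, hu, hv]
    refine ⟨?_, mimg_code0 b i2, ?_, ?_⟩
    · intro t ht
      simp only [terms, List.mem_cons] at ht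
      rcases ht with rfl | ht
      · exact i2
      · exact i1 t ht
    · simp only [List.map_cons, List.prod_cons, mul_perm, Subgroup.coe_mul, act_mul, i3, terms]
      rw [hp, mword_act hlv]
    · simp only [List.map_cons, List.prod_cons, terms, List.sum_cons, mul_fn, i4]
      rw [ext0_mem _ i2]
      congr 2
      exact Subtype.ext i3

theorem foldD_sum {g : ℕ} (hg : g ∈ [mA, mT]) (a : Elt)
    (ha : (a.perm : Equiv.Perm GolayPt) = permOf g) :
    ∀ L : List ℕ, (∀ y ∈ L, mword y ∈ code0) → mword (foldD g L).1 ∈ code0 ∧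
      (L.map fun y => ext0 a (mword y)).sum =
        ext0 a (mword (foldD g L).1) + if (foldD g L).2 then 1 else 0 := by
  have hl := List.all_eq_true.1 letter_ok g (by
    simp only [List.mem_cons, List.not_mem_nil, or_false] at hg ⊢; tauto)
  simp only [Bool.and_eq_true] at hl
  have hv := inM24_valid hl.1
  intro L
  induction L with
  | nil =>
    intro _
    have h0 : mword 0 ∈ code0 := by rw [mword_zero]; exact Submodule.zero_mem _
    refine ⟨h0, ?_⟩
    simp only [foldD, List.map_nil, List.sum_nil, Bool.false_eq_true, if_false, add_zero]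
    rw [ext0_mem a h0]
    have h := a.lifts 0 0
    rw [add_zero, add_self, zero_add] at h
    rw [show (⟨mword 0, h0⟩ : code0) = 0 from Subtype.ext mword_zero, ← h]
    simp only [dl, Submodule.coe_zero]
    rw [show act (a.perm : Equiv.Perm GolayPt) 0 = 0 from rfl, th_zero, add_zero]
  | cons y L ih =>
    intro hL
    obtain ⟨i1, i2⟩ := ih fun z hz => hL z (List.mem_cons_of_mem _ hz)
    have hy : mword y ∈ code0 := hL y List.mem_cons_self
    have hs : mword (y ^^^ (foldD g L).1) ∈ code0 := by
      rw [mword_xor]; exact Submodule.add_mem _ hy i1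
    rw [show foldD g (y :: L) = (y ^^^ (foldD g L).1,
      Bool.xor (deltaM g y (foldD g L).1) (foldD g L).2) from rfl]
    rw [List.map_cons, List.sum_cons, i2, bool_add, ← dl_mword hv y (foldD g L).1, ← ha]
    generalize (if (foldD g L).2 = true then (1 : ZMod 2) else 0) = c
    generalize (foldD g L).1 = z at i1 hs ⊢
    have hsum : mword y + mword z = mword (y ^^^ z) := (mword_xor _ _).symm
    generalize y ^^^ z = s at hs hsum ⊢
    refine ⟨hs, ?_⟩
    generalize mword s = ws at hs hsum ⊢
    generalize mword y = wy at hy hsum ⊢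
    generalize mword z = wz at i1 hsum ⊢
    subst hsum
    rw [ext0_mem a hy, ext0_mem a i1, ext0_mem a hs]
    have h := a.lifts ⟨_, hy⟩ ⟨_, i1⟩
    rw [show (⟨wy, hy⟩ : code0) + ⟨_, i1⟩ = ⟨_, hs⟩ from Subtype.ext rfl] at h
    rw [h]
    linear_combination -add_self (a.fn ⟨_, hs⟩)

theorem sum_split (G : Bool → ℕ → ZMod 2) : ∀ L : List (Bool × ℕ),
    (L.map fun t => G t.1 t.2).sum =
      (((L.filter fun t => t.1 == false).map Prod.snd).map (G false)).sum +
      (((L.filter fun t => t.1 == true).map Prod.snd).map (G true)).sum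
  | [] => by simp
  | (b, y) :: L => by
    have ih := sum_split G L
    cases b <;> simp [ih] <;> ring

theorem no_complement (H : Subgroup Elt) (hbot : H ⊓ projE.ker = ⊥) :
    H ⊔ projE.ker ≠ ⊤ := by
  intro htop
  have hmap : ∀ σ : Spor.M23, ∃ h ∈ H, h.perm = σ := by
    intro σ
    obtain ⟨a, rfl⟩ := projE_surjective σ
    obtain ⟨h, hh, n, hn, rfl⟩ := Subgroup.mem_sup_of_normal_right.1 (htop ▸ Subgroup.mem_top a)
    exact ⟨h, hh, by rw [map_mul, show projE n = 1 from hn, mul_one]; rfl⟩
  obtain ⟨u, huH, hu⟩ := hmap ⟨permOf mA, mem_M23 (by simp)⟩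
  obtain ⟨v, hvH, hv⟩ := hmap ⟨permOf mT, mem_M23 (by simp)⟩
  have hu' : (u.perm : Equiv.Perm GolayPt) = permOf mA := by rw [hu]
  have hv' : (v.perm : Equiv.Perm GolayPt) = permOf mT := by rw [hv]
  have hrel : ∀ r, r ∈ [0, 1, 2, 3] → ((relW r).map fun b : Bool => if b then v else u).prod = 1 := by
    intro r hr
    set P := ((relW r).map fun b : Bool => if b then v else u).prod with hP
    have hPH : P ∈ H := list_prod_mem fun z hz => by
      obtain ⟨b, -, rfl⟩ := List.mem_map.1 hz
      cases b <;> simp [huH, hvH]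
    have hPk : P ∈ projE.ker := by
      rw [MonoidHom.mem_ker, hP, map_list_prod, List.map_map]
      refine Subtype.ext ?_
      rw [SubmonoidClass.coe_list_prod, List.map_map, OneMemClass.coe_one]
      have hall := List.all_eq_true.1 relW_check r hr
      have := eqW_sound (L := (relW r).map letter) (L' := []) (List.all_eq_true.2 fun g hg => by
        rw [List.append_nil] at hg
        obtain ⟨b, -, rfl⟩ := List.mem_map.1 hg
        have hg' : letter b ∈ [codeA, codeC, codeD23, mA, mT] := by cases b <;> simp [letter]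
        have hl := List.all_eq_true.1 letter_ok _ hg'
        simp only [Bool.and_eq_true] at hl
        exact inM24_valid hl.1) hall
      rw [List.map_map, List.map_nil, List.prod_nil] at this
      rw [← this]
      refine congrArg List.prod (List.map_congr_left fun b _ => ?_)
      cases b <;> simp [Function.comp, projE, letter, hu', hv']
    have : P ∈ H ⊓ projE.ker := ⟨hPH, hPk⟩
    rwa [hbot, Subgroup.mem_bot] at this
  set G : Bool → ℕ → ZMod 2 := fun b y => ext0 (if b then v else u) (mword y) with hG
  have hblock : ∀ p ∈ cert, (∀ t ∈ (terms (relW p.1) p.2).1, mword t.2 ∈ code0) ∧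
      ((terms (relW p.1) p.2).1.map fun t => G t.1 t.2).sum = 0 := by
    intro p hp
    have hc := List.all_eq_true.1 cert_ok p hp
    simp only [Bool.and_eq_true, Bool.not_eq_true', Nat.ble_eq] at hc
    have hx : mword p.2 ∈ code0 := by
      refine ⟨mem_golayCode_iff.2 ⟨_, hc.1.2, rfl⟩, ?_⟩
      show mword p.2 none = 0
      simp [mword, idx, hc.2]
    obtain ⟨j1, -, -, j4⟩ := word_fn hu' hv' (relW p.1) p.2 hx
    refine ⟨j1, ?_⟩
    rw [hrel p.1 (by simp only [List.mem_cons, List.not_mem_nil, or_false]; omega), one_fn] at j4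
    exact j4.symm
  have hzero : (allTerms.map fun t => G t.1 t.2).sum = 0 := by
    rw [allTerms, List.map_flatMap, List.flatMap_def, List.sum_flatten, List.map_map]
    refine List.sum_eq_zero fun a ha => ?_
    obtain ⟨p, hp, rfl⟩ := List.mem_map.1 ha
    exact (hblock p hp).2
  have hmem : ∀ b, ∀ y ∈ argsOf b, mword y ∈ code0 := by
    intro b y hy
    obtain ⟨t, ht, rfl⟩ := List.mem_map.1 hy
    obtain ⟨p, hp, ht'⟩ := List.mem_flatMap.1 (List.mem_filter.1 ht).1
    exact (hblock p hp).1 t ht'
  obtain ⟨⟨c1, c2⟩, c3⟩ := cert_check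
  obtain ⟨-, sA⟩ := foldD_sum (g := mA) (by simp) u hu' (argsOf false) (hmem false)
  obtain ⟨-, sT⟩ := foldD_sum (g := mT) (by simp) v hv' (argsOf true) (hmem true)
  have h0 : ∀ a : Elt, ext0 a (mword 0) = 0 := fun a => by
    have hm : mword 0 ∈ code0 := by rw [mword_zero]; exact Submodule.zero_mem _
    rw [ext0_mem a hm, show (⟨mword 0, hm⟩ : code0) = 0 from Subtype.ext mword_zero]
    have h := a.lifts 0 0
    rw [add_zero, add_self, zero_add] at h
    rw [← h]
    simp only [dl, Submodule.coe_zero]
    rw [show act (a.perm : Equiv.Perm GolayPt) 0 = 0 from rfl, th_zero, add_zero]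
  rw [c1, h0, zero_add] at sA
  rw [c2, h0, zero_add] at sT
  rw [sum_split G allTerms] at hzero
  have e1 : ((argsOf false).map (G false)).sum + ((argsOf true).map (G true)).sum = 0 := hzero
  simp only [hG, Bool.false_eq_true, if_false, if_true] at e1
  rw [sA, sT, ← bool_add, c3] at e1
  simp at e1

end CfsgLib.Golay.CocodeExt
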