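import Cfsg.Agent.Lib.Golay.Perm
import Cfsg.Agent.Lib.KnownA.MathieuOut
import Cfsg.Agent.Lib.Mathieu.M22NormData

/-! Kernel checks for the non-split extension of `M23` by the cocode module. -/

set_option autoImplicit false
set_option maxRecDepth 100000

namespace CfsgLib.Golay.CocodeExt

open Cfsg CfsgLib.Golay CfsgLib.Mathieu
open CfsgLib.KnownA.Mathieu (actW eqW codeA codeC codeD23)

/-- The quadratic part of the cocycle. -/
def U2 : List (ℕ × ℕ) :=
  [(0, 8), (1, 5), (2, 9), (3, 10), (4, 6), (7, 11)]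

/-- The cubic part of the cocycle. -/
def U3 : List (ℕ × ℕ × ℕ) := [
  (0, 1, 5), (0, 1, 8), (0, 1, 9), (0, 1, 10), (0, 2, 3), (0, 2, 6), (0, 2, 8), (0, 2, 9),
  (0, 3, 2), (0, 3, 7), (0, 3, 8), (0, 3, 10), (0, 4, 6), (0, 4, 8), (0, 4, 10), (0, 4, 11),
  (0, 5, 1), (0, 5, 6), (0, 5, 7), (0, 5, 8), (0, 6, 2), (0, 6, 4), (0, 6, 5), (0, 6, 8),
  (0, 7, 3), (0, 7, 5), (0, 7, 8), (0, 7, 11), (0, 8, 1), (0, 8, 2), (0, 8, 3), (0, 8, 4),
  (0, 8, 5), (0, 8, 6), (0, 8, 7), (0, 8, 9), (0, 8, 10), (0, 8, 11), (0, 9, 1), (0, 9, 2),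
  (0, 9, 8), (0, 9, 11), (0, 10, 1), (0, 10, 3), (0, 10, 4), (0, 10, 8), (0, 11, 4), (0, 11, 7),
  (0, 11, 8), (0, 11, 9), (1, 2, 3), (1, 2, 5), (1, 2, 9), (1, 2, 11), (1, 3, 2), (1, 3, 4),
  (1, 3, 5), (1, 3, 10), (1, 4, 3), (1, 4, 5), (1, 4, 6), (1, 4, 8), (1, 5, 0), (1, 5, 2),
  (1, 5, 3), (1, 5, 4), (1, 5, 6), (1, 5, 7), (1, 5, 8), (1, 5, 9), (1, 5, 10), (1, 5, 11),
  (1, 6, 4), (1, 6, 5), (1, 6, 7), (1, 6, 9), (1, 7, 5), (1, 7, 6), (1, 7, 10), (1, 7, 11),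
  (1, 8, 0), (1, 8, 4), (1, 8, 5), (1, 8, 11), (1, 9, 0), (1, 9, 2), (1, 9, 5), (1, 9, 6),
  (1, 10, 0), (1, 10, 3), (1, 10, 5), (1, 10, 7), (1, 11, 2), (1, 11, 5), (1, 11, 7), (1, 11, 8),
  (2, 3, 0), (2, 3, 1), (2, 3, 9), (2, 3, 10), (2, 4, 5), (2, 4, 6), (2, 4, 9), (2, 4, 10),
  (2, 5, 1), (2, 5, 4), (2, 5, 8), (2, 5, 9), (2, 6, 0), (2, 6, 4), (2, 6, 9), (2, 6, 11),
  (2, 7, 8), (2, 7, 9), (2, 7, 10), (2, 7, 11), (2, 8, 0), (2, 8, 5), (2, 8, 7), (2, 8, 9),
  (2, 9, 0), (2, 9, 1), (2, 9, 3), (2, 9, 4), (2, 9, 5), (2, 9, 6), (2, 9, 7), (2, 9, 8),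
  (2, 9, 10), (2, 9, 11), (2, 10, 3), (2, 10, 4), (2, 10, 7), (2, 10, 9), (2, 11, 1), (2, 11, 6),
  (2, 11, 7), (2, 11, 9), (3, 4, 1), (3, 4, 6), (3, 4, 7), (3, 4, 10), (3, 5, 1), (3, 5, 8),
  (3, 5, 10), (3, 5, 11), (3, 6, 4), (3, 6, 8), (3, 6, 9), (3, 6, 10), (3, 7, 0), (3, 7, 4),
  (3, 7, 10), (3, 7, 11), (3, 8, 0), (3, 8, 5), (3, 8, 6), (3, 8, 10), (3, 9, 2), (3, 9, 6),
  (3, 9, 10), (3, 9, 11), (3, 10, 0), (3, 10, 1), (3, 10, 2), (3, 10, 4), (3, 10, 5), (3, 10, 6),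
  (3, 10, 7), (3, 10, 8), (3, 10, 9), (3, 10, 11), (3, 11, 5), (3, 11, 7), (3, 11, 9),
  (3, 11, 10), (4, 5, 1), (4, 5, 2), (4, 5, 6), (4, 5, 11), (4, 6, 0), (4, 6, 1), (4, 6, 2),
  (4, 6, 3), (4, 6, 5), (4, 6, 7), (4, 6, 8), (4, 6, 9), (4, 6, 10), (4, 6, 11), (4, 7, 3),
  (4, 7, 6), (4, 7, 9), (4, 7, 11), (4, 8, 0), (4, 8, 1), (4, 8, 6), (4, 8, 9), (4, 9, 2),
  (4, 9, 6), (4, 9, 7), (4, 9, 8), (4, 10, 0), (4, 10, 2), (4, 10, 3), (4, 10, 6), (4, 11, 0),
  (4, 11, 5), (4, 11, 6), (4, 11, 7), (5, 6, 0), (5, 6, 1), (5, 6, 4), (5, 6, 10), (5, 7, 0),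
  (5, 7, 1), (5, 7, 9), (5, 7, 11), (5, 8, 0), (5, 8, 1), (5, 8, 2), (5, 8, 3), (5, 9, 1),
  (5, 9, 2), (5, 9, 7), (5, 9, 10), (5, 10, 1), (5, 10, 3), (5, 10, 6), (5, 10, 9), (5, 11, 1),
  (5, 11, 3), (5, 11, 4), (5, 11, 7), (6, 7, 1), (6, 7, 4), (6, 7, 8), (6, 7, 11), (6, 8, 0),
  (6, 8, 3), (6, 8, 4), (6, 8, 7), (6, 9, 1), (6, 9, 2), (6, 9, 3), (6, 9, 4), (6, 10, 3),
  (6, 10, 4), (6, 10, 5), (6, 10, 11), (6, 11, 2), (6, 11, 4), (6, 11, 7), (6, 11, 10), (7, 8, 0),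
  (7, 8, 2), (7, 8, 6), (7, 8, 11), (7, 9, 2), (7, 9, 4), (7, 9, 5), (7, 9, 11), (7, 10, 1),
  (7, 10, 2), (7, 10, 3), (7, 10, 11), (7, 11, 0), (7, 11, 1), (7, 11, 2), (7, 11, 3), (7, 11, 4),
  (7, 11, 5), (7, 11, 6), (7, 11, 8), (7, 11, 9), (7, 11, 10), (8, 9, 0), (8, 9, 2), (8, 9, 4),
  (8, 9, 10), (8, 10, 0), (8, 10, 3), (8, 10, 9), (8, 10, 11), (8, 11, 0), (8, 11, 1), (8, 11, 7),
  (8, 11, 10), (9, 10, 2), (9, 10, 3), (9, 10, 5), (9, 10, 8), (9, 11, 0), (9, 11, 2), (9, 11, 3),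
  (9, 11, 7), (10, 11, 3), (10, 11, 6), (10, 11, 7), (10, 11, 8)]

/-- A basis of the code words vanishing at the extra point. -/
def B11 : List ℕ := [4845570, 1302533, 7221256, 6053905, 7417889, 2854977, 2019456, 4038912, 8077824, 7767041, 2422785]

/-- The certificate: pairs of a relator and a code word. -/
def cert : List (ℕ × ℕ) :=
  [(0, 4845570), (0, 7221256), (1, 1302533), (1, 4845570), (2, 1302533), (2, 2854977), (2, 8077824), (3, 6053905)]

/-- Bit `i` of a mask. -/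
def bitB (a i : ℕ) : Bool := Nat.beq (Nat.land (Nat.shiftRight a i) 1) 1

theorem bitB_eq (a i : ℕ) : bitB a i = a.testBit i := by
  have h : Nat.land (Nat.shiftRight a i) 1 = (a >>> i) % 2 := Nat.and_one_is_mod _
  rw [bitB, h, Bool.eq_iff_iff, Nat.testBit, Nat.one_and_eq_mod_two]
  rcases Nat.mod_two_eq_zero_or_one (a >>> i) with e | e <;> simp [e]

/-- The cocycle on masks. -/
def thM (a b : ℕ) : Bool :=
  Bool.xor (U2.foldr (fun p s => Bool.xor (bitB a p.1 && bitB b p.2) s) false)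
    (U3.foldr (fun p s => Bool.xor (bitB a p.1 && bitB a p.2.1 && bitB b p.2.2) s) false)

/-- The coboundary of the cocycle on masks, in expanded form. -/
def triM (a b c : ℕ) : Bool :=
  U3.foldr (fun p s => Bool.xor
    (bitB c p.2.2 &&
      Bool.xor (bitB a p.1 && bitB b p.2.1) (bitB a p.2.1 && bitB b p.1)) s) false

theorem triM_filter (a b c : ℕ) : triM a b c =
    (U3.filter fun p => Bool.xor (bitB a p.1 && bitB b p.2.1) (bitB a p.2.1 && bitB b p.1)).foldr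
      (fun p s => Bool.xor (bitB c p.2.2) s) false := by
  rw [triM]
  generalize U3 = L
  induction L with
  | nil => rfl
  | cons p L ih =>
    simp only [List.foldr_cons, ih, List.filter_cons]
    cases h : Bool.xor (bitB a p.1 && bitB b p.2.1) (bitB a p.2.1 && bitB b p.1) <;> simp

theorem tri_check' : (gens.all fun a => gens.all fun b =>
    (fun L => gens.all fun c => L.foldr (fun p s => Bool.xor (bitB c p.2.2) s) false ==
      Nat.beq (pop (Nat.land (Nat.land a b) c) % 2) 1)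
    (U3.filter fun p => Bool.xor (bitB a p.1 && bitB b p.2.1) (bitB a p.2.1 && bitB b p.1))) =
      true := by decide +kernel

theorem tri_check {a b c : ℕ} (ha : a ∈ gens) (hb : b ∈ gens) (hc : c ∈ gens) :
    triM a b c = Nat.beq (pop (a &&& b &&& c) % 2) 1 := by
  have h := List.all_eq_true.1 tri_check' a ha
  have h := List.all_eq_true.1 h b hb
  have h := List.all_eq_true.1 h c hc
  rw [triM_filter]
  exact beq_iff_eq.1 h

theorem B11_ok : (B11.all fun b => isCode b && !b.testBit 23) = true := by decide +kernel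

theorem gens_B11 : (gens.all fun g => B11.contains g || B11.contains (g ^^^ 13062145) ||
    Nat.beq g 13062145) = true := by decide +kernel

/-- The coboundary of a generator on masks. -/
def deltaM (g a b : ℕ) : Bool := Bool.xor (thM (mimg g a) (mimg g b)) (thM a b)

theorem sym_check : ([codeA, codeC, codeD23].all fun g => B11.all fun a =>
    !deltaM g a a && B11.all fun b => deltaM g a b == deltaM g b a) = true := by decide +kernel

theorem orth_check : allB 12 (fun k => Nat.beq k 0 ||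
    gens.any fun g => Nat.beq (pop (Nat.land (Nat.shiftLeft k 12) g) % 2) 1) 0 = true := by
  decide +kernel

/-- The relators in the two letters `mA` (false) and `mT` (true). -/
def relW : ℕ → List Bool
  | 0 => List.replicate 4 true
  | 1 => (List.replicate 7 [false, true]).flatten
  | 2 => (List.replicate 5 [false, false, true, true]).flatten
  | _ => (List.replicate 7 [false, true, true, true]).flatten

/-- The code of a letter. -/
def letter (b : Bool) : ℕ := if b then mT else mA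

theorem relW_check : ([0, 1, 2, 3].all fun r => eqW ((relW r).map letter) []) = true := by
  decide +kernel

/-- The values used by the product of a word, and the image of the argument. -/
def terms : List Bool → ℕ → List (Bool × ℕ) × ℕ
  | [], x => ([], x)
  | b :: w, x => ((b, (terms w x).2) :: (terms w x).1, mimg (letter b) (terms w x).2)

/-- The sum of the arguments and the accumulated coboundary. -/
def foldD (g : ℕ) : List ℕ → ℕ × Bool
  | [] => (0, false)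
  | y :: L => (y ^^^ (foldD g L).1, Bool.xor (deltaM g y (foldD g L).1) (foldD g L).2)

/-- All the terms of the certificate. -/
def allTerms : List (Bool × ℕ) := cert.flatMap fun p => (terms (relW p.1) p.2).1

/-- The arguments of one letter. -/
def argsOf (b : Bool) : List ℕ := (allTerms.filter fun t => t.1 == b).map Prod.snd

theorem cert_ok : (cert.all fun p => Nat.ble p.1 3 && isCode p.2 && !p.2.testBit 23) = true := by
  decide +kernel

theorem cert_check : ((foldD mA (argsOf false)).1 = 0 ∧ (foldD mT (argsOf true)).1 = 0) ∧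
    Bool.xor (foldD mA (argsOf false)).2 (foldD mT (argsOf true)).2 = true := by
  decide +kernel

theorem letter_ok : ([codeA, codeC, codeD23, mA, mT].all fun g =>
    inM24 g && Nat.beq (img g 23) 23) = true := by decide +kernel

end CfsgLib.Golay.CocodeExt
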