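import Cfsg.Prelude.Def_Sporadic_a

/-! The length-24 code of `Def_Sporadic_a` as an explicit set of 24-bit masks. -/

set_option autoImplicit false
set_option maxRecDepth 100000

namespace CfsgLib.Golay

open Cfsg
open scoped Pointwise

/-- Index of a point: residue `x ↦ x`, extra point `↦ 23`. -/
def idx : GolayPt → ℕ
  | none => 23
  | some x => x.val

/-- Point with a given index. -/
def pt (i : ℕ) : GolayPt :=
  if h : i < 23 then some (⟨i, h⟩ : Fin 23) else none

theorem idx_lt (p : GolayPt) : idx p < 24 := by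
  revert p; decide +kernel

theorem pt_idx (p : GolayPt) : pt (idx p) = p := by
  revert p; decide +kernel

theorem idx_pt {i : ℕ} (h : i < 24) : idx (pt i) = i := by
  revert i; decide +kernel

theorem idx_injective : Function.Injective idx := fun p q h => by
  rw [← pt_idx p, h, pt_idx]

/-- The set of points of a mask. -/
def mset (m : ℕ) : Finset GolayPt := Finset.univ.filter fun p => m.testBit (idx p)

/-- The word of a mask. -/
def mword (m : ℕ) : GolayPt → ZMod 2 := fun p => if m.testBit (idx p) then 1 else 0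

theorem mem_mset {m : ℕ} {p : GolayPt} : p ∈ mset m ↔ m.testBit (idx p) = true := by
  simp [mset]

theorem support_mword (m : ℕ) : support₂ (mword m) = mset m := by
  ext p; by_cases h : m.testBit (idx p) <;> simp [support₂, mword, mem_mset, h]

theorem mword_inj {m n : ℕ} (hm : m < 16777216) (hn : n < 16777216) (h : mword m = mword n) :
    m = n := by
  apply Nat.eq_of_testBit_eq
  intro i
  by_cases hi : i < 24
  · have := congrFun h (pt i)
    simp only [mword, idx_pt hi] at this
    cases h1 : m.testBit i <;> cases h2 : n.testBit i <;> simp [h1, h2] at this ⊢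
  · have e : 16777216 ≤ 2 ^ i := by
      calc 16777216 = 2 ^ 24 := by norm_num
        _ ≤ 2 ^ i := Nat.pow_le_pow_right (by norm_num) (by omega)
    rw [Nat.testBit_lt_two_pow (lt_of_lt_of_le hm e), Nat.testBit_lt_two_pow (lt_of_lt_of_le hn e)]

theorem support₂_injective : Function.Injective (support₂ : (GolayPt → ZMod 2) → Finset GolayPt) := by
  intro v w h
  funext p
  have hp := Finset.ext_iff.1 h p
  simp only [support₂, Finset.mem_filter, Finset.mem_univ, true_and] at hp
  generalize v p = a at hp; generalize w p = b at hp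
  revert hp; revert a b; decide

theorem mset_inj {m n : ℕ} (hm : m < 16777216) (hn : n < 16777216) (h : mset m = mset n) :
    m = n :=
  mword_inj hm hn (support₂_injective (by rw [support_mword, support_mword, h]))

theorem exists_mset (s : Finset GolayPt) : ∃ m < 16777216, mset m = s := by
  refine ⟨Nat.ofBits (fun i : Fin 24 => decide (pt i.val ∈ s)), ?_, ?_⟩
  · exact Nat.lt_of_lt_of_eq (Nat.ofBits_lt_two_pow _) (by norm_num)
  · ext p
    rw [mem_mset, Nat.testBit_ofBits_lt _ _ (idx_lt p)]
    simp [pt_idx]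

theorem mword_xor (a b : ℕ) : mword (a ^^^ b) = mword a + mword b := by
  funext p
  simp only [mword, Pi.add_apply, Nat.testBit_xor]
  cases a.testBit (idx p) <;> cases b.testBit (idx p) <;> decide

theorem mword_zero : mword 0 = 0 := by
  funext p; simp [mword]

theorem mword_full : mword 16777215 = 1 := by
  funext p; revert p; decide +kernel

theorem mset_and (a b : ℕ) : mset (a &&& b) = mset a ∩ mset b := by
  ext p; simp [mem_mset, Nat.testBit_land]

theorem mset_or (a b : ℕ) : mset (a ||| b) = mset a ∪ mset b := by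
  ext p; simp [mem_mset, Nat.testBit_lor]

theorem mset_zero : mset 0 = ∅ := by
  ext p; simp [mem_mset]

theorem mset_xor (a b : ℕ) : mset (a ^^^ b) = symmDiff (mset a) (mset b) := by
  ext p
  simp only [mem_mset, Nat.testBit_xor, Finset.mem_symmDiff]
  cases a.testBit (idx p) <;> cases b.testBit (idx p) <;> decide

theorem mset_sdiff (a b : ℕ) : mset (a ^^^ (a &&& b)) = mset a \ mset b := by
  ext p
  simp only [mem_mset, Nat.testBit_xor, Nat.testBit_land, Finset.mem_sdiff]
  cases a.testBit (idx p) <;> cases b.testBit (idx p) <;> decide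

theorem mset_two_pow {i : ℕ} (h : i < 24) : mset (2 ^ i) = {pt i} := by
  ext p
  rw [mem_mset, Nat.testBit_two_pow, Finset.mem_singleton]
  constructor
  · intro e; rw [of_decide_eq_true e, pt_idx]
  · intro e; subst e; simp [idx_pt h]

theorem mset_full : mset 16777215 = Finset.univ := by
  rw [← support_mword, mword_full]; ext p; simp [support₂]

/-- Number of set bits among the lowest `n`. -/
def popAux : ℕ → ℕ → ℕ
  | 0, _ => 0
  | n + 1, m => m % 2 + popAux n (m / 2)

/-- Number of set bits among the lowest four (table lookup). -/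
def nib (v : ℕ) : ℕ := Nat.land (Nat.shiftRight 4841987667533046032 (Nat.mul 4 (Nat.land v 15))) 15

/-- Number of set bits among the lowest 24. -/
def pop (m : ℕ) : ℕ :=
  Nat.add (nib m) (Nat.add (nib (Nat.shiftRight m 4)) (Nat.add (nib (Nat.shiftRight m 8))
    (Nat.add (nib (Nat.shiftRight m 12)) (Nat.add (nib (Nat.shiftRight m 16))
      (nib (Nat.shiftRight m 20))))))

theorem popAux_eq (n m : ℕ) :
    popAux n m = ∑ i ∈ Finset.range n, if m.testBit i then 1 else 0 := by
  induction n generalizing m with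
  | zero => simp [popAux]
  | succ n ih =>
    rw [popAux, ih, Finset.sum_range_succ', add_comm]
    congr 1
    · apply Finset.sum_congr rfl
      intro i _; rw [Nat.testBit_add_one]
    · rw [Nat.testBit_zero]
      rcases Nat.mod_two_eq_zero_or_one m with h | h <;> simp [h]

theorem popAux_add (a b m : ℕ) : popAux (a + b) m = popAux a m + popAux b (m / 2 ^ a) := by
  induction a generalizing m with
  | zero => simp [popAux]
  | succ a ih =>
    rw [show a + 1 + b = a + b + 1 by omega, popAux, ih, popAux, Nat.div_div_eq_div_mul,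
      pow_succ']
    omega

theorem popAux_mod (a m : ℕ) : popAux a (m % 2 ^ a) = popAux a m := by
  rw [popAux_eq, popAux_eq]
  apply Finset.sum_congr rfl
  intro i hi
  simp [Nat.testBit_mod_two_pow, Finset.mem_range.1 hi]

theorem nib_eq (v : ℕ) : nib v = popAux 4 v := by
  have h : ∀ u < 16, nib u = popAux 4 u := by decide +kernel
  have e : Nat.land v 15 = v % 16 := Nat.and_two_pow_sub_one_eq_mod v 4
  have e' : nib v = nib (v % 16) := by
    simp only [nib, e]
    rw [show Nat.land (v % 16) 15 = v % 16 % 16 from Nat.and_two_pow_sub_one_eq_mod (v % 16) 4,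
      Nat.mod_mod]
  rw [e', h _ (Nat.mod_lt _ (by norm_num)), ← popAux_mod 4 v]; norm_num

theorem pop_eq (m : ℕ) : pop m = popAux 24 m := by
  rw [show (24 : ℕ) = 4 + (4 + (4 + (4 + (4 + 4)))) by norm_num]
  simp only [popAux_add, pop, nib_eq, ← Nat.shiftRight_eq_div_pow]
  simp only [← Nat.shiftRight_add]
  rfl

theorem card_mset (m : ℕ) : (mset m).card = pop m := by
  rw [pop_eq, popAux_eq, ← Finset.card_filter]
  apply Finset.card_bij (fun p _ => idx p)
  · intro p hp
    simp [idx_lt p, mem_mset.1 hp]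
  · intro p _ q _ h; exact idx_injective h
  · intro i hi
    simp only [Finset.mem_filter, Finset.mem_range] at hi
    exact ⟨pt i, by simp [mem_mset, idx_pt hi.1, hi.2], idx_pt hi.1⟩

theorem hammingNorm_mword (m : ℕ) : hammingNorm (mword m) = pop m := by
  rw [← card_mset, ← support_mword]; rfl

/-- Systematic generators: the lowest twelve bits of the `i`-th one are `2 ^ i`. -/
def gens : List ℕ := [13062145, 4845570, 13938692, 7221256, 10170384, 11952160, 15515712, 2019456, 4038912, 8077824, 11654144, 14919680]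

/-- `g` if bit `i` of `k` is set, else `0`. -/
def sel (g i k : ℕ) : ℕ := Nat.mul g (Nat.land (Nat.shiftRight k i) 1)

/-- Encoder of the code: XOR of the generators selected by the lowest twelve bits. -/
def enc (k : ℕ) : ℕ :=
  Nat.xor (Nat.xor (Nat.xor (Nat.xor (Nat.xor (Nat.xor (Nat.xor (Nat.xor (Nat.xor (Nat.xor (Nat.xor (sel 13062145 0 k)
    (sel 4845570 1 k))
    (sel 13938692 2 k))
    (sel 7221256 3 k))
    (sel 10170384 4 k))
    (sel 11952160 5 k))
    (sel 15515712 6 k))
    (sel 2019456 7 k))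
    (sel 4038912 8 k))
    (sel 8077824 9 k))
    (sel 11654144 10 k))
    (sel 14919680 11 k)

/-- Membership test for masks. -/
def isCode (m : ℕ) : Bool := Nat.beq (enc (Nat.land m 4095)) m

theorem sel_eq (g i k : ℕ) : sel g i k = if k.testBit i then g else 0 := by
  show g * ((k >>> i) &&& 1) = _
  rw [Nat.and_one_is_mod]
  rcases Nat.mod_two_eq_zero_or_one (k >>> i) with h | h <;>
    simp [Nat.testBit, h, Nat.one_and_eq_mod_two]

theorem sel_xor (g i a b : ℕ) : sel g i (a ^^^ b) = sel g i a ^^^ sel g i b := by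
  simp only [sel_eq, Nat.testBit_xor]
  cases a.testBit i <;> cases b.testBit i <;> simp

theorem enc_xor (a b : ℕ) : enc (a ^^^ b) = enc a ^^^ enc b := by
  show _ = Nat.xor (enc a) (enc b)
  simp only [enc, sel_xor]
  simp only [show ∀ x y : ℕ, Nat.xor x y = x ^^^ y from fun _ _ => rfl]
  ac_rfl

theorem isCode_iff {m : ℕ} : isCode m = true ↔ enc (m % 4096) = m := by
  rw [isCode, show Nat.land m 4095 = m % 4096 from Nat.and_two_pow_sub_one_eq_mod m 12]
  exact ⟨Nat.eq_of_beq_eq_true, fun h => by rw [h]; exact Nat.beq_refl m⟩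

theorem isCode_xor {a b : ℕ} (ha : isCode a = true) (hb : isCode b = true) :
    isCode (a ^^^ b) = true := by
  rw [isCode_iff] at *
  rw [show (4096 : ℕ) = 2 ^ 12 by norm_num] at *
  rw [Nat.xor_mod_two_pow, enc_xor, ha, hb]

/-- `p` holds on all of `[s * 2 ^ d, (s + 1) * 2 ^ d)`. -/
def allB : ℕ → (ℕ → Bool) → ℕ → Bool
  | 0, p, s => p s
  | d + 1, p, s => allB d p (Nat.mul 2 s) && allB d p (Nat.add (Nat.mul 2 s) 1)

theorem allB_spec : ∀ {d : ℕ} {p : ℕ → Bool} {s : ℕ}, allB d p s = true →
    ∀ k, s * 2 ^ d ≤ k → k < (s + 1) * 2 ^ d → p k = true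
  | 0, p, s, h, k, h1, h2 => by
    have : k = s := by simp at h1 h2; omega
    subst this; exact h
  | d + 1, p, s, h, k, h1, h2 => by
    simp only [allB, Bool.and_eq_true] at h
    have e1 : s * 2 ^ (d + 1) = 2 * s * 2 ^ d := by ring
    have e2 : (s + 1) * 2 ^ (d + 1) = (2 * s + 1 + 1) * 2 ^ d := by ring
    rcases lt_or_ge k ((2 * s + 1) * 2 ^ d) with hk | hk
    · exact allB_spec h.1 k (e1 ▸ h1) hk
    · exact allB_spec h.2 k hk (e2 ▸ h2)

theorem allB_range {d : ℕ} {p : ℕ → Bool} (h : allB d p 0 = true) {k : ℕ} (hk : k < 2 ^ d) :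
    p k = true := allB_spec h k (by simp) (by simpa using hk)

theorem enc_check :
    allB 12 (fun k => Nat.beq (Nat.land (enc k) 4095) k && Nat.ble (enc k) 16777215) 0 = true := by
  decide +kernel

theorem enc_facts (k : ℕ) (hk : k < 4096) : enc k % 4096 = k ∧ enc k < 16777216 := by
  have h := allB_range enc_check (k := k) hk
  rw [Bool.and_eq_true] at h
  refine ⟨?_, Nat.lt_succ_of_le (Nat.le_of_ble_eq_true h.2)⟩
  rw [← show Nat.land (enc k) 4095 = enc k % 4096 from Nat.and_two_pow_sub_one_eq_mod (enc k) 12]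
  exact Nat.eq_of_beq_eq_true h.1

theorem isCode_enc {k : ℕ} (hk : k < 4096) : isCode (enc k) = true := by
  rw [isCode_iff, (enc_facts k hk).1]

theorem isCode_lt {m : ℕ} (h : isCode m = true) : m < 16777216 := by
  rw [isCode_iff] at h
  rw [← h]; exact (enc_facts _ (Nat.mod_lt _ (by norm_num))).2

theorem isCode_zero : isCode 0 = true := by decide +kernel

theorem isCode_full : isCode 16777215 = true := by decide +kernel

/-- Masks of the words `qrWord t`, followed by the all-ones mask. -/
def qrMasks : List ℕ := [340831, 681662, 1363324, 2726648, 5453296, 2517985, 5035970, 1683333, 3366666, 6733332, 5078057, 1767507, 3535014, 7070028, 5751449, 3114291, 6228582, 4068557, 8137114, 7885621, 7382635, 6376663, 4364719, 16777215]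

theorem qrWord_eq : ∀ t : ZMod 23, qrWord t = mword (qrMasks.getD t.val 0) := by decide +kernel

theorem one_eq : (1 : GolayPt → ZMod 2) = mword (qrMasks.getD 23 0) := mword_full.symm

theorem qrMasks_code : ∀ i < 24, isCode (qrMasks.getD i 0) = true := by decide +kernel

theorem qrMasks_mem {i : ℕ} (hi : i < 24) : mword (qrMasks.getD i 0) ∈ golayCode := by
  apply Submodule.subset_span
  by_cases h : i < 23
  · left; exact ⟨((⟨i, h⟩ : Fin 23) : ZMod 23), qrWord_eq _⟩
  · right
    obtain rfl : i = 23 := by omega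
    exact one_eq.symm

/-- XOR of the listed `qrMasks`. -/
def qrComb : List ℕ → ℕ
  | [] => 0
  | i :: l => qrMasks.getD i 0 ^^^ qrComb l

theorem qrComb_mem : ∀ {l : List ℕ}, (∀ i ∈ l, i < 24) → mword (qrComb l) ∈ golayCode
  | [], _ => by rw [qrComb, mword_zero]; exact Submodule.zero_mem _
  | i :: l, h => by
    rw [qrComb, mword_xor]
    exact Submodule.add_mem _ (qrMasks_mem (h i (by simp)))
      (qrComb_mem (fun j hj => h j (by simp [hj])))

/-- Coefficients of the generators in terms of `qrMasks`. -/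
def gensComb : List (List ℕ) :=
  [[0, 3, 5, 7, 9, 10, 23],
    [3, 4, 8],
    [0, 3, 4, 7, 10, 23],
    [3, 4, 5, 6, 8, 10],
    [1, 3, 4, 5, 7, 9, 10, 23],
    [0, 1, 2, 4, 7, 8, 9, 10, 23],
    [0, 2, 3, 6, 7, 8, 10, 23],
    [4, 6, 7, 8, 9, 10],
    [0, 1, 6, 8, 10],
    [0, 2, 5, 6],
    [0, 1, 5, 6, 9, 10, 23],
    [0, 2, 5, 9, 10, 23]]

theorem gensComb_eq : gensComb.map qrComb = gens ∧ ∀ l ∈ gensComb, ∀ i ∈ l, i < 24 := by
  decide +kernel

theorem gens_mem {g : ℕ} (hg : g ∈ gens) : mword g ∈ golayCode := by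
  rw [← gensComb_eq.1, List.mem_map] at hg
  obtain ⟨l, hl, rfl⟩ := hg
  exact qrComb_mem (gensComb_eq.2 l hl)

theorem sel_mem {g : ℕ} (hg : g ∈ gens) (i k : ℕ) : mword (sel g i k) ∈ golayCode := by
  rw [sel_eq]
  split_ifs
  · exact gens_mem hg
  · rw [mword_zero]; exact Submodule.zero_mem _

theorem mword_enc_mem (k : ℕ) : mword (enc k) ∈ golayCode := by
  simp only [enc, show ∀ x y : ℕ, Nat.xor x y = x ^^^ y from fun _ _ => rfl, mword_xor]
  repeat' apply Submodule.add_mem
  all_goals exact sel_mem (by decide) _ _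

theorem mem_golayCode_iff {w : GolayPt → ZMod 2} :
    w ∈ golayCode ↔ ∃ m, isCode m = true ∧ mword m = w := by
  constructor
  · intro hw
    induction hw using Submodule.span_induction with
    | mem x hx =>
      rcases hx with ⟨t, rfl⟩ | hx
      · exact ⟨_, qrMasks_code _ (Nat.lt_succ_of_lt (ZMod.val_lt t)), (qrWord_eq t).symm⟩
      · rw [Set.mem_singleton_iff] at hx
        exact ⟨16777215, isCode_full, mword_full.trans hx.symm⟩
    | zero => exact ⟨0, isCode_zero, mword_zero⟩
    | add x y _ _ hx hy =>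
      obtain ⟨a, ha, rfl⟩ := hx
      obtain ⟨b, hb, rfl⟩ := hy
      exact ⟨a ^^^ b, isCode_xor ha hb, mword_xor a b⟩
    | smul c x _ hx =>
      obtain ⟨a, ha, rfl⟩ := hx
      fin_cases c
      · exact ⟨0, isCode_zero, by rw [mword_zero]; exact (zero_smul (ZMod 2) _).symm⟩
      · exact ⟨a, ha, (one_smul (ZMod 2) _).symm⟩
  · rintro ⟨m, hm, rfl⟩
    rw [isCode_iff] at hm
    rw [← hm]; exact mword_enc_mem _

theorem mword_mem_iff {m : ℕ} (hm : m < 16777216) : mword m ∈ golayCode ↔ isCode m = true := by
  rw [mem_golayCode_iff]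
  constructor
  · rintro ⟨n, hn, h⟩
    rw [← mword_inj (isCode_lt hn) hm h]; exact hn
  · exact fun h => ⟨m, h, rfl⟩

theorem mem_supports_iff {s : Finset GolayPt} :
    s ∈ supports (golayCode : Set (GolayPt → ZMod 2)) ↔ ∃ m, isCode m = true ∧ mset m = s := by
  constructor
  · rintro ⟨w, hw, rfl⟩
    obtain ⟨m, hm, rfl⟩ := mem_golayCode_iff.1 hw
    exact ⟨m, hm, (support_mword m).symm⟩
  · rintro ⟨m, hm, rfl⟩
    exact ⟨mword m, (mword_mem_iff (isCode_lt hm)).2 hm, support_mword m⟩

theorem mset_mem_supports_iff {m : ℕ} (hm : m < 16777216) :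
    mset m ∈ supports (golayCode : Set (GolayPt → ZMod 2)) ↔ isCode m = true := by
  rw [mem_supports_iff]
  constructor
  · rintro ⟨n, hn, h⟩
    rw [← mset_inj (isCode_lt hn) hm h]; exact hn
  · exact fun h => ⟨m, h, rfl⟩

theorem mem_wordsOfWeight_iff {s : Finset GolayPt} {n : ℕ} :
    s ∈ wordsOfWeight (golayCode : Set (GolayPt → ZMod 2)) n ↔
      ∃ m, isCode m = true ∧ pop m = n ∧ mset m = s := by
  show s ∈ supports _ ∧ s.card = n ↔ _
  rw [mem_supports_iff]
  constructor
  · rintro ⟨⟨m, hm, rfl⟩, h⟩; exact ⟨m, hm, by rw [← h, card_mset], rfl⟩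
  · rintro ⟨m, hm, h, rfl⟩; exact ⟨⟨m, hm, rfl⟩, by rw [card_mset, h]⟩

/-- All code masks, in the order of their lowest twelve bits. -/
def codeList : List ℕ := (List.range 4096).map enc

theorem mem_codeList {m : ℕ} : m ∈ codeList ↔ isCode m = true := by
  simp only [codeList, List.mem_map, List.mem_range]
  constructor
  · rintro ⟨k, hk, rfl⟩; exact isCode_enc hk
  · intro h; exact ⟨m % 4096, Nat.mod_lt _ (by norm_num), isCode_iff.1 h⟩

theorem codeList_nodup : codeList.Nodup := by
  refine List.Nodup.map_on ?_ List.nodup_range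
  intro a ha b hb h
  rw [List.mem_range] at ha hb
  rw [← (enc_facts a ha).1, h, (enc_facts b hb).1]

/-- Masks of the octads. -/
def octList : List ℕ := codeList.filter fun m => Nat.beq (pop m) 8

/-- Masks of the dodecads. -/
def dodList : List ℕ := codeList.filter fun m => Nat.beq (pop m) 12

theorem mem_octList {m : ℕ} : m ∈ octList ↔ isCode m = true ∧ pop m = 8 := by
  simp [octList, mem_codeList, Nat.beq_eq]

theorem mem_dodList {m : ℕ} : m ∈ dodList ↔ isCode m = true ∧ pop m = 12 := by
  simp [dodList, mem_codeList, Nat.beq_eq]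

theorem mem_octads_iff {s : Finset GolayPt} : s ∈ octads ↔ ∃ m ∈ octList, mset m = s := by
  show s ∈ wordsOfWeight _ 8 ↔ _
  simp only [mem_wordsOfWeight_iff, mem_octList, and_assoc]

theorem mem_dodecads_iff {s : Finset GolayPt} : s ∈ dodecads ↔ ∃ m ∈ dodList, mset m = s := by
  show s ∈ wordsOfWeight _ 12 ↔ _
  simp only [mem_wordsOfWeight_iff, mem_dodList, and_assoc]

theorem weights_check : allB 12 (fun k => Nat.beq (pop (enc k)) 0 || Nat.beq (pop (enc k)) 8 ||
    Nat.beq (pop (enc k)) 12 || Nat.beq (pop (enc k)) 16 || Nat.beq (pop (enc k)) 24) 0 = true := by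
  decide +kernel

theorem isCode_weights {m : ℕ} (h : isCode m = true) :
    pop m = 0 ∨ pop m = 8 ∨ pop m = 12 ∨ pop m = 16 ∨ pop m = 24 := by
  have h' := allB_range weights_check (k := m % 4096) (Nat.mod_lt _ (by norm_num))
  simp only [isCode_iff.1 h, Bool.or_eq_true] at h'
  rcases h' with (((h' | h') | h') | h') | h' <;> simp [Nat.eq_of_beq_eq_true h']

theorem octList_length : octList.length = 759 := by decide +kernel

theorem dodList_length : dodList.length = 2576 := by decide +kernel

/-- Counting sets of points given by a duplicate-free list of masks. -/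
theorem ncard_mset_list {S : Set (Finset GolayPt)} {l : List ℕ} (hlt : ∀ m ∈ l, m < 16777216)
    (hnd : l.Nodup) (hS : ∀ s, s ∈ S ↔ ∃ m ∈ l, mset m = s) : S.ncard = l.length := by
  classical
  have e : S = ((l.toFinset.image mset : Finset (Finset GolayPt)) : Set (Finset GolayPt)) := by
    ext s; simp [hS]
  rw [e, Set.ncard_coe_finset, Finset.card_image_of_injOn, List.toFinset_card_of_nodup hnd]
  intro a ha b hb h
  simp only [Finset.mem_coe, List.mem_toFinset] at ha hb
  exact mset_inj (hlt a ha) (hlt b hb) h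

theorem octads_ncard : octads.ncard = 759 := by
  rw [← octList_length]
  exact ncard_mset_list (fun m hm => isCode_lt (mem_octList.1 hm).1)
    (codeList_nodup.filter _) fun _ => mem_octads_iff

theorem dodecads_ncard : dodecads.ncard = 2576 := by
  rw [← dodList_length]
  exact ncard_mset_list (fun m hm => isCode_lt (mem_dodList.1 hm).1)
    (codeList_nodup.filter _) fun _ => mem_dodecads_iff

end CfsgLib.Golay
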