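import Cfsg.Agent.Lib.Golay.Position
import Cfsg.Agent.Lib.Golay.OrbitA
import Cfsg.Agent.Lib.Golay.OrbitB

/-! Orbits of octad and dodecad stabilisers. -/

set_option autoImplicit false
set_option maxRecDepth 100000

namespace CfsgLib.Golay

open Cfsg
open scoped Pointwise

theorem octads_inter_cases {o o' : Finset GolayPt} (ho : o ∈ octads) (ho' : o' ∈ octads) :
    (o ∩ o').card = 8 ∨ (o ∩ o').card = 4 ∨ (o ∩ o').card = 2 ∨ (o ∩ o').card = 0 := by
  have h1 := supports_inter_even ho.1 ho'.1
  have h2 : (o ∩ o').card ≤ 8 := ho.2 ▸ Finset.card_le_card Finset.inter_subset_left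
  by_cases h5 : 5 ≤ (o ∩ o').card
  · left; rw [octads_eq_of_five ho ho' h5, Finset.inter_self, ho'.2]
  · omega

theorem count_oct (k : ℕ) :
    {s | s ∈ octads ∧ (s ∩ mset octMask).card = k}.ncard =
      (octList.filter fun m => Nat.beq (pop (Nat.land m octMask)) k).length :=
  ncard_octads_filter fun _ => inter_card_iff

theorem octad_class {k rep N b : ℕ}
    (hrep : (isCode rep && Nat.beq (pop rep) 8 && Nat.beq (pop (Nat.land rep octMask)) k) = true)
    (hN : (octList.filter fun m => Nat.beq (pop (Nat.land m octMask)) k).length = N)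
    (hb : Nat.card (fixMasks (rep :: [octMask])) = b) (hab : 322560 = N * b) :
    ∀ y z : Finset GolayPt, (y ∈ octads ∧ (y ∩ mset octMask).card = k) →
      (z ∈ octads ∧ (z ∩ mset octMask).card = k) → ∃ σ : fixMasks [octMask], σ • y = z := by
  simp only [Bool.and_eq_true] at hrep
  refine class_trans (P := fun s => s ∈ octads ∧ (s ∩ mset octMask).card = k) (rep := rep)
    (fun σ s hs => ⟨fix_smul_octad σ hs.1, ?_⟩) ⟨?_, inter_card_iff.2 hrep.2⟩
    ((count_oct k).trans hN) card_fixOct hb hab
  · rw [Finset.inter_comm, fix_inter_card (by simp), Finset.inter_comm]; exact hs.2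
  · exact mem_octads_iff.2 ⟨rep, mem_octList.2 ⟨hrep.1.1, Nat.eq_of_beq_eq_true hrep.1.2⟩, rfl⟩

theorem octad_stab_trans {o o' o'' : Finset GolayPt} (ho : o ∈ octads) (ho' : o' ∈ octads)
    (ho'' : o'' ∈ octads) (h : (o ∩ o').card = (o ∩ o'').card) :
    ∃ g : M24, g • o = o ∧ g • o' = o'' := by
  obtain ⟨c, hc⟩ := M24_trans_octads ho octMask_mem
  have e : ∀ s : Finset GolayPt, (c • s ∩ mset octMask).card = (o ∩ s).card := fun s => by
    rw [← hc, smul_inter_card, Finset.inter_comm]
  have key : ∃ σ : fixMasks [octMask], σ • (c • o') = c • o'' := by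
    have y : c • o' ∈ octads ∧ (c • o' ∩ mset octMask).card = (o ∩ o').card :=
      ⟨(smul_mem_octads_iff c).2 ho', e o'⟩
    have z : c • o'' ∈ octads ∧ (c • o'' ∩ mset octMask).card = (o ∩ o').card :=
      ⟨(smul_mem_octads_iff c).2 ho'', (e o'').trans h.symm⟩
    rcases octads_inter_cases ho ho' with hk | hk | hk | hk <;> rw [hk] at y z
    · refine ⟨1, ?_⟩
      have f : ∀ s, s ∈ octads ∧ (s ∩ mset octMask).card = 8 → s = mset octMask := fun s hs =>
        octads_eq_of_five hs.1 octMask_mem (by omega)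
      rw [one_smul, f _ y, f _ z]
    · exact octad_class (rep := 95313) (N := 280) (by decide +kernel) (by decide +kernel) card_orbA_2 rfl _ _ y z
    · exact octad_class (rep := 5279) (N := 448) (by decide +kernel) (by decide +kernel) card_orbA_1 rfl _ _ y z
    · exact octad_class (rep := 10558) (N := 30) (by decide +kernel) (by decide +kernel) card_orbA_0 rfl _ _ y z
  obtain ⟨σ, hσ⟩ := key
  refine ⟨c⁻¹ * toM24 σ * c, ?_, ?_⟩
  · rw [mul_smul, mul_smul, hc, toM24_fix σ (by simp), ← hc, inv_smul_smul]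
  · rw [mul_smul, mul_smul, toM24_smul, hσ, inv_smul_smul]

theorem count_dod (k : ℕ) :
    {s | s ∈ dodecads ∧ (s ∩ mset sqMask).card = k}.ncard =
      (dodList.filter fun m => Nat.beq (pop (Nat.land m sqMask)) k).length :=
  ncard_dodecads_filter fun _ => inter_card_iff

theorem dodecad_class {k rep N b : ℕ}
    (hrep : (isCode rep && Nat.beq (pop rep) 12 && Nat.beq (pop (Nat.land rep sqMask)) k) = true)
    (hN : (dodList.filter fun m => Nat.beq (pop (Nat.land m sqMask)) k).length = N)
    (hb : Nat.card (fixMasks (rep :: X12)) = b) (hab : 95040 = N * b) :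
    ∀ y z : Finset GolayPt, (y ∈ dodecads ∧ (y ∩ mset sqMask).card = k) →
      (z ∈ dodecads ∧ (z ∩ mset sqMask).card = k) → ∃ σ : fixMasks X12, σ • y = z := by
  simp only [Bool.and_eq_true] at hrep
  refine class_trans (P := fun s => s ∈ dodecads ∧ (s ∩ mset sqMask).card = k) (rep := rep)
    (fun σ s hs => ⟨fix_smul_dodecad σ hs.1, ?_⟩) ⟨?_, inter_card_iff.2 hrep.2⟩
    ((count_dod k).trans hN) card_fix12 hb hab
  · rw [Finset.inter_comm, fix_inter_card (by simp), Finset.inter_comm]; exact hs.2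
  · exact mem_dodecads_iff.2 ⟨rep, mem_dodList.2 ⟨hrep.1.1, Nat.eq_of_beq_eq_true hrep.1.2⟩, rfl⟩

theorem dodecads_inter_cases {d d' : Finset GolayPt} (hd : d ∈ dodecads) (hd' : d' ∈ dodecads) :
    (d ∩ d').card = 0 ∨ (d ∩ d').card = 4 ∨ (d ∩ d').card = 6 ∨ (d ∩ d').card = 8 ∨
      (d ∩ d').card = 12 := by
  have hw := supports_card (symmDiff_mem_supports hd.1 hd'.1)
  have hev := supports_inter_even hd.1 hd'.1
  have e : (symmDiff d d').card + 2 * (d ∩ d').card = d.card + d'.card := by
    rw [symmDiff_def, Finset.sup_eq_union, Finset.card_union_of_disjoint disjoint_sdiff_sdiff,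
      Finset.card_sdiff, Finset.card_sdiff, Finset.inter_comm d' d]
    have h1 : (d ∩ d').card ≤ d.card := Finset.card_le_card Finset.inter_subset_left
    have h2 : (d ∩ d').card ≤ d'.card := Finset.card_le_card Finset.inter_subset_right
    omega
  rw [hd.2, hd'.2] at e
  omega

theorem dodecad_stab_trans {d d' d'' : Finset GolayPt} (hd : d ∈ dodecads) (hd' : d' ∈ dodecads)
    (hd'' : d'' ∈ dodecads) (h : (d ∩ d').card = (d ∩ d'').card) :
    ∃ g : M24, g • d = d ∧ g • d' = d'' := by
  obtain ⟨c, hc⟩ := M24_trans_dodecads hd sqMask_mem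
  have e : ∀ s : Finset GolayPt, (c • s ∩ mset sqMask).card = (d ∩ s).card := fun s => by
    rw [← hc, smul_inter_card, Finset.inter_comm]
  have key : ∃ σ : fixMasks X12, σ • (c • d') = c • d'' := by
    have y : c • d' ∈ dodecads ∧ (c • d' ∩ mset sqMask).card = (d ∩ d').card :=
      ⟨(smul_mem_dodecads_iff c).2 hd', e d'⟩
    have z : c • d'' ∈ dodecads ∧ (c • d'' ∩ mset sqMask).card = (d ∩ d').card :=
      ⟨(smul_mem_dodecads_iff c).2 hd'', (e d'').trans h.symm⟩
    rcases dodecads_inter_cases hd hd' with hk | hk | hk | hk | hk <;> rw [hk] at y z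
    · exact dodecad_class (rep := 16436384) (N := 1) (by decide +kernel) (by decide +kernel) card_orbB_0 rfl _ _ y z
    · exact dodecad_class (rep := 1035448) (N := 495) (by decide +kernel) (by decide +kernel) card_orbB_2 rfl _ _ y z
    · exact dodecad_class (rep := 57274) (N := 1584) (by decide +kernel) (by decide +kernel) card_orbB_3 rfl _ _ y z
    · exact dodecad_class (rep := 28637) (N := 495) (by decide +kernel) (by decide +kernel) card_orbB_4 rfl _ _ y z
    · exact dodecad_class (rep := 340831) (N := 1) (by decide +kernel) (by decide +kernel) card_orbB_1 rfl _ _ y z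
  obtain ⟨σ, hσ⟩ := key
  refine ⟨c⁻¹ * toM24 σ * c, ?_, ?_⟩
  · rw [mul_smul, mul_smul, hc, toM24_fix σ (by simp), ← hc, inv_smul_smul]
  · rw [mul_smul, mul_smul, toM24_smul, hσ, inv_smul_smul]

end CfsgLib.Golay
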