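import Cfsg.Agent.Lib.Golay.Octads

/-! Elementary structure of `Cfsg.leechLattice`. -/

set_option autoImplicit false

namespace CfsgLib.Golay

open Cfsg
open scoped Pointwise

/-- Reduction of an integer vector modulo 2. -/
def mod2 (a : GolayPt → ℤ) : GolayPt → ZMod 2 := fun i => (a i : ZMod 2)

theorem mem_supports_word {w : GolayPt → ZMod 2} :
    support₂ w ∈ supports (golayCode : Set (GolayPt → ZMod 2)) ↔ w ∈ golayCode := by
  constructor
  · rintro ⟨v, hv, h⟩; rwa [← support₂_injective h]
  · exact fun h => ⟨w, h, rfl⟩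

theorem mem_support_mod2 {a : GolayPt → ℤ} {i : GolayPt} : i ∈ support₂ (mod2 a) ↔ a i % 2 = 1 := by
  simp only [support₂, mod2, Finset.mem_filter, Finset.mem_univ, true_and, ne_eq,
    ZMod.intCast_zmod_eq_zero_iff_dvd]
  omega

/-- `x = m + 2 a` with `a mod 2` in the code and `∑ a ≡ 2 m (mod 4)`. -/
def IsLeechRep (x : GolayPt → ℤ) (m : ℤ) (a : GolayPt → ℤ) : Prop :=
  (∀ i, x i = m + 2 * a i) ∧ mod2 a ∈ golayCode ∧ (4 : ℤ) ∣ (∑ i, a i) - 2 * m

theorem sum_rep {x a : GolayPt → ℤ} {m : ℤ} (h : ∀ i, x i = m + 2 * a i) :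
    ∑ i, x i = 24 * m + 2 * ∑ i, a i := by
  rw [Finset.sum_congr rfl fun i _ => h i, Finset.sum_add_distrib, ← Finset.mul_sum,
    Finset.sum_const, Finset.card_univ]
  simp

theorem mem_leechSet_iff {x : GolayPt → ℤ} : x ∈ leechSet ↔ ∃ m a, IsLeechRep x m a := by
  constructor
  · rintro ⟨m, h2, hs, h4⟩
    refine ⟨m, fun i => (x i - m) / 2, ?_⟩
    have hx : ∀ i, x i = m + 2 * ((x i - m) / 2) := fun i => by
      have := (h2 i)
      unfold Int.ModEq at this
      omega
    refine ⟨hx, ?_, ?_⟩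
    · rw [← mem_supports_word]
      convert h4 (m + 2) using 1
      ext i
      have := hx i
      rw [Finset.mem_filter, mem_support_mod2]
      simp only [Finset.mem_univ, true_and, Int.ModEq]
      omega
    · have e := sum_rep hx
      unfold Int.ModEq at hs
      generalize ∑ i, (x i - m) / 2 = s at e ⊢
      generalize ∑ i, x i = t at e hs
      omega
  · rintro ⟨m, a, hx, hw, hs⟩
    refine ⟨m, fun i => ?_, ?_, fun k => ?_⟩
    · have := hx i
      unfold Int.ModEq
      omega
    · have e := sum_rep hx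
      unfold Int.ModEq
      generalize ∑ i, a i = s at e hs
      generalize ∑ i, x i = t at e
      omega
    · have hodd : support₂ (mod2 a) ∈ supports (golayCode : Set (GolayPt → ZMod 2)) :=
        mem_supports_word.2 hw
      by_cases h0 : (k - m) % 4 = 2
      · convert hodd using 1
        ext i
        have := hx i
        rw [Finset.mem_filter, mem_support_mod2]
        simp only [Finset.mem_univ, true_and, Int.ModEq]
        omega
      by_cases h1 : (k - m) % 4 = 0
      · have := symmDiff_mem_supports univ_mem_supports hodd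
        convert this using 1
        ext i
        have := hx i
        rw [Finset.mem_symmDiff, Finset.mem_filter, mem_support_mod2]
        simp only [Finset.mem_univ, true_and, Int.ModEq, not_true, and_false, or_false]
        omega
      · convert (mem_supports_iff.2 ⟨0, isCode_zero, mset_zero⟩) using 1
        ext i
        have := hx i
        rw [Finset.mem_filter]
        simp only [Finset.mem_univ, true_and, Int.ModEq, Finset.notMem_empty, iff_false]
        omega

theorem mod2_add (a b : GolayPt → ℤ) : mod2 (a + b) = mod2 a + mod2 b := by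
  funext i; simp [mod2]

theorem mod2_neg (a : GolayPt → ℤ) : mod2 (-a) = -mod2 a := by
  funext i; simp [mod2]

/-- `leechSet` as a subgroup. -/
def leechSubgroup : AddSubgroup (GolayPt → ℤ) where
  carrier := leechSet
  zero_mem' := mem_leechSet_iff.2 ⟨0, 0, fun i => by simp,
    by rw [show mod2 (0 : GolayPt → ℤ) = 0 by funext i; simp [mod2]]; exact Submodule.zero_mem _,
    by simp⟩
  add_mem' := by
    intro x y hx hy
    obtain ⟨m, a, h1, h2, h3⟩ := mem_leechSet_iff.1 hx
    obtain ⟨n, b, k1, k2, k3⟩ := mem_leechSet_iff.1 hy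
    refine mem_leechSet_iff.2 ⟨m + n, a + b, fun i => ?_, ?_, ?_⟩
    · simp [h1 i, k1 i]; ring
    · rw [mod2_add]; exact Submodule.add_mem _ h2 k2
    · simp only [Pi.add_apply, Finset.sum_add_distrib]
      generalize ∑ i, a i = s at h3 ⊢
      generalize ∑ i, b i = t at k3 ⊢
      omega
  neg_mem' := by
    intro x hx
    obtain ⟨m, a, h1, h2, h3⟩ := mem_leechSet_iff.1 hx
    refine mem_leechSet_iff.2 ⟨-m, -a, fun i => ?_, ?_, ?_⟩
    · simp [h1 i]; ring
    · rw [mod2_neg]; exact Submodule.neg_mem _ h2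
    · simp only [Pi.neg_apply, Finset.sum_neg_distrib]
      generalize ∑ i, a i = s at h3 ⊢
      omega

theorem leechLattice_eq : leechLattice = leechSubgroup := by
  show AddSubgroup.closure (leechSubgroup : Set (GolayPt → ℤ)) = leechSubgroup
  rw [AddSubgroup.closure_eq]

theorem mem_leechLattice_iff {x : GolayPt → ℤ} : x ∈ leechLattice ↔ ∃ m a, IsLeechRep x m a := by
  rw [leechLattice_eq]; exact mem_leechSet_iff

theorem sum_sq_mod4 (a : GolayPt → ℤ) :
    (4 : ℤ) ∣ (∑ i, a i ^ 2) - (support₂ (mod2 a)).card := by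
  have : ((support₂ (mod2 a)).card : ℤ) = ∑ i, a i % 2 := by
    rw [Finset.card_eq_sum_ones, Nat.cast_sum]
    have e : support₂ (mod2 a) = Finset.univ.filter fun i => a i % 2 = 1 := by
      ext i; simp [mem_support_mod2]
    rw [e, Finset.sum_filter]
    apply Finset.sum_congr rfl
    intro i _
    split_ifs with h
    · simp [h]
    · omega
  rw [this, ← Finset.sum_sub_distrib]
  apply Finset.dvd_sum
  intro i _
  rcases Int.emod_two_eq_zero_or_one (a i) with h | h
  · have : a i = 2 * (a i / 2) := by omega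
    rw [h, this]; exact ⟨(a i / 2) ^ 2, by ring⟩
  · have : a i = 2 * (a i / 2) + 1 := by omega
    rw [h, this]; exact ⟨(a i / 2) ^ 2 + a i / 2, by ring⟩

theorem sqNorm_rep {x a : GolayPt → ℤ} {m : ℤ} (h : ∀ i, x i = m + 2 * a i) :
    sqNorm x = 24 * m ^ 2 + 4 * m * (∑ i, a i) + 4 * ∑ i, a i ^ 2 := by
  have : ∀ i, x i ^ 2 = m ^ 2 + 4 * m * a i + 4 * a i ^ 2 := fun i => by rw [h i]; ring
  rw [sqNorm, Finset.sum_congr rfl fun i _ => this i, Finset.sum_add_distrib,
    Finset.sum_add_distrib, ← Finset.mul_sum, ← Finset.mul_sum, Finset.sum_const, Finset.card_univ]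
  simp

theorem sqNorm_dvd {x : GolayPt → ℤ} (hx : x ∈ leechLattice) : (16 : ℤ) ∣ sqNorm x := by
  obtain ⟨m, a, h1, h2, k, hk⟩ := mem_leechLattice_iff.1 hx
  rw [sqNorm_rep h1]
  have h4 := sum_sq_mod4 a
  have hc : (4 : ℤ) ∣ ((support₂ (mod2 a)).card : ℤ) := by
    rcases supports_card (mem_supports_word.2 h2) with e | e | e | e | e <;> rw [e] <;> norm_num
  obtain ⟨l, hl⟩ := h4
  obtain ⟨c, hc⟩ := hc
  exact ⟨2 * m ^ 2 + m * k + l + c, by linear_combination (4 * m) * hk + 4 * hl + 4 * hc⟩

theorem sqNorm_min {x : GolayPt → ℤ} (hx : x ∈ leechLattice) (h0 : x ≠ 0) : 32 ≤ sqNorm x := by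
  classical
  obtain ⟨k, hk⟩ := sqNorm_dvd hx
  obtain ⟨m, a, h1, h2, h3⟩ := mem_leechLattice_iff.1 hx
  by_cases hm : m % 2 = 1
  · have : (24 : ℤ) ≤ sqNorm x := by
      calc (24 : ℤ) = ∑ _i : GolayPt, (1 : ℤ) := by simp
        _ ≤ sqNorm x := Finset.sum_le_sum fun i _ => by
          have := h1 i
          have hne : x i ≠ 0 := by omega
          nlinarith [Int.one_le_abs hne, sq_abs (x i)]
    omega
  obtain ⟨n, rfl⟩ : ∃ n, m = 2 * n := ⟨m / 2, by omega⟩
  let a' : GolayPt → ℤ := fun i => a i + n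
  have hx' : ∀ i, x i = 2 * a' i := fun i => by rw [h1 i]; simp only [a']; ring
  have hnorm : sqNorm x = 4 * ∑ i, a' i ^ 2 := by
    rw [sqNorm, Finset.mul_sum]
    exact Finset.sum_congr rfl fun i _ => by rw [hx' i]; ring
  by_contra hlt
  have hs8 : ∑ i, a' i ^ 2 < 8 := by omega
  have hword : mod2 a' ∈ golayCode := by
    have e : mod2 a' = mod2 a + (n : ZMod 2) • 1 := by
      funext i; simp [mod2, a']
    rw [e]
    refine Submodule.add_mem _ h2 (Submodule.smul_mem _ _ ?_)
    exact Submodule.subset_span (Set.mem_union_right _ rfl)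
  have hsum : (4 : ℤ) ∣ ∑ i, a' i := by
    simp only [a', Finset.sum_add_distrib, Finset.sum_const, Finset.card_univ]
    simp [-Fintype.sum_option]
    generalize ∑ i, a i = s at h3 ⊢
    omega
  have hcard : ((support₂ (mod2 a')).card : ℤ) ≤ ∑ i, a' i ^ 2 := by
    rw [Finset.card_eq_sum_ones, Nat.cast_sum]
    calc ∑ i ∈ support₂ (mod2 a'), ((1 : ℕ) : ℤ)
        ≤ ∑ i ∈ support₂ (mod2 a'), a' i ^ 2 := Finset.sum_le_sum fun i hi => by
          rw [mem_support_mod2] at hi
          have hne : a' i ≠ 0 := by omega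
          push_cast
          nlinarith [Int.one_le_abs hne, sq_abs (a' i)]
      _ ≤ ∑ i, a' i ^ 2 := Finset.sum_le_sum_of_subset_of_nonneg (Finset.subset_univ _)
          fun i _ _ => sq_nonneg _
  have hz : (support₂ (mod2 a')).card = 0 := by
    rcases supports_card (mem_supports_word.2 hword) with e | e | e | e | e <;> omega
  have heven : ∀ i, a' i % 2 = 0 := by
    intro i
    have := Finset.card_eq_zero.1 hz
    have hi : i ∉ support₂ (mod2 a') := by rw [this]; simp
    rw [mem_support_mod2] at hi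
    omega
  -- all entries of `a'` are even, so exactly one is `±2`
  obtain ⟨i₀, hi₀⟩ : ∃ i, a' i ≠ 0 := by
    by_contra hne
    exact h0 (funext fun i => by simp [hx' i, not_not.1 (not_exists.1 hne i)])
  have hsq : ∀ i, a' i ≠ 0 → 4 ≤ a' i ^ 2 := fun i hi => by
    have := heven i
    rcases lt_or_gt_of_ne hi with h | h
    · have : a' i ≤ -2 := by omega
      nlinarith
    · have : 2 ≤ a' i := by omega
      nlinarith
  have hother : ∀ i, i ≠ i₀ → a' i = 0 := by
    intro i hi
    by_contra hne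
    have : a' i₀ ^ 2 + a' i ^ 2 ≤ ∑ j, a' j ^ 2 := by
      rw [← Finset.sum_pair (Ne.symm hi) (f := fun j => a' j ^ 2)]
      exact Finset.sum_le_sum_of_subset_of_nonneg (Finset.subset_univ _) fun j _ _ => sq_nonneg _
    have := hsq i hne
    have := hsq i₀ hi₀
    omega
  rw [Finset.sum_eq_single i₀ (fun i _ hi => hother i hi) (by simp)] at hsum
  have hle : a' i₀ ^ 2 ≤ ∑ j, a' j ^ 2 :=
    Finset.single_le_sum (f := fun j => a' j ^ 2) (fun j _ => sq_nonneg _) (Finset.mem_univ i₀)
  rcases hsum with ⟨q, hq⟩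
  have : q ≠ 0 := fun h => hi₀ (by rw [hq, h, mul_zero])
  have h16 : 16 ≤ a' i₀ ^ 2 := by
    rw [hq]; nlinarith [Int.one_le_abs this, sq_abs q]
  omega

theorem perm_mem_leech {σ : Equiv.Perm GolayPt} (hσ : σ ∈ M24) {x : GolayPt → ℤ}
    (hx : x ∈ leechLattice) : (fun i => x (σ i)) ∈ leechLattice := by
  obtain ⟨m, a, h1, h2, h3⟩ := mem_leechLattice_iff.1 hx
  refine mem_leechLattice_iff.2 ⟨m, fun i => a (σ i), fun i => h1 _, ?_, ?_⟩
  · rw [← mem_supports_word]
    have := mem_M24_iff.1 (Subgroup.inv_mem _ hσ) _ (mem_supports_word.2 h2)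
    rw [smul_support₂] at this
    convert this using 2
    funext i; simp [mod2]
  · rwa [Equiv.sum_comp σ a]

theorem signs_mem_leech {c : Finset GolayPt}
    (hc : c ∈ supports (golayCode : Set (GolayPt → ZMod 2))) {x : GolayPt → ℤ}
    (hx : x ∈ leechLattice) : (fun i => if i ∈ c then -x i else x i) ∈ leechLattice := by
  classical
  obtain ⟨m, a, h1, h2, h3⟩ := mem_leechLattice_iff.1 hx
  refine mem_leechLattice_iff.2 ⟨m, fun i => if i ∈ c then -m - a i else a i, fun i => ?_, ?_, ?_⟩
  · dsimp only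
    split_ifs with h <;> rw [h1 i]
    ring
  · obtain ⟨w, hw, rfl⟩ := hc
    have e : mod2 (fun i => if i ∈ support₂ w then -m - a i else a i) =
        mod2 a + (m : ZMod 2) • w := by
      funext i
      simp only [mod2, Pi.add_apply, Pi.smul_apply, smul_eq_mul, support₂, Finset.mem_filter,
        Finset.mem_univ, true_and]
      rcases (show ∀ b : ZMod 2, b = 0 ∨ b = 1 by decide) (w i) with hb | hb <;>
        simp [hb, sub_eq_add_neg, add_comm]
    rw [e]
    exact Submodule.add_mem _ h2 (Submodule.smul_mem _ _ hw)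
  · have hsplit : ∑ i, (if i ∈ c then -m - a i else a i) =
        (∑ i, a i) - (c.card : ℤ) * m - 2 * ∑ i ∈ c, a i := by
      have : ∀ i, (if i ∈ c then -m - a i else a i) = a i + if i ∈ c then -m - 2 * a i else 0 :=
        fun i => by split_ifs <;> ring
      rw [Finset.sum_congr rfl fun i _ => this i, Finset.sum_add_distrib, Finset.sum_ite_mem,
        Finset.univ_inter, Finset.sum_sub_distrib, ← Finset.mul_sum, Finset.sum_const]
      simp
      ring
    rw [hsplit]
    have hc4 : (4 : ℤ) ∣ (c.card : ℤ) := by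
      rcases supports_card hc with e | e | e | e | e <;> rw [e] <;> norm_num
    have heven : (2 : ℤ) ∣ ∑ i ∈ c, a i := by
      have h := supports_inter_even hc (mem_supports_word.2 h2)
      have e : (∑ i ∈ c, a i) - ((c ∩ support₂ (mod2 a)).card : ℤ) =
          ∑ i ∈ c, (a i - if i ∈ support₂ (mod2 a) then 1 else 0) := by
        rw [Finset.sum_sub_distrib, Finset.sum_ite_mem]; simp
      have : (2 : ℤ) ∣ (∑ i ∈ c, a i) - ((c ∩ support₂ (mod2 a)).card : ℤ) := by
        rw [e]
        apply Finset.dvd_sum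
        intro i _
        split_ifs with hi <;> rw [mem_support_mod2] at hi <;> omega
      omega
    obtain ⟨u, hu⟩ := hc4
    obtain ⟨v, hv⟩ := heven
    obtain ⟨t, ht⟩ := h3
    exact ⟨t - u * m - v, by rw [hu, hv]; linear_combination ht⟩

end CfsgLib.Golay
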