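import Cfsg.Prelude.Def_Sporadic_a

/-! Counting in Steiner systems. -/

set_option autoImplicit false

namespace CfsgLib.Golay

open Cfsg

variable {α : Type*} [Fintype α] [DecidableEq α]

/-- The blocks as a finset. -/
noncomputable def blocks (B : Set (Finset α)) : Finset (Finset α) := B.toFinite.toFinset

theorem mem_blocks {B : Set (Finset α)} {b : Finset α} : b ∈ blocks B ↔ b ∈ B := by
  simp [blocks]

theorem ncard_blocks (B : Set (Finset α)) : B.ncard = (blocks B).card :=
  Set.ncard_eq_toFinset_card B B.toFinite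

theorem ncard_blocks_filter (B : Set (Finset α)) (P : Finset α → Prop) [DecidablePred P] :
    {c | c ∈ B ∧ P c}.ncard = ((blocks B).filter P).card := by
  rw [← Set.ncard_coe_finset]
  congr 1
  ext c; simp [mem_blocks]

theorem steiner_count {t k : ℕ} {B : Set (Finset α)} (hB : IsSteinerSystem t k B) (s : Finset α)
    (hs : s.card ≤ t) :
    ((blocks B).filter fun b => s ⊆ b).card * Nat.choose (k - s.card) (t - s.card) =
      Nat.choose (Fintype.card α - s.card) (t - s.card) := by
  classical
  have hL : ((Finset.univ : Finset α) \ s).powersetCard (t - s.card) =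
      ((blocks B).filter fun b => s ⊆ b).biUnion fun b => (b \ s).powersetCard (t - s.card) := by
    ext r
    simp only [Finset.mem_biUnion, Finset.mem_powersetCard, Finset.mem_filter, mem_blocks,
      Finset.subset_sdiff, Finset.subset_univ, true_and]
    constructor
    · rintro ⟨hd, hr⟩
      obtain ⟨b, ⟨hb, hsub⟩, -⟩ := hB.2 (r ∪ s) (by rw [Finset.card_union_of_disjoint hd]; omega)
      rw [Finset.union_subset_iff] at hsub
      exact ⟨b, ⟨hb, hsub.2⟩, ⟨hsub.1, hd⟩, hr⟩
    · rintro ⟨b, -, ⟨-, hd⟩, hr⟩; exact ⟨hd, hr⟩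
  have hdis : (((blocks B).filter fun b => s ⊆ b : Finset _) : Set (Finset α)).PairwiseDisjoint
      fun b => (b \ s).powersetCard (t - s.card) := by
    intro b hb b' hb' hne
    simp only [Finset.coe_filter, mem_blocks, Set.mem_setOf_eq] at hb hb'
    show Disjoint _ _
    rw [Finset.disjoint_left]
    intro r hr hr'
    simp only [Finset.mem_powersetCard, Finset.subset_sdiff] at hr hr'
    exact hne ((hB.2 (r ∪ s) (by rw [Finset.card_union_of_disjoint hr.1.2]; omega)).unique
      ⟨hb.1, Finset.union_subset hr.1.1 hb.2⟩ ⟨hb'.1, Finset.union_subset hr'.1.1 hb'.2⟩)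
  have := congrArg Finset.card hL
  rw [Finset.card_powersetCard, Finset.card_biUnion hdis,
    Finset.card_sdiff_of_subset (Finset.subset_univ s), Finset.card_univ] at this
  rw [this, Finset.sum_congr rfl fun b hb => ?_, Finset.sum_const, smul_eq_mul]
  simp only [Finset.mem_filter, mem_blocks] at hb
  rw [Finset.card_powersetCard, Finset.card_sdiff_of_subset hb.2, hB.1 b hb.1]

/-- The number of blocks through a set of at most `t` points, when it comes out to be `N`. -/
theorem steiner_lambda {t k : ℕ} {B : Set (Finset α)} (hB : IsSteinerSystem t k B) {s : Finset α}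
    (j N : ℕ) (hj : s.card = j) (hjt : j ≤ t) (hpos : 0 < Nat.choose (k - j) (t - j))
    (hN : N * Nat.choose (k - j) (t - j) = Nat.choose (Fintype.card α - j) (t - j)) :
    ((blocks B).filter fun b => s ⊆ b).card = N := by
  have h := steiner_count hB s (hj ▸ hjt)
  rw [hj, ← hN] at h
  exact Nat.eq_of_mul_eq_mul_right hpos h

theorem steiner_lambda_erase {t k : ℕ} {B : Set (Finset α)} (hB : IsSteinerSystem t k B)
    {b s : Finset α} (hb : b ∈ B) (hsb : s ⊆ b) (j N : ℕ) (hj : s.card = j) (hjt : j ≤ t)
    (hpos : 0 < Nat.choose (k - j) (t - j))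
    (hN : (N + 1) * Nat.choose (k - j) (t - j) = Nat.choose (Fintype.card α - j) (t - j)) :
    ((((blocks B).erase b)).filter fun c => s ⊆ c).card = N := by
  rw [Finset.filter_erase, Finset.card_erase_of_mem (by simp [mem_blocks, hb, hsb]),
    steiner_lambda hB j (N + 1) hj hjt hpos hN]
  rfl

/-- Double counting of `j`-subsets of `u` inside members of a family. -/
theorem sum_choose_inter (F : Finset (Finset α)) (u : Finset α) (j : ℕ) :
    ∑ c ∈ F, Nat.choose (u ∩ c).card j =
      ∑ r ∈ u.powersetCard j, (F.filter fun c => r ⊆ c).card := by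
  classical
  simp only [Finset.card_filter]
  rw [Finset.sum_comm]
  apply Finset.sum_congr rfl
  intro c _
  rw [← Finset.card_powersetCard, ← Finset.card_filter]
  congr 1
  ext r
  simp only [Finset.mem_powersetCard, Finset.mem_filter, Finset.subset_inter_iff]
  tauto

theorem sum_choose_inter_const (F : Finset (Finset α)) (u : Finset α) (j N : ℕ)
    (h : ∀ r ⊆ u, r.card = j → (F.filter fun c => r ⊆ c).card = N) :
    ∑ c ∈ F, Nat.choose (u ∩ c).card j = Nat.choose u.card j * N := by
  rw [sum_choose_inter, Finset.sum_congr rfl fun r hr => ?_, Finset.sum_const,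
    Finset.card_powersetCard, smul_eq_mul]
  rw [Finset.mem_powersetCard] at hr
  exact h r hr.1 hr.2

/-- Number of members of `F` meeting `u` in exactly `i` points. -/
def interNum (F : Finset (Finset α)) (u : Finset α) (i : ℕ) : ℕ :=
  (F.filter fun c => (u ∩ c).card = i).card

theorem sum_by_inter (F : Finset (Finset α)) (u : Finset α) (n : ℕ) (f : ℕ → ℕ)
    (hn : ∀ c ∈ F, (u ∩ c).card < n) :
    ∑ c ∈ F, f (u ∩ c).card = ∑ i ∈ Finset.range n, interNum F u i * f i := by
  rw [← Finset.sum_fiberwise_of_maps_to (g := fun c => (u ∩ c).card) (t := Finset.range n)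
    (fun c hc => Finset.mem_range.2 (hn c hc))]
  refine Finset.sum_congr rfl fun i _ => ?_
  rw [interNum, Finset.sum_congr rfl fun c hc => ?_, Finset.sum_const, smul_eq_mul]
  rw [(Finset.mem_filter.1 hc).2]

/-- The binomial moments of the intersection numbers. -/
theorem inter_moment (F : Finset (Finset α)) (u : Finset α) (n j N : ℕ)
    (hn : ∀ c ∈ F, (u ∩ c).card < n)
    (h : ∀ r ⊆ u, r.card = j → (F.filter fun c => r ⊆ c).card = N) :
    ∑ i ∈ Finset.range n, interNum F u i * Nat.choose i j = Nat.choose u.card j * N := by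
  rw [← sum_by_inter F u n (fun i => Nat.choose i j) hn, sum_choose_inter_const F u j N h]

theorem inter_lt {t k : ℕ} {B : Set (Finset α)} (hB : IsSteinerSystem t k B) {b c : Finset α}
    (hb : b ∈ B) (hc : c ∈ B) (hne : b ≠ c) : (b ∩ c).card < t := by
  by_contra h
  obtain ⟨r, hr, hrc⟩ := Finset.exists_subset_card_eq (not_lt.1 h)
  exact hne ((hB.2 r hrc).unique ⟨hb, hr.trans Finset.inter_subset_left⟩
    ⟨hc, hr.trans Finset.inter_subset_right⟩)

theorem interNum_pos {F : Finset (Finset α)} {u c : Finset α} {i : ℕ} (hc : c ∈ F)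
    (h : (u ∩ c).card = i) : 0 < interNum F u i :=
  Finset.card_pos.2 ⟨c, Finset.mem_filter.2 ⟨hc, h⟩⟩

/-- Intersection numbers of a block in `S(5,8,24)`. -/
theorem inter_5_8_24 (hα : Fintype.card α = 24) {B : Set (Finset α)} (hB : IsSteinerSystem 5 8 B)
    {b : Finset α} (hb : b ∈ B) :
    (∀ c ∈ (blocks B).erase b, (b ∩ c).card < 5) ∧
    interNum ((blocks B).erase b) b 0 = 30 ∧ interNum ((blocks B).erase b) b 1 = 0 ∧
    interNum ((blocks B).erase b) b 2 = 448 ∧ interNum ((blocks B).erase b) b 3 = 0 ∧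
    interNum ((blocks B).erase b) b 4 = 280 := by
  have hlt : ∀ c ∈ (blocks B).erase b, (b ∩ c).card < 5 := fun c hc => by
    rw [Finset.mem_erase, mem_blocks] at hc
    exact inter_lt hB hb hc.2 (Ne.symm hc.1)
  have key : ∀ j N, j ≤ 5 → 0 < Nat.choose (8 - j) (5 - j) →
      (N + 1) * Nat.choose (8 - j) (5 - j) = Nat.choose (24 - j) (5 - j) →
      ∑ i ∈ Finset.range 5, interNum ((blocks B).erase b) b i * Nat.choose i j =
        Nat.choose 8 j * N := by
    intro j N hj hp hN
    rw [inter_moment _ b 5 j N hlt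
      (fun r hr hrc => steiner_lambda_erase hB hb hr j N hrc hj hp (hα ▸ hN)), hB.1 b hb]
  have e0 := key 0 758 (by norm_num) (by decide) (by decide)
  have e1 := key 1 252 (by norm_num) (by decide) (by decide)
  have e2 := key 2 76 (by norm_num) (by decide) (by decide)
  have e3 := key 3 20 (by norm_num) (by decide) (by decide)
  have e4 := key 4 4 (by norm_num) (by decide) (by decide)
  norm_num [Finset.sum_range_succ, Nat.choose] at e0 e1 e2 e3 e4
  refine ⟨hlt, ?_⟩
  omega

/-- Intersection numbers of a block in `S(4,7,23)`. -/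
theorem inter_4_7_23 (hα : Fintype.card α = 23) {B : Set (Finset α)} (hB : IsSteinerSystem 4 7 B)
    {b : Finset α} (hb : b ∈ B) :
    (∀ c ∈ (blocks B).erase b, (b ∩ c).card < 4) ∧
    interNum ((blocks B).erase b) b 0 = 0 ∧ interNum ((blocks B).erase b) b 1 = 112 ∧
    interNum ((blocks B).erase b) b 2 = 0 ∧ interNum ((blocks B).erase b) b 3 = 140 := by
  have hlt : ∀ c ∈ (blocks B).erase b, (b ∩ c).card < 4 := fun c hc => by
    rw [Finset.mem_erase, mem_blocks] at hc
    exact inter_lt hB hb hc.2 (Ne.symm hc.1)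
  have key : ∀ j N, j ≤ 4 → 0 < Nat.choose (7 - j) (4 - j) →
      (N + 1) * Nat.choose (7 - j) (4 - j) = Nat.choose (23 - j) (4 - j) →
      ∑ i ∈ Finset.range 4, interNum ((blocks B).erase b) b i * Nat.choose i j =
        Nat.choose 7 j * N := by
    intro j N hj hp hN
    rw [inter_moment _ b 4 j N hlt
      (fun r hr hrc => steiner_lambda_erase hB hb hr j N hrc hj hp (hα ▸ hN)), hB.1 b hb]
  have e0 := key 0 252 (by norm_num) (by decide) (by decide)
  have e1 := key 1 76 (by norm_num) (by decide) (by decide)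
  have e2 := key 2 20 (by norm_num) (by decide) (by decide)
  have e3 := key 3 4 (by norm_num) (by decide) (by decide)
  norm_num [Finset.sum_range_succ, Nat.choose] at e0 e1 e2 e3
  refine ⟨hlt, ?_⟩
  omega

/-- Intersection numbers of a block in `S(3,6,22)`. -/
theorem inter_3_6_22 (hα : Fintype.card α = 22) {B : Set (Finset α)} (hB : IsSteinerSystem 3 6 B)
    {b : Finset α} (hb : b ∈ B) :
    (∀ c ∈ (blocks B).erase b, (b ∩ c).card < 3) ∧
    interNum ((blocks B).erase b) b 0 = 16 ∧ interNum ((blocks B).erase b) b 1 = 0 ∧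
    interNum ((blocks B).erase b) b 2 = 60 := by
  have hlt : ∀ c ∈ (blocks B).erase b, (b ∩ c).card < 3 := fun c hc => by
    rw [Finset.mem_erase, mem_blocks] at hc
    exact inter_lt hB hb hc.2 (Ne.symm hc.1)
  have key : ∀ j N, j ≤ 3 → 0 < Nat.choose (6 - j) (3 - j) →
      (N + 1) * Nat.choose (6 - j) (3 - j) = Nat.choose (22 - j) (3 - j) →
      ∑ i ∈ Finset.range 3, interNum ((blocks B).erase b) b i * Nat.choose i j =
        Nat.choose 6 j * N := by
    intro j N hj hp hN
    rw [inter_moment _ b 3 j N hlt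
      (fun r hr hrc => steiner_lambda_erase hB hb hr j N hrc hj hp (hα ▸ hN)), hB.1 b hb]
  have e0 := key 0 76 (by norm_num) (by decide) (by decide)
  have e1 := key 1 20 (by norm_num) (by decide) (by decide)
  have e2 := key 2 4 (by norm_num) (by decide) (by decide)
  norm_num [Finset.sum_range_succ, Nat.choose] at e0 e1 e2
  refine ⟨hlt, ?_⟩
  omega

/-- Intersection numbers of a block in `S(5,6,12)`. -/
theorem inter_5_6_12 (hα : Fintype.card α = 12) {B : Set (Finset α)} (hB : IsSteinerSystem 5 6 B)
    {b : Finset α} (hb : b ∈ B) :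
    (∀ c ∈ (blocks B).erase b, (b ∩ c).card < 5) ∧
    interNum ((blocks B).erase b) b 0 = 1 ∧ interNum ((blocks B).erase b) b 1 = 0 ∧
    interNum ((blocks B).erase b) b 2 = 45 ∧ interNum ((blocks B).erase b) b 3 = 40 ∧
    interNum ((blocks B).erase b) b 4 = 45 := by
  have hlt : ∀ c ∈ (blocks B).erase b, (b ∩ c).card < 5 := fun c hc => by
    rw [Finset.mem_erase, mem_blocks] at hc
    exact inter_lt hB hb hc.2 (Ne.symm hc.1)
  have key : ∀ j N, j ≤ 5 → 0 < Nat.choose (6 - j) (5 - j) →
      (N + 1) * Nat.choose (6 - j) (5 - j) = Nat.choose (12 - j) (5 - j) →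
      ∑ i ∈ Finset.range 5, interNum ((blocks B).erase b) b i * Nat.choose i j =
        Nat.choose 6 j * N := by
    intro j N hj hp hN
    rw [inter_moment _ b 5 j N hlt
      (fun r hr hrc => steiner_lambda_erase hB hb hr j N hrc hj hp (hα ▸ hN)), hB.1 b hb]
  have e0 := key 0 131 (by norm_num) (by decide) (by decide)
  have e1 := key 1 65 (by norm_num) (by decide) (by decide)
  have e2 := key 2 29 (by norm_num) (by decide) (by decide)
  have e3 := key 3 11 (by norm_num) (by decide) (by decide)
  have e4 := key 4 3 (by norm_num) (by decide) (by decide)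
  norm_num [Finset.sum_range_succ, Nat.choose] at e0 e1 e2 e3 e4
  refine ⟨hlt, ?_⟩
  omega

theorem card_symmDiff_add (a b : Finset α) :
    (symmDiff a b).card + 2 * (a ∩ b).card = a.card + b.card := by
  rw [symmDiff_def, Finset.sup_eq_union, Finset.card_union_of_disjoint disjoint_sdiff_sdiff,
    Finset.card_sdiff, Finset.card_sdiff, Finset.inter_comm b a]
  have h1 : (a ∩ b).card ≤ a.card := Finset.card_le_card Finset.inter_subset_left
  have h2 : (a ∩ b).card ≤ b.card := Finset.card_le_card Finset.inter_subset_right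
  omega

theorem inter_even_5_8_24 (hα : Fintype.card α = 24) {B : Set (Finset α)}
    (hB : IsSteinerSystem 5 8 B) {b c : Finset α} (hb : b ∈ B) (hc : c ∈ B) :
    (b ∩ c).card % 2 = 0 := by
  by_cases h : b = c
  · subst h; rw [Finset.inter_self, hB.1 b hb]
  · obtain ⟨hlt, h0, h1, h2, h3, h4⟩ := inter_5_8_24 hα hB hb
    have hc' : c ∈ (blocks B).erase b := Finset.mem_erase.2 ⟨Ne.symm h, mem_blocks.2 hc⟩
    have hl := hlt c hc'
    rcases Nat.mod_two_eq_zero_or_one (b ∩ c).card with hp | hp
    · exact hp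
    · rcases (show (b ∩ c).card = 1 ∨ (b ∩ c).card = 3 by omega) with e | e <;>
        have := interNum_pos hc' e <;> omega

/-- In `S(5,8,24)` a set of at most six points meeting every block evenly is empty. -/
theorem even_small_eq_empty (hα : Fintype.card α = 24) {B : Set (Finset α)}
    (hB : IsSteinerSystem 5 8 B) {u : Finset α} (hu : u.card ≤ 6)
    (hev : ∀ c ∈ B, (u ∩ c).card % 2 = 0) : u = ∅ := by
  classical
  by_contra hne
  have hlt : ∀ c ∈ blocks B, (u ∩ c).card < 7 := fun c _ =>
    lt_of_le_of_lt (Finset.card_le_card Finset.inter_subset_left) (Nat.lt_succ_of_le hu)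
  have key : ∀ j N, j ≤ 5 → 0 < Nat.choose (8 - j) (5 - j) →
      N * Nat.choose (8 - j) (5 - j) = Nat.choose (24 - j) (5 - j) →
      ∑ i ∈ Finset.range 7, interNum (blocks B) u i * Nat.choose i j = Nat.choose u.card j * N := by
    intro j N hj hp hN
    exact inter_moment _ u 7 j N hlt
      (fun r _ hrc => steiner_lambda hB j N hrc hj hp (hα ▸ hN))
  have e1 := key 1 253 (by norm_num) (by decide) (by decide)
  have e2 := key 2 77 (by norm_num) (by decide) (by decide)
  have e3 := key 3 21 (by norm_num) (by decide) (by decide)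
  have e4 := key 4 5 (by norm_num) (by decide) (by decide)
  have e5 := key 5 1 (by norm_num) (by decide) (by decide)
  have hodd : ∀ i, i % 2 = 1 → interNum (blocks B) u i = 0 := by
    intro i hi
    rw [interNum, Finset.card_eq_zero, Finset.filter_eq_empty_iff]
    intro c hc e
    have := hev c (mem_blocks.1 hc)
    omega
  have h1 := hodd 1 rfl
  have h3 := hodd 3 rfl
  have h5 := hodd 5 rfl
  have h6 : interNum (blocks B) u 6 ≤ 1 := by
    rw [interNum, Finset.card_le_one]
    intro c hc c' hc'
    simp only [Finset.mem_filter, mem_blocks] at hc hc'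
    by_contra hne'
    have := inter_lt hB hc.1 hc'.1 hne'
    have hsub : ∀ d : Finset α, (u ∩ d).card = 6 → u ⊆ d := fun d hd =>
      Finset.inter_eq_left.1 (Finset.eq_of_subset_of_card_le Finset.inter_subset_left (by omega))
    have := Finset.card_le_card (Finset.subset_inter (hsub c hc.2) (hsub c' hc'.2))
    have : 6 ≤ u.card := by rw [← hc.2]; exact Finset.card_le_card Finset.inter_subset_left
    omega
  have hpos : 0 < u.card := Finset.card_pos.2 (Finset.nonempty_iff_ne_empty.2 hne)
  norm_num [Finset.sum_range_succ, Nat.choose] at e1 e2 e3 e4 e5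
  generalize u.card = m at *
  interval_cases m <;> simp [Nat.choose] at e1 e2 e3 e4 e5 <;> omega

/-- Words orthogonal to all blocks that have weight 8 are blocks. -/
theorem block_of_even (hα : Fintype.card α = 24) {B : Set (Finset α)}
    (hB : IsSteinerSystem 5 8 B) {w : Finset α} (hw : w.card = 8)
    (hev : ∀ c ∈ B, (w ∩ c).card % 2 = 0) : w ∈ B := by
  classical
  obtain ⟨r, hr, hrc⟩ := Finset.exists_subset_card_eq (show 5 ≤ w.card by omega)
  obtain ⟨e, ⟨he, hre⟩, -⟩ := hB.2 r hrc
  have h5 : 5 ≤ (w ∩ e).card := hrc ▸ Finset.card_le_card (Finset.subset_inter hr hre)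
  have hsd := card_symmDiff_add w e
  rw [hw, hB.1 e he] at hsd
  have hz : symmDiff w e = ∅ := by
    refine even_small_eq_empty hα hB (by omega) fun c hc => ?_
    have h := card_symmDiff_add (w ∩ c) (e ∩ c)
    have h1 := hev c hc
    have h2 := inter_even_5_8_24 hα hB he hc
    have e1 : symmDiff (w ∩ c) (e ∩ c) = symmDiff w e ∩ c := (inf_symmDiff_distrib_right w e c).symm
    rw [e1] at h
    omega
  rw [← Finset.bot_eq_empty, symmDiff_eq_bot] at hz
  exact hz ▸ he

end CfsgLib.Golay
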