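import Cfsg.Agent.Lib.Golay.Perm

/-! Orthogonality of the code and the Steiner property of the octads. -/

set_option autoImplicit false
set_option maxRecDepth 100000

namespace CfsgLib.Golay

open Cfsg
open scoped Pointwise

/-- The words orthogonal to a given word. -/
def perpOne (u : GolayPt → ZMod 2) : Submodule (ZMod 2) (GolayPt → ZMod 2) where
  carrier := {z | ∑ i, u i * z i = 0}
  zero_mem' := by simp
  add_mem' := by
    intro a b ha hb
    simp only [Set.mem_setOf_eq] at ha hb ⊢
    simp [mul_add, Finset.sum_add_distrib, ha, hb]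
  smul_mem' := by
    intro c a ha
    simp only [Set.mem_setOf_eq] at ha ⊢
    simp [mul_left_comm _ c, ← Finset.mul_sum, ha]

theorem mem_perpOne {u z : GolayPt → ZMod 2} : z ∈ perpOne u ↔ ∑ i, u i * z i = 0 := Iff.rfl

theorem gens_orth : ∀ x ∈ gens, ∀ y ∈ gens, ∑ i, mword x i * mword y i = 0 := by
  decide +kernel

theorem golayCode_le_perp_of_gens {u : GolayPt → ZMod 2}
    (h : ∀ x ∈ gens, ∑ i, u i * mword x i = 0) : golayCode ≤ perpOne u := by
  intro z hz
  obtain ⟨m, hm, rfl⟩ := mem_golayCode_iff.1 hz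
  have := mword_enc_mem_submodule (perpOne u) h (m % 4096)
  rwa [isCode_iff.1 hm] at this

theorem golayCode_orth {v w : GolayPt → ZMod 2} (hv : v ∈ golayCode) (hw : w ∈ golayCode) :
    ∑ i, v i * w i = 0 := by
  refine golayCode_le_perp_of_gens (u := v) (fun x hx => ?_) hw
  have := golayCode_le_perp_of_gens (u := mword x) (fun y hy => gens_orth x hx y hy) hv
  simpa [mem_perpOne, mul_comm] using this

theorem supports_inter_even {s t : Finset GolayPt}
    (hs : s ∈ supports (golayCode : Set (GolayPt → ZMod 2)))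
    (ht : t ∈ supports (golayCode : Set (GolayPt → ZMod 2))) : 2 ∣ (s ∩ t).card := by
  obtain ⟨v, hv, rfl⟩ := hs
  obtain ⟨w, hw, rfl⟩ := ht
  have h := golayCode_orth hv hw
  rw [← ZMod.natCast_eq_zero_iff]
  rw [← h, Finset.card_eq_sum_ones, Nat.cast_sum]
  have : support₂ v ∩ support₂ w = Finset.univ.filter fun i => v i * w i ≠ 0 := by
    ext i; simp [support₂]
  rw [this, Finset.sum_filter]
  apply Finset.sum_congr rfl
  intro i _
  generalize v i = a; generalize w i = b
  revert a b; decide

theorem supports_card {s : Finset GolayPt}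
    (hs : s ∈ supports (golayCode : Set (GolayPt → ZMod 2))) :
    s.card = 0 ∨ s.card = 8 ∨ s.card = 12 ∨ s.card = 16 ∨ s.card = 24 := by
  obtain ⟨m, hm, rfl⟩ := mem_supports_iff.1 hs
  rw [card_mset]; exact isCode_weights hm

theorem octad_exists_unique {s : Finset GolayPt} (hs : s.card = 5) :
    ∃! o, o ∈ octads ∧ s ⊆ o := by
  classical
  have hfin : octads.Finite := Set.toFinite _
  let F := hfin.toFinset
  have hF : F.card = 759 := by
    rw [← Set.ncard_eq_toFinset_card octads hfin, octads_ncard]
  have hdisj : (F : Set (Finset GolayPt)).PairwiseDisjoint fun o => o.powersetCard 5 := by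
    intro o ho o' ho' hne
    simp only [F, Set.Finite.coe_toFinset] at ho ho'
    show Disjoint _ _
    rw [Finset.disjoint_left]
    intro t ht ht'
    rw [Finset.mem_powersetCard] at ht ht'
    apply hne
    refine octads_eq_of_five ho ho' ?_
    rw [← ht.2]; exact Finset.card_le_card (Finset.subset_inter ht.1 ht'.1)
  have hcard : (F.biUnion fun o => o.powersetCard 5).card = Nat.choose 24 5 := by
    rw [Finset.card_biUnion hdisj, Finset.sum_congr rfl (g := fun _ => 56)]
    · rw [Finset.sum_const, hF]; decide +kernel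
    · intro o ho
      rw [Finset.card_powersetCard, ((hfin.mem_toFinset).1 ho).2]; decide
  have heq : (F.biUnion fun o => o.powersetCard 5) =
      (Finset.univ : Finset GolayPt).powersetCard 5 := by
    apply Finset.eq_of_subset_of_card_le
    · intro t ht
      rw [Finset.mem_biUnion] at ht
      obtain ⟨o, -, ht⟩ := ht
      rw [Finset.mem_powersetCard] at ht ⊢
      exact ⟨Finset.subset_univ t, ht.2⟩
    · rw [hcard, Finset.card_powersetCard, Finset.card_univ]; simp
  have hmem : s ∈ F.biUnion fun o => o.powersetCard 5 := by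
    rw [heq, Finset.mem_powersetCard]; exact ⟨Finset.subset_univ s, hs⟩
  rw [Finset.mem_biUnion] at hmem
  obtain ⟨o, ho, hso⟩ := hmem
  rw [Finset.mem_powersetCard] at hso
  have ho' : o ∈ octads := (hfin.mem_toFinset).1 ho
  refine ⟨o, ⟨ho', hso.1⟩, ?_⟩
  rintro o' ⟨h1, h2⟩
  refine octads_eq_of_five h1 ho' ?_
  rw [← hs]; exact Finset.card_le_card (Finset.subset_inter h2 hso.1)

theorem octads_steiner : IsSteinerSystem 5 8 octads :=
  ⟨fun _ ho => ho.2, fun _ hs => octad_exists_unique hs⟩

theorem univ_mem_supports : (Finset.univ : Finset GolayPt) ∈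
    supports (golayCode : Set (GolayPt → ZMod 2)) :=
  mem_supports_iff.2 ⟨16777215, isCode_full, mset_full⟩

theorem symmDiff_mem_supports {s t : Finset GolayPt}
    (hs : s ∈ supports (golayCode : Set (GolayPt → ZMod 2)))
    (ht : t ∈ supports (golayCode : Set (GolayPt → ZMod 2))) :
    symmDiff s t ∈ supports (golayCode : Set (GolayPt → ZMod 2)) := by
  obtain ⟨a, ha, rfl⟩ := mem_supports_iff.1 hs
  obtain ⟨b, hb, rfl⟩ := mem_supports_iff.1 ht
  exact mem_supports_iff.2 ⟨a ^^^ b, isCode_xor ha hb, mset_xor a b⟩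

end CfsgLib.Golay
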