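import Cfsg.Agent.Lib.Golay.Uniqueness
import Cfsg.Agent.Lib.Golay.Steiner
import Cfsg.Agent.Lib.Golay.LeechBasic
import Cfsg.Agent.Lib.Golay.Stab
import Cfsg.Agent.S0369

/-! Uniqueness of the large Steiner systems, from uniqueness of the code. -/

set_option autoImplicit false
set_option maxRecDepth 100000

namespace CfsgLib.Golay

open Cfsg
open scoped Pointwise

section Family

variable {X : Type*} [Fintype X] [DecidableEq X]

/-- The indicator word of a set. -/
def indWord (s : Finset X) : X → ZMod 2 := fun i => if i ∈ s then 1 else 0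

theorem support_indWord (s : Finset X) : support₂ (indWord s) = s := by
  ext i; by_cases h : i ∈ s <;> simp [mem_support₂', indWord, h]

theorem indWord_support (v : X → ZMod 2) : indWord (support₂ v) = v :=
  support₂_inj' (support_indWord _)

theorem dot_indWord (v : X → ZMod 2) (s : Finset X) :
    ∑ i, v i * indWord s i = 0 ↔ (support₂ v ∩ s).card % 2 = 0 := by
  rw [dot_eq_card, support_indWord, ZMod.natCast_eq_zero_iff, Nat.dvd_iff_mod_eq_zero]

/-- A family of subsets of a 24-set, of sizes divisible by 4, meeting evenly, such that no small set meets all evenly,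
determines a copy of the standard code. -/
theorem exists_code_of_family (hX : Fintype.card X = 24) (F : Set (Finset X))
    (h4 : ∀ b ∈ F, 4 ∣ b.card) (hev : ∀ b ∈ F, ∀ c ∈ F, (b ∩ c).card % 2 = 0)
    (hsmall : ∀ u : Finset X, u.card ≤ 6 → (∀ c ∈ F, (u ∩ c).card % 2 = 0) → u = ∅) :
    ∃ e : X ≃ GolayPt, ∀ w : Finset X,
      (∀ c ∈ F, (w ∩ c).card % 2 = 0) ↔ w.image e ∈ supports (golayCode : Set (GolayPt → ZMod 2)) := by
  classical
  set C : Submodule (ZMod 2) (X → ZMod 2) := Submodule.span (ZMod 2) (indWord '' F) with hC
  set P : Submodule (ZMod 2) (X → ZMod 2) := C.dualAnnihilator.comap dotMap with hPdef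
  have memP : ∀ v, v ∈ P ↔ ∀ c ∈ F, (support₂ v ∩ c).card % 2 = 0 := by
    intro v
    rw [hPdef, Submodule.mem_comap, Submodule.mem_dualAnnihilator]
    constructor
    · intro h c hc
      exact (dot_indWord v c).1 (h _ (Submodule.subset_span ⟨c, hc, rfl⟩))
    · intro h w hw
      induction hw using Submodule.span_induction with
      | mem x hx => obtain ⟨c, hc, rfl⟩ := hx; exact (dot_indWord v c).2 (h c hc)
      | zero => exact map_zero _
      | add x y _ _ hx hy => rw [map_add, hx, hy, add_zero]
      | smul a x _ hx => rw [map_smul, hx, smul_zero]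
  have hCP : C ≤ P := by
    rw [hC, Submodule.span_le]
    rintro _ ⟨b, hb, rfl⟩
    exact (memP _).2 (by rw [support_indWord]; exact hev b hb)
  have horth : ∀ v ∈ C, ∀ w ∈ C, ∑ i, v i * w i = 0 := by
    intro v hv w hw
    exact (Submodule.mem_dualAnnihilator _).1 (hCP hv) w hw
  -- sphere packing bound on the dual
  have hsph : Nat.card P * 2325 ≤ 16777216 := by
    have hs : Nat.card {s : Finset X // s.card ≤ 3} = 2325 := by
      rw [Nat.card_eq_fintype_card, Fintype.card_subtype]
      have : (Finset.univ.filter fun s : Finset X => s.card ≤ 3) =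
          (Finset.range 4).biUnion fun k => (Finset.univ : Finset X).powersetCard k := by
        ext s; simp [Nat.lt_succ_iff]
      rw [this, Finset.card_biUnion]
      · simp [Finset.sum_range_succ, Finset.card_powersetCard, hX, Nat.choose]
      · intro a _ b _ hab
        rw [Function.onFun, Finset.disjoint_left]
        intro s hs hs'
        rw [Finset.mem_powersetCard] at hs hs'
        exact hab (hs.2.symm.trans hs'.2)
    have hV : Nat.card (X → ZMod 2) = 16777216 := by simp [hX]
    rw [← hs, ← Nat.card_prod, ← hV]
    refine Nat.card_le_card_of_injective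
      (fun p : P × {s : Finset X // s.card ≤ 3} => p.1.1 + indWord p.2.1) ?_
    rintro ⟨⟨a, ha⟩, ⟨s, hs3⟩⟩ ⟨⟨b, hb⟩, ⟨t, ht3⟩⟩ h
    simp only at h
    have hab : a + b = indWord s + indWord t := by
      funext i
      have hi := congrFun h i
      simp only [Pi.add_apply] at hi ⊢
      generalize a i = x at hi ⊢
      generalize b i = y at hi ⊢
      generalize indWord s i = z at hi ⊢
      generalize indWord t i = u at hi ⊢
      revert hi x y z u; decide
    have hz : support₂ (a + b) = ∅ := by
      refine hsmall _ ?_ ((memP _).1 (Submodule.add_mem _ ha hb))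
      rw [hab, support₂_add', support_indWord, support_indWord]
      refine le_trans (Finset.card_le_card ?_) (le_trans (Finset.card_union_le s t) (by omega))
      intro i; simp only [Finset.mem_symmDiff, Finset.mem_union]; tauto
    have e1 : a = b := by
      funext i
      have : (a + b) i ≠ 1 := fun hi => by
        have := mem_support₂'.2 hi
        simp [hz] at this
      simp only [Pi.add_apply] at this
      generalize a i = x at this ⊢
      generalize b i = y at this ⊢
      revert this x y; decide
    subst e1
    have e2 : s = t := by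
      have := congrArg support₂ (add_left_cancel h)
      rwa [support_indWord, support_indWord] at this
    subst e2
    rfl
  have hP12 : Module.finrank (ZMod 2) P ≤ 12 := by
    rw [Module.natCard_eq_pow_finrank (K := ZMod 2)] at hsph
    by_contra hlt
    have : 2 ^ 13 ≤ 2 ^ Module.finrank (ZMod 2) P := Nat.pow_le_pow_right (by norm_num) (by omega)
    simp at hsph
    omega
  have hbij : Function.Surjective (dotMap : (X → ZMod 2) →ₗ[ZMod 2] _) :=
    (LinearMap.injective_iff_surjective_of_finrank_eq_finrank
      (by rw [Subspace.dual_finrank_eq])).1 dotMap_injective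
  have hPeq : Module.finrank (ZMod 2) P = Module.finrank (ZMod 2) C.dualAnnihilator := by
    rw [(Submodule.equivMapOfInjective dotMap dotMap_injective P).finrank_eq, hPdef,
      Submodule.map_comap_eq_of_surjective hbij]
  have hsum := Subspace.finrank_add_finrank_dualAnnihilator_eq C
  rw [Module.finrank_pi, hX] at hsum
  have hle := Submodule.finrank_mono hCP
  have hdim : Module.finrank (ZMod 2) C = 12 := by omega
  have hCPeq : C = P := Submodule.eq_of_le_of_finrank_le hCP (by omega)
  have hlike : GolayLike C := by
    refine ⟨hX, hdim, horth, fun w hw => ?_, fun w hw e => ?_⟩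
    · induction hw using Submodule.span_induction with
      | mem x hx =>
        obtain ⟨c, hc, rfl⟩ := hx
        rw [support_indWord]; exact h4 c hc
      | zero => simp [support₂_zero']
      | add x y hx' hy' hx hy =>
        rw [support₂_add']
        have h2 := card_symmDiff_add (support₂ x) (support₂ y)
        have he : (((support₂ x ∩ support₂ y).card : ZMod 2)) = 0 := by
          rw [← dot_eq_card]; exact horth x hx' y hy'
        rw [ZMod.natCast_eq_zero_iff] at he
        omega
      | smul a x _ hx =>
        rcases (show ∀ a : ZMod 2, a = 0 ∨ a = 1 by decide) a with rfl | rfl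
        · simp [support₂_zero']
        · simpa using hx
    · have := hsmall _ (by omega) ((memP _).1 (hCP hw))
      simp [this] at e
  obtain ⟨e, he⟩ := golay_unique hlike
  refine ⟨e, fun w => ?_⟩
  have h1 : (fun i => indWord (w.image e) (e i)) = indWord w := by
    funext i; simp [indWord]
  rw [← support_indWord (w.image e), mem_supports_word, he, h1, hCPeq, memP, support_indWord]

end Family

section Iso

variable {α : Type*} [Fintype α] [DecidableEq α]

/-- Every `S(5,8,24)` is the octad system. -/
theorem steiner24_iso (hα : Fintype.card α = 24) {B : Set (Finset α)}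
    (hB : IsSteinerSystem 5 8 B) :
    ∃ e : α ≃ GolayPt, ∀ w : Finset α, w.image e ∈ octads ↔ w ∈ B := by
  obtain ⟨e, he⟩ := exists_code_of_family hα B (fun b hb => by rw [hB.1 b hb]; norm_num)
    (fun b hb c hc => inter_even_5_8_24 hα hB hb hc)
    (fun u hu hev => even_small_eq_empty hα hB hu hev)
  refine ⟨e, fun w => ⟨fun h => ?_, fun h => ⟨(he w).1 fun c hc => inter_even_5_8_24 hα hB h hc,
    by rw [Finset.card_image_of_injective _ e.injective, hB.1 w h]⟩⟩⟩
  exact block_of_even hα hB (by rw [← Finset.card_image_of_injective w e.injective]; exact h.2)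
    ((he w).2 h.1)

theorem image_family_eq {β : Type*} [DecidableEq β] {B : Set (Finset α)} {B' : Set (Finset β)}
    {e : α ≃ β} (h : ∀ w : Finset α, w.image e ∈ B' ↔ w ∈ B) :
    (fun b => b.image e) '' B = B' := by
  ext s
  constructor
  · rintro ⟨b, hb, rfl⟩; exact (h b).2 hb
  · intro hs
    refine ⟨s.image e.symm, (h _).1 ?_, ?_⟩ <;> simp [Finset.image_image, hs]

/-- An isomorphism of set systems transports the automorphism group. -/
theorem aut_equiv {β : Type*} [DecidableEq β] {B : Set (Finset α)} {B' : Set (Finset β)}
    {e : α ≃ β} (h : ∀ w : Finset α, w.image e ∈ B' ↔ w ∈ B) :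
    ∃ φ : setSystemAut B ≃* setSystemAut B', ∀ g x, (φ g).1 (e x) = e (g.1 x) := by
  have h1 : ∀ (g : Equiv.Perm α) (b : Finset α),
      e.permCongrHom g • b.image e = (g • b).image e := by
    intro g b
    ext y
    simp [Finset.mem_smul_finset, Equiv.permCongrHom, Equiv.permCongr_apply]
  have h2 : ∀ (g : Equiv.Perm α) (s : Finset α),
      s.image e ∈ e.permCongrHom g • B' ↔ s ∈ g • B := by
    intro g s
    rw [Set.mem_smul_set_iff_inv_smul_mem, Set.mem_smul_set_iff_inv_smul_mem, ← map_inv, h1, h]
  have key : ∀ g : Equiv.Perm α, g ∈ setSystemAut B ↔ e.permCongrHom g ∈ setSystemAut B' := by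
    intro g
    simp only [MulAction.mem_stabilizer_iff]
    constructor
    · intro hg
      ext t
      obtain ⟨s, rfl⟩ : ∃ s : Finset α, s.image e = t := ⟨t.image e.symm, by simp [Finset.image_image]⟩
      rw [h2, hg, h]
    · intro hg
      ext s
      rw [← h2, hg, h]
  have hm : (setSystemAut B).map e.permCongrHom.toMonoidHom = setSystemAut B' := by
    ext g
    rw [Subgroup.mem_map_equiv, key, MulEquiv.apply_symm_apply]
  refine ⟨(e.permCongrHom.subgroupMap _).trans (MulEquiv.subgroupCongr hm), fun g x => ?_⟩
  show e.permCongrHom g.1 (e x) = _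
  simp [Equiv.permCongrHom, Equiv.permCongr_apply]

end Iso

end CfsgLib.Golay
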