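import Cfsg.Agent.Lib.Golay.Steiner
import Cfsg.Agent.Lib.Golay.OrbitOctad
import Cfsg.Agent.Lib.Golay.SteinerIso
import Cfsg.Prelude.Def_SporadicCombinatorics

/-! The punctured code, coset leaders, and sextets. -/

set_option autoImplicit false
set_option maxRecDepth 100000

namespace CfsgLib.Golay

open Cfsg

/-- Deleting the extra point. -/
def punct (w : GolayPt → ZMod 2) : ZMod 23 → ZMod 2 := fun x => w (some x)

theorem hamming_support (v : GolayPt → ZMod 2) : hammingNorm v = (support₂ v).card := rfl

theorem hamming_punct (v : GolayPt → ZMod 2) :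
    hammingNorm v = hammingNorm (punct v) + if v none ≠ 0 then 1 else 0 := by
  simp only [hammingNorm]
  rw [Finset.card_filter, Finset.card_filter, Fintype.sum_option, add_comm]
  rfl

theorem code_small {w : GolayPt → ZMod 2} (hw : w ∈ golayCode) (h : hammingNorm w ≤ 7) : w = 0 := by
  rw [hamming_support] at h
  refine support₂_injective ?_
  have h0 : (support₂ w).card = 0 := by
    rcases supports_card (mem_supports_word.2 hw) with e | e | e | e | e <;> omega
  rw [Finset.card_eq_zero.1 h0, support₂_zero']

theorem zmod2_sub_self_eq {ι : Type*} (v w : ι → ZMod 2) : v - w = v + w := by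
  funext i
  exact (show ∀ a b : ZMod 2, a - b = a + b by decide) (v i) (w i)

theorem hdist_sub {ι : Type*} [Fintype ι] (x y : ι → ZMod 2) :
    hammingDist x y = hammingNorm (x - y) := by
  rw [hammingDist_eq_hammingNorm]
  exact congrArg hammingNorm
    (funext fun i => (show ∀ a b : ZMod 2, -a + b = a - b by decide) (x i) (y i))

theorem punct_code_inj {v w : GolayPt → ZMod 2} (hv : v ∈ golayCode) (hw : w ∈ golayCode)
    (h : hammingDist (punct v) (punct w) ≤ 6) : v = w := by
  refine sub_eq_zero.1 (code_small (Submodule.sub_mem _ hv hw) ?_)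
  rw [hamming_punct, show punct (v - w) = punct v - punct w from rfl, ← hdist_sub]
  split_ifs <;> omega

theorem card_small_words :
    Nat.card {u : ZMod 23 → ZMod 2 // hammingNorm u ≤ 3} = 2048 := by
  classical
  let e : (ZMod 23 → ZMod 2) ≃ Finset (ZMod 23) :=
    { toFun := fun u => Finset.univ.filter fun i => u i ≠ 0
      invFun := fun s i => if i ∈ s then 1 else 0
      left_inv := fun u => funext fun i => by
        rcases (show ∀ b : ZMod 2, b = 0 ∨ b = 1 by decide) (u i) with h | h <;> simp [h]
      right_inv := fun s => by ext i; by_cases h : i ∈ s <;> simp [h] }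
  rw [Nat.card_congr (e.subtypeEquiv (p := fun u : ZMod 23 → ZMod 2 => hammingNorm u ≤ 3) (q := fun s : Finset (ZMod 23) => s.card ≤ 3) fun u => Iff.rfl),
    Nat.card_eq_fintype_card, Fintype.card_subtype]
  have : (Finset.univ.filter fun s : Finset (ZMod 23) => s.card ≤ 3) =
      (Finset.range 4).biUnion fun k => (Finset.univ : Finset (ZMod 23)).powersetCard k := by
    ext s; simp [Nat.lt_succ_iff]
  rw [this, Finset.card_biUnion]
  · simp [Finset.sum_range_succ, Finset.card_powersetCard, Nat.choose]
  · intro a _ b _ hab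
    rw [Function.onFun, Finset.disjoint_left]
    intro s hs hs'
    rw [Finset.mem_powersetCard] at hs hs'
    exact hab (hs.2.symm.trans hs'.2)

theorem card_golayCode : Nat.card golayCode = 4096 := golay_golayLike'.natCard
where
  golay_golayLike' : GolayLike golayCode := by
    refine ⟨by simp, Cfsg.Agent.S0358.result, fun v hv w hw => golayCode_orth hv hw,
      fun w hw => ?_, fun w hw => ?_⟩ <;>
    rcases supports_card (mem_supports_word.2 hw) with e | e | e | e | e <;> rw [e] <;> norm_num

/-- The punctured code is perfect. -/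
theorem perfect23 (u : ZMod 23 → ZMod 2) :
    ∃! c : GolayPt → ZMod 2, c ∈ golayCode ∧ hammingDist u (punct c) ≤ 3 := by
  classical
  let f : golayCode × {u : ZMod 23 → ZMod 2 // hammingNorm u ≤ 3} → (ZMod 23 → ZMod 2) :=
    fun p => punct p.1.1 + p.2.1
  have hinj : Function.Injective f := by
    rintro ⟨⟨a, ha⟩, s, hs⟩ ⟨⟨b, hb⟩, t, ht⟩ h
    simp only [f] at h
    have hd : hammingDist (punct a) (punct b) ≤ 6 := by
      rw [hdist_sub]
      have e : punct a - punct b = s + t := by
        funext i
        have hi := congrFun h i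
        simp only [Pi.add_apply, Pi.sub_apply] at hi ⊢
        generalize punct a i = x at hi ⊢
        generalize punct b i = y at hi ⊢
        generalize s i = z at hi ⊢
        generalize t i = w at hi ⊢
        revert hi x y z w; decide
      rw [e, ← zmod2_sub_self_eq, ← hdist_sub]
      have := hammingDist_triangle s 0 t
      rw [hammingDist_zero_right, hammingDist_zero_left] at this
      omega
    obtain rfl := punct_code_inj ha hb hd
    obtain rfl := add_left_cancel h
    rfl
  have hbij : Function.Bijective f := (Nat.bijective_iff_injective_and_card _).2 ⟨hinj, by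
    rw [Nat.card_prod, card_golayCode, card_small_words, Nat.card_eq_fintype_card]; simp⟩
  obtain ⟨⟨⟨c, hc⟩, s, hs⟩, e⟩ := hbij.2 u
  refine ⟨c, ⟨hc, ?_⟩, fun c' ⟨hc', hd'⟩ => punct_code_inj hc' hc ?_⟩
  · rw [hammingDist_comm, ← e, hdist_sub]
    refine le_of_eq_of_le ?_ hs
    show hammingNorm (punct c - (punct c + s)) = _
    rw [sub_add_cancel_left]
    simp [hammingNorm]
  · have hd : hammingDist u (punct c) ≤ 3 := by
      rw [hammingDist_comm, ← e, hdist_sub]
      refine le_of_eq_of_le ?_ hs
      show hammingNorm (punct c - (punct c + s)) = _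
      rw [sub_add_cancel_left]
      simp [hammingNorm]
    have := hammingDist_triangle (punct c') u (punct c)
    rw [hammingDist_comm (punct c') u] at this
    omega

theorem octads_through_four {t : Finset GolayPt} (ht : t.card = 4) :
    ((blocks octads).filter fun o => t ⊆ o).card = 5 :=
  steiner_lambda octads_steiner 4 5 ht (by norm_num) (by decide) (by simp)

theorem octads_inter_four {o o' : Finset GolayPt} (ho : o ∈ octads) (ho' : o' ∈ octads)
    (hne : o ≠ o') {t : Finset GolayPt} (ht : t.card = 4) (h : t ⊆ o) (h' : t ⊆ o') : o ∩ o' = t := by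
  have h4 : 4 ≤ (o ∩ o').card := ht ▸ Finset.card_le_card (Finset.subset_inter h h')
  have h8 : (o ∩ o').card ≠ 8 := by
    intro e
    have h1 : o ∩ o' = o :=
      Finset.eq_of_subset_of_card_le Finset.inter_subset_left (by rw [e, ho.2])
    exact hne (Finset.eq_of_subset_of_card_le (Finset.inter_eq_left.1 h1) (by rw [ho'.2, ho.2]))
  refine (Finset.eq_of_subset_of_card_le (Finset.subset_inter h h') ?_).symm
  rcases octads_inter_cases ho ho' with e | e | e | e <;> omega

/-- The six tetrads congruent to a given one. -/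
noncomputable def sextetOf (t : Finset GolayPt) : Finset (Finset GolayPt) :=
  insert t (((blocks octads).filter fun o => t ⊆ o).image fun o => o \ t)

theorem mem_sextetOf {t u : Finset GolayPt} :
    u ∈ sextetOf t ↔ u = t ∨ ∃ o ∈ octads, t ⊆ o ∧ u = o \ t := by
  simp [sextetOf, mem_blocks, and_assoc, eq_comm]

theorem sextetOf_props {t : Finset GolayPt} (ht : t.card = 4) :
    sextetOf t ∈ sextets ∧ t ∈ sextetOf t ∧
      ∀ S ∈ sextets, t ∈ S → S = sextetOf t := by
  classical
  have hdiff : ∀ o ∈ octads, t ⊆ o → (o \ t).card = 4 := fun o ho h => by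
    rw [Finset.card_sdiff_of_subset h, ho.2, ht]
  have hcard : (sextetOf t).card = 6 := by
    rw [sextetOf, Finset.card_insert_of_notMem, Finset.card_image_of_injOn, octads_through_four ht]
    · intro a ha b hb e
      simp only [Finset.coe_filter, mem_blocks, Set.mem_setOf_eq] at ha hb
      rw [← Finset.sdiff_union_of_subset ha.2, ← Finset.sdiff_union_of_subset hb.2]
      exact congrArg (· ∪ t) e
    · intro h
      obtain ⟨o, -, e⟩ := Finset.mem_image.1 h
      obtain ⟨x, hx⟩ := Finset.card_pos.1 (show 0 < t.card by omega)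
      exact (Finset.mem_sdiff.1 (e.symm ▸ hx : x ∈ o \ t)).2 hx
  refine ⟨⟨hcard, fun u hu => ?_, ?_⟩, Finset.mem_insert_self _ _, fun S hS htS => ?_⟩
  · rcases mem_sextetOf.1 hu with rfl | ⟨o, ho, h, rfl⟩
    exacts [ht, hdiff o ho h]
  · intro a ha b hb hne
    have hto : ∀ o ∈ octads, t ⊆ o → t ∪ o \ t ∈ octads := fun o ho h => by
      rwa [Finset.union_sdiff_of_subset h]
    rcases mem_sextetOf.1 ha with ea | ⟨o, ho, h, ea⟩ <;>
      rcases mem_sextetOf.1 hb with eb | ⟨o', ho', h', eb⟩
    · exact absurd (ea.trans eb.symm) hne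
    · rw [ea, eb]; exact hto o' ho' h'
    · rw [ea, eb, Finset.union_comm]; exact hto o ho h
    · rw [ea, eb]
      have hoo : o ≠ o' := fun e => hne (by rw [ea, eb, e])
      have hi := octads_inter_four ho ho' hoo ht h h'
      have e : o \ t ∪ o' \ t = symmDiff o o' := by
        rw [← hi]; ext x; simp [Finset.mem_symmDiff]
      refine ⟨e ▸ symmDiff_mem_supports ho.1 ho'.1, ?_⟩
      have := card_symmDiff_add o o'
      rw [hi, ho.2, ho'.2, ht] at this
      rw [e]; omega
  · refine Finset.eq_of_subset_of_card_le (fun u hu => ?_) (by rw [hcard, hS.1])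
    rw [mem_sextetOf]
    by_cases h : u = t
    · exact Or.inl h
    · right
      have ho := hS.2.2 t htS u hu (Ne.symm h)
      refine ⟨t ∪ u, ho, Finset.subset_union_left, ?_⟩
      have hd : Disjoint t u := by
        rw [Finset.disjoint_iff_inter_eq_empty, ← Finset.card_eq_zero]
        have h1 := Finset.card_inter_add_card_union t u
        have h2 : (t ∪ u).card = 8 := ho.2
        rw [h2, ht, hS.2.1 u hu] at h1
        omega
      rw [Finset.union_sdiff_left, Finset.sdiff_eq_self_of_disjoint hd.symm]

theorem sextet_exists_unique {t : Finset GolayPt} (ht : t.card = 4) :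
    ∃! S : Finset (Finset GolayPt), S ∈ sextets ∧ t ∈ S :=
  ⟨sextetOf t, ⟨(sextetOf_props ht).1, (sextetOf_props ht).2.1⟩,
    fun S hS => (sextetOf_props ht).2.2 S hS.1 hS.2⟩

theorem sextets_ncard : sextets.ncard = 1771 := by
  classical
  have hfin : sextets.Finite := Set.toFinite _
  have h := Finset.card_eq_sum_card_fiberwise (f := sextetOf)
    (s := (Finset.univ : Finset GolayPt).powersetCard 4) (t := hfin.toFinset) (fun t ht => by
      rw [Finset.mem_coe, Finset.mem_powersetCard] at ht
      rw [Finset.mem_coe, Set.Finite.mem_toFinset]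
      exact (sextetOf_props ht.2).1)
  have hfib : ∀ S ∈ hfin.toFinset,
      (((Finset.univ : Finset GolayPt).powersetCard 4).filter fun t => sextetOf t = S).card = 6 := by
    intro S hS
    rw [Set.Finite.mem_toFinset] at hS
    rw [← hS.1]
    congr 1
    ext t
    simp only [Finset.mem_filter, Finset.mem_powersetCard, Finset.subset_univ, true_and]
    exact ⟨fun ⟨h4, e⟩ => e ▸ (sextetOf_props h4).2.1,
      fun h => ⟨hS.2.1 t h, ((sextetOf_props (hS.2.1 t h)).2.2 S hS h).symm⟩⟩
  rw [Finset.sum_congr rfl hfib, Finset.sum_const, smul_eq_mul, Finset.card_powersetCard,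
    Finset.card_univ, ← Set.ncard_eq_toFinset_card sextets hfin] at h
  rw [show Fintype.card GolayPt = 24 from by simp, show Nat.choose 24 4 = 10626 by decide +kernel] at h
  omega

theorem coset_leaders (w : GolayPt → ZMod 2) :
    ({v : GolayPt → ZMod 2 | hammingNorm v ≤ 4 ∧ w - v ∈ golayCode}.ncard = 1 ∧
      ∃ v : GolayPt → ZMod 2, hammingNorm v ≤ 3 ∧ w - v ∈ golayCode) ∨
    ({v : GolayPt → ZMod 2 | hammingNorm v ≤ 4 ∧ w - v ∈ golayCode}.ncard = 6 ∧
      ∀ v : GolayPt → ZMod 2, w - v ∈ golayCode → hammingNorm v ≤ 4 → hammingNorm v = 4) := by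
  classical
  have hsub : ∀ v v' : GolayPt → ZMod 2, w - v ∈ golayCode → w - v' ∈ golayCode →
      v + v' ∈ golayCode := fun v v' h h' => by
    have := Submodule.sub_mem _ h' h
    rw [sub_sub_sub_cancel_left, zmod2_sub_self_eq] at this
    exact this
  obtain ⟨c, ⟨hc, hd⟩, -⟩ := perfect23 (punct w)
  let v := w - c
  have hv : w - v ∈ golayCode := by simpa [v] using hc
  have hv4 : hammingNorm v ≤ 4 := by
    rw [hamming_punct, show punct v = punct w - punct c from rfl, ← hdist_sub]
    split_ifs <;> omega
  by_cases h3 : hammingNorm v ≤ 3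
  · left
    refine ⟨?_, v, h3, hv⟩
    rw [Set.ncard_eq_one]
    refine ⟨v, Set.eq_singleton_iff_unique_mem.2 ⟨⟨hv4, hv⟩, fun v' ⟨h', hv'⟩ => ?_⟩⟩
    have hmem := hsub _ _ hv' hv
    rw [← zmod2_sub_self_eq] at hmem
    refine sub_eq_zero.1 (code_small hmem ?_)
    rw [← hdist_sub]
    have := hammingDist_triangle v' 0 v
    rw [hammingDist_zero_right, hammingDist_zero_left] at this
    omega
  right
  let t := support₂ v
  have ht : t.card = 4 := by show (support₂ v).card = 4; rw [← hamming_support]; omega
  have hmem : ∀ v', (hammingNorm v' ≤ 4 ∧ w - v' ∈ golayCode) → support₂ v' ∈ sextetOf t := by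
    rintro v' ⟨h', hv'⟩
    rw [mem_sextetOf]
    by_cases hvv : v + v' = 0
    · left
      have e : v' = v := by
        funext i
        have := congrFun hvv i
        exact (show ∀ a b : ZMod 2, a + b = 0 → b = a by decide) (v i) (v' i) this
      rw [e]
    · right
      have hin := hsub _ _ hv hv'
      have hs := supports_card (mem_supports_word.2 hin)
      have h0 : (support₂ (v + v')).card ≠ 0 := fun e =>
        hvv (support₂_injective (by rw [Finset.card_eq_zero.1 e, support₂_zero']))
      have hle := card_symmDiff_add (support₂ v) (support₂ v')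
      rw [← support₂_add'] at hle
      rw [hamming_support] at h'
      rw [hamming_support] at h3 hv4
      have h8 : (support₂ (v + v')).card = 8 ∧ (support₂ v ∩ support₂ v').card = 0 := by omega
      have hdis : Disjoint (support₂ v) (support₂ v') := by
        rw [Finset.disjoint_iff_inter_eq_empty]; exact Finset.card_eq_zero.1 h8.2
      refine ⟨support₂ (v + v'), ⟨mem_supports_word.2 hin, h8.1⟩, ?_, ?_⟩ <;> rw [support₂_add']
      · intro x hx
        exact Finset.mem_symmDiff.2 (Or.inl ⟨hx, Finset.disjoint_left.1 hdis hx⟩)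
      · ext x
        have := fun hh : x ∈ support₂ v => Finset.disjoint_left.1 hdis hh
        simp only [Finset.mem_sdiff, Finset.mem_symmDiff, t]
        tauto
  have hmem' : ∀ u ∈ sextetOf t, hammingNorm (indWord u) = 4 ∧ w - indWord u ∈ golayCode := by
    intro u hu
    refine ⟨by rw [hamming_support, support_indWord]; exact (sextetOf_props ht).1.2.1 u hu, ?_⟩
    rcases mem_sextetOf.1 hu with e | ⟨o, ho, h, e⟩
    · rw [e, indWord_support]; exact hv
    · have e2 : w - indWord u = (w - v) + indWord o := by
        funext x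
        simp only [Pi.sub_apply, Pi.add_apply, e, indWord, Finset.mem_sdiff]
        have hx : x ∈ t → x ∈ o := fun hh => h hh
        have hvx : v x = if x ∈ t then 1 else 0 := congrFun (indWord_support v).symm x
        rw [hvx]
        by_cases a : x ∈ t <;> by_cases b : x ∈ o <;>
          simp [a, b] <;> first | exact absurd (hx a) b | (generalize w x = z; revert z; decide)
      rw [e2]
      refine Submodule.add_mem _ hv ?_
      rw [← mem_supports_word, support_indWord]; exact ho.1
  refine ⟨?_, fun v' h1 h2 => ?_⟩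
  · have e : {v : GolayPt → ZMod 2 | hammingNorm v ≤ 4 ∧ w - v ∈ golayCode} =
        indWord '' ((sextetOf t : Finset (Finset GolayPt)) : Set (Finset GolayPt)) := by
      ext v'
      constructor
      · exact fun h => ⟨_, hmem v' h, indWord_support v'⟩
      · rintro ⟨u, hu, rfl⟩
        exact ⟨(hmem' u hu).1.le, (hmem' u hu).2⟩
    rw [e, Set.ncard_image_of_injective _ (fun a b h => by
      rw [← support_indWord a, h, support_indWord]), Set.ncard_coe_finset, (sextetOf_props ht).1.1]
  · rw [← indWord_support v']; exact (hmem' _ (hmem v' ⟨h2, h1⟩)).1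

theorem punct_inj {v w : GolayPt → ZMod 2} (hv : v ∈ golayCode) (hw : w ∈ golayCode)
    (h : punct v = punct w) : v = w := punct_code_inj hv hw (by rw [h, hammingDist_self]; norm_num)

theorem hamming_mword_punct {m : ℕ} (hm : m < 16777216) :
    hammingNorm (punct (mword m)) = pop (m % 8388608) := by
  have e1 : hammingNorm (mword m) = pop m := hammingNorm_mword m
  rw [hamming_punct] at e1
  have e2 := popAux_add 23 1 m
  rw [← pop_eq m, popAux_mod 23 m |>.symm] at e2
  have e3 : pop (m % 8388608) = popAux 23 (m % 8388608) := by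
    rw [pop_eq]
    have := popAux_add 23 1 (m % 8388608)
    rw [Nat.div_eq_of_lt (by omega)] at this
    rw [this, show popAux 1 0 = 0 from rfl, add_zero]
  have e4 : popAux 1 (m / 2 ^ 23) = if mword m none ≠ 0 then 1 else 0 := by
    have hb : m / 2 ^ 23 < 2 := by norm_num; omega
    have ht : (m.testBit 23 = true) ↔ m / 2 ^ 23 = 1 := by
      rw [Nat.testBit_eq_decide_div_mod_eq, decide_eq_true_eq]; omega
    simp only [mword, show idx none = 23 from rfl, ht]
    rcases (show m / 2 ^ 23 = 0 ∨ m / 2 ^ 23 = 1 by omega) with h | h <;> rw [h] <;> rfl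
  rw [show (8388608 : ℕ) = 2 ^ 23 by norm_num] at e3 ⊢
  omega

theorem punctured_dist :
    {u : ZMod 23 → ZMod 2 | ∃ w ∈ golayCode, ∀ x : ZMod 23, u x = w (some x)}.ncard = 4096 ∧
    ∀ k, {u : ZMod 23 → ZMod 2 | u ∈ {u : ZMod 23 → ZMod 2 | ∃ w ∈ golayCode,
      ∀ x : ZMod 23, u x = w (some x)} ∧ hammingNorm u = k}.ncard =
      (codeList.filter fun m => Nat.beq (pop (m % 8388608)) k).length := by
  classical
  have hset : {u : ZMod 23 → ZMod 2 | ∃ w ∈ golayCode, ∀ x : ZMod 23, u x = w (some x)} =
      punct '' (golayCode : Set (GolayPt → ZMod 2)) := by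
    ext u
    exact ⟨fun ⟨w, hw, h⟩ => ⟨w, hw, (funext h).symm⟩, fun ⟨w, hw, h⟩ => ⟨w, hw, fun x => (congrFun h x).symm⟩⟩
  have hinj : Set.InjOn punct (golayCode : Set (GolayPt → ZMod 2)) :=
    fun v hv w hw h => punct_inj hv hw h
  refine ⟨?_, fun k => ?_⟩
  · rw [hset, hinj.ncard_image, ← Nat.card_coe_set_eq]; exact card_golayCode
  · let l := codeList.filter fun m => Nat.beq (pop (m % 8388608)) k
    have e : {u : ZMod 23 → ZMod 2 | u ∈ {u : ZMod 23 → ZMod 2 | ∃ w ∈ golayCode,
        ∀ x : ZMod 23, u x = w (some x)} ∧ hammingNorm u = k} =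
        ((l.toFinset.image fun m => punct (mword m) : Finset _) : Set (ZMod 23 → ZMod 2)) := by
      rw [hset]
      ext u
      simp only [Set.mem_setOf_eq, Finset.coe_image, Set.mem_image, List.mem_toFinset,
        l, List.mem_filter, mem_codeList, Nat.beq_eq, SetLike.mem_coe]
      constructor
      · rintro ⟨⟨w, hw, rfl⟩, h⟩
        obtain ⟨m, hm, rfl⟩ := mem_golayCode_iff.1 hw
        exact ⟨m, ⟨hm, by rw [← hamming_mword_punct (isCode_lt hm)]; exact h⟩, rfl⟩
      · rintro ⟨m, ⟨hm, hk⟩, rfl⟩
        exact ⟨⟨_, (mword_mem_iff (isCode_lt hm)).2 hm, rfl⟩,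
          by rw [hamming_mword_punct (isCode_lt hm)]; exact hk⟩
    rw [e, Set.ncard_coe_finset, Finset.card_image_of_injOn, List.toFinset_card_of_nodup]
    · exact codeList_nodup.filter _
    · intro a ha b hb h
      simp only [Finset.mem_coe, List.mem_toFinset, l, List.mem_filter, mem_codeList] at ha hb
      exact mword_inj (isCode_lt ha.1) (isCode_lt hb.1)
        (punct_inj ((mword_mem_iff (isCode_lt ha.1)).2 ha.1) ((mword_mem_iff (isCode_lt hb.1)).2 hb.1) h)

end CfsgLib.Golay
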