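import Cfsg.Agent.Lib.Golay.PtFix

/-! Counting sets of points by lists of masks, and orbits of stabilisers on sets. -/

set_option autoImplicit false
set_option maxRecDepth 100000

namespace CfsgLib.Golay

open Cfsg
open scoped Pointwise

theorem ncard_octads_filter {P : Finset GolayPt → Prop} {pb : ℕ → Bool}
    (hP : ∀ m, P (mset m) ↔ pb m = true) :
    {o : Finset GolayPt | o ∈ octads ∧ P o}.ncard = (octList.filter pb).length := by
  refine ncard_mset_list (fun m hm => isCode_lt (mem_octList.1 (List.mem_filter.1 hm).1).1)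
    ((codeList_nodup.filter _).filter _) fun s => ?_
  simp only [Set.mem_setOf_eq, mem_octads_iff, List.mem_filter]
  constructor
  · rintro ⟨⟨m, hm, rfl⟩, h⟩; exact ⟨m, ⟨hm, (hP m).1 h⟩, rfl⟩
  · rintro ⟨m, ⟨hm, h⟩, rfl⟩; exact ⟨⟨m, hm, rfl⟩, (hP m).2 h⟩

theorem ncard_dodecads_filter {P : Finset GolayPt → Prop} {pb : ℕ → Bool}
    (hP : ∀ m, P (mset m) ↔ pb m = true) :
    {o : Finset GolayPt | o ∈ dodecads ∧ P o}.ncard = (dodList.filter pb).length := by
  refine ncard_mset_list (fun m hm => isCode_lt (mem_dodList.1 (List.mem_filter.1 hm).1).1)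
    ((codeList_nodup.filter _).filter _) fun s => ?_
  simp only [Set.mem_setOf_eq, mem_dodecads_iff, List.mem_filter]
  constructor
  · rintro ⟨⟨m, hm, rfl⟩, h⟩; exact ⟨m, ⟨hm, (hP m).1 h⟩, rfl⟩
  · rintro ⟨m, ⟨hm, h⟩, rfl⟩; exact ⟨⟨m, hm, rfl⟩, (hP m).2 h⟩

theorem inter_card_iff {a m k : ℕ} :
    (mset m ∩ mset a).card = k ↔ Nat.beq (pop (Nat.land m a)) k = true := by
  rw [← mset_and, card_mset, Nat.beq_eq]; rfl

/-- A translation maps one family of point sets onto another. -/
theorem ncard_transport (g : M24) {S T : Set (Finset GolayPt)} (h : ∀ s, g • s ∈ T ↔ s ∈ S) :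
    S.ncard = T.ncard := by
  rw [← Set.ncard_smul_set g S]
  congr 1
  ext t
  rw [Set.mem_smul_set_iff_inv_smul_mem, ← h, smul_inv_smul]

theorem smul_inter_card (g : M24) (a b : Finset GolayPt) : (g • a ∩ g • b).card = (a ∩ b).card := by
  rw [← Finset.smul_finset_inter, Finset.card_smul_finset]

theorem smul_mem_octads_iff (g : M24) {o : Finset GolayPt} : g • o ∈ octads ↔ o ∈ octads := by
  refine ⟨fun h => ?_, fun h => M24_smul_octad g.2 h⟩
  have := M24_smul_octad (g⁻¹).2 h
  change g⁻¹ • g • o ∈ octads at this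
  rwa [inv_smul_smul] at this

theorem smul_mem_dodecads_iff (g : M24) {o : Finset GolayPt} :
    g • o ∈ dodecads ↔ o ∈ dodecads := by
  refine ⟨fun h => ?_, fun h => M24_smul_dodecad g.2 h⟩
  have := M24_smul_dodecad (g⁻¹).2 h
  change g⁻¹ • g • o ∈ dodecads at this
  rwa [inv_smul_smul] at this

/-- Element of `M24` from an element of a stabiliser. -/
def toM24 {X : List ℕ} (σ : fixMasks X) : M24 := ⟨σ.1, σ.2.1⟩

theorem toM24_fix {X : List ℕ} (σ : fixMasks X) {m : ℕ} (hm : m ∈ X) :
    toM24 σ • mset m = mset m := σ.2.2 m hm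

theorem toM24_smul {X : List ℕ} (σ : fixMasks X) (s : Finset GolayPt) :
    toM24 σ • s = σ • s := rfl

/-- If the orbit of `mset x` under `fixMasks X` lies in `S` and the orders match, it is `S`. -/
theorem fix_orbit_of_count {X : List ℕ} {x : ℕ} {S : Set (Finset GolayPt)}
    (hsub : ∀ σ : fixMasks X, σ • mset x ∈ S)
    (hc : Nat.card (fixMasks X) = S.ncard * Nat.card (fixMasks (x :: X))) :
    ∀ y ∈ S, ∀ z ∈ S, ∃ σ : fixMasks X, σ • y = z := by
  have e : Nat.card (MulAction.stabilizer (fixMasks X) (mset x)) = Nat.card (fixMasks (x :: X)) := by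
    refine Nat.card_congr
      { toFun := fun s => ⟨s.1.1, s.1.2.1, List.forall_mem_cons.2
          ⟨MulAction.mem_stabilizer_iff.1 s.2, s.1.2.2⟩⟩
        invFun := fun s => ⟨⟨s.1, s.2.1, (List.forall_mem_cons.1 s.2.2).2⟩,
          MulAction.mem_stabilizer_iff.2 (List.forall_mem_cons.1 s.2.2).1⟩
        left_inv := fun _ => rfl
        right_inv := fun _ => rfl }
  have key := exists_smul_eq_of_card (G := fixMasks X) (Set.toFinite S) hsub (by rw [hc, e])
  intro y hy z hz
  obtain ⟨g, hg⟩ := key y hy
  obtain ⟨k, hk⟩ := key z hz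
  exact trans_of_base hg hk

/-- Submasks of the lowest `n` bits of a mask. -/
def subMasks (m : ℕ) : ℕ → List ℕ
  | 0 => [0]
  | n + 1 => bif m.testBit n
      then subMasks m n ++ (subMasks m n).map (Nat.add (Nat.shiftLeft 1 n))
      else subMasks m n

theorem mem_subMasks {m : ℕ} : ∀ {n s : ℕ}, s < 2 ^ n → s &&& m = s → s ∈ subMasks m n
  | 0, s, hs, _ => by simp at hs; simp [subMasks, hs]
  | n + 1, s, hs, h => by
    by_cases hb : s.testBit n = true
    · have hm : m.testBit n = true := by
        rw [← h, Nat.testBit_land, Bool.and_eq_true] at hb; exact hb.2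
      have hge : 2 ^ n ≤ s := Nat.ge_two_pow_of_testBit hb
      have hlt : s - 2 ^ n < 2 ^ n := by rw [pow_succ] at hs; omega
      have e : s = 2 ^ n + (s - 2 ^ n) := by omega
      have : (s - 2 ^ n) &&& m = s - 2 ^ n := by
        apply Nat.eq_of_testBit_eq
        intro j
        rw [Nat.testBit_land]
        rcases lt_or_ge j n with hj | hj
        · have h1 := congrArg (fun t => t.testBit j) h
          simp only [Nat.testBit_land] at h1
          rw [e, Nat.testBit_two_pow_add_gt hj] at h1
          exact h1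
        · rw [Nat.testBit_lt_two_pow (lt_of_lt_of_le hlt (Nat.pow_le_pow_right (by norm_num) hj))]
          simp
      rw [subMasks, hm, cond_true, List.mem_append, List.mem_map]
      refine Or.inr ⟨s - 2 ^ n, mem_subMasks hlt this, ?_⟩
      show (1 <<< n) + (s - 2 ^ n) = s
      rw [Nat.one_shiftLeft]; omega
    · rw [Bool.not_eq_true] at hb
      have hlt : s < 2 ^ n := by
        refine Nat.lt_pow_two_of_testBit _ fun i hi => ?_
        rcases Nat.eq_or_lt_of_le hi with rfl | hi
        · exact hb
        · exact Nat.testBit_lt_two_pow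
            (lt_of_lt_of_le hs (Nat.pow_le_pow_right (by norm_num) hi))
      have := mem_subMasks hlt h
      rw [subMasks]
      cases m.testBit n with
      | true => rw [cond_true]; exact List.mem_append_left _ this
      | false => exact this

end CfsgLib.Golay
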