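import Cfsg.Agent.Lib.Golay.Stab

/-! Orbits on the complement of a dodecad of stabilisers of points of it. -/

set_option autoImplicit false
set_option maxRecDepth 100000

namespace CfsgLib.Golay

open Cfsg
open scoped Pointwise

/-- Elements fixing the dodecad and a point of it, moving `5` over the complement. -/
def compTrans1 : List ℕ :=
  [984818244535754528103549039458486304,
   891385682027558266148352467872712736,
   899214583888558003150069357295700000,
   629863500390412654982178157189269536,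
   719923664328491199848526586197411872,
   486073779993727295785104656607348768,
   608405391266436187982588441666881568,
   984769902586367543974814854303385632,
   424698032726113400716592269113985056,
   716016777081418520089506884598499360,
   227468939079694360949178429167896608,
   227578386318009578406903204956702752]

/-- The same, fixing also `5`, moving `7`. -/
def compTrans2 : List ℕ :=
  [984818244535754528103549039458486304,
   970499966350631336865513127433832480,
   968955966875123533138286166201145376,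
   928429178378949680944240482662483008,
   735007443424217238740507493471945824,
   928952864966028496604741530750814240,
   720846548273546509231824711698154592,
   984355386066803413838770983050249280,
   969958826742993894265839954570609728,
   425097252063718997693671187165909024,
   928750119981075327841287846085692448]

/-- The same, fixing also `5` and `7`, moving `10`. -/
def compTrans3 : List ℕ :=
  [984818244535754528103549039458486304,
   978239198764604640668953934463309856,
   470703632939162895080556060451872896,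
   483803429882611183488023874478737536,
   944293816565412651426207388111472672,
   609272859379522754159883029874018688,
   601923271263512911800231721851686016,
   642155431720290213796175960819830048,
   736837720314198190023097926713350176,
   479582217756837106710328776524893216]

/-- Elements fixing the dodecad and three points of it, moving `5`. -/
def compTransK : List ℕ :=
  [984818244535754528103549039458486304,
   891385682027558266148352467872712736,
   899214583888558003150069357295700000,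
   629863500390412654982178157189269536,
   719923664328491199848526586197411872,
   486073779993727295785104656607348768,
   608405391266436187982588441666881568,
   984769902586367543974814854303385632,
   424698032726113400716592269113985056,
   716016777081418520089506884598499360,
   227468939079694360949178429167896608,
   227578386318009578406903204956702752]


theorem compTrans_ok :
    (compTrans1.all (inFix [1, sqMask]) = true ∧ orbMask 5 compTrans1 = Nat.xor 16777215 sqMask) ∧
    (compTrans2.all (inFix [1 <<< 5, 1, sqMask]) = true ∧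
      orbMask 7 compTrans2 = Nat.xor (Nat.xor 16777215 sqMask) (1 <<< 5)) ∧
    (compTrans3.all (inFix [1 <<< 7, 1 <<< 5, 1, sqMask]) = true ∧
      orbMask 10 compTrans3 = Nat.xor (Nat.xor (Nat.xor 16777215 sqMask) (1 <<< 5)) (1 <<< 7)) ∧
    (compTransK.all (inFix [4, 2, 1, sqMask]) = true ∧
      orbMask 5 compTransK = Nat.xor 16777215 sqMask) := by
  decide +kernel

theorem exists_of_orbMask {X l : List ℕ} (hl : l.all (inFix X) = true) {b : ℕ} (hb : b < 24)
    {q : GolayPt} (hq : q ∈ mset (orbMask b l)) : ∃ σ ∈ fixMasks X, σ (pt b) = q := by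
  rw [mem_mset, testBit_orbMask] at hq
  obtain ⟨g, hg, e⟩ := hq
  have hgX := List.all_eq_true.1 hl g hg
  exact ⟨permOf g, inFix_mem hgX, by rw [permOf_pt (inFix_valid hgX) hb, e, pt_idx]⟩

theorem mem_compl_sq {q : GolayPt} :
    q ∈ mset (Nat.xor 16777215 sqMask) ↔ q ∉ mset sqMask := by
  rw [show Nat.xor 16777215 sqMask = 16777215 ^^^ sqMask from rfl, mset_xor, mset_full]
  simp [Finset.mem_symmDiff]

theorem fixMasks_bit_fix {X : List ℕ} {σ : Equiv.Perm GolayPt} (h : σ ∈ fixMasks X) {i : ℕ}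
    (hi : i < 24) (hX : 1 <<< i ∈ X) : σ (pt i) = pt i := by
  refine (smul_mset_bit σ hi).1 ?_
  rw [show Nat.shiftLeft 1 (idx (pt i)) = 1 <<< i by rw [idx_pt hi]; rfl]
  exact h.2 _ hX

theorem smul_compl_sq {σ : Equiv.Perm GolayPt} (h : σ • mset sqMask = mset sqMask) {q : GolayPt}
    (hq : q ∉ mset sqMask) : σ q ∉ mset sqMask := fun hm => hq (by
  rw [← h] at hm
  exact (Finset.smul_mem_smul_finset_iff σ).1 hm)

theorem std_three_trans {x y z : GolayPt} (hx : x ∉ mset sqMask) (hy : y ∉ mset sqMask)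
    (hz : z ∉ mset sqMask) (hxy : x ≠ y) (hxz : x ≠ z) (hyz : y ≠ z) :
    ∃ σ ∈ fixMasks [1, sqMask], σ (pt 5) = x ∧ σ (pt 7) = y ∧ σ (pt 10) = z := by
  obtain ⟨⟨a1, a2⟩, ⟨b1, b2⟩, ⟨c1, c2⟩, -⟩ := compTrans_ok
  obtain ⟨g, hg, g5⟩ := exists_of_orbMask a1 (by norm_num : 5 < 24)
    (q := x) (by rw [a2]; exact mem_compl_sq.2 hx)
  have hgs : g⁻¹ • mset sqMask = mset sqMask :=
    inv_smul_eq_iff.2 (hg.2 sqMask (by simp)).symm
  let y' := g⁻¹ y
  have hy' : y' ∉ mset sqMask := smul_compl_sq hgs hy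
  have hy5 : y' ≠ pt 5 := fun e => hxy (by rw [← g5, ← e]; simp [y'])
  obtain ⟨k, hk, k7⟩ := exists_of_orbMask b1 (by norm_num : 7 < 24) (q := y') (by
    rw [b2]
    show y' ∈ mset ((16777215 ^^^ sqMask) ^^^ (1 <<< 5))
    rw [mset_xor, Nat.one_shiftLeft, mset_two_pow (by norm_num), Finset.mem_symmDiff,
      Finset.mem_singleton]
    exact Or.inl ⟨mem_compl_sq.2 hy', hy5⟩)
  have hks : k⁻¹ • mset sqMask = mset sqMask :=
    inv_smul_eq_iff.2 (hk.2 sqMask (by simp)).symm
  have k5 : k (pt 5) = pt 5 := fixMasks_bit_fix hk (by norm_num) (by simp)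
  let z' := k⁻¹ (g⁻¹ z)
  have hz' : z' ∉ mset sqMask := smul_compl_sq hks (smul_compl_sq hgs hz)
  have hz5 : z' ≠ pt 5 := fun e => hxz (by
    have : g⁻¹ z = pt 5 := by rw [← k5, ← e]; simp [z']
    rw [← g5, ← this]; simp)
  have hz7 : z' ≠ pt 7 := fun e => hyz (by
    have : g⁻¹ z = y' := by rw [← k7, ← e]; simp [z']
    exact (g⁻¹).injective this.symm)
  obtain ⟨l, hl, l10⟩ := exists_of_orbMask c1 (by norm_num : 10 < 24) (q := z') (by
    rw [c2]
    show z' ∈ mset (((16777215 ^^^ sqMask) ^^^ (1 <<< 5)) ^^^ (1 <<< 7))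
    rw [mset_xor, mset_xor, Nat.one_shiftLeft, mset_two_pow (by norm_num), Nat.one_shiftLeft,
      mset_two_pow (by norm_num), Finset.mem_symmDiff, Finset.mem_symmDiff, Finset.mem_singleton,
      Finset.mem_singleton]
    exact Or.inl ⟨Or.inl ⟨mem_compl_sq.2 hz', hz5⟩, hz7⟩)
  have hmono : ∀ {X : List ℕ} {τ : Equiv.Perm GolayPt}, τ ∈ fixMasks X → [1, sqMask] ⊆ X →
      τ ∈ fixMasks [1, sqMask] := fun h hs => ⟨h.1, fun A hA => h.2 A (hs hA)⟩
  refine ⟨g * k * l, Subgroup.mul_mem _ (Subgroup.mul_mem _ hg (hmono hk (by simp)))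
    (hmono hl (by simp)), ?_, ?_, ?_⟩ <;> simp only [Equiv.Perm.mul_apply]
  · rw [fixMasks_bit_fix hl (by norm_num) (by simp), k5, g5]
  · rw [fixMasks_bit_fix hl (by norm_num) (by simp), k7]; simp [y']
  · rw [l10]; simp [z']

theorem dodecad_compl_three {d : Finset GolayPt} (hd : d ∈ dodecads) {p : GolayPt} (hp : p ∈ d)
    (x y : Fin 3 ↪ GolayPt) (hx : ∀ i, x i ∉ d) (hy : ∀ i, y i ∉ d) :
    ∃ g ∈ MulAction.stabilizer M24 d ⊓ MulAction.stabilizer M24 p,
      ∀ i, (g : Equiv.Perm GolayPt) (x i) = y i := by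
  obtain ⟨c, hc, hc'⟩ := dodecad_point_std hd hp
  have hout : ∀ z : Fin 3 ↪ GolayPt, (∀ i, z i ∉ d) → ∀ i, c • z i ∉ mset sqMask := by
    intro z hz i h
    rw [← hc] at h
    exact hz i ((Finset.smul_mem_smul_finset_iff c).1 h)
  have hne : ∀ z : Fin 3 ↪ GolayPt, ∀ i j, i ≠ j → c • z i ≠ c • z j := fun z i j h e =>
    h (z.injective (smul_left_cancel c e))
  obtain ⟨s, hs, s5, s7, s10⟩ := std_three_trans (hout x hx 0) (hout x hx 1) (hout x hx 2)
    (hne x 0 1 (by decide)) (hne x 0 2 (by decide)) (hne x 1 2 (by decide))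
  obtain ⟨t, ht, t5, t7, t10⟩ := std_three_trans (hout y hy 0) (hout y hy 1) (hout y hy 2)
    (hne y 0 1 (by decide)) (hne y 0 2 (by decide)) (hne y 1 2 (by decide))
  let u : M24 := ⟨t * s⁻¹, Subgroup.mul_mem _ ht.1 (Subgroup.inv_mem _ hs.1)⟩
  have hu : (u : Equiv.Perm GolayPt) ∈ fixMasks [1, sqMask] :=
    Subgroup.mul_mem _ ht (Subgroup.inv_mem _ hs)
  refine ⟨c⁻¹ * u * c, Subgroup.mem_inf.2 ⟨?_, ?_⟩, fun i => ?_⟩
  · rw [MulAction.mem_stabilizer_iff, mul_smul, mul_smul, hc, inv_smul_eq_iff, hc]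
    exact hu.2 sqMask (by simp)
  · rw [MulAction.mem_stabilizer_iff, mul_smul, mul_smul, hc', inv_smul_eq_iff, hc']
    exact fixMasks_bit_fix hu (by norm_num) (by simp)
  · show (c⁻¹ * u * c) • x i = y i
    rw [mul_smul, mul_smul, inv_smul_eq_iff]
    show t (s⁻¹ (c • x i)) = c • y i
    fin_cases i
    · show t (s⁻¹ (c • x 0)) = _
      rw [Equiv.Perm.inv_eq_iff_eq.2 s5.symm, t5]; rfl
    · show t (s⁻¹ (c • x 1)) = _
      rw [Equiv.Perm.inv_eq_iff_eq.2 s7.symm, t7]; rfl
    · show t (s⁻¹ (c • x 2)) = _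
      rw [Equiv.Perm.inv_eq_iff_eq.2 s10.symm, t10]; rfl

theorem dodecad_three_std {d : Finset GolayPt} (hd : d ∈ dodecads) {p q r : GolayPt} (hp : p ∈ d)
    (hq : q ∈ d) (hr : r ∈ d) (hpq : p ≠ q) (hpr : p ≠ r) (hqr : q ≠ r) :
    ∃ c : M24, c • d = mset sqMask ∧ c • p = pt 0 ∧ c • q = pt 1 ∧ c • r = pt 2 := by
  classical
  obtain ⟨g, hg⟩ := M24_trans_dodecads hd sqMask_mem
  have hmem : ∀ a ∈ d, g • a ∈ mset sqMask := fun a ha => by
    rw [← hg]; exact Finset.smul_mem_smul_finset ha
  obtain ⟨s, hs⟩ : (((mset sqMask).erase (g • p)).erase (g • q)).erase (g • r) |>.Nonempty := by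
    rw [← Finset.card_pos]
    have h1 := Finset.pred_card_le_card_erase (a := g • p) (s := mset sqMask)
    have h2 := Finset.pred_card_le_card_erase (a := g • q) (s := (mset sqMask).erase (g • p))
    have h3 := Finset.pred_card_le_card_erase (a := g • r)
      (s := ((mset sqMask).erase (g • p)).erase (g • q))
    have h12 : (mset sqMask).card = 12 := sqMask_mem.2
    omega
  simp only [Finset.mem_erase] at hs
  obtain ⟨t, ht⟩ : ((((mset sqMask).erase (g • p)).erase (g • q)).erase (g • r)).erase s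
      |>.Nonempty := by
    rw [← Finset.card_pos]
    have h1 := Finset.pred_card_le_card_erase (a := g • p) (s := mset sqMask)
    have h2 := Finset.pred_card_le_card_erase (a := g • q) (s := (mset sqMask).erase (g • p))
    have h3 := Finset.pred_card_le_card_erase (a := g • r)
      (s := ((mset sqMask).erase (g • p)).erase (g • q))
    have h4 := Finset.pred_card_le_card_erase (a := s)
      (s := (((mset sqMask).erase (g • p)).erase (g • q)).erase (g • r))
    have h12 : (mset sqMask).card = 12 := sqMask_mem.2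
    omega
  simp only [Finset.mem_erase] at ht
  have hne : ∀ {a b : GolayPt}, a ≠ b → g • a ≠ g • b := fun h e => h (smul_left_cancel g e)
  let f : Fin 5 → GolayPt := ![g • p, g • q, g • r, s, t]
  have hf : Function.Injective f := by
    simp only [f, Matrix.vecCons, Fin.cons_injective_iff]
    simp [hne hpq, hne hpr, hne hqr, Ne.symm hs.1, Ne.symm hs.2.1, Ne.symm hs.2.2.1, Ne.symm ht.1,
      Ne.symm ht.2.1, Ne.symm ht.2.2.1, Ne.symm ht.2.2.2.1]
    exact Function.injective_of_subsingleton _
  have hfm : ∀ i, f i ∈ mset sqMask := by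
    intro i
    fin_cases i
    exacts [hmem p hp, hmem q hq, hmem r hr, hs.2.2.2, ht.2.2.2.2]
  obtain ⟨u, hu, -⟩ := dodecad_sharp sqMask_mem ⟨f, hf⟩
    ⟨fun i : Fin 5 => pt i.val, by decide +kernel⟩ hfm (by decide +kernel)
  refine ⟨(u : M24) * g, by rw [mul_smul, hg]; exact MulAction.mem_stabilizer_iff.1 u.2, ?_, ?_, ?_⟩ <;>
    rw [mul_smul]
  · exact hu 0
  · exact hu 1
  · exact hu 2

theorem dodecad_three_compl {d : Finset GolayPt} (hd : d ∈ dodecads) {p q r : GolayPt} (hp : p ∈ d)
    (hq : q ∈ d) (hr : r ∈ d) (hpq : p ≠ q) (hpr : p ≠ r) (hqr : q ≠ r) :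
    Nat.card ↥(MulAction.stabilizer M24 d ⊓ MulAction.stabilizer M24 p ⊓ MulAction.stabilizer M24 q ⊓
      MulAction.stabilizer M24 r) = 72 ∧
    ∀ x ∉ d, ∀ y ∉ d, ∃ g ∈ (MulAction.stabilizer M24 d ⊓ MulAction.stabilizer M24 p ⊓
      MulAction.stabilizer M24 q ⊓ MulAction.stabilizer M24 r),
      ((g : M24) : Equiv.Perm GolayPt) x = y := by
  classical
  obtain ⟨c, c0, c1, c2, c3⟩ := dodecad_three_std hd hp hq hr hpq hpr hqr
  set K := MulAction.stabilizer M24 d ⊓ MulAction.stabilizer M24 p ⊓ MulAction.stabilizer M24 q ⊓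
    MulAction.stabilizer M24 r with hK
  have hmemK : ∀ g : M24, g ∈ K ↔
      ((c * g * c⁻¹ : M24) : Equiv.Perm GolayPt) ∈ fixMasks [4, 2, 1, sqMask] := by
    intro g
    rw [show ([4, 2, 1, sqMask] : List ℕ) = [Nat.shiftLeft 1 2, Nat.shiftLeft 1 1,
      Nat.shiftLeft 1 0, sqMask] from rfl, mem_fixMasks_bit (show (2 : ℕ) < 24 by norm_num),
      mem_fixMasks_bit (show (1 : ℕ) < 24 by norm_num), mem_fixMasks_bit (show (0 : ℕ) < 24 by norm_num),
      mem_fixMasks_one, hK, Subgroup.mem_inf, Subgroup.mem_inf, Subgroup.mem_inf,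
      MulAction.mem_stabilizer_iff, MulAction.mem_stabilizer_iff, MulAction.mem_stabilizer_iff,
      MulAction.mem_stabilizer_iff, ← c1, ← c2, ← c3, ← c0, conj_smul_iff, coe_conj_pt, coe_conj_pt,
      coe_conj_pt]
  refine ⟨?_, fun x hx y hy => ?_⟩
  · obtain ⟨φ⟩ := conj_equiv c (fixMasks_le _) hmemK
    rw [Nat.card_congr φ.toEquiv]
    have h : chainOK [4, 2, 1, sqMask] (chainM12Levels.drop 3) chainM12Fin = true := by
      decide +kernel
    rw [card_fixMasks h]
    decide +kernel
  · obtain ⟨-, -, -, k1, k2⟩ := compTrans_ok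
    have hout : ∀ z ∉ d, c • z ∉ mset sqMask := fun z hz h => hz (by
      rw [← c0] at h; exact (Finset.smul_mem_smul_finset_iff c).1 h)
    obtain ⟨s, hs, s5⟩ := exists_of_orbMask k1 (by norm_num : 5 < 24) (q := c • x)
      (by rw [k2]; exact mem_compl_sq.2 (hout x hx))
    obtain ⟨t, ht, t5⟩ := exists_of_orbMask k1 (by norm_num : 5 < 24) (q := c • y)
      (by rw [k2]; exact mem_compl_sq.2 (hout y hy))
    let u : M24 := ⟨t * s⁻¹, Subgroup.mul_mem _ ht.1 (Subgroup.inv_mem _ hs.1)⟩
    have hu : (u : Equiv.Perm GolayPt) ∈ fixMasks [4, 2, 1, sqMask] :=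
      Subgroup.mul_mem _ ht (Subgroup.inv_mem _ hs)
    refine ⟨c⁻¹ * u * c, (hmemK _).2 ?_, ?_⟩
    · rw [show c * (c⁻¹ * u * c) * c⁻¹ = u by group]
      exact hu
    · show (c⁻¹ * u * c) • x = y
      rw [mul_smul, mul_smul, inv_smul_eq_iff]
      show t (s⁻¹ (c • x)) = c • y
      rw [Equiv.Perm.inv_eq_iff_eq.2 s5.symm, t5]

end CfsgLib.Golay
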