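import Cfsg.Agent.Lib.Golay.OctadFlag
import Cfsg.Agent.Lib.Golay.ChainOct

/-!
The action of an octad stabiliser on its octad: alternating of degree 8, split by a point outside.
-/

set_option autoImplicit false

namespace CfsgLib.Golay

open Cfsg
open scoped Pointwise

/-- The setwise stabiliser of a set of points in the group of the code. -/
abbrev octStab (o : Finset GolayPt) : Subgroup (Equiv.Perm GolayPt) :=
  M24 ⊓ MulAction.stabilizer (Equiv.Perm GolayPt) o

/-- The pointwise stabiliser of a set of points in the group of the code. -/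
abbrev octPtw (o : Finset GolayPt) : Subgroup (Equiv.Perm GolayPt) :=
  M24 ⊓ fixingSubgroup (Equiv.Perm GolayPt) (o : Set GolayPt)

theorem octPtw_fix {o : Finset GolayPt} {σ : Equiv.Perm GolayPt} :
    σ ∈ octPtw o ↔ σ ∈ M24 ∧ ∀ q ∈ o, σ q = q := by
  simp [octPtw, Subgroup.mem_inf, mem_fixingSubgroup_iff]

theorem octPtw_le {o : Finset GolayPt} : octPtw o ≤ octStab o := by
  intro σ hσ
  obtain ⟨hM, hf⟩ := octPtw_fix.1 hσ
  refine ⟨hM, MulAction.mem_stabilizer_iff.2 ((Finset.eq_of_subset_of_card_le (fun q hq => ?_)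
    (by rw [Finset.card_smul_finset])).symm)⟩
  rw [← hf q hq]
  exact Finset.smul_mem_smul_finset hq

theorem octStab_mem_iff {o : Finset GolayPt} {σ : Equiv.Perm GolayPt} (hσ : σ ∈ octStab o)
    (x : GolayPt) : σ x ∈ o ↔ x ∈ o := by
  conv_lhs => rw [← MulAction.mem_stabilizer_iff.1 hσ.2]
  exact Finset.smul_mem_smul_finset_iff (σ : Equiv.Perm GolayPt)

theorem card_octStab {o : Finset GolayPt} (ho : o ∈ octads) : Nat.card (octStab o) = 322560 := by
  obtain ⟨e⟩ := stabO_equiv ho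
  have e' : octStab o ≃ MulAction.stabilizer M24 o :=
    { toFun := fun σ => ⟨⟨σ.1, σ.2.1⟩, σ.2.2⟩
      invFun := fun σ => ⟨σ.1.1, σ.1.2, σ.2⟩
      left_inv := fun σ => rfl
      right_inv := fun σ => rfl }
  rw [Nat.card_congr e', Nat.card_congr e.toEquiv, card_fixOct]

theorem card_octPtw {o : Finset GolayPt} (ho : o ∈ octads) : Nat.card (octPtw o) = 16 := by
  obtain ⟨g, hg⟩ := M24_trans_octads ho octMask_mem
  obtain ⟨e⟩ := conj_equiv g (H := (octPtw o).subgroupOf M24) (K := fixMasks (bitsList octMask)) (fixMasks_le _)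
    fun x => by
      rw [Subgroup.mem_subgroupOf, octPtw_fix, mem_fix_pointwise, octPtw_fix]
      simp only [SetLike.coe_mem, true_and]
      rw [← hg]
      constructor
      · intro h p hp
        rw [Finset.mem_smul_finset] at hp
        obtain ⟨q, hq, rfl⟩ := hp
        exact (coe_conj_pt g x q).2 (h q hq)
      · intro h q hq
        exact (coe_conj_pt g x q).1 (h _ (Finset.smul_mem_smul_finset hq))
  rw [← Nat.card_congr (Subgroup.subgroupOfEquivOfLe (show octPtw o ≤ M24 from inf_le_left)).toEquiv,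
    Nat.card_congr e.toEquiv, octPts_facts.1]

theorem octPtw_point {o : Finset GolayPt} (ho : o ∈ octads) {p : GolayPt} (hp : p ∉ o) :
    (∀ q ∉ o, ∃ σ ∈ octPtw o, σ p = q) ∧ ∀ σ ∈ octPtw o, σ p = p → σ = 1 := by
  have hsurj : ∀ q ∉ o, ∃ σ ∈ octPtw o, σ p = q := by
    intro q hq
    obtain ⟨g, hg, hgp⟩ := octad_out ho hp hq
    exact ⟨g, octPtw_fix.2 ⟨g.2, hg⟩, hgp⟩
  refine ⟨hsurj, fun σ hσ hσp => ?_⟩
  have hmaps : ∀ τ : octPtw o, (τ : Equiv.Perm GolayPt) p ∈ oᶜ := fun τ =>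
    Finset.mem_compl.2 fun h => hp ((octStab_mem_iff (octPtw_le τ.2) p).1 h)
  let φ : octPtw o → (oᶜ : Finset GolayPt) := fun τ => ⟨_, hmaps τ⟩
  have hφ : Function.Surjective φ := fun q => by
    obtain ⟨τ, hτ, e⟩ := hsurj q.1 (Finset.mem_compl.1 q.2)
    exact ⟨⟨τ, hτ⟩, Subtype.ext e⟩
  have hcard : Nat.card (oᶜ : Finset GolayPt) = 16 := by
    rw [Nat.card_eq_fintype_card, Fintype.card_coe, Finset.card_compl, ho.2]
    rfl
  have hinj : Function.Injective φ :=
    ((Nat.bijective_iff_surjective_and_card φ).2 ⟨hφ, by rw [card_octPtw ho, hcard]⟩).1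
  have := @hinj ⟨σ, hσ⟩ ⟨1, Subgroup.one_mem _⟩ (Subtype.ext hσp)
  exact congrArg Subtype.val this

/-- Restriction to the octad. -/
def octRes (o : Finset GolayPt) : octStab o →* Equiv.Perm o where
  toFun σ := (σ : Equiv.Perm GolayPt).subtypePerm (octStab_mem_iff σ.2)
  map_one' := Equiv.ext fun _ => rfl
  map_mul' _ _ := Equiv.ext fun _ => rfl

theorem octRes_range {o : Finset GolayPt} (ho : o ∈ octads) : (octRes o).range = alternatingGroup o := by
  apply Equiv.Perm.eq_alternatingGroup_of_index_eq_two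
  have hker : Nat.card (octRes o).ker = 16 := by
    rw [← card_octPtw ho]
    refine Nat.card_congr
      { toFun := fun σ => ⟨σ.1.1, octPtw_fix.2 ⟨σ.1.2.1, fun q hq =>
          congrArg Subtype.val (Equiv.congr_fun (MonoidHom.mem_ker.1 σ.2) ⟨q, hq⟩)⟩⟩
        invFun := fun σ => ⟨⟨σ.1, octPtw_le σ.2⟩, MonoidHom.mem_ker.2 (Equiv.ext fun q =>
          Subtype.ext ((octPtw_fix.1 σ.2).2 q.1 q.2))⟩
        left_inv := fun σ => rfl
        right_inv := fun σ => rfl }
  have h1 := Subgroup.card_mul_index (octRes o).ker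
  rw [Subgroup.index_ker, hker, card_octStab ho] at h1
  have h2 := Subgroup.card_mul_index (octRes o).range
  rw [Nat.card_perm, Nat.card_eq_fintype_card (α := o), Fintype.card_coe, ho.2,
    show Nat.factorial 8 = 40320 from rfl] at h2
  have h3 : Nat.card (octRes o).range = 20160 := by omega
  rw [h3] at h2
  omega

theorem octad_split {o : Finset GolayPt} (ho : o ∈ octads) {p : GolayPt} (hp : p ∉ o) :
    octPtw o ⊓ (octStab o ⊓ MulAction.stabilizer (Equiv.Perm GolayPt) p) = ⊥ ∧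
      octPtw o ⊔ (octStab o ⊓ MulAction.stabilizer (Equiv.Perm GolayPt) p) = octStab o ∧
      Nonempty (↥(octStab o ⊓ MulAction.stabilizer (Equiv.Perm GolayPt) p) ≃* alternatingGroup (Fin 8)) := by
  obtain ⟨hsurj, hfree⟩ := octPtw_point ho hp
  have hdecomp : ∀ σ ∈ octStab o, ∃ π ∈ octPtw o,
      π⁻¹ * σ ∈ octStab o ⊓ MulAction.stabilizer (Equiv.Perm GolayPt) p := by
    intro σ hσ
    obtain ⟨π, hπ, e⟩ := hsurj (σ p) fun h => hp ((octStab_mem_iff hσ p).1 h)
    refine ⟨π, hπ, Subgroup.mul_mem _ (Subgroup.inv_mem _ (octPtw_le hπ)) hσ, ?_⟩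
    change π⁻¹ (σ p) = p
    rw [← e, ← Equiv.Perm.mul_apply, inv_mul_cancel, Equiv.Perm.one_apply]
  refine ⟨eq_bot_iff.2 fun σ hσ => Subgroup.mem_bot.2 (hfree σ hσ.1 hσ.2.2), ?_, ?_⟩
  · refine le_antisymm (sup_le octPtw_le inf_le_left) fun σ hσ => ?_
    obtain ⟨π, hπ, h⟩ := hdecomp σ hσ
    have := Subgroup.mul_mem_sup hπ h
    rwa [mul_inv_cancel_left] at this
  · let T := octStab o ⊓ MulAction.stabilizer (Equiv.Perm GolayPt) p
    let φ : T →* Equiv.Perm o := (octRes o).comp (Subgroup.inclusion inf_le_left)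
    have hinj : Function.Injective φ := by
      rw [← MonoidHom.ker_eq_bot_iff, eq_bot_iff]
      intro σ hσ
      exact Subgroup.mem_bot.2 (Subtype.ext (hfree σ.1 (octPtw_fix.2 ⟨σ.2.1.1, fun q hq =>
        congrArg Subtype.val (Equiv.congr_fun (MonoidHom.mem_ker.1 hσ) ⟨q, hq⟩)⟩) σ.2.2))
    have hrange : φ.range = alternatingGroup o := by
      rw [← octRes_range ho]
      refine le_antisymm ?_ ?_
      · rintro _ ⟨σ, rfl⟩
        exact ⟨_, rfl⟩
      · rintro _ ⟨σ, rfl⟩
        obtain ⟨π, hπ, h⟩ := hdecomp σ.1 σ.2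
        refine ⟨⟨_, h⟩, Equiv.ext fun q => Subtype.ext ?_⟩
        change π⁻¹ ((σ : Equiv.Perm GolayPt) q) = (σ : Equiv.Perm GolayPt) q
        have hq : (σ : Equiv.Perm GolayPt) q ∈ o := (octStab_mem_iff σ.2 q).2 q.2
        exact (octPtw_fix.1 (inv_mem hπ)).2 _ hq
    have e8 : (o : Type) ≃ Fin 8 := Fintype.equivFinOfCardEq (by rw [Fintype.card_coe, ho.2])
    have hmap : (alternatingGroup o).map (e8.permCongrHom : Equiv.Perm o ≃* Equiv.Perm (Fin 8)).toMonoidHom =
        alternatingGroup (Fin 8) := by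
      ext σ
      rw [Subgroup.mem_map]
      constructor
      · rintro ⟨τ, hτ, rfl⟩
        rw [Equiv.Perm.mem_alternatingGroup] at hτ ⊢
        exact (Equiv.Perm.sign_permCongr e8 τ).trans hτ
      · intro hσ
        refine ⟨e8.permCongrHom.symm σ, ?_, MulEquiv.apply_symm_apply _ σ⟩
        rw [Equiv.Perm.mem_alternatingGroup] at hσ ⊢
        rw [← hσ]
        conv_rhs => rw [← MulEquiv.apply_symm_apply e8.permCongrHom σ]
        exact (Equiv.Perm.sign_permCongr e8 _).symm
    exact ⟨(MonoidHom.ofInjective hinj).trans ((MulEquiv.subgroupCongr hrange).trans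
      ((MulEquiv.subgroupMap e8.permCongrHom _).trans (MulEquiv.subgroupCongr hmap)))⟩

end CfsgLib.Golay
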