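import Cfsg.Agent.Lib.Golay.E8Lat
import Cfsg.Agent.Lib.Golay.OctadAction
import Cfsg.Agent.Lib.Classical.OrthOmega
import Cfsg.Prelude.Def_Spor_Conway

/-! The centraliser of an octad sign change in `Co0`: its action modulo two on the `E8` lattice
and the kernel of that action. -/

set_option autoImplicit false
set_option maxRecDepth 100000

namespace CfsgLib.Golay.E8Cent

open Cfsg CfsgLib.Golay CfsgLib.Classical
open scoped Pointwise Matrix

theorem octC_mem : mset octC ∈ supports (golayCode : Set (GolayPt → ZMod 2)) :=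
  mem_supports_iff.2 ⟨_, octC_code, rfl⟩

theorem mem_octC {p : GolayPt} : p ∈ mset octC ↔ p ∉ mset octB := by
  rw [octC_compl, Finset.mem_compl]

/-- The sign change outside the octad. -/
noncomputable def epsC : Co0 := sign0 (mset octC) octC_mem

theorem epsC_smul (v : leechLattice) (p : GolayPt) :
    ((epsC • v : leechLattice) : GolayPt → ℤ) p =
      if p ∈ mset octC then -(v : GolayPt → ℤ) p else (v : GolayPt → ℤ) p := by
  rw [epsC, sign0, monoCo0_smul]
  simp [signedPerm, Equiv.Perm.one_symm]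

theorem epsC_fix {v : leechLattice} : epsC • v = v ↔ v ∈ Lm := by
  constructor
  · intro h p hp
    have := congrArg (fun w : leechLattice => (w : GolayPt → ℤ) p) h
    simp only [epsC_smul, if_pos (mem_octC.2 hp)] at this
    omega
  · intro hv
    refine Subtype.ext (funext fun p => ?_)
    rw [epsC_smul]
    split_ifs with h
    · rw [hv p (mem_octC.1 h)]; rfl
    · rfl

/-- The centraliser. -/
noncomputable def Cm : Subgroup Co0 := Subgroup.centralizer {epsC}

theorem mem_Cm {g : Co0} : g ∈ Cm ↔ g * epsC = epsC * g := by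
  rw [Cm, Subgroup.mem_centralizer_singleton_iff]

theorem act_Lm {g : Co0} (hg : g ∈ Cm) {v : leechLattice} (hv : v ∈ Lm) : g • v ∈ Lm := by
  rw [← epsC_fix, ← mul_smul, ← mem_Cm.1 hg, mul_smul, epsC_fix.2 hv]

/-- The action on the supported vectors. -/
noncomputable def actL (g : Cm) : Lm →+ Lm :=
  AddMonoidHom.mk' (fun v => ⟨(g : Co0) • (v : leechLattice), act_Lm g.2 v.2⟩) fun v w =>
    Subtype.ext (co0_add _ _ _)

theorem actL_coe (g : Cm) (v : Lm) :
    ((actL g v : Lm) : leechLattice) = (g : Co0) • (v : leechLattice) := rfl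

theorem actL_mul (g h : Cm) (v : Lm) : actL (g * h) v = actL g (actL h v) :=
  Subtype.ext (mul_smul (g : Co0) (h : Co0) (v : leechLattice))

/-- The matrix modulo two. -/
noncomputable def Mof (g : Cm) : Matrix J J (ZMod 2) :=
  fun i j => redL (actL g ⟨BvV j, BvV_mem j⟩) i

theorem Mof_mulVec (g : Cm) (x : Lm) : Mof g *ᵥ redL x = redL (actL g x) := by
  have h0 : redL (x - rep (redL x)) = 0 := by rw [map_sub, red_rep, sub_self]
  obtain ⟨z, hz⟩ := redL_eq_zero h0
  have hx : x = rep (redL x) + 2 • z := by rw [← hz]; abel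
  have e : redL (actL g x) = redL (actL g (rep (redL x))) := by
    conv_lhs => rw [hx]
    rw [map_add, map_nsmul, map_add, map_nsmul, two_nsmul]
    refine funext fun j => ?_
    rw [Pi.add_apply, Pi.add_apply, CharTwo.add_self_eq_zero, add_zero]
  rw [e, rep, map_sum, map_sum]
  funext i
  simp only [map_zsmul, Matrix.mulVec, dotProduct, Finset.sum_apply, Pi.smul_apply, Mof]
  refine Finset.sum_congr rfl fun j _ => ?_
  rw [zsmul_eq_mul, Int.cast_natCast, ZMod.natCast_zmod_val, mul_comm]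

theorem mulVec_ext {A B : Matrix J J (ZMod 2)} (h : ∀ x : Lm, A *ᵥ redL x = B *ᵥ redL x) :
    A = B :=
  Matrix.ext_iff_mulVec.2 fun v => by
    obtain ⟨x, rfl⟩ : ∃ x, redL x = v := ⟨rep v, red_rep v⟩
    exact h x

/-- The action modulo two. -/
noncomputable def MofHom : Cm →* Matrix J J (ZMod 2) where
  toFun := Mof
  map_one' := mulVec_ext fun x => by
    rw [Mof_mulVec, Matrix.one_mulVec]
    exact congrArg redL (Subtype.ext (one_smul _ _))
  map_mul' g h := mulVec_ext fun x => by
    rw [← Matrix.mulVec_mulVec, Mof_mulVec, Mof_mulVec, Mof_mulVec, actL_mul]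

/-- The quadratic form of plus type. -/
noncomputable abbrev qP : QuadraticForm (ZMod 2) V8 := qfPlus 4 (ZMod 2)

/-- The isometry group. -/
noncomputable abbrev O8 : Subgroup (Matrix.GeneralLinearGroup J (ZMod 2)) :=
  Cfsg.isometryGroup (ZMod 2) (⇑qP)

theorem qP_red (x : Lm) : qP (redL x) = qL ((x : leechLattice) : GolayPt → ℤ) := by
  rw [qfPlus_apply, redL_apply, (norm_Lm x.2).2]

/-- The homomorphism into the isometry group. -/
noncomputable def rho : Cm →* O8 :=
  MofHom.toHomUnits.codRestrict O8 fun g => by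
    rw [CfsgLib.Geom.mem_isometryGroup_iff]
    intro v
    obtain ⟨x, rfl⟩ : ∃ x, redL x = v := ⟨rep v, red_rep v⟩
    rw [show ((MofHom.toHomUnits g : Matrix.GeneralLinearGroup J (ZMod 2)) :
        Matrix J J (ZMod 2)) = Mof g from rfl, Mof_mulVec, qP_red, qP_red, qL, qL, actL_coe, co0_sq]

/-- Application of an isometry. -/
noncomputable def app (g : O8) (v : V8) : V8 :=
  ((g : Matrix.GeneralLinearGroup J (ZMod 2)) : Matrix J J (ZMod 2)) *ᵥ v

theorem app_mul (g h : O8) (v : V8) : app (g * h) v = app g (app h v) :=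
  (Matrix.mulVec_mulVec v _ _).symm

theorem app_one (v : V8) : app 1 v = v := Matrix.one_mulVec v

theorem O8_ext {g h : O8} (e : ∀ v, app g v = app h v) : g = h :=
  Subtype.ext (Units.ext (Matrix.ext_iff_mulVec.2 e))

theorem rho_app (g : Cm) (x : Lm) : app (rho g) (redL x) = redL (actL g x) := Mof_mulVec g x

theorem rho_root {g : Cm} {x : leechLattice} (hx : x ∈ Lm) (n : sqNorm (x : GolayPt → ℤ) = 32)
    (h : app (rho g) (red (x : GolayPt → ℤ)) = red (x : GolayPt → ℤ)) :
    (g : Co0) • x = x ∨ (g : Co0) • x = -x := by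
  have e := rho_app g ⟨x, hx⟩
  rw [redL_apply, h, redL_apply] at e
  exact root_eq hx (act_Lm g.2 hx) n (by rw [co0_sq, n]) e

theorem sign_same (g : Co0) {x y : leechLattice}
    (hd : dotInt (x : GolayPt → ℤ) (y : GolayPt → ℤ) ≠ 0)
    (hx : g • x = x ∨ g • x = -x) (hy : g • y = y ∨ g • y = -y) :
    (g • x = x ∧ g • y = y) ∨ (g • x = -x ∧ g • y = -y) := by
  have h := co0_dot g x y
  have hneg : ∀ a b : GolayPt → ℤ, dotInt (-a) b = -dotInt a b ∧ dotInt a (-b) = -dotInt a b :=
    fun a b => ⟨by simp [dotInt, Finset.sum_neg_distrib], by simp [dotInt, Finset.sum_neg_distrib]⟩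
  rcases hx with a | a <;> rcases hy with b | b
  · exact Or.inl ⟨a, b⟩
  · rw [a, b, AddSubgroup.coe_neg, (hneg _ _).2] at h; omega
  · rw [a, b, AddSubgroup.coe_neg, (hneg _ _).1] at h; omega
  · exact Or.inr ⟨a, b⟩

/-! ### The kernel -/

/-- The pointwise stabiliser of the supported vectors. -/
def K0 : Subgroup Co0 where
  carrier := {g | ∀ v ∈ Lm, g • v = v}
  one_mem' := fun v _ => one_smul _ v
  mul_mem' := fun {a b} ha hb v hv => by rw [mul_smul, hb v hv, ha v hv]
  inv_mem' := fun {a} ha v hv => by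
    conv_lhs => rw [← ha v hv]
    exact inv_smul_smul a v

theorem vec8_mem {p : GolayPt} (hp : p ∈ mset octB) : vec8 p ∈ Lm := fun q hq => by
  show (Pi.single p (8 : ℤ) : GolayPt → ℤ) q = 0
  exact Pi.single_eq_of_ne (fun e => hq (by rwa [e])) _

theorem opt_mem (r : Fin 8) : opt r ∈ mset octB := by rw [opt_facts.2.1]; simp

theorem mono_vec8 (σ : M24) (c : Finset GolayPt)
    (hc : c ∈ supports (golayCode : Set (GolayPt → ZMod 2))) (p : GolayPt) :
    ((monoCo0 σ σ.2 c hc • vec8 p : leechLattice) : GolayPt → ℤ) =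
      Pi.single ((σ : Equiv.Perm GolayPt) p)
        (if (σ : Equiv.Perm GolayPt) p ∈ c then -8 else 8) := by
  rw [monoCo0_smul]
  funext q
  simp only [signedPerm, vec8, Pi.single_apply]
  by_cases h : q = (σ : Equiv.Perm GolayPt) p
  · subst h; simp
  · simp [h, Equiv.symm_apply_eq]

theorem single_inj {p q : GolayPt} {a : ℤ} (ha : a ≠ 0) {b : ℤ}
    (h : (Pi.single p a : GolayPt → ℤ) = Pi.single q b) : p = q ∧ a = b := by
  have h1 := congrFun h p
  rw [Pi.single_eq_same, Pi.single_apply] at h1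
  split_ifs at h1 with e
  · exact ⟨e, h1⟩
  · exact absurd h1 ha

/-- Shape of the elements of the kernel. -/
theorem K0_rep {g : Co0} (hg : g ∈ K0) : ∃ (σ : M24) (c : Finset GolayPt)
    (hc : c ∈ supports (golayCode : Set (GolayPt → ZMod 2))),
      (σ : Equiv.Perm GolayPt) ∈ octPtw (mset octB) ∧ (∀ p ∈ c, p ∉ mset octB) ∧
        g = monoCo0 σ σ.2 c hc := by
  have h8 : ∀ p ∈ mset octB, g • vec8 p = vec8 p := fun p hp => hg _ (vec8_mem hp)
  have hN : g ∈ N0 := mem_N0_iff.2 fun v hv => co0_fix_std g (h8 _ (opt_mem 0)) v hv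
  obtain ⟨σ, c, hc, rfl⟩ := N0_rep hN
  have key : ∀ p ∈ mset octB, (σ : Equiv.Perm GolayPt) p = p ∧ p ∉ c := by
    intro p hp
    have e : ((monoCo0 σ σ.2 c hc • vec8 p : leechLattice) : GolayPt → ℤ) = Pi.single p 8 := by
      rw [h8 p hp]; rfl
    rw [mono_vec8] at e
    obtain ⟨e1, e2⟩ := single_inj (by split_ifs <;> norm_num) e
    refine ⟨e1, fun hpc => ?_⟩
    rw [e1, if_pos hpc] at e2
    norm_num at e2
  exact ⟨σ, c, hc, octPtw_fix.2 ⟨σ.2, fun p hp => (key p hp).1⟩,
    fun p hp hp' => (key p hp').2 hp, rfl⟩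

theorem mono_mem_K0 {σ : M24} {c : Finset GolayPt}
    {hc : c ∈ supports (golayCode : Set (GolayPt → ZMod 2))}
    (hσ : (σ : Equiv.Perm GolayPt) ∈ octPtw (mset octB)) (hcd : ∀ p ∈ c, p ∉ mset octB) :
    monoCo0 σ σ.2 c hc ∈ K0 := by
  intro v hv
  refine Subtype.ext (funext fun q => ?_)
  rw [monoCo0_smul]
  simp only [signedPerm]
  by_cases hq : q ∈ mset octB
  · have e : (σ : Equiv.Perm GolayPt).symm q = q := by
      rw [Equiv.symm_apply_eq]; exact ((octPtw_fix.1 hσ).2 q hq).symm
    rw [if_neg fun h => hcd q h hq, e]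
  · have e : (σ : Equiv.Perm GolayPt).symm q ∉ mset octB := fun h => hq (by
      have := (octPtw_fix.1 hσ).2 _ h
      rw [Equiv.apply_symm_apply] at this
      rwa [this])
    rw [hv _ hq, hv _ e]; simp

theorem K0_le_Cm : K0 ≤ Cm := by
  intro g hg
  obtain ⟨σ, c, hc, hσ, -, rfl⟩ := K0_rep hg
  rw [mem_Cm, epsC, mono_mul_sign0, sign0_mul_mono]
  refine monoCo0_congr rfl ?_
  have e : (σ : Equiv.Perm GolayPt) • mset octC = mset octC := by
    rw [octC_compl]
    have h := MulAction.mem_stabilizer_iff.1 (octPtw_le hσ).2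
    ext p
    rw [Finset.mem_smul_finset]
    constructor
    · rintro ⟨q, hq, rfl⟩
      rw [Finset.mem_compl] at hq ⊢
      rwa [Equiv.Perm.smul_def, octStab_mem_iff (octPtw_le hσ)]
    · intro hp
      refine ⟨(σ : Equiv.Perm GolayPt).symm p, ?_, Equiv.apply_symm_apply _ p⟩
      rw [Finset.mem_compl] at hp ⊢
      rwa [← octStab_mem_iff (octPtw_le hσ), Equiv.apply_symm_apply]
  rw [e, symmDiff_comm]

/-- The root `4 (e_a - e_b)`. -/
def dRoot (a b : Fin 8) : GolayPt → ℤ := Pi.single (opt a) 4 + Pi.single (opt b) (-4)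

/-- A root meeting the others. -/
def kRoot : GolayPt → ℤ :=
  ∑ r : Fin 8, Pi.single (opt r) (if r.val = 1 ∨ r.val = 7 then -2 else 2)

theorem root_facts : OKE kRoot ∧ OKE (dRoot 0 1) ∧ (∀ i, OKE (dRoot i 7)) ∧
    sqNorm kRoot = 32 ∧ sqNorm (dRoot 0 1) = 32 ∧ (∀ i, i ≠ 7 → sqNorm (dRoot i 7) = 32) ∧
    (∀ p, p ∉ mset octB → kRoot p = 0 ∧ dRoot 0 1 p = 0 ∧ ∀ i, dRoot i 7 p = 0) ∧
    dotInt kRoot (dRoot 0 1) ≠ 0 ∧
    (∀ i, i ≠ 7 → 2 ≤ i.val → dotInt kRoot (dRoot i 7) ≠ 0) ∧
    Bf (vm rootA) (red kRoot) = 0 ∧ Bf (vm rootA) (red (dRoot 0 1)) = 0 ∧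
    (∀ i, i ≠ 7 → 2 ≤ i.val → Bf (vm rootA) (red (dRoot i 7)) = 0) ∧
    red Spor.vecU = vm rootA ∧ (∀ p, p ∉ mset octB → Spor.vecU p = 0) ∧
    sqNorm Spor.vecU = 32 ∧
    Spor.vecU = Pi.single (opt 0) 4 + Pi.single (opt 1) 4 := by
  decide +kernel

theorem leechU_mem : Spor.leechU ∈ Lm := root_facts.2.2.2.2.2.2.2.2.2.2.2.2.2.1

/-- An element fixing the special root and trivial on its orthogonal space modulo two lies in
the kernel. -/
theorem mem_K0_of_fix {g : Cm} (hU : (g : Co0) • Spor.leechU = Spor.leechU)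
    (hperp : ∀ w, Bf (vm rootA) w = 0 → app (rho g) w = w) : (g : Co0) ∈ K0 := by
  obtain ⟨ok, o1, od, nk, n1, nd, hout, dk1, dkd, bk, b1, bd, -, -, -, eU⟩ := root_facts
  let kV : leechLattice := ⟨kRoot, mem_of_oke ok⟩
  let xV : leechLattice := ⟨dRoot 0 1, mem_of_oke o1⟩
  let dV : Fin 8 → leechLattice := fun i => ⟨dRoot i 7, mem_of_oke (od i)⟩
  have mk : kV ∈ Lm := fun p hp => (hout p hp).1
  have mx : xV ∈ Lm := fun p hp => (hout p hp).2.1
  have md : ∀ i, dV i ∈ Lm := fun i p hp => (hout p hp).2.2 i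
  have sk := rho_root mk nk (hperp _ bk)
  have sx := rho_root mx n1 (hperp _ b1)
  have sd : ∀ i : Fin 8, i ≠ 7 → 2 ≤ i.val → (g : Co0) • dV i = dV i ∨ (g : Co0) • dV i = -dV i :=
    fun i h h' => rho_root (md i) (nd i h) (hperp _ (bd i h h'))
  have e0 : vec8 (opt 0) = Spor.leechU + xV := Subtype.ext (by
    show (Pi.single (opt 0) (8 : ℤ) : GolayPt → ℤ) = Spor.vecU + dRoot 0 1
    rw [eU]; decide +kernel)
  have e1 : vec8 (opt 1) = Spor.leechU - xV := Subtype.ext (by
    show (Pi.single (opt 1) (8 : ℤ) : GolayPt → ℤ) = Spor.vecU - dRoot 0 1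
    rw [eU]; decide +kernel)
  have e7 : 2 • vec8 (opt 7) = 2 • kV - xV - dV 2 - dV 3 - dV 4 - dV 5 - dV 6 := Subtype.ext (by
    show 2 • (Pi.single (opt 7) (8 : ℤ) : GolayPt → ℤ) =
      2 • kRoot - dRoot 0 1 - dRoot 2 7 - dRoot 3 7 - dRoot 4 7 - dRoot 5 7 - dRoot 6 7
    decide +kernel)
  have ei : ∀ i, vec8 (opt i) = 2 • dV i + vec8 (opt 7) := fun i => Subtype.ext (by
    show (Pi.single (opt i) (8 : ℤ) : GolayPt → ℤ) = 2 • dRoot i 7 + Pi.single (opt 7) 8
    revert i; decide +kernel)
  have hns : ∀ (n : ℕ) (v : leechLattice), (g : Co0) • (n • v) = n • ((g : Co0) • v) :=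
    fun n v => map_nsmul (co0Hom g) n v
  have hhalf : ∀ v w : leechLattice, 2 • v = 2 • w → v = w := fun v w h =>
    Subtype.ext (funext fun q => by
      have := congrArg (fun u : leechLattice => (u : GolayPt → ℤ) q) h
      simp only [two_nsmul, AddSubgroup.coe_add, Pi.add_apply] at this
      omega)
  rcases sk with sk | sk
  · -- all the roots are fixed
    have fx : (g : Co0) • xV = xV := by
      rcases sign_same g dk1 (Or.inl sk) sx with h | h
      · exact h.2
      · rw [sk] at h; exact absurd h.1 (fun e => by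
          have := congrArg (fun u : leechLattice => sqNorm ((2 • u : leechLattice) : GolayPt → ℤ)) e
          have e2 : kV = 0 := hhalf _ _ (by rw [two_nsmul, smul_zero]; nth_rewrite 2 [e]; simp)
          rw [show kRoot = ((kV : leechLattice) : GolayPt → ℤ) from rfl, e2] at nk
          simp [sqNorm] at nk)
    have fd : ∀ i : Fin 8, i ≠ 7 → 2 ≤ i.val → (g : Co0) • dV i = dV i := by
      intro i h h'
      rcases sign_same g (dkd i h h') (Or.inl sk) (sd i h h') with e | e
      · exact e.2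
      · exact absurd (sk.symm.trans e.1) (fun e => by
          have e2 : kV = 0 := hhalf _ _ (by rw [two_nsmul, smul_zero]; nth_rewrite 2 [e]; simp)
          rw [show kRoot = ((kV : leechLattice) : GolayPt → ℤ) from rfl, e2] at nk
          simp [sqNorm] at nk)
    have f7 : (g : Co0) • vec8 (opt 7) = vec8 (opt 7) := by
      apply hhalf
      rw [← hns, e7]
      simp only [co0_sub, hns, sk, fx, fd 2 (by decide) (by decide), fd 3 (by decide) (by decide),
        fd 4 (by decide) (by decide), fd 5 (by decide) (by decide), fd 6 (by decide) (by decide)]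
    have f8 : ∀ r, (g : Co0) • vec8 (opt r) = vec8 (opt r) := by
      intro r
      by_cases h0 : r = 0
      · rw [h0, e0, co0_add, hU, fx]
      by_cases h1 : r = 1
      · rw [h1, e1, co0_sub, hU, fx]
      by_cases h7 : r = 7
      · rw [h7, f7]
      rw [ei, co0_add, hns, fd r h7 (by
        have : r.val ≠ 0 := fun e => h0 (Fin.ext e)
        have : r.val ≠ 1 := fun e => h1 (Fin.ext e)
        omega), f7]
    intro v hv
    have hexp : (8 : ℤ) • v = ∑ r, (v : GolayPt → ℤ) (opt r) • vec8 (opt r) := by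
      refine Subtype.ext (funext fun q => ?_)
      simp only [AddSubgroup.coe_zsmul, AddSubgroup.val_finset_sum, Finset.sum_apply,
        Pi.smul_apply, vec8, smul_eq_mul, Pi.single_apply, mul_ite, mul_zero]
      by_cases hq : q ∈ mset octB
      · rw [opt_facts.2.1, Finset.mem_image] at hq
        obtain ⟨r, -, rfl⟩ := hq
        rw [Finset.sum_eq_single r (fun s _ hs => if_neg fun e => hs (opt_facts.1 e).symm)
          (by simp), if_pos rfl, mul_comm]
      · rw [hv q hq, Finset.sum_eq_zero fun s _ => if_neg fun e => hq (by rw [e]; exact opt_mem s), mul_zero]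
    have h8 : (8 : ℤ) • ((g : Co0) • v) = (8 : ℤ) • v := by
      rw [← co0_zsmul, hexp]
      show co0Hom g (∑ r, _) = _
      rw [map_sum]
      exact Finset.sum_congr rfl fun r _ => (co0_zsmul _ _ _).trans (by rw [f8 r])
    refine Subtype.ext (funext fun q => ?_)
    have := congrArg (fun u : leechLattice => (u : GolayPt → ℤ) q) h8
    simp only [AddSubgroup.coe_zsmul, Pi.smul_apply, smul_eq_mul] at this
    omega
  · -- all the roots are negated: the permutation induced on the octad is a transposition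
    exfalso
    have fx : (g : Co0) • xV = -xV := by
      rcases sx with h | h
      · rcases sign_same g dk1 (Or.inr sk) (Or.inl h) with e | e
        · have e2 : kV = 0 := hhalf _ _ (by
            rw [two_nsmul, smul_zero]; nth_rewrite 2 [← e.1]; rw [sk]; simp)
          rw [show kRoot = ((kV : leechLattice) : GolayPt → ℤ) from rfl, e2] at nk
          simp [sqNorm] at nk
        · exact e.2
      · exact h
    have fd : ∀ i : Fin 8, i ≠ 7 → 2 ≤ i.val → (g : Co0) • dV i = -dV i := by
      intro i h h'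
      rcases sd i h h' with e' | e'
      · rcases sign_same g (dkd i h h') (Or.inr sk) (Or.inl e') with e | e
        · have e2 : kV = 0 := hhalf _ _ (by
            rw [two_nsmul, smul_zero]; nth_rewrite 2 [← e.1]; rw [sk]; simp)
          rw [show kRoot = ((kV : leechLattice) : GolayPt → ℤ) from rfl, e2] at nk
          simp [sqNorm] at nk
        · exact e.2
      · exact e'
    have f7 : (g : Co0) • vec8 (opt 7) = -vec8 (opt 7) := by
      apply hhalf
      rw [← hns, e7]
      simp only [co0_sub, hns, sk, fx, fd 2 (by decide) (by decide), fd 3 (by decide) (by decide),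
        fd 4 (by decide) (by decide), fd 5 (by decide) (by decide), fd 6 (by decide) (by decide)]
      rw [smul_neg (2 : ℕ) (vec8 (opt 7)), e7]
      abel
    have f0 : (g : Co0) • vec8 (opt 0) = vec8 (opt 1) := by
      rw [e0, co0_add, hU, fx, e1, sub_eq_add_neg]
    have f1 : (g : Co0) • vec8 (opt 1) = vec8 (opt 0) := by
      rw [e1, co0_sub, hU, fx, e0, sub_neg_eq_add]
    have fi : ∀ r : Fin 8, r ≠ 0 → r ≠ 1 → (g : Co0) • vec8 (opt r) = -vec8 (opt r) := by
      intro r h0 h1
      by_cases h7 : r = 7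
      · rw [h7, f7]
      rw [ei, co0_add, hns, fd r h7 (by
        have : r.val ≠ 0 := fun e => h0 (Fin.ext e)
        have : r.val ≠ 1 := fun e => h1 (Fin.ext e)
        omega), f7, neg_add, smul_neg]
    have hN : (g : Co0) ∈ N0 := by
      refine mem_N0_iff.2 fun v hv => ?_
      rw [mem_std_iff _ (opt 0)] at hv ⊢
      refine ⟨by rw [co0_q, hv.1], ?_⟩
      rw [co0_cls _ hv.2, f0, vec8_cls]
    obtain ⟨σ, c, hc, hg⟩ := N0_rep hN
    have himg : ∀ (r s : Fin 8) (a : ℤ),
        ((((g : Co0) • vec8 (opt r)) : leechLattice) : GolayPt → ℤ) = Pi.single (opt s) a →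
        (σ : Equiv.Perm GolayPt) (opt r) = opt s := by
      intro r s a h
      rw [hg, mono_vec8] at h
      exact (single_inj (by split_ifs <;> norm_num) h).1
    have hperm : ∀ r : Fin 8, (σ : Equiv.Perm GolayPt) (opt r) =
        opt (Equiv.swap (0 : Fin 8) 1 r) := by
      intro r
      by_cases h0 : r = 0
      · subst h0; exact himg 0 1 8 (by rw [f0]; rfl)
      by_cases h1 : r = 1
      · subst h1; exact himg 1 0 8 (by rw [f1]; rfl)
      rw [Equiv.swap_apply_of_ne_of_ne h0 h1]
      refine himg r r (-8) ?_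
      rw [fi r h0 h1]
      show -(Pi.single (opt r) (8 : ℤ) : GolayPt → ℤ) = _
      rw [← Pi.single_neg]
    have hσ : (σ : Equiv.Perm GolayPt) ∈ octStab (mset octB) := by
      refine ⟨σ.2, MulAction.mem_stabilizer_iff.2 (Finset.eq_of_subset_of_card_le (fun q hq => ?_)
        (by rw [Finset.card_smul_finset]))⟩
      rw [Finset.mem_smul_finset] at hq
      obtain ⟨p, hp, rfl⟩ := hq
      rw [opt_facts.2.1, Finset.mem_image] at hp
      obtain ⟨r, -, rfl⟩ := hp
      rw [Equiv.Perm.smul_def, hperm r]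
      exact opt_mem _
    have hr : octRes (mset octB) ⟨σ, hσ⟩ ∈ (octRes (mset octB)).range := ⟨_, rfl⟩
    rw [octRes_range octB_mem, Equiv.Perm.mem_alternatingGroup] at hr
    have e : octRes (mset octB) ⟨σ, hσ⟩ =
        Equiv.swap ⟨opt 0, opt_mem 0⟩ ⟨opt 1, opt_mem 1⟩ := by
      refine Equiv.ext fun ⟨q, hq⟩ => Subtype.ext ?_
      show (σ : Equiv.Perm GolayPt) q = _
      rw [opt_facts.2.1, Finset.mem_image] at hq
      obtain ⟨r, -, rfl⟩ := hq
      rw [hperm r]
      by_cases h0 : r = 0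
      · subst h0; simp
      by_cases h1 : r = 1
      · subst h1; simp
      rw [Equiv.swap_apply_of_ne_of_ne h0 h1, Equiv.swap_apply_of_ne_of_ne]
      · exact fun e => h0 (opt_facts.1 (congrArg Subtype.val e))
      · exact fun e => h1 (opt_facts.1 (congrArg Subtype.val e))
    rw [e, Equiv.Perm.sign_swap (fun h => absurd
      (opt_facts.1 (show opt 0 = opt 1 from congrArg Subtype.val h)) (by decide))]
      at hr
    exact absurd hr (by decide)

end CfsgLib.Golay.E8Cent
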