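import Cfsg.Agent.Lib.Golay.E8Co2
import Cfsg.Agent.Lib.Golay.Orbits
import Cfsg.Agent.Lib.Comp.Local

/-! The centraliser of an octad involution in `Co1`: a large extraspecial `2`-subgroup with
quotient `Ω⁺₈(2)`. -/

set_option autoImplicit false
set_option maxRecDepth 100000

namespace CfsgLib.Golay.E8Cent

open Cfsg CfsgLib.Golay CfsgLib.Classical
open scoped Pointwise Matrix

attribute [local irreducible] permOf mset monoCo0

/-- The projection onto `Co1`. -/
noncomputable def pr : Co0 →* Spor.Co1 := QuotientGroup.mk' (Subgroup.center Co0)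

theorem pr_eq {x y : Co0} (h : pr x = pr y) : y = x ∨ y = negCo0 * x := by
  rcases center_Co0 (QuotientGroup.eq.1 h) with e | e
  · exact Or.inl (inv_mul_eq_one.1 e).symm
  · right
    rw [← Subgroup.mem_center_iff.1 negCo0_central x, ← e, mul_inv_cancel_left]

theorem pr_neg (x : Co0) : pr (negCo0 * x) = pr x := by
  rw [map_mul]
  simp [pr, (QuotientGroup.eq_one_iff (N := Subgroup.center Co0) negCo0).2 negCo0_central]

theorem neg_not_K0 {x : Co0} (hx : x ∈ K0) : negCo0 * x ∉ K0 := fun h => by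
  have e := h _ leechU_mem
  rw [mul_smul, hx _ leechU_mem, negCo0_smul] at e
  have h2 := congrArg (fun v : leechLattice => (v : GolayPt → ℤ) (opt 0)) e
  obtain ⟨-, -, -, -, -, -, -, -, -, -, -, -, -, -, -, eU⟩ := root_facts
  simp only [AddSubgroup.coe_neg, Pi.neg_apply] at h2
  have h3 : (Spor.leechU : GolayPt → ℤ) (opt 0) = 4 := by
    show Spor.vecU (opt 0) = 4
    rw [eU]
    decide +kernel
  rw [h3] at h2
  norm_num at h2

theorem K0_pr_inj {x y : Co0} (hx : x ∈ K0) (hy : y ∈ K0) (h : pr x = pr y) : x = y := by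
  rcases pr_eq h with e | e
  · exact e.symm
  · exact absurd (e ▸ hy) (neg_not_K0 hx)

/-- The involution. -/
noncomputable def z1 : Spor.Co1 := pr epsC

theorem z1_order : orderOf z1 = 2 := by
  refine orderOf_eq_prime ?_ ?_
  · rw [z1, ← map_pow, pow_two, epsC, sign0_sq (mset octC) octC_mem, map_one]
  · intro h
    exact epsC_ne_one (K0_pr_inj epsC_mem_K0 (one_mem K0) (h.trans (map_one pr).symm))

/-- The centraliser in `Co1`. -/
noncomputable abbrev C1 : Subgroup Spor.Co1 := Subgroup.centralizer ({z1} : Set Spor.Co1)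

theorem no_anti {g : Co0} : g * epsC ≠ negCo0 * (epsC * g) := by
  classical
  intro h
  have hv : ∀ p : GolayPt, p ∈ mset octC → g • vec8 p ∈ Lm := by
    intro p hp
    have e : epsC • vec8 p = -vec8 p := by
      refine Subtype.ext (funext fun q => ?_)
      rw [epsC_smul, AddSubgroup.coe_neg, Pi.neg_apply]
      show (if q ∈ mset octC then -(Pi.single p (8 : ℤ) : GolayPt → ℤ) q else
        (Pi.single p (8 : ℤ) : GolayPt → ℤ) q) = -(Pi.single p (8 : ℤ) : GolayPt → ℤ) q
      split_ifs with hq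
      · rfl
      · rw [Pi.single_eq_of_ne (by rintro rfl; exact hq hp), neg_zero]
    have e2 := congrArg (fun k : Co0 => k • vec8 p) h
    simp only [mul_smul, e, co0_neg, negCo0_smul, neg_inj] at e2
    exact epsC_fix.1 e2.symm
  let w : {p // p ∈ mset octC} → Fin 8 → ℚ :=
    fun p r => (((g • vec8 p.1 : leechLattice) : GolayPt → ℤ) (opt r) : ℚ)
  have hdot : ∀ p q, ∑ r, w p r * w q r = if p = q then 64 else 0 := by
    intro p q
    have e := co0_dot g (vec8 p.1) (vec8 q.1)
    have e2 : dotInt ((g • vec8 p.1 : leechLattice) : GolayPt → ℤ)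
        ((g • vec8 q.1 : leechLattice) : GolayPt → ℤ) =
        ∑ r, ((g • vec8 p.1 : leechLattice) : GolayPt → ℤ) (opt r) *
          ((g • vec8 q.1 : leechLattice) : GolayPt → ℤ) (opt r) := by
      unfold dotInt
      rw [← Finset.sum_subset (Finset.subset_univ (Finset.univ.image opt)) fun i _ hi => by
          rw [hv p.1 p.2 i (by rwa [opt_facts.2.1]), zero_mul],
        Finset.sum_image fun x _ y _ h => opt_facts.1 h]
    have e3 : dotInt (vec8 p.1 : GolayPt → ℤ) (vec8 q.1 : GolayPt → ℤ) =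
        if p = q then 64 else 0 := by
      refine (vec8_dot p.1 q.1).trans ?_
      simp only [Subtype.ext_iff]
    rw [e2, e3] at e
    have := congrArg (fun z : ℤ => (z : ℚ)) e
    push_cast at this
    exact this
  have hli : LinearIndependent ℚ w := by
    rw [Fintype.linearIndependent_iff]
    intro c hc p
    have h1 : ∑ r, (∑ q, c q • w q) r * w p r = 0 := by rw [hc]; simp
    simp only [Finset.sum_apply, Pi.smul_apply, smul_eq_mul, Finset.sum_mul] at h1
    rw [Finset.sum_comm] at h1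
    simp only [mul_assoc, ← Finset.mul_sum, hdot] at h1
    simpa using h1
  have hcard := hli.fintype_card_le_finrank
  rw [Module.finrank_fintype_fun_eq_card, Fintype.card_coe, Fintype.card_fin] at hcard
  have h16 : (mset octC).card = 16 := by decide +kernel
  omega

theorem pr_mem (g : Cm) : pr g ∈ C1 :=
  Subgroup.mem_centralizer_singleton_iff.2 (by rw [z1, ← map_mul, ← map_mul, mem_Cm.1 g.2])

/-- The projection of the centraliser. -/
noncomputable def psi : Cm →* C1 := (pr.comp Cm.subtype).codRestrict C1 pr_mem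

theorem psi_surjective : Function.Surjective psi := by
  rintro ⟨a, ha⟩
  obtain ⟨g, rfl⟩ := QuotientGroup.mk'_surjective (Subgroup.center Co0) a
  have h : pr (g * epsC) = pr (epsC * g) := by
    rw [map_mul, map_mul]
    exact Subgroup.mem_centralizer_singleton_iff.1 ha
  rcases pr_eq h.symm with e | e
  · exact ⟨⟨g, mem_Cm.2 e⟩, rfl⟩
  · exact absurd e no_anti

theorem psi_ker_le : psi.ker ≤ rho.ker := by
  intro g hg
  have h : pr (1 : Co0) = pr g := (map_one pr).trans (congrArg Subtype.val hg).symm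
  rw [MonoidHom.mem_ker]
  rcases pr_eq h with e | e
  · rw [show g = 1 from Subtype.ext e, map_one]
  · rw [show g = negC * 1 from Subtype.ext e, rho_neg, map_one]

/-- The action of the centraliser modulo two. -/
noncomputable def bar : C1 →* O8 := psi.liftOfSurjective psi_surjective ⟨rho, psi_ker_le⟩

theorem bar_psi (g : Cm) : bar (psi g) = rho g :=
  MonoidHom.liftOfRightInverse_comp_apply _ _ _ _ g

theorem bar_mem (c : C1) : bar c ∈ Cfsg.Omega (ZMod 2) (⇑qP) := by
  obtain ⟨g, rfl⟩ := psi_surjective c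
  rw [bar_psi, ← Im_eq]
  exact ⟨g, rfl⟩

/-- The action of the centraliser, as a map onto `Ω⁺₈(2)`. -/
noncomputable def barO : C1 →* Cfsg.Omega (ZMod 2) (⇑qP) := bar.codRestrict _ bar_mem

theorem barO_surjective : Function.Surjective barO := by
  rintro ⟨a, ha⟩
  rw [← Im_eq] at ha
  obtain ⟨g, rfl⟩ := ha
  exact ⟨psi g, Subtype.ext (bar_psi g)⟩

/-- The kernel in `Co1`. -/
noncomputable def kHom : K0 →* C1 := psi.comp (Subgroup.inclusion K0_le_Cm)

theorem kHom_injective : Function.Injective kHom := fun x y h =>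
  Subtype.ext (K0_pr_inj x.2 y.2 (congrArg Subtype.val h))

/-- The extraspecial subgroup. -/
noncomputable def Qc : Subgroup C1 := kHom.range

theorem ker_barO : barO.ker = Qc := by
  refine le_antisymm ?_ ?_
  · intro c hc
    obtain ⟨g, rfl⟩ := psi_surjective c
    have h : rho g = 1 := (bar_psi g).symm.trans (congrArg Subtype.val hc)
    rcases rho_ker h with e | e
    · exact ⟨⟨g, e⟩, rfl⟩
    · exact ⟨⟨negC * g, e⟩, Subtype.ext (pr_neg g)⟩
  · rintro c ⟨k, rfl⟩
    refine Subtype.ext ?_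
    exact (bar_psi _).trans (rho_eq_one_of_mem k.2)

/-- The kernel as a group. -/
noncomputable def qEquiv : K0 ≃* Qc := MonoidHom.ofInjective kHom_injective

theorem Qc_normal : Qc.Normal := ker_barO ▸ barO.normal_ker

/-- The quotient by the kernel. -/
noncomputable def quotEquiv [Qc.Normal] : C1 ⧸ Qc ≃* Cfsg.Omega (ZMod 2) (⇑qP) :=
  (QuotientGroup.quotientMulEquivOfEq ker_barO.symm).trans
    (QuotientGroup.quotientKerEquivOfSurjective barO barO_surjective)

theorem omega_center : Subgroup.center (Cfsg.Omega (ZMod 2) (⇑qP)) = ⊥ :=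
  Subgroup.eq_bot_of_card_eq _ (card_center_omega_one qP (qfPlus_sep 4) (by decide)
    (Or.inl (by decide)))

theorem omega_simple : IsSimpleGroup (Cfsg.Omega (ZMod 2) (⇑qP)) := by
  have h : IsSimpleGroup (Cfsg.Omega (ZMod 2) (⇑qP) ⧸
      Subgroup.center (Cfsg.Omega (ZMod 2) (⇑qP))) :=
    isSimpleGroup_pOmega qP (qfPlus_sep 4) (by decide)
  exact ((QuotientGroup.quotientMulEquivOfEq omega_center).trans
    QuotientGroup.quotientBot).symm.isSimpleGroup

theorem pCore_of_simple {C S : Type*} [Group C] [Group S] [Finite C] (f : C →* S)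
    (hf : Function.Surjective f) [IsSimpleGroup S] (hz : Subgroup.center S = ⊥)
    (hk : IsPGroup 2 f.ker) : Cfsg.pCore 2 C = f.ker := by
  have : Fact (Nat.Prime 2) := ⟨Nat.prime_two⟩
  have : Finite S := Finite.of_surjective f hf
  refine le_antisymm ?_ (CfsgLib.Amalgam.le_pCore (MonoidHom.normal_ker _) hk)
  have h1 : ((Cfsg.pCore 2 C).map f).Normal := (CfsgLib.Solvable.pCore_normal 2 C).map _ hf
  have h2 := (CfsgLib.Solvable.pCore_isPGroup (G := C) 2).map f
  rcases h1.eq_bot_or_eq_top with h | h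
  · exact (Subgroup.map_eq_bot_iff _).1 h
  · exfalso
    rw [h] at h2
    have hp' : IsPGroup 2 S :=
      h2.of_surjective (Subgroup.topEquiv (G := S)).toMonoidHom (MulEquiv.surjective _)
    have := hp'.center_nontrivial
    exact absurd hz ((Subgroup.nontrivial_iff_ne_bot _).1 inferInstance)

theorem K0_conj {g : Cm} {k : Co0} (hk : k ∈ K0) : (g : Co0) * k * (g : Co0)⁻¹ ∈ K0 := by
  intro v hv
  rw [mul_smul, mul_smul, hk _ (act_Lm (inv_mem g.2) hv), smul_inv_smul]

theorem wit_code : mset witM ∈ supports (golayCode : Set (GolayPt → ZMod 2)) :=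
  mem_supports_iff.2 ⟨_, (cOut_facts.1 witM cOut_facts.2.2.2.2.1).1, rfl⟩

theorem wit_mem : sign0 (mset witM) wit_code ∈ K0 := by
  refine mono_mem_K0 (σ := 1) (Subgroup.one_mem _) fun p hp hp' => ?_
  have h := Finset.mem_inter.2 ⟨hp, hp'⟩
  rw [← mset_and, (cOut_facts.1 witM cOut_facts.2.2.2.2.1).2.1, mset_zero] at h
  exact absurd h (Finset.notMem_empty p)

theorem wit_moved : ∀ k ∈ K0, ((genC 2 : Cm) : Co0) * sign0 (mset witM) wit_code ≠
    k * sign0 (mset witM) wit_code * k⁻¹ * ((genC 2 : Cm) : Co0) := by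
  intro k hk h
  have h01 : k * sign0 (mset witM) wit_code * k⁻¹ = sign0 (mset witM) wit_code ∨
      k * sign0 (mset witM) wit_code * k⁻¹ = epsC * sign0 (mset witM) wit_code := by
    rcases K0_comm hk wit_mem with e | e
    · left; rw [e, mul_inv_cancel_right]
    · right; rw [e, mul_assoc, mul_assoc, mul_inv_cancel, mul_one]
  have hlt : witM < 16777216 := (cOut_facts.1 witM cOut_facts.2.2.2.2.1).2.2
  have hv := inM24_valid flip_data.2.2.1
  have eg : ((genC 2 : Cm) : Co0) =
      monoCo0 (⟨permOf codeH1, inM24_mem flip_data.2.2.1⟩ : M24) (inM24_mem flip_data.2.2.1) ∅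
        empty_code := rfl
  have el := mono_mul_sign0 (⟨permOf codeH1, inM24_mem flip_data.2.2.1⟩ : M24) empty_code wit_code
  rcases h01 with e | e <;> rw [e, eg] at h
  · have h' := el.symm.trans (h.trans (sign0_mul_mono _ empty_code wit_code))
    have h2 := (monoCo0_inj h').2
    change symmDiff ∅ (permOf codeH1 • mset witM) = symmDiff (mset witM) ∅ at h2
    rw [← Finset.bot_eq_empty, bot_symmDiff, symmDiff_bot, smul_mset hv] at h2
    refine shift_check.2.2.2.1 ?_
    rw [mset_inj (mimg_lt hv witM) hlt h2, Nat.xor_self]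
  · unfold epsC at h
    rw [sign0_mul] at h
    have h' := el.symm.trans (h.trans (sign0_mul_mono _ empty_code _))
    have h2 := (monoCo0_inj h').2
    change symmDiff ∅ (permOf codeH1 • mset witM) =
      symmDiff (symmDiff (mset octC) (mset witM)) ∅ at h2
    rw [← Finset.bot_eq_empty, bot_symmDiff, symmDiff_bot, smul_mset hv, ← mset_xor] at h2
    refine shift_check.2.2.2.2 ?_
    rw [mset_inj (mimg_lt hv witM) (Nat.xor_lt_two_pow (n := 24) (by decide) hlt) h2, Nat.xor_assoc,
      Nat.xor_self, Nat.xor_zero]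

theorem cent_Qc : Subgroup.centralizer (Qc : Set C1) ≤ Qc := by
  haveI := Qc_normal
  haveI := omega_simple
  have hn : ((Subgroup.centralizer (Qc : Set C1)).map barO).Normal :=
    (inferInstance : (Subgroup.centralizer (Qc : Set C1)).Normal).map _ barO_surjective
  rcases hn.eq_bot_or_eq_top with h | h
  · exact ((Subgroup.map_eq_bot_iff _).1 h).trans ker_barO.le
  · exfalso
    obtain ⟨n, hn, e⟩ : barO (psi (genC 2)) ∈ (Subgroup.centralizer (Qc : Set C1)).map barO := by
      rw [h]; exact Subgroup.mem_top _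
    have hq : n⁻¹ * psi (genC 2) ∈ Qc := by
      rw [← ker_barO, MonoidHom.mem_ker, map_mul, map_inv, e, inv_mul_cancel]
    obtain ⟨k, hk⟩ := hq
    let x : K0 := ⟨_, wit_mem⟩
    have hx : kHom (k * x * k⁻¹) ∈ Qc := ⟨_, rfl⟩
    have hc := Subgroup.mem_centralizer_iff.1 hn _ hx
    rw [map_mul, map_mul, map_inv, hk] at hc
    have hc2 : psi (genC 2) * kHom x * (psi (genC 2))⁻¹ = kHom (k * x * k⁻¹) := by
      rw [map_mul, map_mul, map_inv, hk]
      calc psi (genC 2) * kHom x * (psi (genC 2))⁻¹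
          = n * (n⁻¹ * psi (genC 2) * kHom x * (n⁻¹ * psi (genC 2))⁻¹) * n⁻¹ := by group
        _ = _ := by rw [← hc, mul_inv_cancel_right]
    have hc3 : pr ((genC 2 : Cm) * (x : Co0) * ((genC 2 : Cm) : Co0)⁻¹) =
        pr ((k : Co0) * (x : Co0) * (k : Co0)⁻¹) := by
      have e' := congrArg Subtype.val hc2
      rw [Subgroup.coe_mul, Subgroup.coe_mul, Subgroup.coe_inv] at e'
      rw [map_mul, map_mul, map_inv]
      exact e'
    have := K0_pr_inj (K0_conj wit_mem) (k * x * k⁻¹).2 hc3
    exact wit_moved _ k.2 (mul_inv_eq_iff_eq_mul.1 this)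

theorem pCore_C1 : Cfsg.pCore 2 C1 = Qc := by
  haveI := omega_simple
  haveI : Fact (Nat.Prime 2) := ⟨Nat.prime_two⟩
  rw [pCore_of_simple barO barO_surjective omega_center, ker_barO]
  rw [ker_barO]
  exact (IsPGroup.of_card (n := 9) card_K0).of_equiv qEquiv

theorem genFitting_C1 : Cfsg.generalizedFittingSubgroup C1 = Qc := by
  haveI : Fact (Nat.Prime 2) := ⟨Nat.prime_two⟩
  rw [← pCore_C1, CfsgLib.Comp.generalizedFitting_eq_pCore_iff 2 C1, pCore_C1]
  exact cent_Qc

theorem exists_conj : ∃ g : Spor.Co1,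
    (∃ hq : g * z1 * g⁻¹ ∈ C1, (⟨g * z1 * g⁻¹, hq⟩ : C1) ∈ Qc) ∧ g * z1 * g⁻¹ ≠ z1 := by
  classical
  have hw : mset witM ∈ octads :=
    mem_octads_iff.2 ⟨witM, mem_octList.2 ⟨by decide +kernel, by decide +kernel⟩, rfl⟩
  obtain ⟨σ, hσ⟩ := M24_trans_octads octB_mem hw
  have hσ' : (σ : Equiv.Perm GolayPt) • mset octB = mset witM := hσ
  refine ⟨pr (monoCo0 σ σ.2 ∅ empty_code), ?_⟩
  have e0 : monoCo0 σ σ.2 ∅ empty_code * epsC =
      negCo0 * sign0 (mset witM) wit_code * monoCo0 σ σ.2 ∅ empty_code := by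
    have e1 : negCo0 * sign0 (mset witM) wit_code =
        sign0 (symmDiff Finset.univ (mset witM)) (symmDiff_mem_supports univ_code wit_code) :=
      sign0_mul _ _ univ_code wit_code
    rw [e1, epsC]
    refine (mono_mul_sign0 σ empty_code octC_mem).trans
      (Eq.trans ?_ (sign0_mul_mono σ empty_code _).symm)
    refine monoCo0_congr rfl ?_
    rw [← Finset.bot_eq_empty, bot_symmDiff, symmDiff_bot, ← hσ', octC_compl]
    ext p
    simp [Finset.mem_symmDiff, ← Finset.inv_smul_mem_iff]
  have e : pr (monoCo0 σ σ.2 ∅ empty_code) * z1 * (pr (monoCo0 σ σ.2 ∅ empty_code))⁻¹ =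
      pr (sign0 (mset witM) wit_code) := by
    rw [z1, ← map_mul, ← map_inv, ← map_mul, e0, mul_inv_cancel_right, pr_neg]
  rw [e]
  refine ⟨⟨pr_mem ⟨_, K0_le_Cm wit_mem⟩, ⟨⟨_, wit_mem⟩, rfl⟩⟩, fun h => ?_⟩
  have h2 := K0_pr_inj wit_mem epsC_mem_K0 h
  have h3 := (monoCo0_inj h2).2
  exact absurd (mset_inj (by decide) (by decide) h3) (by decide)

end CfsgLib.Golay.E8Cent
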