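import Cfsg.Agent.Lib.Golay.E8Kernel
import Cfsg.Agent.Lib.Geom.Symp
import Cfsg.Agent.Lib.Classical.SpSimple
import Cfsg.Agent.Lib.Trans3.SpTransvections
import Cfsg.Agent.Lib.Solvable.PCore
import Cfsg.Agent.Lib.Amalgam.PCore

/-! An involution centraliser `2^(1+8).Sp₆(2)` in the stabiliser of a minimal vector. -/

set_option autoImplicit false
set_option maxRecDepth 100000

namespace CfsgLib.Golay.E8Cent

open Cfsg CfsgLib.Golay CfsgLib.Classical CfsgLib.Geom
open scoped Pointwise Matrix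

/-- Being extraspecial passes along isomorphisms. -/
theorem extraspecial_congr {p : ℕ} {A B : Type*} [Group A] [Group B] (e : A ≃* B)
    (h : Cfsg.IsExtraspecial p A) : Cfsg.IsExtraspecial p B := by
  have hc : (Subgroup.center A).map e.toMonoidHom = Subgroup.center B := by
    ext b
    constructor
    · rintro ⟨a, ha, rfl⟩
      refine Subgroup.mem_center_iff.mpr fun y => ?_
      obtain ⟨y, rfl⟩ := e.surjective y
      simp only [MulEquiv.coe_toMonoidHom, ← map_mul, Subgroup.mem_center_iff.mp ha y]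
    · intro hb
      refine ⟨e.symm b, Subgroup.mem_center_iff.mpr fun y => e.injective ?_, by simp⟩
      simp [Subgroup.mem_center_iff.mp hb (e y)]
  have hf : (frattini A).map e.toMonoidHom = frattini B := by
    refine le_antisymm (Subgroup.map_le_iff_le_comap.mpr
      (frattini_le_comap_frattini_of_surjective (φ := e.toMonoidHom) e.surjective)) fun b hb => ?_
    exact ⟨e.symm b, frattini_le_comap_frattini_of_surjective (φ := e.symm.toMonoidHom)
      e.symm.surjective hb, by simp⟩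
  refine ⟨⟨h.1.1.of_equiv e, ?_, ?_⟩, ?_⟩
  · rw [← hf, h.1.2.1, hc]
  · rw [← hc, ← h.1.2.2, commutator_def, commutator_def, Subgroup.map_commutator,
      Subgroup.map_top_of_surjective e.toMonoidHom e.surjective]
  · rw [← hc, Subgroup.card_map_of_injective e.injective, h.2]

/-- The index type of six coordinates. -/
abbrev J6 : Type := Fin 3 ⊕ Fin 3

/-- Six coordinates. -/
abbrev V6 : Type := J6 → ZMod 2

/-- A symplectic basis modulo the fixed class. -/
def c6 (j : J6) : V8 :=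
  vm ([1, 2, 8, 16, 32, 132].getD (Sum.elim (fun i => i.val) (fun i => i.val + 3) j) 0)

/-- The coordinates modulo the fixed class. -/
def co (x : V8) : V6 := fun i => Bf x (c6 i.swap)

/-- The vector with given coordinates. -/
def lift6 (y : V6) : V8 := ∑ j, y j • c6 j

theorem six_facts : (∀ j, Bf (vm rootA) (c6 j) = 0) ∧
    co (vm rootA) = 0 ∧
    (∀ i j : J6, co (c6 j) i = if i = j then (1 : ZMod 2) else 0) ∧
    ∀ x < 256, Bf (vm rootA) (vm x) = 0 →
      vm x = lift6 (co (vm x)) ∨ vm x = lift6 (co (vm x)) + vm rootA := by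
  decide +kernel

theorem co_add (x y : V8) : co (x + y) = co x + co y := funext fun _ => Bf_add_left _ _ _

theorem co_zero : co 0 = 0 := funext fun _ => Bf_zero _

theorem co_smul (c : ZMod 2) (x : V8) : co (c • x) = c • co x := by
  rcases qP_cases c with rfl | rfl
  · rw [zero_smul, zero_smul, co_zero]
  · rw [one_smul, one_smul]

/-- The coordinates as a homomorphism. -/
def coHom : V8 →+ V6 := AddMonoidHom.mk' co co_add

theorem co_lift (y : V6) : co (lift6 y) = y := by
  show coHom (∑ j, y j • c6 j) = y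
  rw [map_sum]
  funext i
  rw [Finset.sum_apply]
  show ∑ j, co (y j • c6 j) i = y i
  simp only [co_smul, Pi.smul_apply, six_facts.2.2.1, smul_eq_mul, mul_ite, mul_one, mul_zero,
    Finset.sum_ite_eq, Finset.mem_univ, if_true]

theorem Bf_lift (y : V6) : Bf (vm rootA) (lift6 y) = 0 := by
  let f : V8 →+ ZMod 2 := AddMonoidHom.mk' (fun x => Bf (vm rootA) x) fun a b => Bf_add_right _ a b
  show f (∑ j, y j • c6 j) = 0
  rw [map_sum]
  refine Finset.sum_eq_zero fun j _ => ?_
  show Bf (vm rootA) (y j • c6 j) = 0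
  rcases qP_cases (y j) with e | e <;> rw [e]
  · rw [zero_smul, Bf_comm, Bf_zero]
  · rw [one_smul]; exact six_facts.1 j

theorem perp_expand {x : V8} (h : Bf (vm rootA) x = 0) :
    x = lift6 (co x) ∨ x = lift6 (co x) + vm rootA := by
  obtain ⟨m, hm, rfl⟩ := vm_surj x
  exact six_facts.2.2.2 m hm h

theorem Bf_smul_left (c : ZMod 2) (a b : V8) : Bf (c • a) b = c * Bf a b := by
  rcases qP_cases c with rfl | rfl
  · rw [zero_smul, Bf_zero, zero_mul]
  · rw [one_smul, one_mul]

theorem symp_eq_Bf (u v : V6) : sympBilin 3 (ZMod 2) u v = Bf (lift6 u) (lift6 v) := by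
  let f : V8 →+ ZMod 2 := AddMonoidHom.mk' (fun x => Bf x (lift6 v)) fun a b => Bf_add_left a b _
  have e : Bf (lift6 u) (lift6 v) = ∑ j, u j * co (lift6 v) j.swap := by
    show f (∑ j, u j • c6 j) = _
    rw [map_sum]
    refine Finset.sum_congr rfl fun j _ => ?_
    show Bf (u j • c6 j) (lift6 v) = _
    rw [Bf_smul_left, Bf_comm]
    simp [co, Sum.swap_swap]
  rw [e, co_lift, sympBilin_apply, sympForm_eq_sum, Fintype.sum_sum_type, Finset.sum_sub_distrib,
    CharTwo.sub_eq_add, add_comm]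
  rfl

theorem symp_co {x y : V8} (hx : Bf (vm rootA) x = 0) (hy : Bf (vm rootA) y = 0) :
    sympBilin 3 (ZMod 2) (co x) (co y) = Bf x y := by
  rw [symp_eq_Bf]
  have h1 : Bf (lift6 (co x)) (vm rootA) = 0 := by rw [Bf_comm]; exact Bf_lift _
  have h2 : Bf (vm rootA) (lift6 (co y)) = 0 := Bf_lift _
  rcases perp_expand hx with ex | ex <;> rcases perp_expand hy with ey | ey <;>
    conv_rhs => rw [ex, ey]
  · rw [Bf_add_right, h1, add_zero]
  · rw [Bf_add_left, h2, add_zero]
  · rw [Bf_add_left, Bf_add_right, Bf_add_right, h1, h2, Bf_self]; simp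

/-- The stabiliser of the root in the centraliser. -/
noncomputable def H2 : Subgroup Cm :=
  (MulAction.stabilizer Co0 Spor.leechU).comap Cm.subtype

theorem mem_H2 {g : Cm} : g ∈ H2 ↔ (g : Co0) • Spor.leechU = Spor.leechU := Iff.rfl

theorem red_leechU : red (Spor.leechU : GolayPt → ℤ) = vm rootA :=
  root_facts.2.2.2.2.2.2.2.2.2.2.2.2.1

theorem app_rootA {g : Cm} (hg : g ∈ H2) : app (rho g) (vm rootA) = vm rootA := by
  rw [← red_leechU]
  have e := rho_app g ⟨Spor.leechU, leechU_mem⟩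
  rw [redL_apply, redL_apply, actL_coe] at e
  rw [e, mem_H2.1 hg]

/-- The matrix in six dimensions. -/
noncomputable def M6 (g : Cm) : Matrix J6 J6 (ZMod 2) :=
  fun i j => co (app (rho g) (c6 j)) i

theorem app_zero (g : O8) : app g 0 = 0 := Matrix.mulVec_zero _

theorem app_add (g : O8) (x y : V8) : app g (x + y) = app g x + app g y := Matrix.mulVec_add _ _ _

theorem M6_co {g : Cm} (hg : g ∈ H2) {x : V8} (hx : Bf (vm rootA) x = 0) :
    co (app (rho g) x) = M6 g *ᵥ co x := by
  have e : ∀ y : V6, co (app (rho g) (lift6 y)) = M6 g *ᵥ y := by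
    intro y
    let f : V8 →+ V6 := AddMonoidHom.mk' (fun v => co (app (rho g) v)) fun a b => by
      rw [app_add, co_add]
    show f (∑ j, y j • c6 j) = _
    rw [map_sum]
    funext i
    rw [Finset.sum_apply]
    show ∑ j, co (app (rho g) (y j • c6 j)) i = _
    simp only [app_smul, co_smul, Pi.smul_apply, smul_eq_mul, Matrix.mulVec, dotProduct, M6]
    exact Finset.sum_congr rfl fun j _ => mul_comm _ _
  rcases perp_expand hx with h | h
  · conv_lhs => rw [h]
    exact e _
  · conv_lhs => rw [h, app_add, co_add, app_rootA hg, six_facts.2.1, add_zero]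
    exact e _

theorem perp_app {g : Cm} (hg : g ∈ H2) {x : V8} (hx : Bf (vm rootA) x = 0) :
    Bf (vm rootA) (app (rho g) x) = 0 := by
  rw [← app_rootA hg, app_Bf]; exact hx

theorem M6_symp {g : Cm} (hg : g ∈ H2) : M6 g ∈ Matrix.symplecticGroup (Fin 3) (ZMod 2) := by
  rw [mem_symplecticGroup_iff_form]
  intro u v
  rw [← sympBilin_apply, ← sympBilin_apply]
  conv_lhs => rw [← co_lift u, ← co_lift v, ← M6_co hg (Bf_lift u), ← M6_co hg (Bf_lift v)]
  rw [symp_co (perp_app hg (Bf_lift u)) (perp_app hg (Bf_lift v)), app_Bf, symp_eq_Bf]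

/-- The symplectic action. -/
noncomputable def rho2 : H2 →* Matrix.symplecticGroup (Fin 3) (ZMod 2) where
  toFun g := ⟨M6 g.1, M6_symp g.2⟩
  map_one' := by
    refine Subtype.ext (Matrix.ext_iff_mulVec.2 fun y => ?_)
    show M6 (1 : Cm) *ᵥ y = (1 : Matrix J6 J6 (ZMod 2)) *ᵥ y
    rw [Matrix.one_mulVec]
    conv_lhs => rw [← co_lift y, ← M6_co (one_mem H2) (Bf_lift y)]
    rw [map_one, app_one, co_lift]
  map_mul' g h := by
    refine Subtype.ext (Matrix.ext_iff_mulVec.2 fun y => ?_)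
    show M6 (g * h : H2).1 *ᵥ y = (M6 g.1 * M6 h.1) *ᵥ y
    rw [← Matrix.mulVec_mulVec]
    conv_lhs => rw [← co_lift y, ← M6_co (g * h : H2).2 (Bf_lift y)]
    conv_rhs => rw [← co_lift y, ← M6_co h.2 (Bf_lift y), ← M6_co g.2 (perp_app h.2 (Bf_lift y))]
    rw [Subgroup.coe_mul, map_mul, app_mul]

theorem rho2_mem_K0 {g : H2} (h : rho2 g = 1) : ((g : Cm) : Co0) ∈ K0 := by
  refine mem_K0_of_fix (mem_H2.1 g.2) fun x hx => ?_
  have hM : M6 g.1 = 1 := congrArg Subtype.val h
  have e1 := M6_co g.2 hx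
  rw [hM, Matrix.one_mulVec] at e1
  have hq : qP (app (rho g.1) x) = qP x := app_q _ _
  have ha : qP (vm rootA) = 1 := by rw [qP_qM]; exact root_bounds.2.2.1
  rcases perp_expand (perp_app g.2 hx) with ey | ey <;> rcases perp_expand hx with ex | ex <;>
    rw [e1] at ey
  · rw [ey]; exact ex.symm
  · exfalso
    rw [ey, ex, co_add, co_lift, six_facts.2.1, add_zero, qP_sum, ha, Bf_comm, Bf_lift, add_zero]
      at hq
    revert hq
    generalize qP (lift6 (co x)) = a
    revert a; decide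
  · exfalso
    rw [ey, qP_sum, ha, Bf_comm, Bf_lift, add_zero] at hq
    conv_rhs at hq => rw [ex]
    revert hq
    generalize qP (lift6 (co x)) = a
    revert a; decide
  · rw [ey]; exact ex.symm

theorem mem_H2_of_K0 {g : Cm} (h : (g : Co0) ∈ K0) : g ∈ H2 := h _ leechU_mem

theorem rho2_of_K0 {g : H2} (h : ((g : Cm) : Co0) ∈ K0) : rho2 g = 1 := by
  refine Subtype.ext (Matrix.ext_iff_mulVec.2 fun y => ?_)
  show M6 g.1 *ᵥ y = (1 : Matrix J6 J6 (ZMod 2)) *ᵥ y
  rw [Matrix.one_mulVec]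
  conv_lhs => rw [← co_lift y, ← M6_co g.2 (Bf_lift y)]
  rw [rho_eq_one_of_mem h, app_one, co_lift]

theorem negC_H2 {g : Cm} (h : (g : Co0) • Spor.leechU = -Spor.leechU) : negC * g ∈ H2 := by
  show (negCo0 * (g : Co0)) • Spor.leechU = _
  rw [mul_smul, h, negCo0_smul, neg_neg]

theorem rho2_tr (w : V6) : Trans3.SpTrans.tr w ∈ rho2.range := by
  have ha : qP (vm rootA) = 1 := by rw [qP_qM]; exact root_bounds.2.2.1
  obtain ⟨a, haw, hperp, hq⟩ : ∃ a, co a = w ∧ Bf (vm rootA) a = 0 ∧ qP a = 1 := by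
    rcases qP_cases (qP (lift6 w)) with e | e
    · refine ⟨lift6 w + vm rootA, ?_, ?_, ?_⟩
      · rw [co_add, co_lift, six_facts.2.1, add_zero]
      · rw [Bf_add_right, Bf_lift, Bf_self, add_zero]
      · rw [qP_sum, e, ha, Bf_comm, Bf_lift]; rfl
    · exact ⟨lift6 w, co_lift w, Bf_lift w, e⟩
  obtain ⟨g₀, hg₀⟩ := pair_mem hq ha
  have happ : ∀ x, Bf (vm rootA) x = 0 → app (rho g₀) x = x + Bf a x • a := fun x hx => by
    rw [hg₀, app_mul, Sref_app ha, hx, zero_smul, add_zero, Sref_app hq]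
  have hroot : app (rho g₀) (vm rootA) = vm rootA := by
    rw [happ _ (Bf_self _), Bf_comm, hperp, zero_smul, add_zero]
  obtain ⟨g, hg, he⟩ : ∃ g : Cm, g ∈ H2 ∧ rho g = rho g₀ := by
    rcases sign_root g₀ hroot with e | e
    · exact ⟨g₀, e, rfl⟩
    · exact ⟨negC * g₀, negC_H2 e, rho_neg g₀⟩
  refine ⟨⟨g, hg⟩, Subtype.ext (Matrix.ext_iff_mulVec.2 fun y => ?_)⟩
  show M6 g *ᵥ y = _
  rw [Trans3.SpTrans.tr_mulVec]
  conv_lhs => rw [← co_lift y, ← M6_co hg (Bf_lift y), he, happ _ (Bf_lift y), co_add, co_smul,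
    haw, co_lift]
  have e : Bf a (lift6 y) = sympBilin 3 (ZMod 2) y w := by
    rw [Trans3.SpTrans.bilin_symm, ← haw, ← symp_co hperp (Bf_lift y), co_lift]
  rw [e]

theorem rho2_surjective : Function.Surjective rho2 := by
  rw [← MonoidHom.range_eq_top, eq_top_iff, ← closure_sympTransvection (F := ZMod 2) 3,
    Subgroup.closure_le]
  rintro A ⟨w, c, e⟩
  rcases qP_cases c with rfl | rfl
  · have hA : A = 1 := Subtype.ext (by rw [e, Cfsg.sympTransvection, zero_smul, add_zero]; rfl)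
    subst hA
    exact one_mem _
  · have hA : A = Trans3.SpTrans.tr w := Subtype.ext e
    subst hA
    exact rho2_tr w

theorem sp_center : Subgroup.center (Matrix.symplecticGroup (Fin 3) (ZMod 2)) = ⊥ := by
  rw [eq_bot_iff]
  intro g hg
  refine Subgroup.mem_bot.2 (Trans3.SpTrans.sp_ext fun v => ?_)
  show _ = (1 : Matrix J6 J6 (ZMod 2)) *ᵥ v
  rw [Matrix.one_mulVec]
  by_cases hv : v = 0
  · subst hv; exact Matrix.mulVec_zero _
  have h := Trans3.SpTrans.conj_tr g v
  rw [← Subgroup.mem_center_iff.1 hg (Trans3.SpTrans.tr v), mul_inv_cancel_right] at h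
  set w := (g : Matrix J6 J6 (ZMod 2)) *ᵥ v with hw
  obtain ⟨x, hx⟩ := Trans3.SpTrans.exists_pair hv
  have h2 := congrArg (fun A : Matrix.symplecticGroup (Fin 3) (ZMod 2) =>
    (A : Matrix J6 J6 (ZMod 2)) *ᵥ x) h
  simp only [Trans3.SpTrans.tr_mulVec] at h2
  rw [Trans3.SpTrans.bilin_symm v x, hx, one_smul] at h2
  have h3 := add_left_cancel h2
  rcases qP_cases (sympBilin 3 (ZMod 2) x w) with e | e <;> rw [e] at h3
  · rw [zero_smul] at h3; exact absurd h3 hv
  · rw [one_smul] at h3; exact h3.symm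

theorem isSimple_sp : IsSimpleGroup (Matrix.symplecticGroup (Fin 3) (ZMod 2)) := by
  have hs := isSimpleGroup_psp (F := ZMod 2) 3 (by norm_num) (by omega)
  exact ((QuotientGroup.quotientMulEquivOfEq sp_center).trans
    QuotientGroup.quotientBot).symm.isSimpleGroup

theorem sp_pCore : Cfsg.pCore 2 (Matrix.symplecticGroup (Fin 3) (ZMod 2)) = ⊥ := by
  haveI := isSimple_sp
  haveI : Fact (Nat.Prime 2) := ⟨Nat.prime_two⟩
  rcases (CfsgLib.Solvable.pCore_normal 2
    (Matrix.symplecticGroup (Fin 3) (ZMod 2))).eq_bot_or_eq_top with h | h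
  · exact h
  · exfalso
    have hp := CfsgLib.Solvable.pCore_isPGroup (G := Matrix.symplecticGroup (Fin 3) (ZMod 2)) 2
    rw [h] at hp
    have hp' : IsPGroup 2 (Matrix.symplecticGroup (Fin 3) (ZMod 2)) :=
      hp.of_surjective (Subgroup.topEquiv (G := Matrix.symplecticGroup (Fin 3) (ZMod 2))).toMonoidHom
        (MulEquiv.surjective _)
    haveI := hp'.center_nontrivial
    exact absurd sp_center ((Subgroup.nontrivial_iff_ne_bot _).1 inferInstance)

/-- The kernel as a subgroup. -/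
noncomputable def ker2Equiv : rho2.ker ≃* K0 where
  toFun g := ⟨((g : H2) : Cm), rho2_mem_K0 (MonoidHom.mem_ker.1 g.2)⟩
  invFun k := ⟨⟨⟨k, K0_le_Cm k.2⟩, mem_H2_of_K0 k.2⟩, MonoidHom.mem_ker.2 (rho2_of_K0 k.2)⟩
  left_inv g := rfl
  right_inv k := rfl
  map_mul' g h := rfl

theorem pCore_H2 : Cfsg.pCore 2 H2 = rho2.ker := by
  haveI : Fact (Nat.Prime 2) := ⟨Nat.prime_two⟩
  have hp : IsPGroup 2 rho2.ker := (IsPGroup.of_card (n := 9) card_K0).of_equiv ker2Equiv.symm
  refine le_antisymm ?_ (CfsgLib.Amalgam.le_pCore (MonoidHom.normal_ker _) hp)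
  have h1 : ((Cfsg.pCore 2 H2).map rho2).Normal :=
    (CfsgLib.Solvable.pCore_normal 2 H2).map _ rho2_surjective
  have h2 := CfsgLib.Amalgam.le_pCore h1
    ((CfsgLib.Solvable.pCore_isPGroup (G := H2) 2).map rho2)
  rw [sp_pCore, le_bot_iff, Subgroup.map_eq_bot_iff] at h2
  exact h2

instance co2_finite : Finite Spor.Co2 :=
  Finite.of_injective (fun g : Spor.Co2 => (⟨g.1, g.2.1⟩ : Co0)) fun a b h =>
    Subtype.ext (congrArg (fun x : Co0 => (x : Equiv.Perm leechLattice)) h)

/-- The involution. -/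
noncomputable def t2 : Spor.Co2 :=
  ⟨(epsC : Co0), epsC.2, MulAction.mem_stabilizer_iff.2 (epsC_fix.2 leechU_mem)⟩

theorem t2_order : orderOf t2 = 2 := by
  refine orderOf_eq_prime ?_ ?_
  · refine Subtype.ext ?_
    rw [SubgroupClass.coe_pow, pow_two]
    exact congrArg Subtype.val (sign0_sq (mset octC) octC_mem)
  · intro h
    have e := congrArg Subtype.val h
    exact epsC_ne_one (Subtype.ext e)

/-- The centraliser as a subgroup of the centraliser in `Co0`. -/
noncomputable def cent2Equiv : Subgroup.centralizer ({t2} : Set Spor.Co2) ≃* H2 where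
  toFun g := ⟨⟨⟨(g : Spor.Co2).1, (g : Spor.Co2).2.1⟩, mem_Cm.2 (by
      have e := congrArg Subtype.val (Subgroup.mem_centralizer_singleton_iff.1 g.2)
      exact Subtype.ext e)⟩, (g : Spor.Co2).2.2⟩
  invFun h := ⟨⟨((h : Cm) : Co0).1, ((h : Cm) : Co0).2, h.2⟩,
    Subgroup.mem_centralizer_singleton_iff.2 (by
      have e := congrArg (fun x : Co0 => (x : Equiv.Perm leechLattice)) (mem_Cm.1 (h : Cm).2)
      exact Subtype.ext e)⟩
  left_inv g := rfl
  right_inv h := rfl
  map_mul' g h := rfl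

end CfsgLib.Golay.E8Cent
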