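import Cfsg.Agent.Lib.Golay.Co0Stab
import Cfsg.Prelude.Def_Classical

/-! Kernel checks for the `E8` lattice on an octad inside the rank 24 lattice. -/

set_option autoImplicit false
set_option maxRecDepth 100000

namespace CfsgLib.Golay.E8Cent

open Cfsg CfsgLib.Golay

/-- The index type of the eight coordinates. -/
abbrev J : Type := Fin 4 ⊕ Fin 4

/-- Classes modulo two. -/
abbrev V8 : Type := J → ZMod 2

/-- The mask of the octad. -/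
def octB : ℕ :=
  8391797

/-- The tetrad of each point, four entries for each. -/
def nbT : List ℕ :=
  [0, 2, 4, 23, 1, 13, 16, 22, 0, 2, 4, 23, 3, 8, 9, 21, 0, 2, 4, 23, 5, 6, 10, 11, 5, 6, 10, 11, 7,
  17, 18, 20, 3, 8, 9, 21, 3, 8, 9, 21, 5, 6, 10, 11, 5, 6, 10, 11, 12, 14, 15, 19, 1, 13, 16, 22,
  12, 14, 15, 19, 12, 14, 15, 19, 1, 13, 16, 22, 7, 17, 18, 20, 7, 17, 18, 20, 12, 14, 15, 19, 7,
  17, 18, 20, 3, 8, 9, 21, 1, 13, 16, 22, 0, 2, 4, 23]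

/-- The tetrad with negative sign. -/
def negT : ℕ :=
  8388629

/-- The points of the octad in order. -/
def octPtsB : List ℕ :=
  [23, 0, 2, 4, 5, 6, 10, 11]

/-- Representatives of the unit vectors. -/
def bvL : List (List ℤ) :=
  [[2, 0, 2, 0, 2, 2, 2, 0, 0, 0, -2, 2, 0, 0, 0, 0, 0, 0, 0, 0, 0, 0, 0, 6], [4, 0, 4, 0, 0, 0, 0,
  0, 0, 0, -12, 0, 0, 0, 0, 0, 0, 0, 0, 0, 0, 0, 0, 4], [6, 0, 6, 0, 6, 6, 2, 0, 0, 0, -18, 2, 0,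
  0, 0, 0, 0, 0, 0, 0, 0, 0, 0, 6], [4, 0, 0, 0, 0, 4, 4, 0, 0, 0, -8, 0, 0, 0, 0, 0, 0, 0, 0, 0,
  0, 0, 0, 4], [6, 0, 2, 0, 2, 2, 2, 0, 0, 0, -2, 2, 0, 0, 0, 0, 0, 0, 0, 0, 0, 0, 0, 2], [4, 0,
  0, 0, 4, 0, 0, 0, 0, 0, -12, 0, 0, 0, 0, 0, 0, 0, 0, 0, 0, 0, 0, 4], [6, 0, 6, 0, 6, 2, 6, 0, 0,
  0, -18, 2, 0, 0, 0, 0, 0, 0, 0, 0, 0, 0, 0, 6], [6, 0, 2, 0, 2, 6, 6, 0, 0, 0, -6, 2, 0, 0, 0,
  0, 0, 0, 0, 0, 0, 0, 0, 6]]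

/-- A basis of the vectors supported on the octad. -/
def evL : List (List ℤ) :=
  [[2, 0, 2, 0, 2, 2, 2, 0, 0, 0, 2, 2, 0, 0, 0, 0, 0, 0, 0, 0, 0, 0, 0, 2], [0, 0, 0, 0, 0, 0, 0,
  0, 0, 0, -4, 0, 0, 0, 0, 0, 0, 0, 0, 0, 0, 0, 0, 4], [4, 0, 0, 0, 0, 0, 0, 0, 0, 0, -4, 0, 0, 0,
  0, 0, 0, 0, 0, 0, 0, 0, 0, 0], [0, 0, 4, 0, 0, 0, 0, 0, 0, 0, -4, 0, 0, 0, 0, 0, 0, 0, 0, 0, 0,
  0, 0, 0], [0, 0, 0, 0, 4, 0, 0, 0, 0, 0, -4, 0, 0, 0, 0, 0, 0, 0, 0, 0, 0, 0, 0, 0], [0, 0, 0,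
  0, 0, 4, 0, 0, 0, 0, -4, 0, 0, 0, 0, 0, 0, 0, 0, 0, 0, 0, 0, 0], [0, 0, 0, 0, 0, 0, 4, 0, 0, 0,
  -4, 0, 0, 0, 0, 0, 0, 0, 0, 0, 0, 0, 0, 0], [0, 0, 0, 0, 0, 0, 0, 0, 0, 0, 8, 0, 0, 0, 0, 0, 0,
  0, 0, 0, 0, 0, 0, 0]]

/-- A permutation preserving the octad. -/
def codeH1 : ℕ :=
  472885069503682074329244441242147269

/-- A permutation preserving the octad. -/
def codeH2 : ℕ :=
  4190353391587751087457250786842059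

/-- A code word meeting the octad in two points. -/
def maskC : ℕ :=
  9347075

/-- The images of the unit vectors. -/
def colsG : List (List ℕ) :=
  [[231, 215, 55, 59, 246, 245, 115, 128], [16, 2, 72, 8, 1, 32, 12, 204], [206, 2, 153, 15, 6, 249,
  3, 135], [3, 67, 48, 59, 236, 7, 185, 179]]

/-- The class of the fixed vector. -/
def rootA : ℕ :=
  76

/-- An orthogonal class. -/
def rootB : ℕ :=
  17

/-- Words reaching all anisotropic classes. -/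
def orbW1 : List (ℕ × List ℕ) :=
  [(17, [2, 2, 1, 3, 2, 0]), (19, [0, 1, 0, 3, 2]), (21, [3, 0, 3, 3, 2]), (23, [2, 2, 0, 3]), (25,
  [3, 0]), (27, [3, 3]), (29, [1, 3, 0, 3, 3, 3]), (31, [2, 1, 0, 3, 2]), (34, [3, 3, 2, 1, 3]),
  (35, [2, 0, 3, 3]), (38, [3, 0, 3, 0, 3]), (39, [2, 1, 3]), (42, [0, 3, 0]), (43, [1, 0, 1, 3]),
  (46, [3, 1, 2, 2, 0, 3]), (47, [2, 3, 3, 2]), (49, [3, 3, 1, 2, 2]), (50, [0, 3, 3, 0]), (53,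
  [2, 2, 0, 3, 3]), (54, [1, 3, 3, 3, 2]), (57, [3, 2, 3, 3]), (58, [0, 1, 3]), (61, [1, 0, 3, 3,
  3]), (62, [3, 2, 2, 0]), (68, [2, 1, 2, 2]), (69, [1, 0, 3]), (70, [3, 1, 3]), (71, [2, 3, 0, 3,
  2]), (76, []), (77, [2, 3, 0, 1, 3]), (78, [3, 3, 2, 2, 3]), (79, [1, 3, 0, 1, 3, 3, 0]), (81,
  [3, 0, 3, 3, 3]), (83, [0, 3, 3, 2]), (84, [0, 3]), (86, [0, 3, 0, 3]), (89, [1, 3, 0, 3, 3,
  2]), (91, [1, 2, 2, 0, 3]), (92, [0, 1, 3, 3, 0]), (94, [3, 0, 1, 3, 3, 0]), (98, [3, 1, 3, 0,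
  3]), (99, [3, 1, 2, 2, 0]), (100, [3, 2, 3, 1, 3]), (101, [3, 0, 3]), (106, [3, 3, 1, 0, 3, 2]),
  (107, [3, 3, 3, 2]), (108, [3, 2]), (109, [1, 3, 1, 0, 1, 3]), (113, [0, 3, 3, 3]), (114, [1, 2,
  3, 3, 2]), (116, [1, 3, 0, 3]), (119, [3, 2, 1, 3]), (121, [3, 1, 0, 3, 2]), (122, [2, 3]),
  (124, [3, 1, 0, 1, 3]), (127, [0]), (136, [0, 3, 1, 2, 0, 3]), (137, [1, 3, 3, 0]), (138, [0, 3,
  2]), (139, [1, 2, 2]), (140, [2, 1, 3, 2, 0]), (141, [1, 2, 0, 3]), (142, [2, 2, 3, 1, 3]),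
  (143, [3, 3, 0, 3, 3, 0]), (145, [1, 3, 0, 3, 2, 2, 0]), (147, [3, 0, 1, 3]), (149, [2]), (151,
  [3, 3, 3]), (152, [2, 3, 1, 3]), (154, [1, 3, 2, 0]), (156, [2, 0, 3]), (158, [2, 0, 3, 0, 3]),
  (162, [3, 2, 0, 1, 3]), (163, [0, 1, 0, 3]), (166, [2, 0]), (167, [3, 2, 1, 0, 3, 2]), (168, [3,
  0, 3, 3, 0]), (169, [1, 0, 3, 2, 0]), (172, [2, 2, 1, 3]), (173, [2, 3, 0, 3]), (177, [1, 0, 3,
  3]), (178, [3]), (181, [3, 3, 2]), (182, [2, 1, 0, 3, 3]), (184, [1, 2, 2, 0]), (187, [3, 1, 2,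
  0, 3]), (188, [1, 2, 3, 0, 3]), (191, [3, 2, 2, 1, 3]), (196, [3, 3, 2, 1, 0, 3, 2]), (197, [2,
  3, 3]), (198, [1, 0, 3, 2]), (199, [3, 2, 0]), (200, [3, 1, 2, 2]), (201, [2, 0, 3, 3, 2]),
  (202, [3, 3, 1, 3]), (203, [3, 0, 3, 2]), (209, [2, 3, 2, 0]), (211, [2, 2, 3, 3]), (212, [3, 3,
  0]), (214, [2, 2]), (216, [0, 3, 2, 2, 0]), (218, [1, 3, 0, 3, 2]), (221, [3, 0, 3, 2, 2, 0]),
  (223, [2, 1, 2, 0, 3]), (226, [3, 2, 2, 3]), (227, [1, 2, 0, 1, 3]), (228, [1, 3, 0, 3, 3, 0]),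
  (229, [2, 2, 0]), (232, [2, 2, 2, 1, 3]), (233, [3, 0, 3, 3]), (238, [2, 1, 2, 3, 0, 3]), (239,
  [1, 3]), (241, [2, 2, 3]), (242, [2, 0, 1, 3]), (244, [0, 3, 2, 0]), (247, [1, 3, 1, 2, 0, 3]),
  (248, [0, 3, 0, 3, 2]), (251, [2, 3, 3, 2, 1, 3]), (253, [0, 3, 3]), (254, [1, 0, 1, 0, 3])]

/-- Words reaching all orthogonal classes. -/
def orbW2 : List (ℕ × List ℕ) :=
  [(17, []), (19, [2, 3, 2, 3, 3, 3, 2, 0]), (25, [3, 2, 2, 2, 3, 2, 1, 3, 0]), (27, [3, 2, 2, 1, 2,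
  3, 3, 2, 0]), (34, [0, 3, 3, 2, 3]), (35, [1, 0, 1, 3, 2, 2, 2, 0]), (42, [0, 3, 3, 3, 2, 1, 3,
  0]), (43, [2, 2, 0, 3, 3, 3, 2, 2, 0]), (49, [2, 2, 3, 2, 0]), (50, [0, 1, 3, 2, 2, 2, 0]), (57,
  [0, 1, 3, 0, 3, 0]), (58, [3, 0, 3, 2, 3, 0, 3, 2]), (68, [0, 3, 3, 3, 2, 3, 0]), (69, [1, 2, 1,
  3, 2, 0, 1, 3, 0]), (70, [0, 3, 0, 3, 0]), (71, [1, 0, 3, 0, 1, 3, 0]), (77, [1, 0, 3, 2, 2, 2,
  0]), (78, [0, 1, 2, 2, 0, 3, 2, 0]), (79, [0, 3, 2, 3, 3, 2, 0, 3, 0]), (84, [2, 1, 3, 2, 0, 1,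
  3, 0]), (86, [0, 3, 0, 1, 3, 0]), (92, [0, 3, 2, 2, 2, 0]), (94, [0, 3, 2, 0, 3, 3, 3, 0]),
  (100, [2, 3, 3, 3, 3, 2, 2, 0]), (101, [2, 1, 3, 2, 1, 0, 1, 3, 0]), (108, [0, 3, 1, 0, 1, 3,
  0]), (109, [1, 0, 3, 1, 0, 3, 0]), (116, [1, 2, 1, 3, 2, 1, 0, 1, 3, 0]), (119, [2, 2, 2, 0, 3,
  3, 2, 3, 0]), (124, [0, 3, 1, 0, 3, 0]), (127, [0, 3, 1, 2, 3, 2, 3, 2, 0]), (140, [2, 3, 2, 3,
  3, 2, 3, 0]), (141, [1, 2, 3, 2, 0, 1, 3, 0]), (142, [2, 2, 2, 2, 3, 3, 3, 0]), (143, [2, 2, 3,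
  2, 1, 3, 0, 3, 0]), (149, [2, 3, 2, 0, 1, 3, 3, 0, 3, 0]), (151, [2, 0, 1, 2, 0, 3, 2, 0]),
  (156, [2, 3, 2, 0, 1, 3, 0]), (158, [0, 3, 2, 2, 2, 1, 3, 0, 3, 0]), (166, [3, 3, 3, 2, 3, 1, 3,
  0]), (167, [2, 3, 0, 3, 2, 0]), (172, [2, 3, 2, 2, 2, 2, 0]), (173, [2, 3, 2, 1, 0, 1, 3, 0]),
  (181, [2, 2, 2, 1, 3, 0]), (182, [1, 2, 3, 0, 3, 2, 0]), (188, [1, 2, 3, 2, 1, 0, 1, 3, 0]),
  (191, [2, 3, 2, 2, 3, 2, 3, 2, 0]), (200, [2, 0, 3, 2, 3, 3, 2, 0]), (201, [0, 1, 2, 0, 3, 0, 3,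
  2, 0]), (202, [0, 1, 2, 2, 2, 0, 1, 3, 0]), (203, [2, 1, 2, 2, 3, 3, 1, 0, 3, 0]), (209, [2, 3,
  2, 3, 3, 2, 1, 3, 0]), (211, [0, 1, 2, 2, 2, 1, 0, 3, 0]), (216, [2, 1, 3, 2, 1, 0, 3, 0]),
  (218, [2, 0, 1, 0, 3, 2, 0, 3, 0]), (226, [3, 2, 0, 1, 3, 3, 0, 1, 3]), (227, [2, 2, 3, 2, 3, 0,
  3, 0]), (232, [2, 2, 2, 3, 0]), (233, [2, 1, 3, 2, 0, 3, 0]), (241, [2, 1, 3, 2, 2, 2, 2, 0]),
  (242, [1, 2, 2, 3, 2, 3, 0, 3, 0]), (248, [1, 2, 1, 3, 2, 0, 3, 0]), (251, [3, 3, 3, 2, 3, 3,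
  0])]

/-- A coordinate list as a function. -/
def ofL (L : List ℤ) : GolayPt → ℤ := fun i => L.getD (idx i) 0

/-- The bit of a coordinate. -/
def bidx : J → ℕ := Sum.elim (fun i => i.val) (fun i => i.val + 4)

/-- The class of a mask. -/
def vm (m : ℕ) : V8 := fun j => if m.testBit (bidx j) then 1 else 0

/-- The basis vectors. -/
def Ev (k : Fin 8) : GolayPt → ℤ := ofL (evL.getD k.val [])

/-- The representatives. -/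
def Bv (j : J) : GolayPt → ℤ := ofL (bvL.getD (bidx j) [])

/-- The reduction modulo two. -/
def red (x : GolayPt → ℤ) : V8 := fun j => ((dotInt x (Bv j.swap) / 16 : ℤ) : ZMod 2)

/-- The quadratic value modulo two. -/
def qL (x : GolayPt → ℤ) : ZMod 2 := ((sqNorm x / 32 : ℤ) : ZMod 2)

/-- The polar form. -/
def Bf (a b : V8) : ZMod 2 :=
  ∑ i : Fin 4, (a (.inl i) * b (.inr i) + a (.inr i) * b (.inl i))

/-- The tetrad of a point, by position. -/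
def nb (i : GolayPt) (r : Fin 4) : GolayPt := pt (nbT.getD (idx i * 4 + r.val) 0)

/-- The sign of a tetrad. -/
def sgn (i : GolayPt) : ℤ := if i ∈ mset negT then -1 else 1

/-- Twice the non-monomial automorphism. -/
def xiT : (GolayPt → ℤ) →+ (GolayPt → ℤ) where
  toFun x i := sgn i * ((∑ r, x (nb i r)) - 2 * x i)
  map_zero' := funext fun i => by simp
  map_add' x y := funext fun i => by
    simp only [Pi.add_apply, Finset.sum_add_distrib]; ring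

/-- The complement mask. -/
def octC : ℕ := 16777215 ^^^ octB

/-- The product of the images of the chosen unit vectors. -/
def mapM (k x : ℕ) : ℕ :=
  (List.range 8).foldr (fun j s => if x.testBit j then (colsG.getD k []).getD j 0 ^^^ s else s) 0

/-- A word applied to a mask. -/
def mapW (w : List ℕ) (x : ℕ) : ℕ := w.foldr mapM x

/-- The value of the form on a mask. -/
def qM (x : ℕ) : ZMod 2 := Cfsg.quadFormPlus 4 (ZMod 2) (vm x)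

/-! ### Checks -/

theorem octB_mem : mset octB ∈ octads :=
  mem_octads_iff.2 ⟨octB, mem_octList.2 ⟨by decide +kernel, by decide +kernel⟩, rfl⟩

theorem octC_code : isCode octC = true := by decide +kernel

theorem octC_compl : mset octC = (mset octB)ᶜ := by decide +kernel

theorem ev_supp : ∀ k, ∀ p, p ∉ mset octB → Ev k p = 0 := by decide +kernel

theorem bv_supp : ∀ j, ∀ p, p ∉ mset octB → Bv j p = 0 := by decide +kernel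

theorem dot_ev : ∀ k l, dotInt (Ev k) (Ev l) % 16 = 0 ∧ sqNorm (Ev k) % 32 = 0 ∧
    ((dotInt (Ev k) (Ev l) / 16 : ℤ) : ZMod 2) = Bf (red (Ev k)) (red (Ev l)) := by decide +kernel

theorem dot_ev_bv : ∀ k j, dotInt (Ev k) (Bv j) % 16 = 0 := by decide +kernel

theorem q_ev : ∀ k, qL (Ev k) = Cfsg.quadFormPlus 4 (ZMod 2) (red (Ev k)) := by decide +kernel

theorem red_bv : ∀ j, red (Bv j) = fun i => if i = j then 1 else 0 := by decide +kernel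

theorem red_ev_inj : ∀ m < 256,
    (∀ j, (∑ k : Fin 8, (if m.testBit k.val then red (Ev k) j else 0)) = 0) → m = 0 := by
  decide +kernel

theorem xiT_single : ∀ i j : GolayPt,
    xiT (xiT (Pi.single j 1)) i = 4 * (Pi.single j (1 : ℤ) : GolayPt → ℤ) i ∧
      xiT (Pi.single j 1) i = xiT (Pi.single i 1) j := by decide +kernel

theorem xiT_oct : ∀ p j : GolayPt, p ∉ mset octB → j ∈ mset octB → xiT (Pi.single j 1) p = 0 := by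
  decide +kernel

theorem vm_surj : ∀ w : V8, ∃ m < 256, vm m = w := by
  intro w
  let bit : J → ℕ := fun j => if w j = 1 then 2 ^ bidx j else 0
  refine ⟨(List.range 8).foldr (fun i s => if h : i < 4 then bit (.inl ⟨i, h⟩) ||| s
    else if h' : i - 4 < 4 then bit (.inr ⟨i - 4, h'⟩) ||| s else s) 0, ?_, ?_⟩
  all_goals revert bit; revert w; decide +kernel

theorem cert_one : (orbW1.all fun p => Nat.beq (mapW p.2 rootA) p.1 &&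
    p.2.all fun k => Nat.blt k 4) = true ∧
    ∀ a < 256, qM a = 1 → (orbW1.map Prod.fst).contains a = true := by decide +kernel

theorem cert_two : (orbW2.all fun p => Nat.beq (mapW p.2 rootA) rootA &&
    Nat.beq (mapW p.2 rootB) p.1 && p.2.all fun k => Nat.blt k 4) = true ∧
    ∀ a < 256, qM a = 1 → a ≠ rootA → Bf (vm rootA) (vm a) = 0 →
      (orbW2.map Prod.fst).contains a = true := by decide +kernel

theorem cert_mid : ∀ b < 256, qM b = 1 → Bf (vm rootA) (vm b) = 1 →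
    ((List.range 256).any fun c => decide (qM c = 1 ∧ Bf (vm rootA) (vm c) = 0 ∧
      Bf (vm b) (vm c) = 0 ∧ c ≠ rootA ∧ c ≠ b)) = true := by decide +kernel

end CfsgLib.Golay.E8Cent
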