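import Cfsg.Agent.Lib.Golay.E8Omega
import Cfsg.Agent.Lib.Coprime.SymplecticType

/-! The kernel of the action on the `E8` lattice is extraspecial of order `2 ^ 9`. -/

set_option autoImplicit false
set_option maxRecDepth 100000

namespace CfsgLib.Golay.E8Cent

open Cfsg CfsgLib.Golay CfsgLib.Classical
open scoped Pointwise Matrix commutatorElement

/-- The permutations fixing the octad pointwise. -/
def ptwL : List ℕ :=
  [984818244535754528103549039458486304, 967739223789245171407146504132003936,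
   978241746458226444833005867658250464, 983553042649537266979977019204733184,
   959823939071994704882402347086186784, 974394222122509349096603230276913536,
   976539006901119804582877792120867232, 971700361611140356443901154824849856,
   980747918883362939279568022996060640, 972388651884523380316328689283009024,
   965094429999691373696704173595626016, 981940260449521198767676458684353088,
   975141542956546445243913353447475808, 979236149903553240597937305795791488,
   965823287528192349793434105431984800, 957028651706772161000819827381930688]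

/-- The code words disjoint from the octad. -/
def cOutL : List ℕ :=
  [0, 307594, 762504, 987906, 1164162, 1405448, 1728778, 2019456, 2322816, 2605066, 2675464,
   2908802, 3322370, 3539848, 3739786, 4038912, 4346506, 4645632, 4845570, 5063048, 5476616,
   5709954, 5780352, 6062602, 6365962, 6656640, 6979970, 7221256, 7397512, 7622914, 8077824,
   8385418]

/-- A disjoint code word moved essentially by a permutation preserving the octad. -/
def witM : ℕ := 307594

theorem ptw_facts : (∀ g ∈ ptwL, inM24 g = true ∧ (∀ i ∈ octPtsB, img g i = i) ∧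
      ∀ i < 24, img g (img g i) = i) ∧
    (∀ g ∈ ptwL, ∀ h ∈ ptwL, ∀ i < 24, img g (img h i) = img h (img g i)) ∧
    ptwL.length = 16 ∧ (ptwL.map fun g => img g 1).Nodup := by decide +kernel

theorem cOut_facts : (∀ m ∈ cOutL, isCode m = true ∧ m &&& octB = 0 ∧ m < 16777216) ∧
    cOutL.Nodup ∧ cOutL.length = 32 ∧ 0 ∈ cOutL ∧ witM ∈ cOutL ∧ octC ∈ cOutL := by
  decide +kernel

theorem cOut_all : ∀ m ∈ codeList, Nat.beq (m &&& octB) 0 = true → cOutL.contains m = true := by
  decide +kernel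

theorem shift_check : (∀ g ∈ ptwL, ∀ m ∈ cOutL, mimg g m ^^^ m = 0 ∨ mimg g m ^^^ m = octC) ∧
    (∀ g ∈ ptwL, img g 1 = 1 ∨ ∃ m ∈ cOutL, mimg g m ≠ m) ∧
    (∀ m ∈ cOutL, m = 0 ∨ m = octC ∨ ∃ g ∈ ptwL, mimg g m ≠ m) ∧
    mimg codeH1 witM ^^^ witM ≠ 0 ∧ mimg codeH1 witM ^^^ witM ≠ octC := by
  decide +kernel

/-- The sign change element, of order two. -/
theorem sign0_empty : sign0 ∅ empty_code = 1 := by
  rw [← sign0_sq ∅ empty_code, sign0_mul]
  exact sign0_congr (symmDiff_self _).symm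

theorem epsC_mem_K0 : epsC ∈ K0 :=
  fun v hv => epsC_fix.2 hv

theorem opt_idx : ∀ r : Fin 8, idx (opt r) ∈ octPtsB := by decide +kernel

theorem ptw_mem {g : ℕ} (hg : g ∈ ptwL) : permOf g ∈ octPtw (mset octB) := by
  obtain ⟨h1, h2, -⟩ := ptw_facts.1 g hg
  refine octPtw_fix.2 ⟨inM24_mem h1, fun q hq => ?_⟩
  rw [opt_facts.2.1, Finset.mem_image] at hq
  obtain ⟨r, -, rfl⟩ := hq
  rw [permOf_apply (inM24_valid h1), h2 _ (opt_idx r), pt_idx]

theorem ptw_list {σ : Equiv.Perm GolayPt} (hσ : σ ∈ octPtw (mset octB)) :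
    ∃ g ∈ ptwL, σ = permOf g := by
  classical
  have hp : pt 1 ∉ mset octB := by decide +kernel
  obtain ⟨-, hfree⟩ := octPtw_point octB_mem hp
  let F : {g // g ∈ ptwL} → octPtw (mset octB) := fun g => ⟨permOf g.1, ptw_mem g.2⟩
  have hinj : Function.Injective F := by
    rintro ⟨a, ha⟩ ⟨b, hb⟩ h
    have e := congrArg (fun τ : octPtw (mset octB) => idx ((τ : Equiv.Perm GolayPt) (pt 1))) h
    simp only [F] at e
    rw [permOf_pt (inM24_valid (ptw_facts.1 a ha).1) (by norm_num),
      permOf_pt (inM24_valid (ptw_facts.1 b hb).1) (by norm_num),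
      idx_pt (valid_lt (inM24_valid (ptw_facts.1 a ha).1) (by norm_num)),
      idx_pt (valid_lt (inM24_valid (ptw_facts.1 b hb).1) (by norm_num))] at e
    exact Subtype.ext (List.inj_on_of_nodup_map ptw_facts.2.2.2 ha hb e)
  have hnd : ptwL.Nodup := ptw_facts.2.2.2.of_map _
  have hcard : Nat.card {g // g ∈ ptwL} = Nat.card (octPtw (mset octB)) := by
    rw [card_octPtw octB_mem, Nat.card_congr (Equiv.subtypeEquivRight fun g =>
      (List.mem_toFinset (l := ptwL) (a := g)).symm), Nat.card_eq_fintype_card, Fintype.card_coe,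
      List.toFinset_card_of_nodup hnd, ptw_facts.2.2.1]
  obtain ⟨g, hg⟩ := ((Nat.bijective_iff_injective_and_card F).2 ⟨hinj, hcard⟩).2 ⟨σ, hσ⟩
  exact ⟨g.1, g.2, (congrArg Subtype.val hg).symm⟩

theorem mono_eq_sign {σ : M24} {c d : Finset GolayPt}
    (hc : c ∈ supports (golayCode : Set (GolayPt → ZMod 2)))
    (hd : d ∈ supports (golayCode : Set (GolayPt → ZMod 2))) (h : σ = 1) (h' : c = d) :
    monoCo0 σ σ.2 c hc = sign0 d hd :=
  monoCo0_congr h h'

attribute [local irreducible] permOf mset monoCo0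

/-- An element of the kernel. -/
noncomputable def kel (g m : ℕ) (hg : g ∈ ptwL) (hm : m ∈ cOutL) : Co0 :=
  monoCo0 (⟨permOf g, inM24_mem (ptw_facts.1 g hg).1⟩ : M24) (inM24_mem (ptw_facts.1 g hg).1)
    (mset m) (mem_supports_iff.2 ⟨m, (cOut_facts.1 m hm).1, rfl⟩)

theorem kel_mem {g m : ℕ} (hg : g ∈ ptwL) (hm : m ∈ cOutL) : kel g m hg hm ∈ K0 := by
  refine mono_mem_K0 (σ := ⟨permOf g, inM24_mem (ptw_facts.1 g hg).1⟩) (ptw_mem hg) fun p hp hp' => ?_
  have h := Finset.mem_inter.2 ⟨hp, hp'⟩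
  rw [← mset_and, (cOut_facts.1 m hm).2.1, mset_zero] at h
  exact absurd h (Finset.notMem_empty p)

theorem kel_surj {x : Co0} (hx : x ∈ K0) : ∃ g m, ∃ hg : g ∈ ptwL, ∃ hm : m ∈ cOutL,
    x = kel g m hg hm := by
  obtain ⟨σ, c, hc, hσ, hd, rfl⟩ := K0_rep hx
  obtain ⟨g, hg, e⟩ := ptw_list hσ
  obtain ⟨m, hm, rfl⟩ := mem_supports_iff.1 hc
  have h0 : m &&& octB = 0 := by
    refine mset_inj (lt_of_le_of_lt Nat.and_le_left (isCode_lt hm)) (by norm_num) ?_
    rw [mset_and, mset_zero, ← Finset.disjoint_iff_inter_eq_empty, Finset.disjoint_left]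
    exact hd
  have hmem : m ∈ cOutL := List.contains_iff_mem.1
    (cOut_all m (mem_codeList.2 hm) (by rw [h0]; rfl))
  exact ⟨g, m, hg, hmem, monoCo0_congr (Subtype.ext e) rfl⟩

theorem kel_inj {g m g' m' : ℕ} {hg : g ∈ ptwL} {hm : m ∈ cOutL} {hg' : g' ∈ ptwL}
    {hm' : m' ∈ cOutL} (h : kel g m hg hm = kel g' m' hg' hm') : g = g' ∧ m = m' := by
  obtain ⟨h1, h2⟩ := monoCo0_inj h
  refine ⟨List.inj_on_of_nodup_map ptw_facts.2.2.2 hg hg' ?_,
    mset_inj (cOut_facts.1 m hm).2.2 (cOut_facts.1 m' hm').2.2 h2⟩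
  have e := congrArg (fun τ : Equiv.Perm GolayPt => idx (τ (pt 1))) h1
  simp only at e
  rwa [permOf_pt (inM24_valid (ptw_facts.1 g hg).1) (by norm_num),
    permOf_pt (inM24_valid (ptw_facts.1 g' hg').1) (by norm_num),
    idx_pt (valid_lt (inM24_valid (ptw_facts.1 g hg).1) (by norm_num)),
    idx_pt (valid_lt (inM24_valid (ptw_facts.1 g' hg').1) (by norm_num))] at e

theorem card_K0 : Nat.card K0 = 2 ^ 9 := by
  classical
  let F : {g // g ∈ ptwL.toFinset} × {m // m ∈ cOutL.toFinset} → K0 := fun x =>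
    ⟨_, kel_mem (List.mem_toFinset.1 x.1.2) (List.mem_toFinset.1 x.2.2)⟩
  have hF : Function.Bijective F := by
    constructor
    · rintro ⟨⟨a, ha⟩, ⟨b, hb⟩⟩ ⟨⟨a', ha'⟩, ⟨b', hb'⟩⟩ h
      obtain ⟨e1, e2⟩ := kel_inj (hg := List.mem_toFinset.1 ha) (hm := List.mem_toFinset.1 hb)
        (hg' := List.mem_toFinset.1 ha') (hm' := List.mem_toFinset.1 hb') (congrArg Subtype.val h)
      exact Prod.ext (Subtype.ext e1) (Subtype.ext e2)
    · rintro ⟨x, hx⟩
      obtain ⟨g, m, hg, hm, rfl⟩ := kel_surj hx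
      exact ⟨(⟨g, List.mem_toFinset.2 hg⟩, ⟨m, List.mem_toFinset.2 hm⟩), rfl⟩
  rw [← Nat.card_eq_of_bijective F hF, Nat.card_prod, Nat.card_eq_fintype_card,
    Nat.card_eq_fintype_card, Fintype.card_coe, Fintype.card_coe,
    List.toFinset_card_of_nodup (ptw_facts.2.2.2.of_map _),
    List.toFinset_card_of_nodup cOut_facts.2.1, ptw_facts.2.2.1, cOut_facts.2.2.1]
  norm_num

theorem kel_code {g m n : ℕ} (hg : g ∈ ptwL) (hm : m ∈ cOutL) (hn : n ∈ cOutL) :
    mset (m ^^^ mimg g n) ∈ supports (golayCode : Set (GolayPt → ZMod 2)) := by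
  rw [mset_xor, ← smul_mset (inM24_valid (ptw_facts.1 g hg).1)]
  exact symmDiff_mem_supports (mem_supports_iff.2 ⟨m, (cOut_facts.1 m hm).1, rfl⟩)
    (smul_code ⟨permOf g, inM24_mem (ptw_facts.1 g hg).1⟩
      (mem_supports_iff.2 ⟨n, (cOut_facts.1 n hn).1, rfl⟩))

theorem mono_mul_rep (σ τ : M24) {c d u : Finset GolayPt}
    (hc : c ∈ supports (golayCode : Set (GolayPt → ZMod 2)))
    (hd : d ∈ supports (golayCode : Set (GolayPt → ZMod 2)))
    (hu : u ∈ supports (golayCode : Set (GolayPt → ZMod 2)))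
    (e : symmDiff c ((σ : Equiv.Perm GolayPt) • d) = u) :
    monoCo0 σ σ.2 c hc * monoCo0 τ τ.2 d hd = monoCo0 (σ * τ : M24) (σ * τ : M24).2 u hu :=
  (monoCo0_mul σ τ hc hd).trans (monoCo0_congr rfl e)

/-- The permutation of a kernel code, in `M24`. -/
noncomputable def ptwM (g : ℕ) (hg : g ∈ ptwL) : M24 :=
  ⟨permOf g, inM24_mem (ptw_facts.1 g hg).1⟩

theorem kel_mul {g m h n : ℕ} (hg : g ∈ ptwL) (hm : m ∈ cOutL) (hh : h ∈ ptwL) (hn : n ∈ cOutL) :
    kel g m hg hm * kel h n hh hn =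
      monoCo0 (ptwM g hg * ptwM h hh : M24) (ptwM g hg * ptwM h hh : M24).2
        (mset (m ^^^ mimg g n)) (kel_code hg hm hn) :=
  mono_mul_rep (ptwM g hg) (ptwM h hh) _ _ _ (by
    show symmDiff (mset m) (permOf g • mset n) = _
    rw [mset_xor, smul_mset (inM24_valid (ptw_facts.1 g hg).1)])

theorem ptw_comm {g h : ℕ} (hg : g ∈ ptwL) (hh : h ∈ ptwL) :
    permOf g * permOf h = permOf h * permOf g := by
  have vg := inM24_valid (ptw_facts.1 g hg).1
  have vh := inM24_valid (ptw_facts.1 h hh).1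
  refine Equiv.ext fun p => ?_
  rw [Equiv.Perm.mul_apply, Equiv.Perm.mul_apply, permOf_apply vh p, permOf_apply vg p,
    permOf_pt vg (valid_lt vh (idx_lt p)), permOf_pt vh (valid_lt vg (idx_lt p)),
    ptw_facts.2.1 g hg h hh _ (idx_lt p)]

theorem ptw_sq {g : ℕ} (hg : g ∈ ptwL) : permOf g * permOf g = 1 := by
  have vg := inM24_valid (ptw_facts.1 g hg).1
  refine Equiv.ext fun p => ?_
  rw [Equiv.Perm.mul_apply, permOf_apply vg p, permOf_pt vg (valid_lt vg (idx_lt p)),
    (ptw_facts.1 g hg).2.2 _ (idx_lt p), pt_idx, Equiv.Perm.one_apply]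

theorem xor_shift {m n a b : ℕ} :
    (m ^^^ b) = ((n ^^^ a) ^^^ ((a ^^^ m) ^^^ (b ^^^ n))) := by
  apply Nat.eq_of_testBit_eq
  intro i
  simp only [Nat.testBit_xor]
  cases m.testBit i <;> cases n.testBit i <;> cases a.testBit i <;> cases b.testBit i <;> rfl

theorem K0_sq {x : Co0} (hx : x ∈ K0) : x * x = 1 ∨ x * x = epsC := by
  obtain ⟨g, m, hg, hm, rfl⟩ := kel_surj hx
  have e := kel_mul hg hm hg hm
  have hs : ptwM g hg * ptwM g hg = 1 := Subtype.ext (ptw_sq hg)
  rw [e]
  rcases shift_check.1 g hg m hm with h | h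
  · left
    refine (mono_eq_sign (kel_code hg hm hm) empty_code hs ?_).trans sign0_empty
    rw [Nat.xor_comm, h, mset_zero]
  · right
    refine mono_eq_sign (kel_code hg hm hm) octC_mem hs ?_
    rw [Nat.xor_comm, h]

theorem K0_comm {x y : Co0} (hx : x ∈ K0) (hy : y ∈ K0) :
    x * y = y * x ∨ x * y = epsC * (y * x) := by
  obtain ⟨g, m, hg, hm, rfl⟩ := kel_surj hx
  obtain ⟨h, n, hh, hn, rfl⟩ := kel_surj hy
  have e1 := kel_mul hg hm hh hn
  have e2 := kel_mul hh hn hg hm
  have hs : ptwM g hg * ptwM h hh = ptwM h hh * ptwM g hg := Subtype.ext (ptw_comm hg hh)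
  have key : (mimg h m ^^^ m) ^^^ (mimg g n ^^^ n) = 0 ∨
      (mimg h m ^^^ m) ^^^ (mimg g n ^^^ n) = octC := by
    rcases shift_check.1 h hh m hm with a | a <;> rcases shift_check.1 g hg n hn with b | b <;>
      rw [a, b] <;> simp
  have hx' := xor_shift (m := m) (n := n) (a := mimg h m) (b := mimg g n)
  rw [e1, e2]
  rcases key with k | k <;> rw [k] at hx'
  · left
    refine monoCo0_congr hs ?_
    rw [hx', Nat.xor_zero]
  · right
    rw [epsC, sign0_mul_mono]
    refine monoCo0_congr hs ?_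
    rw [hx', mset_xor, symmDiff_comm]

theorem epsC_ne_one : epsC ≠ 1 := fun h => by
  have := congrArg (fun g : Co0 => ((g • vec8 (pt 1) : leechLattice) : GolayPt → ℤ) (pt 1)) h
  simp only [epsC_smul, one_smul, vec8, Pi.single_eq_same] at this
  rw [if_pos (by decide +kernel)] at this
  norm_num at this

theorem K0_center {x : Co0} (hx : x ∈ K0) (hc : ∀ y ∈ K0, x * y = y * x) :
    x = 1 ∨ x = epsC := by
  obtain ⟨g, m, hg, hm, rfl⟩ := kel_surj hx
  have hg1 : img g 1 = 1 := by
    refine (shift_check.2.1 g hg).resolve_right fun ⟨n, hn, hne⟩ => ?_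
    obtain ⟨g₀, hg₀, e₀⟩ := ptw_list (Subgroup.one_mem (octPtw (mset octB)))
    have e1 := kel_mul hg hm hg₀ hn
    have e2 := kel_mul hg₀ hn hg hm
    have e := hc _ (kel_mem hg₀ hn)
    rw [e1, e2] at e
    have h2 := (monoCo0_inj e).2
    rw [mset_xor, mset_xor, ← smul_mset (inM24_valid (ptw_facts.1 g hg).1),
      ← smul_mset (inM24_valid (ptw_facts.1 g₀ hg₀).1), ← e₀, one_smul, symmDiff_comm (mset n)]
      at h2
    have h3 := symmDiff_right_injective (mset m) h2
    rw [smul_mset (inM24_valid (ptw_facts.1 g hg).1)] at h3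
    exact hne (mset_inj (mimg_lt (inM24_valid (ptw_facts.1 g hg).1) n) (cOut_facts.1 n hn).2.2 h3)
  have hσ : permOf g = 1 :=
    (octPtw_point octB_mem (show pt 1 ∉ mset octB by decide +kernel)).2 _ (ptw_mem hg) (by
      rw [permOf_pt (inM24_valid (ptw_facts.1 g hg).1) (by norm_num), hg1])
  have hm0 : m = 0 ∨ m = octC := by
    rcases shift_check.2.2.1 m hm with h | h | ⟨h', hh', hne⟩
    · exact Or.inl h
    · exact Or.inr h
    · exfalso
      have e1 := kel_mul hg hm hh' cOut_facts.2.2.2.1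
      have e2 := kel_mul hh' cOut_facts.2.2.2.1 hg hm
      have e := hc _ (kel_mem hh' cOut_facts.2.2.2.1)
      rw [e1, e2] at e
      have h2 := (monoCo0_inj e).2
      rw [mset_xor, mset_xor, ← smul_mset (inM24_valid (ptw_facts.1 g hg).1), hσ, one_smul,
        mset_zero] at h2
      rw [← Finset.bot_eq_empty, symmDiff_bot, bot_symmDiff] at h2
      exact hne (mset_inj (mimg_lt (inM24_valid (ptw_facts.1 h' hh').1) m)
        (cOut_facts.1 m hm).2.2 h2.symm)
  rcases hm0 with rfl | rfl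
  · left
    exact (mono_eq_sign _ empty_code (σ := ⟨permOf g, inM24_mem (ptw_facts.1 g hg).1⟩)
      (Subtype.ext hσ) mset_zero).trans sign0_empty
  · exact Or.inr (mono_eq_sign _ octC_mem (σ := ⟨permOf g, inM24_mem (ptw_facts.1 g hg).1⟩)
      (Subtype.ext hσ) rfl)

theorem K0_extraspecial : IsExtraspecial 2 K0 := by
  haveI : Fact (Nat.Prime 2) := ⟨Nat.prime_two⟩
  let z : K0 := ⟨epsC, epsC_mem_K0⟩
  have hz2 : z * z = 1 := Subtype.ext (sign0_sq (mset octC) octC_mem)
  have hzc : ∀ y : K0, z * y = y * z := fun y => Subtype.ext (mem_Cm.1 (K0_le_Cm y.2)).symm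
  have hcen : ∀ x : K0, x ∈ Subgroup.center K0 ↔ x = 1 ∨ x = z := by
    intro x
    constructor
    · intro hx
      rcases K0_center x.2 (fun y hy =>
        (congrArg Subtype.val (Subgroup.mem_center_iff.1 hx ⟨y, hy⟩)).symm) with h | h
      · exact Or.inl (Subtype.ext h)
      · exact Or.inr (Subtype.ext h)
    · rintro (rfl | rfl)
      · exact Subgroup.one_mem _
      · exact Subgroup.mem_center_iff.2 fun y => (hzc y).symm
  have hcard : Nat.card (Subgroup.center K0) = 2 := by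
    have e : (Subgroup.center K0 : Set K0) = {1, z} := by
      ext x; simp [hcen]
    show Nat.card ↥(Subgroup.center K0 : Set K0) = 2
    rw [e, Nat.card_coe_set_eq, Set.ncard_pair fun h => epsC_ne_one (congrArg Subtype.val h).symm]
  refine CfsgLib.Coprime.isExtraspecial_of_central ?_ (Subgroup.center K0) hcard rfl ?_ ?_ ?_
  · exact IsPGroup.of_card (n := 9) card_K0
  · intro x y
    rw [hcen, commutatorElement_def]
    rcases K0_comm x.2 y.2 with h | h
    · left
      have h' : x * y = y * x := Subtype.ext h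
      rw [h']; group
    · right
      have h' : x * y = z * (y * x) := Subtype.ext h
      rw [h']; group
  · intro x
    rw [hcen, pow_two]
    rcases K0_sq x.2 with h | h
    · exact Or.inl (Subtype.ext h)
    · exact Or.inr (Subtype.ext h)
  · intro h
    have := card_K0
    rw [← Subgroup.card_top (G := K0), ← h, hcard] at this
    norm_num at this

/-- The negation in the centraliser. -/
noncomputable def negC : Cm :=
  ⟨negCo0, mem_Cm.2 (Subgroup.mem_center_iff.1 negCo0_central _).symm⟩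

theorem rho_neg (h : Cm) : rho (negC * h) = rho h := by
  refine O8_ext fun v => ?_
  obtain ⟨x, rfl⟩ : ∃ x, redL x = v := ⟨rep v, red_rep v⟩
  rw [rho_app, rho_app]
  have e : actL (negC * h) x = -actL h x :=
    Subtype.ext (by rw [actL_coe]; exact (mul_smul _ _ _).trans (negCo0_smul _))
  rw [e, map_neg, v8_neg]

theorem rho_eq_one_of_mem {h : Cm} (hK : (h : Co0) ∈ K0) : rho h = 1 := by
  refine O8_ext fun v => ?_
  obtain ⟨x, rfl⟩ : ∃ x, redL x = v := ⟨rep v, red_rep v⟩
  rw [rho_app, app_one]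
  exact congrArg redL (Subtype.ext (hK _ x.2))

theorem sign_root (g : Cm) (h : app (rho g) (vm rootA) = vm rootA) :
    (g : Co0) • Spor.leechU = Spor.leechU ∨ (g : Co0) • Spor.leechU = -Spor.leechU := by
  obtain ⟨-, -, -, -, -, -, -, -, -, -, -, -, eU, -, nU, -⟩ := root_facts
  have eU' : red (Spor.leechU : GolayPt → ℤ) = vm rootA := eU
  have nU' : sqNorm (Spor.leechU : GolayPt → ℤ) = 32 := nU
  exact rho_root (g := g) (x := Spor.leechU) leechU_mem nU' (eU'.symm ▸ h)

theorem rho_ker {g : Cm} (h : rho g = 1) :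
    (g : Co0) ∈ K0 ∨ negCo0 * (g : Co0) ∈ K0 := by
  have hfix : ∀ g' : Cm, rho g' = 1 → ∀ w, Bf (vm rootA) w = 0 → app (rho g') w = w :=
    fun g' e w _ => by rw [e, app_one]
  rcases sign_root g (by rw [h, app_one]) with e | e
  · exact Or.inl (mem_K0_of_fix e (hfix g h))
  · refine Or.inr (mem_K0_of_fix (g := negC * g) ?_ (hfix _ (by rw [rho_neg, h])))
    show (negCo0 * (g : Co0)) • Spor.leechU = _
    rw [mul_smul, e, negCo0_smul, neg_neg]

end CfsgLib.Golay.E8Cent
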