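import Cfsg.Agent.Lib.Golay.E8Xi

/-! The `E8` lattice on an octad: expansions, reduction modulo two, and short vectors. -/

set_option autoImplicit false
set_option maxRecDepth 100000

namespace CfsgLib.Golay.E8Cent

open Cfsg CfsgLib.Golay

/-- The vectors supported on the octad. -/
def Lm : AddSubgroup leechLattice where
  carrier := {v | ∀ p, p ∉ mset octB → (v : GolayPt → ℤ) p = 0}
  zero_mem' := fun p _ => rfl
  add_mem' := fun {v w} hv hw p hp => by simp [hv p hp, hw p hp]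
  neg_mem' := fun {v} hv p hp => by simp [hv p hp]

theorem mem_Lm {v : leechLattice} :
    v ∈ Lm ↔ ∀ p, p ∉ mset octB → (v : GolayPt → ℤ) p = 0 := Iff.rfl

/-- The points of the octad. -/
def opt (r : Fin 8) : GolayPt := pt (octPtsB.getD r.val 0)

/-- The values of the basis vectors. -/
def evT (k r : Fin 8) : ℤ :=
  if k.val = 0 then 2 else if k.val = 7 then (if r.val = 6 then 8 else 0)
    else if r.val + 1 = k.val then 4 else if r.val = 6 then -4 else 0

theorem opt_facts : Function.Injective opt ∧ mset octB = Finset.univ.image opt ∧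
    (∀ k r, Ev k (opt r) = evT k r) ∧ (∀ k, OKE (Ev k)) ∧ ∀ j, OKE (Bv j) := by
  refine ⟨?_, ?_, ?_, ?_, ?_⟩
  · intro a b; revert a b; decide +kernel
  all_goals decide +kernel

/-- A basis vector in the lattice. -/
def EvV (k : Fin 8) : leechLattice := ⟨Ev k, mem_of_oke (opt_facts.2.2.2.1 k)⟩

/-- A representative in the lattice. -/
def BvV (j : J) : leechLattice := ⟨Bv j, mem_of_oke (opt_facts.2.2.2.2 j)⟩

theorem EvV_mem (k : Fin 8) : EvV k ∈ Lm := ev_supp k

theorem BvV_mem (j : J) : BvV j ∈ Lm := bv_supp j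

theorem Lm_expand {v : leechLattice} (hv : v ∈ Lm) : ∃ n : Fin 8 → ℤ, v = ∑ k, n k • EvV k := by
  classical
  obtain ⟨hinj, himg, htab, -, -⟩ := opt_facts
  obtain ⟨p0, hp0⟩ : ∃ p0, p0 ∉ mset octB := ⟨pt 1, by decide +kernel⟩
  obtain ⟨m, b, h1, h2, h3⟩ := mem_leechLattice_iff.1 v.2
  have hev : ∀ i, (v : GolayPt → ℤ) i % 2 = 0 := fun i => by
    have := h1 p0; have := hv p0 hp0; have := h1 i; omega
  let a : GolayPt → ℤ := fun i => (v : GolayPt → ℤ) i / 2
  have ha : (v : GolayPt → ℤ) = fun i => 2 * a i := funext fun i => by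
    have := hev i; simp only [a]; omega
  have hmem : mod2 a ∈ golayCode ∧ (4 : ℤ) ∣ ∑ i, a i :=
    even_mem_iff.1 (by rw [← ha]; exact v.2)
  have hout : ∀ q, q ∉ mset octB → a q = 0 := fun q hq => by
    have := hv q hq; simp only [a]; omega
  have hsub : support₂ (mod2 a) ⊆ mset octB := fun q hq => by
    by_contra h
    rw [mem_support_mod2, hout q h] at hq
    norm_num at hq
  have hpar : ∀ r, a (opt r) % 2 = a (opt 7) % 2 := by
    intro r
    have h8 : (mset octB).card = 8 := octB_mem.2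
    have hle := Finset.card_le_card hsub
    have hmr : ∀ r, opt r ∈ mset octB := fun r => by rw [himg]; simp
    rcases supports_card (mem_supports_word.2 hmem.1) with e | e | e | e | e
    · have h0 : ∀ r, a (opt r) % 2 ≠ 1 := fun r h =>
        absurd (mem_support_mod2.2 h) (by rw [Finset.card_eq_zero.1 e]; simp)
      have := h0 r; have := h0 7; omega
    · have heq := Finset.eq_of_subset_of_card_le hsub (by omega)
      have h0 : ∀ r, a (opt r) % 2 = 1 := fun r => mem_support_mod2.1 (by rw [heq]; exact hmr r)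
      rw [h0, h0]
    all_goals omega
  have hsum : ∑ i, a i = ∑ r, a (opt r) := by
    rw [← Finset.sum_subset (Finset.subset_univ (mset octB)) fun q _ hq => hout q hq, himg,
      Finset.sum_image fun x _ y _ h => hinj h]
  obtain ⟨t, ht⟩ := hmem.2
  rw [hsum, Fin.sum_univ_eight] at ht
  refine ⟨![a (opt 7), (a (opt 0) - a (opt 7)) / 2, (a (opt 1) - a (opt 7)) / 2,
    (a (opt 2) - a (opt 7)) / 2, (a (opt 3) - a (opt 7)) / 2, (a (opt 4) - a (opt 7)) / 2,
    (a (opt 5) - a (opt 7)) / 2, ((a (opt 0) - a (opt 7)) / 2 + (a (opt 1) - a (opt 7)) / 2 +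
    (a (opt 2) - a (opt 7)) / 2 + (a (opt 3) - a (opt 7)) / 2 + (a (opt 4) - a (opt 7)) / 2 +
    (a (opt 5) - a (opt 7)) / 2 + (a (opt 6) - a (opt 7)) / 2) / 2], Subtype.ext (funext fun q => ?_)⟩
  simp only [AddSubgroup.val_finset_sum, AddSubgroup.coe_zsmul, Finset.sum_apply, Pi.smul_apply,
    smul_eq_mul]
  rw [ha]
  simp only [EvV]
  by_cases hq : q ∈ mset octB
  · rw [himg, Finset.mem_image] at hq
    obtain ⟨r, -, rfl⟩ := hq
    simp only [htab, Fin.sum_univ_eight]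
    have := hpar 0; have := hpar 1; have := hpar 2; have := hpar 3
    have := hpar 4; have := hpar 5; have := hpar 6
    fin_cases r <;> simp [evT] <;> omega
  · rw [hout q hq]
    simp [ev_supp _ q hq]

theorem Lm_induction {P : leechLattice → Prop} (h0 : P 0) (hE : ∀ k, P (EvV k))
    (hadd : ∀ x y, x ∈ Lm → y ∈ Lm → P x → P y → P (x + y))
    (hneg : ∀ x, x ∈ Lm → P x → P (-x)) {v : leechLattice} (hv : v ∈ Lm) : P v := by
  let S : AddSubgroup leechLattice :=
    { carrier := {x | x ∈ Lm ∧ P x}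
      zero_mem' := ⟨zero_mem _, h0⟩
      add_mem' := fun {x y} hx hy => ⟨add_mem hx.1 hy.1, hadd x y hx.1 hy.1 hx.2 hy.2⟩
      neg_mem' := fun {x} hx => ⟨neg_mem hx.1, hneg x hx.1 hx.2⟩ }
  obtain ⟨n, rfl⟩ := Lm_expand hv
  exact (sum_mem fun k _ => S.zsmul_mem (show EvV k ∈ S from ⟨EvV_mem k, hE k⟩) (n k) :
    (∑ k, n k • EvV k) ∈ S).2

theorem dot_bv_dvd {v : leechLattice} (hv : v ∈ Lm) (j : J) :
    (16 : ℤ) ∣ dotInt (v : GolayPt → ℤ) (Bv j) := by
  refine Lm_induction (P := fun v => (16 : ℤ) ∣ dotInt (v : GolayPt → ℤ) (Bv j)) ?_ ?_ ?_ ?_ hv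
  · simp [dotInt]
  · exact fun k => Int.dvd_of_emod_eq_zero (dot_ev_bv k j)
  · intro x y _ _ hx hy; rw [AddSubgroup.coe_add, dotInt_add_left]; exact dvd_add hx hy
  · intro x _ hx; simp only [AddSubgroup.coe_neg, dotInt, Pi.neg_apply, neg_mul,
      Finset.sum_neg_distrib, dvd_neg]; exact hx

theorem red_zero : red 0 = 0 := by funext j; simp [red, dotInt]

theorem red_add {x y : leechLattice} (hx : x ∈ Lm) :
    red ((x + y : leechLattice) : GolayPt → ℤ) = red (x : GolayPt → ℤ) + red (y : GolayPt → ℤ) := by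
  funext j
  simp only [red, Pi.add_apply, AddSubgroup.coe_add, dotInt_add_left,
    Int.add_ediv_of_dvd_left (dot_bv_dvd hx _), Int.cast_add]

/-- The reduction of a lattice vector supported on the octad. -/
def redL : Lm →+ V8 :=
  AddMonoidHom.mk' (fun v => red ((v : leechLattice) : GolayPt → ℤ)) fun v w => red_add v.2

theorem redL_apply (v : Lm) : redL v = red ((v : leechLattice) : GolayPt → ℤ) := rfl

theorem v8_neg (w : V8) : -w = w := funext fun j => ZMod.neg_eq_self_mod_two (w j)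

theorem red_neg {x : leechLattice} (hx : x ∈ Lm) :
    red ((-x : leechLattice) : GolayPt → ℤ) = red (x : GolayPt → ℤ) :=
  (map_neg redL ⟨x, hx⟩).trans (v8_neg _)

theorem Bf_add_left (a b c : V8) : Bf (a + b) c = Bf a c + Bf b c := by
  simp only [Bf, Pi.add_apply, ← Finset.sum_add_distrib]
  exact Finset.sum_congr rfl fun i _ => by ring

theorem Bf_comm (a b : V8) : Bf a b = Bf b a :=
  Finset.sum_congr rfl fun i _ => by ring

theorem Bf_add_right (a b c : V8) : Bf a (b + c) = Bf a b + Bf a c := by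
  rw [Bf_comm, Bf_add_left, Bf_comm b, Bf_comm c]

theorem Bf_zero (a : V8) : Bf 0 a = 0 := by simp [Bf]

theorem qP_add (a b : V8) : Cfsg.quadFormPlus 4 (ZMod 2) (a + b) =
    Cfsg.quadFormPlus 4 (ZMod 2) a + Cfsg.quadFormPlus 4 (ZMod 2) b + Bf a b := by
  simp only [Cfsg.quadFormPlus, Bf, Pi.add_apply, ← Finset.sum_add_distrib]
  exact Finset.sum_congr rfl fun i _ => by ring

theorem dot_ev_Lm {x : leechLattice} (hx : x ∈ Lm) (k : Fin 8) :
    (16 : ℤ) ∣ dotInt (x : GolayPt → ℤ) (Ev k) ∧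
    ((dotInt (x : GolayPt → ℤ) (Ev k) / 16 : ℤ) : ZMod 2) =
      Bf (red (x : GolayPt → ℤ)) (red (Ev k)) := by
  refine Lm_induction (P := fun x => (16 : ℤ) ∣ dotInt (x : GolayPt → ℤ) (Ev k) ∧
    ((dotInt (x : GolayPt → ℤ) (Ev k) / 16 : ℤ) : ZMod 2) =
      Bf (red (x : GolayPt → ℤ)) (red (Ev k))) ?_ ?_ ?_ ?_ hx
  · simp [dotInt, red_zero, Bf_zero]
  · exact fun l => ⟨Int.dvd_of_emod_eq_zero (dot_ev l k).1, (dot_ev l k).2.2⟩
  · rintro x y hx hy ⟨x1, x2⟩ ⟨y1, y2⟩
    rw [red_add hx, Bf_add_left, ← x2, ← y2, AddSubgroup.coe_add, dotInt_add_left,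
      Int.add_ediv_of_dvd_left x1, Int.cast_add]
    exact ⟨dvd_add x1 y1, rfl⟩
  · rintro x hx ⟨x1, x2⟩
    rw [red_neg hx, ← x2]
    have e : dotInt ((-x : leechLattice) : GolayPt → ℤ) (Ev k) =
        -dotInt (x : GolayPt → ℤ) (Ev k) := by simp [dotInt, Finset.sum_neg_distrib]
    rw [e, Int.neg_ediv_of_dvd x1, Int.cast_neg, ZMod.neg_eq_self_mod_two]
    exact ⟨dvd_neg.2 x1, rfl⟩

theorem dot_Lm {x y : leechLattice} (hx : x ∈ Lm) (hy : y ∈ Lm) :
    (16 : ℤ) ∣ dotInt (x : GolayPt → ℤ) (y : GolayPt → ℤ) ∧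
    ((dotInt (x : GolayPt → ℤ) (y : GolayPt → ℤ) / 16 : ℤ) : ZMod 2) =
      Bf (red (x : GolayPt → ℤ)) (red (y : GolayPt → ℤ)) := by
  refine Lm_induction (P := fun x => (16 : ℤ) ∣ dotInt (x : GolayPt → ℤ) (y : GolayPt → ℤ) ∧
    ((dotInt (x : GolayPt → ℤ) (y : GolayPt → ℤ) / 16 : ℤ) : ZMod 2) =
      Bf (red (x : GolayPt → ℤ)) (red (y : GolayPt → ℤ))) ?_ ?_ ?_ ?_ hx
  · simp [dotInt, red_zero, Bf_zero]
  · intro k
    rw [dotInt_comm, Bf_comm]
    exact dot_ev_Lm hy k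
  · rintro x z hx hz ⟨x1, x2⟩ ⟨z1, z2⟩
    rw [red_add hx, Bf_add_left, ← x2, ← z2, AddSubgroup.coe_add, dotInt_add_left,
      Int.add_ediv_of_dvd_left x1, Int.cast_add]
    exact ⟨dvd_add x1 z1, rfl⟩
  · rintro x hx ⟨x1, x2⟩
    rw [red_neg hx, ← x2]
    have e : dotInt ((-x : leechLattice) : GolayPt → ℤ) (y : GolayPt → ℤ) =
        -dotInt (x : GolayPt → ℤ) (y : GolayPt → ℤ) := by simp [dotInt, Finset.sum_neg_distrib]
    rw [e, Int.neg_ediv_of_dvd x1, Int.cast_neg, ZMod.neg_eq_self_mod_two]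
    exact ⟨dvd_neg.2 x1, rfl⟩

theorem norm_Lm {x : leechLattice} (hx : x ∈ Lm) :
    (32 : ℤ) ∣ sqNorm (x : GolayPt → ℤ) ∧
      qL (x : GolayPt → ℤ) = Cfsg.quadFormPlus 4 (ZMod 2) (red (x : GolayPt → ℤ)) := by
  refine Lm_induction (P := fun x => (32 : ℤ) ∣ sqNorm (x : GolayPt → ℤ) ∧
      qL (x : GolayPt → ℤ) = Cfsg.quadFormPlus 4 (ZMod 2) (red (x : GolayPt → ℤ))) ?_ ?_ ?_ ?_ hx
  · simp [sqNorm, qL, red_zero, Cfsg.quadFormPlus]
  · exact fun k => ⟨Int.dvd_of_emod_eq_zero (dot_ev k k).2.1, q_ev k⟩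
  · rintro x y hx hy ⟨x1, x2⟩ ⟨y1, y2⟩
    obtain ⟨d1, d2⟩ := dot_Lm hx hy
    obtain ⟨A, hA⟩ := x1
    obtain ⟨B, hB⟩ := y1
    obtain ⟨D, hD⟩ := d1
    have e : sqNorm ((x + y : leechLattice) : GolayPt → ℤ) = 32 * (A + B + D) := by
      rw [AddSubgroup.coe_add, sqNorm_add, hA, hB, hD]; ring
    refine ⟨⟨_, e⟩, ?_⟩
    rw [red_add hx, qP_add, ← x2, ← y2, ← d2]
    simp only [qL, e, hA, hB, hD, Int.mul_ediv_cancel_left _ (show (32 : ℤ) ≠ 0 by norm_num),
      Int.mul_ediv_cancel_left _ (show (16 : ℤ) ≠ 0 by norm_num), Int.cast_add]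
  · rintro x hx ⟨x1, x2⟩
    have e : sqNorm ((-x : leechLattice) : GolayPt → ℤ) = sqNorm (x : GolayPt → ℤ) := by
      simp [sqNorm]
    rw [qL, e, red_neg hx]
    exact ⟨x1, x2⟩

/-- The representative of a class. -/
def rep (w : V8) : Lm := ∑ j, ((w j).val : ℤ) • (⟨BvV j, BvV_mem j⟩ : Lm)

theorem red_rep (w : V8) : redL (rep w) = w := by
  rw [rep, map_sum]
  funext i
  simp only [map_zsmul, redL_apply, BvV, red_bv, Finset.sum_apply, Pi.smul_apply, smul_ite,
    smul_zero, Finset.sum_ite_eq, Finset.mem_univ, if_true]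
  generalize w i = a
  revert a; decide

theorem redL_eq_zero {x : Lm} (h : redL x = 0) : ∃ z : Lm, x = 2 • z := by
  obtain ⟨n, hn⟩ := Lm_expand x.2
  have hx : x = ∑ k, n k • (⟨EvV k, EvV_mem k⟩ : Lm) := Subtype.ext (by simp [hn])
  rw [hx, map_sum] at h
  let m : ℕ := Nat.ofBits fun k : Fin 8 => decide (n k % 2 = 1)
  have hm : m < 256 := lt_of_lt_of_eq (Nat.ofBits_lt_two_pow _) (by norm_num)
  have hbit : ∀ k : Fin 8, m.testBit k.val = decide (n k % 2 = 1) := fun k =>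
    Nat.testBit_ofBits_lt _ _ k.isLt
  have hm0 := red_ev_inj m hm fun j => by
    have := congrFun h j
    rw [Pi.zero_apply, Finset.sum_apply] at this
    refine Eq.trans (Finset.sum_congr rfl fun k _ => ?_) this
    rw [map_zsmul, Pi.smul_apply, redL_apply, hbit, zsmul_eq_mul]
    by_cases hk : n k % 2 = 1
    · rw [decide_eq_true hk, if_pos rfl, show ((n k : ZMod 2)) = 1 from
        (ZMod.intCast_eq_intCast_iff' (n k) 1 2).2 (by simpa using hk)]
      rw [one_mul]; rfl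
    · rw [decide_eq_false hk, show ((n k : ZMod 2)) = 0 from
        (ZMod.intCast_zmod_eq_zero_iff_dvd _ _).2 (by omega)]
      simp
  refine ⟨∑ k, (n k / 2) • (⟨EvV k, EvV_mem k⟩ : Lm), ?_⟩
  rw [hx, Finset.smul_sum]
  refine Finset.sum_congr rfl fun k _ => ?_
  have := hbit k
  rw [hm0, Nat.zero_testBit] at this
  have hk : n k % 2 ≠ 1 := fun e => by simp [e] at this
  rw [two_nsmul, ← add_zsmul]
  congr 1
  omega

theorem sqNorm_nonneg (x : GolayPt → ℤ) : 0 ≤ sqNorm x := Finset.sum_nonneg fun i _ => sq_nonneg _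

theorem eq_zero_of_norm {v : leechLattice} (h : sqNorm (v : GolayPt → ℤ) = 0) : v = 0 := by
  by_contra hne
  have := sqNorm_min v.2 fun e => hne (Subtype.ext e)
  omega

theorem root_eq {x y : leechLattice} (hx : x ∈ Lm) (hy : y ∈ Lm)
    (nx : sqNorm (x : GolayPt → ℤ) = 32) (ny : sqNorm (y : GolayPt → ℤ) = 32)
    (h : red (x : GolayPt → ℤ) = red (y : GolayPt → ℤ)) : y = x ∨ y = -x := by
  have h0 : redL (⟨x, hx⟩ + ⟨y, hy⟩) = 0 := by
    rw [map_add, redL_apply, redL_apply, h]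
    exact funext fun j => CharTwo.add_self_eq_zero _
  obtain ⟨z, hz⟩ := redL_eq_zero h0
  have hz' : x + y = 2 • (z : leechLattice) := congrArg Subtype.val hz
  have e1 := sqNorm_add (x : GolayPt → ℤ) y
  rw [← AddSubgroup.coe_add, hz', nx, ny] at e1
  have e2 : sqNorm ((2 • (z : leechLattice) : leechLattice) : GolayPt → ℤ) =
      4 * sqNorm ((z : leechLattice) : GolayPt → ℤ) := by
    simp only [sqNorm, AddSubgroup.coe_nsmul, Finset.mul_sum, Pi.smul_apply, nsmul_eq_mul,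
      Nat.cast_ofNat]
    exact Finset.sum_congr rfl fun i _ => by ring
  rw [e2] at e1
  by_cases hz0 : (z : leechLattice) = 0
  · right
    rw [hz0, smul_zero] at hz'
    exact eq_neg_of_add_eq_zero_right hz'
  · left
    have h32 : 32 ≤ sqNorm ((z : leechLattice) : GolayPt → ℤ) :=
      sqNorm_min (z : leechLattice).2 fun e => hz0 (Subtype.ext e)
    have e3 : sqNorm ((y - x : leechLattice) : GolayPt → ℤ) =
        64 - 2 * dotInt (x : GolayPt → ℤ) y := by
      rw [← nx] at ny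
      have : sqNorm ((y - x : leechLattice) : GolayPt → ℤ) = sqNorm (x : GolayPt → ℤ) +
          sqNorm (y : GolayPt → ℤ) - 2 * dotInt (x : GolayPt → ℤ) y := by
        simp only [sqNorm, dotInt, AddSubgroup.coe_sub, Pi.sub_apply, Finset.mul_sum,
          ← Finset.sum_add_distrib, ← Finset.sum_sub_distrib]
        exact Finset.sum_congr rfl fun i _ => by ring
      rw [this, ny, nx]; ring
    have h4 := sqNorm_nonneg ((y - x : leechLattice) : GolayPt → ℤ)
    exact sub_eq_zero.1 (eq_zero_of_norm (by omega))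

end CfsgLib.Golay.E8Cent
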