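import Cfsg.Agent.Lib.Golay.E8Xi

/-! Kernel checks on the matrices modulo two of four elements of the centraliser. -/

set_option autoImplicit false
set_option maxRecDepth 100000

namespace CfsgLib.Golay.E8Cent

open Cfsg CfsgLib.Golay
open scoped Matrix

theorem flip_data : (∀ i r, (nb i r ∈ mset octC ↔ i ∈ mset octC)) ∧
    isCode maskC = true ∧ inM24 codeH1 = true ∧ inM24 codeH2 = true ∧
    mimg codeH1 octC = octC ∧ mimg codeH2 octC = octC := by decide +kernel

/-- The pairing of the image of a vector under a permutation code. -/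
def permDot (g : ℕ) (x b : GolayPt → ℤ) : ℤ := ∑ p, x p * b (pt (img g (idx p)))

/-- The stored matrices. -/
def Mc (k : ℕ) : J → J → ZMod 2 :=
  fun i j => vm ((colsG.getD k []).getD (bidx j) 0) i

theorem cols_zero : ∀ i j : J,
    ((dotInt (xiH (Bv j)) (Bv i.swap) / 16 : ℤ) : ZMod 2) = Mc 0 i j := by decide +kernel

theorem cols_one : ∀ i j : J,
    ((dotInt (fun p => if p ∈ mset maskC then -Bv j p else Bv j p) (Bv i.swap) / 16 : ℤ) :
      ZMod 2) = Mc 1 i j := by decide +kernel

theorem cols_two : ∀ i j : J,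
    ((permDot codeH1 (Bv j) (Bv i.swap) / 16 : ℤ) : ZMod 2) = Mc 2 i j := by decide +kernel

theorem cols_three : ∀ i j : J,
    ((permDot codeH2 (Bv j) (Bv i.swap) / 16 : ℤ) : ZMod 2) = Mc 3 i j := by decide +kernel

theorem mapM_bridge : ∀ k < 4, ∀ x < 256, Matrix.of (Mc k) *ᵥ vm x = vm (mapM k x) ∧ mapM k x < 256 := by
  decide +kernel

theorem root_bounds : rootA < 256 ∧ rootB < 256 ∧ qM rootA = 1 ∧ qM rootB = 1 ∧
    Bf (vm rootA) (vm rootB) = 0 ∧
    ∀ x < 256, Matrix.of (Mc 1) *ᵥ vm x = (vm x + Bf (vm rootB) (vm x) • vm rootB) +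
      Bf (vm rootA) (vm x + Bf (vm rootB) (vm x) • vm rootB) • vm rootA := by
  decide +kernel

end CfsgLib.Golay.E8Cent
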