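import Cfsg.Agent.Lib.Golay.E8Cent
import Cfsg.Agent.Lib.Golay.E8Mats
import Cfsg.Agent.Lib.Geom.OmegaIndex

/-! The image of the centraliser modulo two is the group `Ω⁺₈(2)`. -/

set_option autoImplicit false
set_option maxRecDepth 100000

namespace CfsgLib.Golay.E8Cent

open Cfsg CfsgLib.Golay CfsgLib.Classical CfsgLib.Geom
open scoped Pointwise Matrix

attribute [local irreducible] red sqNorm

theorem qP_qM (m : ℕ) : qP (vm m) = qM m := by rw [qfPlus_apply]; rfl

theorem qP_sum (a b : V8) : qP (a + b) = qP a + qP b + Bf a b := by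
  simp only [qfPlus_apply]; exact qP_add a b

theorem polar_qP (a b : V8) : QuadraticMap.polar qP a b = Bf a b := by
  rw [QuadraticMap.polar, qfPlus_apply, qfPlus_apply, qfPlus_apply, qP_add]; ring

theorem qP_cases (a : ZMod 2) : a = 0 ∨ a = 1 := by revert a; decide

/-- The reflection in a class. -/
noncomputable def Sref (a : V8) : O8 :=
  if h : qP a ≠ 0 then orEquiv qP ⟨reflEquiv qP a h, reflEquiv_mem qP a h⟩ else 1

theorem Sref_app {a : V8} (h : qP a = 1) (x : V8) : app (Sref a) x = x + Bf a x • a := by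
  have hne : qP a ≠ 0 := by rw [h]; decide
  rw [Sref, dif_pos hne]
  refine (orEquiv_mulVec qP _ x).trans ?_
  show reflEquiv qP a hne x = _
  rw [reflEquiv_apply, h, polar_qP, inv_one, one_mul, sub_eq_add_neg, ← neg_smul,
    ZMod.neg_eq_self_mod_two]

theorem Bf_self (a : V8) : Bf a a = 0 :=
  Finset.sum_eq_zero fun i _ => by rw [mul_comm (a (.inr i))]; exact CharTwo.add_self_eq_zero _

theorem Sref_sq {a : V8} (h : qP a = 1) : Sref a * Sref a = 1 :=
  O8_ext fun x => by
    rw [app_mul, Sref_app h, Sref_app h, app_one, Bf_add_right,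
      show Bf a (Bf a x • a) = 0 by
        rcases qP_cases (Bf a x) with e | e <;> rw [e]
        · rw [zero_smul, Bf_comm, Bf_zero]
        · rw [one_smul, Bf_self],
      add_zero, add_assoc]
    rw [show Bf a x • a + Bf a x • a = 0 from
      funext fun j => CharTwo.add_self_eq_zero ((Bf a x • a) j), add_zero]

theorem app_Bf (g : O8) (a b : V8) : Bf (app g a) (app g b) = Bf a b := by
  have hq : ∀ v, qP (app g v) = qP v := fun v => (mem_isometryGroup_iff _ _).1 g.2 v
  have h1 := qP_sum (app g a) (app g b)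
  have e : app g a + app g b = app g (a + b) := (Matrix.mulVec_add _ _ _).symm
  rw [e, hq, hq, hq, qP_sum] at h1
  exact (add_left_cancel h1).symm

theorem app_q (g : O8) (v : V8) : qP (app g v) = qP v := (mem_isometryGroup_iff _ _).1 g.2 v

theorem app_smul (g : O8) (c : ZMod 2) (v : V8) : app g (c • v) = c • app g v :=
  Matrix.mulVec_smul _ _ _

theorem Sref_conj (g : O8) {a : V8} (h : qP a = 1) :
    g * Sref a * g⁻¹ = Sref (app g a) := by
  refine O8_ext fun x => ?_
  have e : app g (app g⁻¹ x) = x := by rw [← app_mul, mul_inv_cancel, app_one]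
  rw [app_mul, app_mul, Sref_app h, Sref_app (by rw [app_q, h])]
  show ((g : Matrix.GeneralLinearGroup J (ZMod 2)) : Matrix J J (ZMod 2)) *ᵥ _ = _
  rw [Matrix.mulVec_add, Matrix.mulVec_smul]
  show app g (app g⁻¹ x) + Bf a (app g⁻¹ x) • app g a = _
  rw [e]
  conv_rhs => rw [← e, app_Bf, e]

/-! ### The generators -/

theorem xi_mem : xi ∈ Cm := by
  rw [mem_Cm]
  refine co0_ext fun v => Subtype.ext (funext fun i => ?_)
  rw [mul_smul, mul_smul, xi_smul, epsC_smul, xi_smul]
  show xiT _ i / 2 = _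
  have e : xiT ((epsC • v : leechLattice) : GolayPt → ℤ) i =
      if i ∈ mset octC then -xiT (v : GolayPt → ℤ) i else xiT (v : GolayPt → ℤ) i := by
    show sgn i * ((∑ r, _) - 2 * _) = _
    have hs : ∀ r, ((epsC • v : leechLattice) : GolayPt → ℤ) (nb i r) =
        if i ∈ mset octC then -(v : GolayPt → ℤ) (nb i r) else (v : GolayPt → ℤ) (nb i r) := by
      intro r; rw [epsC_smul]; simp only [flip_data.1 i r]
    simp only [hs, epsC_smul]
    split_ifs
    · rw [Finset.sum_neg_distrib]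
      show _ = -(sgn i * ((∑ r, (v : GolayPt → ℤ) (nb i r)) - 2 * (v : GolayPt → ℤ) i))
      ring
    · rfl
  rw [e]
  have h2 := congrFun (xiT_even v.2).2 i
  simp only [Pi.smul_apply, two_nsmul, xiH] at h2
  show _ = if i ∈ mset octC then -(xiT (v : GolayPt → ℤ) i / 2) else xiT (v : GolayPt → ℤ) i / 2
  split_ifs <;> omega

theorem sign_mem {c : Finset GolayPt} (hc : c ∈ supports (golayCode : Set (GolayPt → ZMod 2))) :
    sign0 c hc ∈ Cm := by
  rw [mem_Cm, epsC, sign0_mul, sign0_mul]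
  exact sign0_congr (symmDiff_comm _ _)

theorem perm_mem {g : ℕ} (h : inM24 g = true) (hC : mimg g octC = octC) :
    monoCo0 (⟨permOf g, inM24_mem h⟩ : M24) (inM24_mem h) ∅ empty_code ∈ Cm := by
  refine mem_Cm.2 ?_
  unfold epsC
  refine (mono_mul_sign0 (⟨permOf g, inM24_mem h⟩ : M24) empty_code octC_mem).trans
    (Eq.trans ?_ (sign0_mul_mono (⟨permOf g, inM24_mem h⟩ : M24) empty_code octC_mem).symm)
  refine monoCo0_congr rfl ?_
  show symmDiff ∅ (permOf g • mset octC) = symmDiff (mset octC) ∅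
  rw [smul_mset (inM24_valid h), hC, symmDiff_comm]

/-- The generators. -/
noncomputable def genC : Fin 4 → Cm
  | ⟨0, _⟩ => ⟨xi, xi_mem⟩
  | ⟨1, _⟩ => ⟨sign0 (mset maskC) (mem_supports_iff.2 ⟨_, flip_data.2.1, rfl⟩), sign_mem _⟩
  | ⟨2, _⟩ => ⟨_, perm_mem flip_data.2.2.1 flip_data.2.2.2.2.1⟩
  | ⟨_, _⟩ => ⟨_, perm_mem flip_data.2.2.2.1 flip_data.2.2.2.2.2⟩

theorem dot_perm {g : ℕ} (h : inM24 g = true) (x b : GolayPt → ℤ) :
    dotInt (signedPerm (permOf g) ∅ x) b = permDot g x b := by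
  unfold dotInt permDot
  rw [← Equiv.sum_comp (permOf g)]
  refine Finset.sum_congr rfl fun p _ => ?_
  rw [← permOf_apply (inM24_valid h)]
  simp [signedPerm]

theorem genC_mat (k : Fin 4) : Mof (genC k) = Matrix.of (Mc k.val) := by
  have c0 := cols_zero; have c1 := cols_one; have c2 := cols_two; have c3 := cols_three
  funext i j
  show Mof (genC k) i j = Mc k.val i j
  fin_cases k
  · refine Eq.trans ?_ (c0 i j)
    show red ((xi • BvV j : leechLattice) : GolayPt → ℤ) i = _
    rw [xi_smul]; unfold red; rfl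
  · refine Eq.trans ?_ (c1 i j)
    show red ((sign0 (mset maskC) (mem_supports_iff.2 ⟨_, flip_data.2.1, rfl⟩) • BvV j :
      leechLattice) : GolayPt → ℤ) i = _
    rw [sign0, monoCo0_smul]
    simp only [red, signedPerm, OneMemClass.coe_one, Equiv.Perm.one_symm, Equiv.Perm.one_apply]
    rfl
  · refine Eq.trans ?_ (c2 i j)
    show red ((monoCo0 (permOf codeH1) (inM24_mem flip_data.2.2.1) ∅ empty_code • BvV j :
      leechLattice) : GolayPt → ℤ) i = _
    rw [monoCo0_smul, red, dot_perm flip_data.2.2.1]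
    rfl
  · refine Eq.trans ?_ (c3 i j)
    show red ((monoCo0 (permOf codeH2) (inM24_mem flip_data.2.2.2.1) ∅ empty_code • BvV j :
      leechLattice) : GolayPt → ℤ) i = _
    rw [monoCo0_smul, red, dot_perm flip_data.2.2.2.1]
    rfl

theorem word_app : ∀ (w : List ℕ), (∀ k ∈ w, k < 4) → ∀ x < 256, mapW w x < 256 ∧
    ∃ g : Cm, app (rho g) (vm x) = vm (mapW w x) ∧
      ∀ y < 256, app (rho g) (vm y) = vm (mapW w y) := by
  intro w
  induction w with
  | nil => exact fun _ x hx => ⟨hx, 1, by rw [map_one, app_one]; rfl, fun y _ => by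
      rw [map_one, app_one]; rfl⟩
  | cons k w ih =>
    intro h x hx
    have hlt : ∀ y < 256, mapW w y < 256 := fun y hy =>
      (ih (fun a ha => h a (List.mem_cons_of_mem _ ha)) y hy).1
    obtain ⟨g, -, hg⟩ := (ih (fun a ha => h a (List.mem_cons_of_mem _ ha)) x hx).2
    have hk : k < 4 := h k List.mem_cons_self
    have hall : ∀ y < 256, app (rho (genC ⟨k, hk⟩ * g)) (vm y) = vm (mapW (k :: w) y) := by
      intro y hy
      rw [map_mul, app_mul, hg y hy]
      show Mof (genC ⟨k, hk⟩) *ᵥ _ = _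
      rw [genC_mat]
      exact (mapM_bridge k hk _ (hlt y hy)).1
    exact ⟨(mapM_bridge k hk _ (hlt x hx)).2, _, hall x hx, hall⟩

/-- The image. -/
noncomputable def Im : Subgroup O8 := rho.range

theorem exists_move {a : V8} (ha : qP a = 1) : ∃ g ∈ Im, app g (vm rootA) = a := by
  obtain ⟨m, hm, rfl⟩ := vm_surj a
  rw [qP_qM] at ha
  obtain ⟨h1, h2⟩ := cert_one
  have hmem := h2 m hm ha
  rw [List.contains_iff_mem] at hmem
  obtain ⟨p, hp, rfl⟩ := List.mem_map.1 hmem
  have h := List.all_eq_true.1 h1 p hp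
  simp only [Bool.and_eq_true, List.all_eq_true, Nat.blt_eq] at h
  obtain ⟨g, hg, -⟩ := (word_app p.2 h.2 rootA root_bounds.1).2
  exact ⟨rho g, ⟨g, rfl⟩, by rw [hg, Nat.eq_of_beq_eq_true h.1]⟩

theorem seed_mem : Sref (vm rootA) * Sref (vm rootB) ∈ Im := by
  refine ⟨genC 1, O8_ext fun v => ?_⟩
  obtain ⟨x, hx, rfl⟩ := vm_surj v
  have ha : qP (vm rootA) = 1 := by rw [qP_qM]; exact root_bounds.2.2.1
  have hb : qP (vm rootB) = 1 := by rw [qP_qM]; exact root_bounds.2.2.2.1
  rw [app_mul, Sref_app hb, Sref_app ha]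
  show Mof (genC 1) *ᵥ _ = _
  rw [genC_mat]
  exact root_bounds.2.2.2.2.2 x hx

theorem pair_conj {g : O8} (hg : g ∈ Im) {a b : V8} (ha : qP a = 1) (hb : qP b = 1)
    (h : Sref a * Sref b ∈ Im) : Sref (app g a) * Sref (app g b) ∈ Im := by
  rw [← Sref_conj g ha, ← Sref_conj g hb]
  have := Subgroup.mul_mem _ (Subgroup.mul_mem _ hg h) (Subgroup.inv_mem _ hg)
  simpa [mul_assoc] using this

theorem pair_A_perp {b : V8} (hb : qP b = 1) (h : Bf (vm rootA) b = 0) :
    Sref (vm rootA) * Sref b ∈ Im := by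
  have ha : qP (vm rootA) = 1 := by rw [qP_qM]; exact root_bounds.2.2.1
  obtain ⟨m, hm, rfl⟩ := vm_surj b
  by_cases he : m = rootA
  · subst he; rw [Sref_sq ha]; exact one_mem _
  rw [qP_qM] at hb
  obtain ⟨h1, h2⟩ := cert_two
  have hmem := h2 m hm hb he h
  rw [List.contains_iff_mem] at hmem
  obtain ⟨p, hp, rfl⟩ := List.mem_map.1 hmem
  have hc := List.all_eq_true.1 h1 p hp
  simp only [Bool.and_eq_true, List.all_eq_true, Nat.blt_eq] at hc
  obtain ⟨g, hg, hall⟩ := (word_app p.2 hc.2 rootA root_bounds.1).2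
  have e := pair_conj (g := rho g) ⟨g, rfl⟩ ha
    (by rw [qP_qM]; exact root_bounds.2.2.2.1) seed_mem
  rwa [hg, hall rootB root_bounds.2.1, Nat.eq_of_beq_eq_true hc.1.1,
    Nat.eq_of_beq_eq_true hc.1.2] at e

theorem pair_perp {a b : V8} (ha : qP a = 1) (hb : qP b = 1) (h : Bf a b = 0) :
    Sref a * Sref b ∈ Im := by
  obtain ⟨g, hg, rfl⟩ := exists_move ha
  obtain ⟨b', rfl⟩ : ∃ b', app g b' = b :=
    ⟨app g⁻¹ b, by rw [← app_mul, mul_inv_cancel, app_one]⟩
  rw [app_q] at hb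
  rw [app_Bf] at h
  exact pair_conj hg (by rw [qP_qM]; exact root_bounds.2.2.1) hb (pair_A_perp hb h)

theorem pair_A {b : V8} (hb : qP b = 1) : Sref (vm rootA) * Sref b ∈ Im := by
  have ha : qP (vm rootA) = 1 := by rw [qP_qM]; exact root_bounds.2.2.1
  rcases qP_cases (Bf (vm rootA) b) with h | h
  · exact pair_A_perp hb h
  · obtain ⟨m, hm, rfl⟩ := vm_surj b
    rw [qP_qM] at hb
    have hc := cert_mid m hm hb h
    simp only [List.any_eq_true, List.mem_range, decide_eq_true_eq] at hc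
    obtain ⟨c, -, c1, c2, c3, -, -⟩ := hc
    have hcq : qP (vm c) = 1 := by rw [qP_qM]; exact c1
    have hbq : qP (vm m) = 1 := by rw [qP_qM]; exact hb
    have := Subgroup.mul_mem _ (pair_perp ha hcq c2)
      (pair_perp hcq hbq (by rw [Bf_comm]; exact c3))
    rwa [mul_assoc, ← mul_assoc (Sref (vm c)), Sref_sq hcq, one_mul] at this

theorem pair_mem {a b : V8} (ha : qP a = 1) (hb : qP b = 1) : Sref a * Sref b ∈ Im := by
  obtain ⟨g, hg, rfl⟩ := exists_move ha
  obtain ⟨b', rfl⟩ : ∃ b', app g b' = b :=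
    ⟨app g⁻¹ b, by rw [← app_mul, mul_inv_cancel, app_one]⟩
  rw [app_q] at hb
  exact pair_conj hg (by rw [qP_qM]; exact root_bounds.2.2.1) hb (pair_A hb)

theorem mem_or_mem (g : O8) : g ∈ Im ∨ Sref (vm rootA) * g ∈ Im := by
  have ha : qP (vm rootA) = 1 := by rw [qP_qM]; exact root_bounds.2.2.1
  have hgen : ∀ x ∈ Subgroup.closure (reflSet qP), ∀ (hx : x ∈ quadIsoms qP),
      orEquiv qP ⟨x, hx⟩ ∈ Im ∨ Sref (vm rootA) * orEquiv qP ⟨x, hx⟩ ∈ Im := by
    intro x hxc
    induction hxc using Subgroup.closure_induction_left with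
    | one => exact fun hx => Or.inl (by
        rw [show (⟨1, hx⟩ : quadIsoms qP) = 1 from rfl, map_one]; exact one_mem _)
    | mul_left a ham y hy ih =>
      intro hx
      obtain ⟨v, hv, rfl⟩ := ham
      have hym := reflSet_closure_le qP hy
      have e : orEquiv qP ⟨reflEquiv qP v hv * y, hx⟩ = Sref v * orEquiv qP ⟨y, hym⟩ := by
        rw [Sref, dif_pos hv, ← map_mul]; rfl
      have hv1 : qP v = 1 := (qP_cases _).resolve_left hv
      rw [e]
      rcases ih hym with h | h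
      · right
        rw [← mul_assoc]
        exact Subgroup.mul_mem _ (pair_mem ha hv1) h
      · left
        have := Subgroup.mul_mem _ (pair_mem hv1 ha) h
        rwa [mul_assoc, ← mul_assoc (Sref (vm rootA)) (Sref (vm rootA)), Sref_sq ha, one_mul] at this
    | inv_mul_cancel a ham y hy ih =>
      intro hx
      obtain ⟨v, hv, rfl⟩ := ham
      have hym := reflSet_closure_le qP hy
      have e : orEquiv qP ⟨(reflEquiv qP v hv)⁻¹ * y, hx⟩ = Sref v * orEquiv qP ⟨y, hym⟩ := by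
        rw [Sref, dif_pos hv, ← map_mul]
        exact congrArg (orEquiv qP) (Subtype.ext (congrArg (· * y) (reflEquiv_inv qP v hv)))
      have hv1 : qP v = 1 := (qP_cases _).resolve_left hv
      rw [e]
      rcases ih hym with h | h
      · right
        rw [← mul_assoc]
        exact Subgroup.mul_mem _ (pair_mem ha hv1) h
      · left
        have := Subgroup.mul_mem _ (pair_mem hv1 ha) h
        rwa [mul_assoc, ← mul_assoc (Sref (vm rootA)) (Sref (vm rootA)), Sref_sq ha, one_mul] at this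
  obtain ⟨⟨x, hx⟩, rfl⟩ := (orEquiv qP).surjective g
  refine hgen x ?_ hx
  rw [← quadIsoms_eq_closure qP (qfPlus_sep 4) (Or.inr (by
    rw [Module.finrank_fintype_fun_eq_card]; decide))]
  exact hx

theorem Sref_A_not_mem : Sref (vm rootA) ∉ Im := by
  have ha : qP (vm rootA) = 1 := by rw [qP_qM]; exact root_bounds.2.2.1
  rintro ⟨g, hg⟩
  obtain ⟨-, -, -, -, -, -, -, -, -, -, -, -, eU, hout, nU, -⟩ := root_facts
  have hfix : ∀ w, Bf (vm rootA) w = 0 → app (rho g) w = w := fun w hw => by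
    rw [hg, Sref_app ha, hw, zero_smul, add_zero]
  have hneg : negCo0 ∈ Cm := by rw [mem_Cm]; exact (Subgroup.mem_center_iff.1 negCo0_central _).symm
  have eU' : red (Spor.leechU : GolayPt → ℤ) = vm rootA := eU
  have nU' : sqNorm (Spor.leechU : GolayPt → ℤ) = 32 := nU
  have hfA : app (rho g) (red (Spor.leechU : GolayPt → ℤ)) = red (Spor.leechU : GolayPt → ℤ) :=
    eU'.symm ▸ hfix (vm rootA) (Bf_self (vm rootA))
  have hU := rho_root (g := g) (x := Spor.leechU) leechU_mem nU' hfA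
  have hrn : ∀ h : Cm, rho (⟨negCo0, hneg⟩ * h) = rho h := fun h => by
    refine O8_ext fun v => ?_
    obtain ⟨x, rfl⟩ : ∃ x, redL x = v := ⟨rep v, red_rep v⟩
    rw [rho_app, rho_app]
    have e : actL (⟨negCo0, hneg⟩ * h) x = -actL h x :=
      Subtype.ext (by rw [actL_coe]; exact (mul_smul _ _ _).trans (negCo0_smul _))
    rw [e, map_neg, v8_neg]
  obtain ⟨h, hh, hK⟩ : ∃ h : Cm, rho h = rho g ∧ (h : Co0) ∈ K0 := by
    rcases hU with e | e
    · exact ⟨g, rfl, mem_K0_of_fix e hfix⟩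
    · refine ⟨(⟨negCo0, hneg⟩ : Cm) * g, hrn g, ?_⟩
      refine mem_K0_of_fix (g := (⟨negCo0, hneg⟩ : Cm) * g) ?_ fun w hw => by rw [hrn]; exact hfix w hw
      show (negCo0 * (g : Co0)) • Spor.leechU = _
      rw [mul_smul, e, negCo0_smul, neg_neg]
  have h1 : rho h = 1 := O8_ext fun v => by
    obtain ⟨x, rfl⟩ : ∃ x, redL x = v := ⟨rep v, red_rep v⟩
    rw [rho_app, app_one]
    exact congrArg redL (Subtype.ext (hK _ x.2))
  have h2 : Sref (vm rootA) = 1 := by rw [← hg, ← hh, h1]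
  have h3 := congrArg (fun g => app g (vm 4)) h2
  rw [Sref_app ha, app_one] at h3
  revert h3
  decide +kernel

theorem Im_index : Im.index = 2 := by
  rw [Subgroup.index_eq_two_iff]
  refine ⟨Sref (vm rootA), fun b => ?_⟩
  have ha : qP (vm rootA) = 1 := by rw [qP_qM]; exact root_bounds.2.2.1
  have hno : ¬ (b * Sref (vm rootA) ∈ Im ∧ b ∈ Im) := fun h => Sref_A_not_mem (by
    have := Subgroup.mul_mem _ (Subgroup.inv_mem _ h.2) h.1
    rwa [inv_mul_cancel_left] at this)
  have hinv : (Sref (vm rootA))⁻¹ = Sref (vm rootA) := inv_eq_of_mul_eq_one_right (Sref_sq ha)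
  rcases mem_or_mem b⁻¹ with h | h
  · exact Or.inr ⟨inv_mem_iff.1 h, fun h' => hno ⟨h', inv_mem_iff.1 h⟩⟩
  · have := Subgroup.inv_mem _ h
    rw [mul_inv_rev, inv_inv, hinv] at this
    exact Or.inl ⟨this, fun h' => hno ⟨this, h'⟩⟩

theorem Im_eq : Im = Cfsg.Omega (ZMod 2) (⇑qP) := by
  have hidx : (Cfsg.Omega (ZMod 2) (⇑qP)).index = 2 :=
    omega_index_even qP (qfPlus_sep 4) (Or.inr (by
      rw [Module.finrank_fintype_fun_eq_card]; decide)) (by decide) (by decide)
  have hle : Cfsg.Omega (ZMod 2) (⇑qP) ≤ Im := by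
    show commutator O8 ≤ Im
    rw [commutator_def, Subgroup.commutator_le]
    intro x _ y _
    have h := fun a b : O8 => Subgroup.mul_mem_iff_of_index_two Im_index (a := a) (b := b)
    rw [commutatorElement_def, h (x * y * x⁻¹) y⁻¹, h (x * y) x⁻¹, h x y, inv_mem_iff,
      inv_mem_iff]
    by_cases hx : x ∈ Im <;> by_cases hy : y ∈ Im <;> simp [hx, hy]
  refine (Subgroup.eq_of_le_of_card_ge hle ?_).symm
  have h1 := (Cfsg.Omega (ZMod 2) (⇑qP)).card_mul_index
  have h2 := Im.card_mul_index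
  rw [hidx] at h1
  rw [Im_index] at h2
  exact (Nat.eq_of_mul_eq_mul_right two_pos (h2.trans h1.symm)).le

end CfsgLib.Golay.E8Cent
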