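import Cfsg.Agent.Lib.Golay.E8Data

/-! The non-monomial automorphism attached to a sextet through the octad. -/

set_option autoImplicit false
set_option maxRecDepth 100000

namespace CfsgLib.Golay.E8Cent

open Cfsg CfsgLib.Golay

/-- The parity mask of half a vector. -/
def halfMask (y : GolayPt → ℤ) : ℕ :=
  (List.range 24).foldr (fun i s => if (y (pt i) / 2) % 2 = 1 then 2 ^ i ||| s else s) 0

/-- Half of twice the image. -/
def xiH (x : GolayPt → ℤ) : GolayPt → ℤ := fun i => xiT x i / 2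

/-- A criterion for even lattice vectors. -/
def OKE (y : GolayPt → ℤ) : Prop :=
  (∀ i, y i % 2 = 0) ∧ isCode (halfMask y) = true ∧
    (∀ i, mword (halfMask y) i = ((y i / 2 : ℤ) : ZMod 2)) ∧ (∑ i, y i / 2) % 4 = 0

instance (y : GolayPt → ℤ) : Decidable (OKE y) := by unfold OKE; infer_instance

theorem mem_of_oke {y : GolayPt → ℤ} (h : OKE y) : y ∈ leechLattice := by
  obtain ⟨h1, h2, h3, h4⟩ := h
  have e : y = fun i => 2 * (y i / 2) := funext fun i => by have := h1 i; omega
  rw [e, even_mem_iff]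
  refine ⟨?_, Int.dvd_of_emod_eq_zero h4⟩
  rw [show mod2 (fun i => y i / 2) = mword (halfMask y) from funext fun i => (h3 i).symm]
  exact mem_golayCode_iff.2 ⟨_, h2, rfl⟩

/-- The mask of the entries `3` modulo four. -/
def threeMask (y : GolayPt → ℤ) : ℕ :=
  (List.range 24).foldr (fun i s => if y (pt i) % 4 = 3 then 2 ^ i ||| s else s) 0

/-- A criterion for odd lattice vectors. -/
def OKO (y : GolayPt → ℤ) : Prop :=
  (∀ i, y i % 2 = 1) ∧ (Finset.univ.filter fun i => y i % 4 = 3) = mset (threeMask y) ∧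
    isCode (threeMask y) = true ∧ ((∑ i, y i) - 4) % 8 = 0

instance (y : GolayPt → ℤ) : Decidable (OKO y) := by unfold OKO; infer_instance

theorem mem_of_ok {y : GolayPt → ℤ} (h : OKE y ∨ OKO y) : y ∈ leechLattice := by
  rcases h with h | ⟨h1, h2, h3, h4⟩
  · exact mem_of_oke h
  · refine (odd_mem_iff h1).2 ⟨?_, Int.dvd_of_emod_eq_zero h4⟩
    rw [h2]; exact mem_supports_iff.2 ⟨_, h3, rfl⟩

/-- The vectors sent into twice the lattice. -/
def xiDom : AddSubgroup (GolayPt → ℤ) where
  carrier := {x | ∃ y ∈ leechLattice, xiT x = 2 • y}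
  zero_mem' := ⟨0, zero_mem _, by simp⟩
  add_mem' := by
    rintro x x' ⟨y, hy, e⟩ ⟨y', hy', e'⟩
    exact ⟨y + y', add_mem hy hy', by rw [map_add, e, e', smul_add]⟩
  neg_mem' := by
    rintro x ⟨y, hy, e⟩
    exact ⟨-y, neg_mem hy, by rw [map_neg, e, smul_neg]⟩

theorem xiDom_of {x : GolayPt → ℤ} (h : ∀ i, xiT x i % 2 = 0) (h' : xiH x ∈ leechLattice) :
    x ∈ xiDom :=
  ⟨xiH x, h', funext fun i => by
    rw [Pi.smul_apply, two_nsmul]; have := h i; simp only [xiH]; omega⟩

/-- `2 a` for the indicator `a` of a mask. -/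
def dblMask (g : ℕ) : GolayPt → ℤ := fun i => if i ∈ mset g then 2 else 0

/-- `4 e_i - 4 e_∞`. -/
def diff4 (i : GolayPt) : GolayPt → ℤ := Pi.single i 4 - Pi.single pinf 4

theorem gens_ok : (∀ g ∈ gens, (∀ i, xiT (dblMask g) i % 2 = 0) ∧ (OKE (xiH (dblMask g)) ∨ OKO (xiH (dblMask g))) ∧
      mword g = mod2 (fun i => if i ∈ mset g then (1 : ℤ) else 0) ∧
      (∑ i, if i ∈ mset g then (1 : ℤ) else 0) % 4 = 0) ∧
    (∀ p, (∀ i, xiT (diff4 p) i % 2 = 0) ∧ OKE (xiH (diff4 p))) ∧
    (∀ i, xiT (Pi.single pinf 8) i % 2 = 0) ∧ OKE (xiH (Pi.single pinf 8)) := by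
  decide +kernel

theorem five_ok : (∀ i, xiT five i % 2 = 0) ∧ (OKE (xiH five) ∨ OKO (xiH five)) := by
  decide +kernel

theorem leech_le_xiDom : leechLattice ≤ xiDom := by
  have hfive : five ∈ xiDom := xiDom_of five_ok.1 (mem_of_ok five_ok.2)
  obtain ⟨hg, hd, he1, he2⟩ := gens_ok
  have hdiff : ∀ p, diff4 p ∈ xiDom := fun p => xiDom_of (hd p).1 (mem_of_oke (hd p).2)
  have height : Pi.single pinf (8 : ℤ) ∈ xiDom := xiDom_of he1 (mem_of_oke he2)
  let P : Submodule (ZMod 2) (GolayPt → ZMod 2) :=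
    { carrier := {w | ∃ c : GolayPt → ℤ, mod2 c = w ∧ (4 : ℤ) ∣ ∑ i, c i ∧
        (fun i => 2 * c i) ∈ xiDom}
      zero_mem' := ⟨0, funext fun i => by simp [mod2], by simp, by
        rw [show (fun i => 2 * (0 : GolayPt → ℤ) i) = 0 from funext fun i => by simp]
        exact zero_mem xiDom⟩
      add_mem' := by
        rintro _ _ ⟨c, rfl, c2, c3⟩ ⟨d, rfl, d2, d3⟩
        refine ⟨c + d, mod2_add c d, ?_, ?_⟩
        · simp only [Pi.add_apply, Finset.sum_add_distrib]; exact dvd_add c2 d2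
        · rw [show (fun i => 2 * (c + d) i) = (fun i => 2 * c i) + fun i => 2 * d i from
            funext fun i => by simp [mul_add]]
          exact add_mem c3 d3
      smul_mem' := by
        rintro r _ ⟨c, rfl, c2, c3⟩
        rcases (show r = 0 ∨ r = 1 by revert r; decide) with rfl | rfl
        · exact ⟨0, funext fun i => by simp [mod2], by simp, by
            rw [show (fun i => 2 * (0 : GolayPt → ℤ) i) = 0 from funext fun i => by simp]
            exact zero_mem xiDom⟩
        · exact ⟨c, (one_smul _ _).symm, c2, c3⟩ }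
  have hcode : ∀ w ∈ golayCode, w ∈ P := fun w hw => by
    obtain ⟨m, hm, rfl⟩ := mem_golayCode_iff.1 hw
    rw [← isCode_iff.1 hm]
    refine mword_enc_mem_submodule P (fun g hg' => ?_) _
    obtain ⟨g1, g2, g3, g4⟩ := hg g hg'
    refine ⟨fun i => if i ∈ mset g then 1 else 0, g3.symm, Int.dvd_of_emod_eq_zero g4, ?_⟩
    rw [show (fun i => 2 * if i ∈ mset g then (1 : ℤ) else 0) = dblMask g from funext fun i => by
      simp only [dblMask]; split_ifs <;> norm_num]
    exact xiDom_of g1 (mem_of_ok g2)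
  intro x hx
  obtain ⟨m, a, h1, h2, h3⟩ := mem_leechLattice_iff.1 hx
  have hsub : x - m • five ∈ leechLattice := sub_mem hx (AddSubgroup.zsmul_mem _ five_mem _)
  let a' : GolayPt → ℤ := fun i => a i - if i = pinf then 2 * m else 0
  have e : x - m • five = fun i => 2 * a' i := funext fun i => by
    simp only [Pi.sub_apply, Pi.smul_apply, smul_eq_mul, a', h1 i, five]
    split_ifs <;> ring
  rw [e, even_mem_iff] at hsub
  obtain ⟨c, c1, c2, c3⟩ := hcode _ hsub.1
  have hdiv : ∀ i, (2 : ℤ) ∣ a' i - c i := mod2_eq_iff.1 c1.symm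
  choose b hb using hdiv
  have hsum : ∑ i, a' i - ∑ i, c i = 2 * ∑ i, b i := by
    rw [← Finset.sum_sub_distrib, Finset.mul_sum]
    exact Finset.sum_congr rfl fun i _ => hb i
  obtain ⟨s, hs⟩ : (2 : ℤ) ∣ ∑ i, b i := by
    have := hsub.2
    generalize ∑ i, a' i = A at this hsum
    generalize ∑ i, c i = C at c2 hsum
    omega
  have hfour : (fun i => 4 * b i) = (∑ i, b i • diff4 i) + s • Pi.single pinf (8 : ℤ) := by
    funext q
    simp only [diff4, Pi.add_apply, Finset.sum_apply, Pi.smul_apply, Pi.sub_apply, smul_eq_mul,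
      mul_sub, Finset.sum_sub_distrib, Pi.single_apply, mul_ite, mul_zero, Finset.sum_ite_eq,
      Finset.mem_univ, if_true]
    by_cases hq : q = pinf
    · simp only [hq, if_true]
      rw [← Finset.sum_mul, hs]; ring
    · simp [hq, mul_comm]
  have hmain : (fun i => 2 * a' i) = (fun i => 2 * c i) + fun i => 4 * b i := funext fun i => by
    simp only [Pi.add_apply]; linarith [hb i]
  have hx' : x = m • five + ((fun i => 2 * c i) + fun i => 4 * b i) := by
    rw [← hmain, ← e]; abel
  rw [hx', hfour]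
  exact add_mem (AddSubgroup.zsmul_mem _ hfive _) (add_mem c3
    (add_mem (sum_mem fun i _ => AddSubgroup.zsmul_mem _ (hdiff i) _)
      (AddSubgroup.zsmul_mem _ height _)))

theorem xiT_expand (x : GolayPt → ℤ) : xiT x = ∑ j, x j • xiT (Pi.single j 1) := by
  have e : x = ∑ j, x j • (Pi.single j (1 : ℤ) : GolayPt → ℤ) := by
    funext i; simp [Finset.sum_apply, Pi.single_apply]
  conv_lhs => rw [e]
  simp only [map_sum, map_zsmul]

theorem xiT_sq (x : GolayPt → ℤ) : xiT (xiT x) = 4 • x := by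
  funext i
  rw [xiT_expand x, map_sum]
  simp only [Finset.sum_apply, map_zsmul, Pi.smul_apply, (xiT_single i _).1]
  simp [Pi.single_apply, mul_comm]

theorem xiT_symm (x y : GolayPt → ℤ) : dotInt (xiT x) y = dotInt x (xiT y) := by
  rw [xiT_expand x, xiT_expand y]
  simp only [dotInt, Finset.sum_apply, Pi.smul_apply, smul_eq_mul, Finset.mul_sum, Finset.sum_mul]
  rw [Finset.sum_comm]
  refine Finset.sum_congr rfl fun i _ => Finset.sum_congr rfl fun j _ => ?_
  rw [(xiT_single j i).2]; ring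

theorem xiT_even {x : GolayPt → ℤ} (hx : x ∈ leechLattice) :
    xiH x ∈ leechLattice ∧ xiT x = 2 • xiH x := by
  obtain ⟨y, hy, e⟩ := leech_le_xiDom hx
  have : xiH x = y := funext fun i => by
    simp only [xiH, e, Pi.smul_apply, two_nsmul]; omega
  rw [this]; exact ⟨hy, e⟩

/-- The automorphism as a homomorphism of the lattice. -/
def xiHom : leechLattice →+ leechLattice :=
  AddMonoidHom.mk' (fun v => ⟨xiH v, (xiT_even v.2).1⟩) fun v w => Subtype.ext (funext fun i => by
    have h1 := congrFun (xiT_even v.2).2 i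
    have h2 := congrFun (xiT_even w.2).2 i
    simp only [Pi.smul_apply, two_nsmul] at h1 h2
    simp only [AddSubgroup.coe_add, xiH, map_add, Pi.add_apply]
    omega)

theorem xiHom_xiHom (v : leechLattice) : xiHom (xiHom v) = v := by
  refine Subtype.ext (funext fun i => ?_)
  have h1 : xiT (xiT (v : GolayPt → ℤ)) i = 4 * (v : GolayPt → ℤ) i := by rw [xiT_sq]; simp
  rw [(xiT_even v.2).2, map_nsmul, Pi.smul_apply, two_nsmul] at h1
  have h2 := congrFun (xiT_even (xiT_even v.2).1).2 i
  simp only [Pi.smul_apply, two_nsmul] at h2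
  show xiH (xiH v) i = _
  omega

theorem xiHom_norm (v : leechLattice) :
    sqNorm ((xiHom v : leechLattice) : GolayPt → ℤ) = sqNorm (v : GolayPt → ℤ) := by
  have e : sqNorm (xiT (v : GolayPt → ℤ)) = 4 * sqNorm (v : GolayPt → ℤ) := by
    rw [← dotInt_self, xiT_symm, xiT_sq, ← dotInt_self]
    simp only [dotInt, Finset.mul_sum, Pi.smul_apply, nsmul_eq_mul, Nat.cast_ofNat]
    exact Finset.sum_congr rfl fun i _ => by ring
  rw [(xiT_even v.2).2] at e
  have e' : sqNorm (2 • xiH (v : GolayPt → ℤ)) = 4 * sqNorm (xiH (v : GolayPt → ℤ)) := by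
    simp only [sqNorm, Finset.mul_sum, Pi.smul_apply, nsmul_eq_mul, Nat.cast_ofNat]
    exact Finset.sum_congr rfl fun i _ => by ring
  show sqNorm (xiH (v : GolayPt → ℤ)) = _
  omega

/-- The automorphism. -/
noncomputable def xi : Co0 :=
  mkCo0
    { toFun := xiHom
      invFun := xiHom
      left_inv := xiHom_xiHom
      right_inv := xiHom_xiHom
      map_add' := map_add xiHom } xiHom_norm

theorem xi_smul (v : leechLattice) : ((xi • v : leechLattice) : GolayPt → ℤ) = xiH v := rfl

end CfsgLib.Golay.E8Cent
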