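import Cfsg.Agent.Lib.Golay.Octads

/-! Propagation of facts `σ • A = B` for `σ ∈ M24`, used to refute or pin down images. -/

set_option autoImplicit false
set_option maxRecDepth 100000

namespace CfsgLib.Golay

open Cfsg
open scoped Pointwise

/-- `σ` carries the first mask to the second. -/
def MapsTo24 (σ : Equiv.Perm GolayPt) (ab : ℕ × ℕ) : Prop :=
  ab.1 < 16777216 ∧ ab.2 < 16777216 ∧ σ • mset ab.1 = mset ab.2

theorem mapsTo24_zero (σ : Equiv.Perm GolayPt) : MapsTo24 σ (0, 0) :=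
  ⟨by norm_num, by norm_num, by simp [mset_zero]⟩

theorem mapsTo24_full (σ : Equiv.Perm GolayPt) : MapsTo24 σ (16777215, 16777215) :=
  ⟨by norm_num, by norm_num, by simp [mset_full]⟩

theorem MapsTo24.union {σ : Equiv.Perm GolayPt} {p q : ℕ × ℕ} (hp : MapsTo24 σ p)
    (hq : MapsTo24 σ q) : MapsTo24 σ (Nat.lor p.1 q.1, Nat.lor p.2 q.2) := by
  refine ⟨?_, ?_, ?_⟩
  · exact Nat.or_lt_two_pow (n := 24) hp.1 hq.1
  · exact Nat.or_lt_two_pow (n := 24) hp.2.1 hq.2.1
  · show σ • mset (p.1 ||| q.1) = mset (p.2 ||| q.2)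
    rw [mset_or, mset_or, Finset.smul_finset_union, hp.2.2, hq.2.2]

theorem MapsTo24.inter {σ : Equiv.Perm GolayPt} {p q : ℕ × ℕ} (hp : MapsTo24 σ p)
    (hq : MapsTo24 σ q) : MapsTo24 σ (Nat.land p.1 q.1, Nat.land p.2 q.2) := by
  refine ⟨?_, ?_, ?_⟩
  · exact lt_of_le_of_lt Nat.and_le_left hp.1
  · exact lt_of_le_of_lt Nat.and_le_left hp.2.1
  · show σ • mset (p.1 &&& q.1) = mset (p.2 &&& q.2)
    rw [mset_and, mset_and, Finset.smul_finset_inter, hp.2.2, hq.2.2]

theorem MapsTo24.diff {σ : Equiv.Perm GolayPt} {p q : ℕ × ℕ} (hp : MapsTo24 σ p)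
    (hq : MapsTo24 σ q) :
    MapsTo24 σ (Nat.xor p.1 (Nat.land p.1 q.1), Nat.xor p.2 (Nat.land p.2 q.2)) := by
  refine ⟨?_, ?_, ?_⟩
  · exact Nat.xor_lt_two_pow (n := 24) hp.1 (lt_of_le_of_lt Nat.and_le_left hp.1)
  · exact Nat.xor_lt_two_pow (n := 24) hp.2.1 (lt_of_le_of_lt Nat.and_le_left hp.2.1)
  · show σ • mset (p.1 ^^^ (p.1 &&& q.1)) = mset (p.2 ^^^ (p.2 &&& q.2))
    rw [mset_sdiff, mset_sdiff, Finset.smul_finset_sdiff, hp.2.2, hq.2.2]

/-- Side condition of the octad step: the source lies in the octad `O` and the target shares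
five points with the octad `O'`. -/
def octCond (p : ℕ × ℕ) (O O' : ℕ) : Bool :=
  isCode O && Nat.beq (pop O) 8 && isCode O' && Nat.beq (pop O') 8 &&
    Nat.beq (Nat.land p.1 O) p.1 && Nat.ble 5 (pop (Nat.land p.2 O'))

theorem MapsTo24.oct {σ : Equiv.Perm GolayPt} (hσ : σ ∈ M24) {p : ℕ × ℕ} {O O' : ℕ}
    (hp : MapsTo24 σ p) (hc : octCond p O O' = true) : MapsTo24 σ (O, O') := by
  simp only [octCond, Bool.and_eq_true] at hc
  obtain ⟨⟨⟨⟨⟨h1, h2⟩, h3⟩, h4⟩, h5⟩, h6⟩ := hc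
  refine ⟨isCode_lt h1, isCode_lt h3, ?_⟩
  have ho : mset O ∈ octads :=
    mem_octads_iff.2 ⟨O, mem_octList.2 ⟨h1, Nat.eq_of_beq_eq_true h2⟩, rfl⟩
  have ho' : mset O' ∈ octads :=
    mem_octads_iff.2 ⟨O', mem_octList.2 ⟨h3, Nat.eq_of_beq_eq_true h4⟩, rfl⟩
  refine octads_eq_of_five (M24_smul_octad hσ ho) ho' ?_
  calc 5 ≤ pop (Nat.land p.2 O') := Nat.le_of_ble_eq_true h6
    _ = (mset p.2 ∩ mset O').card := by rw [← card_mset, ← mset_and]; rfl
    _ ≤ _ := by
      apply Finset.card_le_card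
      apply Finset.inter_subset_inter_right
      rw [← hp.2.2]
      apply Finset.smul_finset_subset_smul_finset
      intro x hx
      rw [← Nat.eq_of_beq_eq_true h5, show Nat.land p.1 O = p.1 &&& O from rfl, mset_and] at hx
      exact (Finset.mem_inter.1 hx).2

/-- One derivation step. Facts are indexed from the most recent one. A step `(k, i, j)` is a
union, intersection or difference of facts `i`, `j` for `k = 0, 1, 2`, and for `k ≥ 3` the
octad step from fact `k - 3` with octads `i` and `j`. -/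
def step1 (F : List (ℕ × ℕ)) (s : ℕ × ℕ × ℕ) : ℕ × ℕ :=
  match s with
  | (0, i, j) => let p := F.getD i (0, 0); let q := F.getD j (0, 0)
      (Nat.lor p.1 q.1, Nat.lor p.2 q.2)
  | (1, i, j) => let p := F.getD i (0, 0); let q := F.getD j (0, 0)
      (Nat.land p.1 q.1, Nat.land p.2 q.2)
  | (2, i, j) => let p := F.getD i (0, 0); let q := F.getD j (0, 0)
      (Nat.xor p.1 (Nat.land p.1 q.1), Nat.xor p.2 (Nat.land p.2 q.2))
  | (k + 3, O, O') => bif octCond (F.getD k (0, 0)) O O' then (O, O') else (0, 0)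

/-- Run a list of derivation steps. -/
def runSteps : List (ℕ × ℕ × ℕ) → List (ℕ × ℕ) → List (ℕ × ℕ)
  | [], F => F
  | s :: ss, F => runSteps ss (step1 F s :: F)

theorem mapsTo24_getD {σ : Equiv.Perm GolayPt} {F : List (ℕ × ℕ)}
    (h : ∀ p ∈ F, MapsTo24 σ p) (i : ℕ) : MapsTo24 σ (F.getD i (0, 0)) := by
  rw [List.getD_eq_getElem?_getD]
  cases he : F[i]? with
  | none => exact mapsTo24_zero σ
  | some v => exact h v (List.mem_of_getElem? he)

theorem step1_sound {σ : Equiv.Perm GolayPt} (hσ : σ ∈ M24) {F : List (ℕ × ℕ)}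
    (h : ∀ p ∈ F, MapsTo24 σ p) (s : ℕ × ℕ × ℕ) : MapsTo24 σ (step1 F s) := by
  obtain ⟨k, i, j⟩ := s
  match k with
  | 0 => exact (mapsTo24_getD h i).union (mapsTo24_getD h j)
  | 1 => exact (mapsTo24_getD h i).inter (mapsTo24_getD h j)
  | 2 => exact (mapsTo24_getD h i).diff (mapsTo24_getD h j)
  | k + 3 =>
    simp only [step1]
    cases hc : octCond (F.getD k (0, 0)) i j with
    | true => exact (mapsTo24_getD h k).oct hσ hc
    | false => exact mapsTo24_zero σ

theorem runSteps_sound {σ : Equiv.Perm GolayPt} (hσ : σ ∈ M24) :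
    ∀ {ss : List (ℕ × ℕ × ℕ)} {F : List (ℕ × ℕ)}, (∀ p ∈ F, MapsTo24 σ p) →
      ∀ p ∈ runSteps ss F, MapsTo24 σ p
  | [], _, h => h
  | s :: ss, F, h => runSteps_sound hσ (ss := ss) (F := step1 F s :: F) fun p hp => by
    rcases List.mem_cons.1 hp with rfl | hp
    · exact step1_sound hσ h s
    · exact h p hp

/-- A fact no element of `M24` satisfies. -/
def badFact (p : ℕ × ℕ) : Bool := !Nat.beq (pop p.1) (pop p.2) || (isCode p.1 != isCode p.2)

theorem not_badFact {σ : Equiv.Perm GolayPt} (hσ : σ ∈ M24) {p : ℕ × ℕ} (hp : MapsTo24 σ p) :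
    badFact p = false := by
  have e1 : pop p.1 = pop p.2 := by
    rw [← card_mset, ← card_mset, ← hp.2.2, Finset.card_smul_finset]
  have e2 : isCode p.1 = isCode p.2 := by
    rw [Bool.eq_iff_iff, ← mset_mem_supports_iff hp.1, ← mset_mem_supports_iff hp.2.1, ← hp.2.2]
    constructor
    · exact mem_M24_iff.1 hσ _
    · intro h
      have := mem_M24_iff.1 (Subgroup.inv_mem _ hσ) _ h
      rwa [inv_smul_smul] at this
  simp [badFact, e1, e2]

/-- The steps derive an impossible fact from the given ones. -/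
def refutes (ss : List (ℕ × ℕ × ℕ)) (F : List (ℕ × ℕ)) : Bool :=
  badFact ((runSteps ss F).getD 0 (0, 0))

theorem refutes_sound {σ : Equiv.Perm GolayPt} (hσ : σ ∈ M24) {ss : List (ℕ × ℕ × ℕ)}
    {F : List (ℕ × ℕ)} (hr : refutes ss F = true) : ¬ ∀ p ∈ F, MapsTo24 σ p := by
  intro h
  have := not_badFact hσ (mapsTo24_getD (runSteps_sound hσ (ss := ss) h) 0)
  rw [refutes] at hr
  rw [this] at hr; exact absurd hr (by simp)

end CfsgLib.Golay
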