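import Cfsg.Agent.Lib.Golay.OrbitTree

/-!
A fast kernel test that a matrix maps one packed lattice vector to another: the products are formed in
32-bit lanes of natural numbers.
-/

set_option autoImplicit false
set_option maxRecDepth 100000

namespace CfsgLib.Golay.OrbitTree

open Cfsg CfsgLib.Golay

/-- Lanes of 32 bits. -/
def pack : (ℕ → ℕ) → ℕ → ℕ
  | _, 0 => 0
  | f, k + 1 => f 0 + 4294967296 * pack (fun i => f (i + 1)) k

theorem pack_add : ∀ (f g : ℕ → ℕ) (k : ℕ), pack f k + pack g k = pack (fun i => f i + g i) k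
  | _, _, 0 => rfl
  | f, g, k + 1 => by
    simp only [pack, ← pack_add (fun i => f (i + 1)) (fun i => g (i + 1)) k]
    ring

theorem pack_mul : ∀ (c : ℕ) (f : ℕ → ℕ) (k : ℕ), c * pack f k = pack (fun i => c * f i) k
  | _, _, 0 => rfl
  | c, f, k + 1 => by
    simp only [pack, ← pack_mul c (fun i => f (i + 1)) k]
    ring

theorem pack_zero : ∀ k : ℕ, pack (fun _ => 0) k = 0
  | 0 => rfl
  | k + 1 => by simp [pack, pack_zero k]

theorem pack_inj : ∀ {f g : ℕ → ℕ} {k : ℕ}, (∀ i < k, f i < 4294967296) → (∀ i < k, g i < 4294967296) →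
    pack f k = pack g k → ∀ i < k, f i = g i
  | f, g, 0, _, _, _, i, hi => absurd hi (Nat.not_lt_zero i)
  | f, g, k + 1, hf, hg, h, i, hi => by
    simp only [pack] at h
    have h0 := hf 0 (Nat.succ_pos k)
    have h1 := hg 0 (Nat.succ_pos k)
    have e0 : f 0 = g 0 := by omega
    cases i with
    | zero => exact e0
    | succ i =>
      exact pack_inj (f := fun i => f (i + 1)) (g := fun i => g (i + 1)) (k := k)
        (fun j hj => hf _ (Nat.succ_lt_succ hj)) (fun j hj => hg _ (Nat.succ_lt_succ hj)) (by omega) i (by omega)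

/-- The combination of the columns with the digits of `v` as coefficients. -/
def mulAdd : List ℕ → ℕ → ℕ
  | [], _ => 0
  | c :: cs, v => Nat.land v 15 * c + mulAdd cs (Nat.shiftRight v 4)

theorem mulAdd_eq : ∀ (n : ℕ) (F : ℕ → ℕ → ℕ) (v : ℕ) (k : ℕ),
    mulAdd ((List.range n).map fun j => pack (F j) k) v =
      pack (fun i => ∑ j ∈ Finset.range n, dig v j * F j i) k
  | 0, F, v, k => by simp [mulAdd, pack_zero]
  | n + 1, F, v, k => by
    rw [List.range_succ_eq_map, List.map_cons, List.map_map, mulAdd]
    have := mulAdd_eq n (fun j => F (j + 1)) (Nat.shiftRight v 4) k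
    simp only [Function.comp_def] at this ⊢
    rw [this, pack_mul, pack_add]
    congr 1
    funext i
    rw [Finset.sum_range_succ' _ n, add_comm]
    congr 1
    refine Finset.sum_congr rfl fun j _ => ?_
    congr 1
    show Nat.land ((v >>> 4) >>> (4 * j)) 15 = Nat.land (v >>> (4 * (j + 1))) 15
    rw [← Nat.shiftRight_add]
    congr 2
    omega

theorem sum_pack : ∀ (n : ℕ) (F : ℕ → ℕ → ℕ) (k : ℕ),
    ((List.range n).map fun j => pack (F j) k).sum = pack (fun i => ∑ j ∈ Finset.range n, F j i) k
  | 0, F, k => by simp [pack_zero]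
  | n + 1, F, k => by
    rw [List.range_succ_eq_map, List.map_cons, List.map_map, List.sum_cons]
    have := sum_pack n (fun j => F (j + 1)) k
    simp only [Function.comp_def] at this ⊢
    rw [this, pack_add]
    congr 1
    funext i
    rw [Finset.sum_range_succ' _ n, add_comm]

/-- The shifted entry. -/
def entryN (M : GolayPt → GolayPt → ℤ) (i j : ℕ) : ℕ := (M (pt i) (pt j) + 64).toNat

/-- The packed columns. -/
def colsOf (M : GolayPt → GolayPt → ℤ) : List ℕ :=
  (List.range 24).map fun j => pack (fun i => entryN M i j) 24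

/-- The list is the list of packed columns and the entries are small. -/
def colsOK (M : GolayPt → GolayPt → ℤ) (cols : List ℕ) : Bool :=
  decide (cols = colsOf M) &&
    (List.range 24).all fun i => (List.range 24).all fun j =>
      decide (0 ≤ M (pt i) (pt j) + 64) && decide (entryN M i j < 256)

/-- Sum of the digits. -/
def dsum (v : ℕ) : ℕ := mulAdd (List.replicate 24 1) v

/-- All lanes equal to one. -/
def ones : ℕ := pack (fun _ => 1) 24

/-- The test that the matrix with packed columns `cols` maps `v` to `t`. -/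
def fastStep (cols : List ℕ) (v t : ℕ) : Bool :=
  Nat.beq (mulAdd cols v + 12352 * ones) (8 * pack (dig t) 24 + 8 * cols.sum + 64 * dsum v * ones)

theorem dsum_eq (v : ℕ) : dsum v = ∑ j ∈ Finset.range 24, dig v j := by
  have e : List.replicate 24 1 = (List.range 24).map fun _ => pack (fun _ => 1) 1 := by decide
  rw [dsum, e, mulAdd_eq]
  simp [pack]

theorem dig_lt (v j : ℕ) : dig v j < 16 := Nat.lt_succ_of_le Nat.and_le_right

theorem sum_pt (f : GolayPt → ℤ) : ∑ q, f q = ∑ j ∈ Finset.range 24, f (pt j) :=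
  Finset.sum_bij' (fun q _ => idx q) (fun j _ => pt j) (fun q _ => Finset.mem_range.2 (idx_lt q))
    (fun j _ => Finset.mem_univ _) (fun q _ => pt_idx q)
    (fun j hj => idx_pt (Finset.mem_range.1 hj)) (fun q _ => by rw [pt_idx])

theorem fastStep_spec {M : GolayPt → GolayPt → ℤ} {cols : List ℕ} (h : colsOK M cols = true) {v t : ℕ}
    (hs : fastStep cols v t = true) : matFun M (decV v) = decV t := by
  simp only [colsOK, Bool.and_eq_true, decide_eq_true_iff, List.all_eq_true, List.mem_range] at h
  obtain ⟨rfl, hb⟩ := h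
  have he := Nat.eq_of_beq_eq_true hs
  rw [colsOf, mulAdd_eq, sum_pack, ones, pack_mul, pack_mul, pack_mul, pack_mul, pack_add, pack_add,
    pack_add] at he
  have hlane := pack_inj ?_ ?_ he
  · funext p
    obtain ⟨i, hi, rfl⟩ : ∃ i < 24, pt i = p := ⟨idx p, idx_lt p, pt_idx p⟩
    have e := hlane i hi
    rw [dsum_eq] at e
    have e' := congrArg (fun n : ℕ => (n : ℤ)) e
    push_cast at e'
    have key : dotInt (M (pt i)) (decV v) =
        ∑ j ∈ Finset.range 24, ((entryN M i j : ℤ) - 64) * ((dig v j : ℤ) - 8) := by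
      rw [dotInt, sum_pt]
      refine Finset.sum_congr rfl fun j hj => ?_
      have hj' := Finset.mem_range.1 hj
      have h0 := (hb i hi j hj').1
      show M (pt i) (pt j) * ((dig v (idx (pt j)) : ℤ) - 8) = _
      rw [idx_pt hj', entryN, Int.toNat_of_nonneg h0]
      ring
    have expand : ∑ j ∈ Finset.range 24, ((entryN M i j : ℤ) - 64) * ((dig v j : ℤ) - 8) =
        (∑ j ∈ Finset.range 24, (dig v j : ℤ) * (entryN M i j : ℤ)) -
          8 * (∑ j ∈ Finset.range 24, (entryN M i j : ℤ)) - 64 * (∑ j ∈ Finset.range 24, (dig v j : ℤ)) +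
          12288 := by
      simp only [sub_mul, mul_sub, Finset.sum_sub_distrib, Finset.mul_sum, Finset.sum_const,
        Finset.card_range, mul_comm (entryN M i _ : ℤ)]
      simp
      ring
    show dotInt (M (pt i)) (decV v) / 8 = (dig t (idx (pt i)) : ℤ) - 8
    rw [key, expand, idx_pt hi]
    omega
  · intro i hi
    have h1 : ∀ j ∈ Finset.range 24, dig v j * entryN M i j ≤ 3840 := fun j hj => by
      have := (hb i hi j (Finset.mem_range.1 hj)).2
      have := dig_lt v j
      calc dig v j * entryN M i j ≤ 15 * 256 := Nat.mul_le_mul (by omega) (by omega)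
        _ = 3840 := rfl
    have := Finset.sum_le_sum h1
    simp at this
    omega
  · intro i hi
    have h1 : ∀ j ∈ Finset.range 24, entryN M i j ≤ 256 := fun j hj =>
      (hb i hi j (Finset.mem_range.1 hj)).2.le
    have := Finset.sum_le_sum h1
    have h2 : ∀ j ∈ Finset.range 24, dig v j ≤ 15 := fun j _ => Nat.le_of_lt_succ (dig_lt v j)
    have h3 := Finset.sum_le_sum h2
    have := dig_lt t i
    rw [dsum_eq]
    simp at *
    omega

end CfsgLib.Golay.OrbitTree
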