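import Mathlib

/-!
Strongly regular graphs without triangles: the discriminant is a square.
-/

set_option autoImplicit false

namespace CfsgLib.TriangleFree

open scoped _root_.Classical
open Matrix

/-- The trace of a real idempotent matrix is a natural number. -/
theorem trace_idem_real {V : Type*} [Fintype V] [DecidableEq V] {Q : Matrix V V ℝ}
    (h : Q * Q = Q) : ∃ z : ℕ, Q.trace = (z : ℝ) := by
  have he : IsIdempotentElem (Matrix.toLin' Q) := by
    show Matrix.toLin' Q * Matrix.toLin' Q = _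
    rw [Module.End.mul_eq_comp, ← Matrix.toLin'_mul, h]
  obtain ⟨p, hp⟩ := (LinearMap.isProj_iff_isIdempotentElem _).2 he
  exact ⟨Module.finrank ℝ p, by rw [← Matrix.trace_toLin'_eq, hp.trace]⟩

/-- A triangle-free strongly regular graph with `k ≥ 3`: `c ^ 2 + 4 (k - c)` is a square. -/
theorem discriminant_square {V : Type*} [Fintype V] (R : V → V → Prop)
    (hirr : ∀ x, ¬ R x x) (hsymm : ∀ x y, R x y → R y x) {k c : ℕ} (hk3 : 3 ≤ k) (hc1 : 1 ≤ c)
    (hck : c ≤ k)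
    (hk : ∀ x, {y | R x y}.ncard = k)
    (hl : ∀ x y z, R x y → R x z → ¬ R y z)
    (hm : ∀ x y, x ≠ y → ¬ R x y → {z | R x z ∧ R y z}.ncard = c)
    (hn : c * Fintype.card V + k = c + k * k + k * c) :
    ∃ d : ℕ, d * d + 4 * c = c * c + 4 * k := by
  obtain ⟨n, en⟩ : ∃ n : ℝ, n = (Fintype.card V : ℝ) := ⟨_, rfl⟩
  have hne : Nonempty V := by
    by_contra h
    rw [not_nonempty_iff] at h
    rw [Fintype.card_eq_zero, mul_zero, zero_add] at hn
    nlinarith
  have hn0 : n ≠ 0 := by rw [en]; exact_mod_cast Fintype.card_ne_zero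
  have hcard : ∀ p : V → Prop, (Finset.univ.filter fun y => p y).card = {y | p y}.ncard := by
    intro p
    rw [Set.ncard_eq_toFinset_card']
    simp
  obtain ⟨A, eA⟩ : ∃ A : Matrix V V ℝ, A = Matrix.of fun i j => if R i j then 1 else 0 := ⟨_, rfl⟩
  obtain ⟨J, eJ⟩ : ∃ J : Matrix V V ℝ, J = Matrix.of fun _ _ => 1 := ⟨_, rfl⟩
  have hAA : A * A + (c : ℝ) • A = ((k : ℝ) - c) • (1 : Matrix V V ℝ) + (c : ℝ) • J := by
    ext i j
    have e : (A * A) i j = ({z | R i z ∧ R j z}.ncard : ℝ) := by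
      rw [← hcard, eA, Matrix.mul_apply, ← Finset.sum_boole]
      refine Finset.sum_congr rfl fun z _ => ?_
      simp only [Matrix.of_apply]
      by_cases h : R i z <;> by_cases h' : R j z <;>
        simp [h, h', (show R z j ↔ R j z from ⟨hsymm _ _, hsymm _ _⟩)]
    simp only [Matrix.add_apply, Matrix.smul_apply, e, smul_eq_mul]
    simp only [eA, eJ, Matrix.of_apply, Matrix.one_apply]
    by_cases hij : i = j
    · subst hij
      simp only [and_self, hk, hirr, if_true, if_false]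
      ring
    · by_cases h : R i j
      · have h0 : {z | R i z ∧ R j z} = ∅ :=
          Set.eq_empty_of_forall_notMem fun z hz => hl i j z h hz.1 hz.2
        simp [h, h0, hij]
      · simp [h, hm i j hij h, hij]
  have hAJ : A * J = (k : ℝ) • J := by
    ext i j
    simp [eA, eJ, Matrix.mul_apply, Finset.sum_boole, hcard, hk]
  have hJA : J * A = (k : ℝ) • J := by
    ext i j
    have : {z | R z j} = {z | R j z} := Set.ext fun z => ⟨hsymm _ _, hsymm _ _⟩
    simp [eA, eJ, Matrix.mul_apply, Finset.sum_boole, hcard, this, hk]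
  have hJJ : J * J = n • J := by
    ext i j
    simp [eJ, en, Matrix.mul_apply]
  obtain ⟨M, eM⟩ : ∃ M : Matrix V V ℝ, M = (2 : ℝ) • A + (c : ℝ) • 1 := ⟨_, rfl⟩
  obtain ⟨Δ, eΔ⟩ : ∃ Δ : ℝ, Δ = (c : ℝ) * c + 4 * ((k : ℝ) - c) := ⟨_, rfl⟩
  have hMM : M * M = Δ • (1 : Matrix V V ℝ) + (4 * (c : ℝ)) • J := by
    have : M * M = (4 : ℝ) • (A * A + (c : ℝ) • A) + ((c : ℝ) * c) • (1 : Matrix V V ℝ) := by
      rw [eM]
      simp only [add_mul, mul_add, Matrix.smul_mul, Matrix.mul_smul, mul_one, one_mul, smul_smul]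
      module
    rw [this, hAA, eΔ]
    module
  have hMJ : M * J = (2 * (k : ℝ) + c) • J ∧ J * M = (2 * (k : ℝ) + c) • J := by
    constructor <;>
      simp only [eM, add_mul, mul_add, Matrix.smul_mul, Matrix.mul_smul, mul_one, one_mul, hAJ, hJA,
        smul_smul] <;> module
  obtain ⟨Q, eQ⟩ : ∃ Q : Matrix V V ℝ, Q = 1 - n⁻¹ • J := ⟨_, rfl⟩
  have hQQ : Q * Q = Q := by
    rw [eQ]
    simp only [sub_mul, mul_sub, one_mul, mul_one, Matrix.smul_mul, Matrix.mul_smul, hJJ, smul_smul]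
    rw [inv_mul_cancel₀ hn0, mul_one]
    abel
  have hJQ : J * Q = 0 := by
    rw [eQ, mul_sub, mul_one, Matrix.mul_smul, hJJ, smul_smul, inv_mul_cancel₀ hn0, one_smul,
      sub_self]
  have hMQ : M * Q = Q * M := by
    rw [eQ, mul_sub, sub_mul, Matrix.mul_smul, Matrix.smul_mul, hMJ.1, hMJ.2, mul_one, one_mul]
  obtain ⟨X, eX⟩ : ∃ X : Matrix V V ℝ, X = M * Q := ⟨_, rfl⟩
  have hXX : X * X = Δ • Q := by
    rw [eX, mul_assoc, ← mul_assoc Q, ← hMQ, mul_assoc M Q Q, hQQ, ← mul_assoc, hMM, add_mul,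
      Matrix.smul_mul, Matrix.smul_mul, one_mul, hJQ, smul_zero, add_zero]
  have hXQ : X * Q = X := by rw [eX, mul_assoc, hQQ]
  have hQX : Q * X = X := by rw [eX, ← mul_assoc, ← hMQ, mul_assoc, hQQ]
  have hΔ : 0 < Δ := by
    rw [eΔ]
    have : (1 : ℝ) ≤ c := by exact_mod_cast hc1
    have : (c : ℝ) ≤ k := by exact_mod_cast hck
    nlinarith
  obtain ⟨s, es⟩ : ∃ s : ℝ, s = Real.sqrt Δ := ⟨_, rfl⟩
  have hs : s * s = Δ := by rw [es]; exact Real.mul_self_sqrt hΔ.le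
  have hs0 : s ≠ 0 := fun h => by rw [h, mul_zero] at hs; exact hΔ.ne hs
  have hcoef : s⁻¹ * s⁻¹ * Δ = 1 := by
    rw [← hs]; field_simp
  obtain ⟨Y, eY⟩ : ∃ Y : Matrix V V ℝ, Y = s⁻¹ • X := ⟨_, rfl⟩
  have hYY : Y * Y = Q := by
    rw [eY, Matrix.smul_mul, Matrix.mul_smul, hXX, smul_smul, smul_smul, hcoef, one_smul]
  have hYQ : Y * Q = Y := by rw [eY, Matrix.smul_mul, hXQ]
  have hQY : Q * Y = Y := by rw [eY, Matrix.mul_smul, hQX]
  obtain ⟨f, hf⟩ := trace_idem_real (Q := (2 : ℝ)⁻¹ • (Q + Y)) (by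
    simp only [Matrix.smul_mul, Matrix.mul_smul, add_mul, mul_add, hQQ, hYQ, hQY, hYY, smul_smul]
    module)
  obtain ⟨g, hg⟩ := trace_idem_real (Q := (2 : ℝ)⁻¹ • (Q - Y)) (by
    simp only [Matrix.smul_mul, Matrix.mul_smul, sub_mul, mul_sub, hQQ, hYQ, hQY, hYY, smul_smul]
    module)
  simp only [Matrix.trace_smul, Matrix.trace_add, Matrix.trace_sub, smul_eq_mul] at hf hg
  have hT : X.trace = ((f : ℝ) - g) * s := by
    have : X = s • Y := by rw [eY, smul_smul, mul_inv_cancel₀ hs0, one_smul]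
    rw [this, Matrix.trace_smul, smul_eq_mul, ← hf, ← hg]; ring
  have hTv : X.trace = ((k * k + k * c : ℕ) : ℝ) - 3 * k := by
    have e1 : X.trace = n * c - (2 * (k : ℝ) + c) := by
      rw [eX, eQ, mul_sub, mul_one, Matrix.mul_smul, hMJ.1, Matrix.trace_sub, Matrix.trace_smul,
        Matrix.trace_smul]
      have tA : A.trace = 0 := by simp [eA, Matrix.trace, hirr]
      have tJ : J.trace = n := by simp [eJ, en, Matrix.trace]
      rw [eM, Matrix.trace_add, Matrix.trace_smul, Matrix.trace_smul, Matrix.trace_one, tA, tJ, ← en]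
      simp only [smul_eq_mul]
      field_simp
      ring
    have hnq : (c : ℝ) * n + k = c + k * k + k * c := by rw [en]; exact_mod_cast hn
    rw [e1]; push_cast; linarith
  obtain ⟨T, eT⟩ : ∃ T : ℤ, T = ((k * k + k * c : ℕ) : ℤ) - 3 * k := ⟨_, rfl⟩
  obtain ⟨D, eD⟩ : ∃ D : ℤ, D = (c : ℤ) * c + 4 * ((k : ℤ) - c) := ⟨_, rfl⟩
  have hTD : T * T = ((f : ℤ) - g) * ((f : ℤ) - g) * D := by
    have : (T : ℝ) * T = ((f : ℝ) - g) * ((f : ℝ) - g) * D := by
      have h1 : (T : ℝ) = X.trace := by rw [hTv, eT]; push_cast; ring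
      have h2 : (D : ℝ) = Δ := by rw [eD, eΔ]; push_cast; ring
      rw [h1, h2, hT, ← hs]; ring
    exact_mod_cast this
  have hT0 : T ≠ 0 := by
    rw [eT]; push_cast
    nlinarith
  have hfg : (f : ℤ) - g ≠ 0 := fun h => hT0 (by
    rw [h, zero_mul, zero_mul] at hTD; exact mul_self_eq_zero.1 hTD)
  have hdvd : ((f : ℤ) - g) ∣ T :=
    (Int.pow_dvd_pow_iff (two_ne_zero)).1 ⟨D, by rw [pow_two, pow_two]; exact hTD⟩
  obtain ⟨q, hq⟩ := hdvd
  have hD : D = q * q := by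
    refine mul_left_cancel₀ (mul_ne_zero hfg hfg) ?_
    rw [← hTD, hq]; ring
  refine ⟨q.natAbs, ?_⟩
  have : ((q.natAbs * q.natAbs + 4 * c : ℕ) : ℤ) = ((c * c + 4 * k : ℕ) : ℤ) := by
    push_cast
    rw [abs_mul_abs_self, ← hD, eD]
    ring
  exact_mod_cast this

end CfsgLib.TriangleFree
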