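import Cfsg.Agent.Lib.Golay.FischerOddCoreBasic
import Cfsg.Agent.Lib.Golay.TriangleFreeSquare

/-!
A class of 3-transpositions with noncentral odd core in the subgroup generated by the partners of
one member is the class of transpositions of the symmetric group of degree five.
-/

set_option autoImplicit false

namespace CfsgLib.FischerOdd

open Subgroup CfsgLib.Trans3

theorem three_mod_lemma {e i : ℕ} (hi : i % 3 = 2) : ∀ d, d * d ≠ 3 ^ e * i := by
  induction e using Nat.strong_induction_on with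
  | _ e ih =>
    intro d he
    rcases e with _ | _ | e
    · have := Nat.mul_mod d d 3
      rw [he] at this
      have hd : d % 3 < 3 := Nat.mod_lt _ (by norm_num)
      interval_cases d % 3 <;> simp_all
    · have h3 : 3 ∣ d := (Nat.Prime.dvd_mul Nat.prime_three).1 ⟨i, by rw [he]; ring⟩ |>.elim id id
      obtain ⟨t, rfl⟩ := h3
      have : i = 3 * (t * t) := by simp at he; nlinarith
      omega
    · have h3 : 3 ∣ d := (Nat.Prime.dvd_mul Nat.prime_three).1
        ⟨3 ^ (e + 1) * i, by rw [he]; ring⟩ |>.elim id id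
      obtain ⟨t, rfl⟩ := h3
      refine ih e (by omega) t ?_
      rw [pow_succ, pow_succ] at he
      nlinarith

/-- The only admissible parameters are those of the Petersen graph. -/
theorem params {β γ d : ℕ} (hlt : 3 ^ γ < 3 ^ β)
    (h : d * d + 4 * 3 ^ γ = 3 ^ γ * 3 ^ γ + 4 * 3 ^ β) : β = 1 ∧ γ = 0 := by
  have hγβ : γ < β := (Nat.pow_lt_pow_iff_right (by norm_num)).1 hlt
  rcases Nat.eq_zero_or_pos γ with rfl | hγ
  · refine ⟨?_, rfl⟩
    by_contra hne
    obtain ⟨j, rfl⟩ := Nat.exists_eq_add_of_le (show 2 ≤ β by omega)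
    rw [pow_add] at h
    have := Nat.mul_mod d d 9
    have hd : d % 9 < 9 := Nat.mod_lt _ (by norm_num)
    interval_cases d % 9 <;> omega
  · exfalso
    obtain ⟨γ', rfl⟩ := Nat.exists_eq_add_of_le (show 1 ≤ γ from hγ)
    obtain ⟨δ, rfl⟩ := Nat.exists_eq_add_of_le (show (1 + γ') + 1 ≤ β by omega)
    refine three_mod_lemma (e := 1 + γ') (i := 3 ^ (1 + γ') + 4 * 3 ^ (δ + 1) - 4) ?_ d ?_
    · have h1 : 3 ^ (1 + γ') = 3 * 3 ^ γ' := by rw [pow_add, pow_one]
      have h2 : 3 ^ (δ + 1) = 3 * 3 ^ δ := by rw [pow_succ]; ring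
      have := Nat.one_le_pow δ 3 (by norm_num)
      omega
    · have h2 : 4 ≤ 3 ^ (1 + γ') + 4 * 3 ^ (δ + 1) := by
        have := Nat.one_le_pow (δ + 1) 3 (by norm_num); omega
      obtain ⟨i, hi⟩ := Nat.exists_eq_add_of_le h2
      rw [hi, Nat.add_sub_cancel_left]
      have h3 : 3 ^ (1 + γ' + 1 + δ) = 3 ^ (1 + γ') * 3 ^ (δ + 1) := by
        rw [← pow_add]; congr 1; omega
      rw [h3] at h
      have : d * d + 4 * 3 ^ (1 + γ') = 3 ^ (1 + γ') * (4 + i) := by
        rw [← hi, h]; ring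
      linarith [mul_add (3 ^ (1 + γ') : ℕ) 4 i]

theorem ncard_subtype {G : Type*} {D : Set G} (p : G → Prop) :
    {z : ↥D | p z}.ncard = {z : G | z ∈ D ∧ p z}.ncard := by
  rw [← Set.ncard_image_of_injective {z : ↥D | p z} Subtype.val_injective]
  congr 1
  ext z
  simp [and_comm]

variable {G : Type*} [Group G] [Finite G] {D : Set G}

/-- A nonempty set of pairwise noncommuting members, closed under their conjugation, has a power of
three as its size. -/
theorem ncard_pow_three (hD : Cfsg.IsThreeTranspositionGroup D) {S : Set G} (hS : S ⊆ D)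
    (hne : S.Nonempty) (hnc : ∀ a ∈ S, ∀ b ∈ S, a ≠ b → ¬ Commute a b)
    (hcl : ∀ a ∈ S, ∀ b ∈ S, a * b * a ∈ S) : ∃ m : ℕ, S.ncard = 3 ^ m := by
  obtain ⟨a, ha⟩ := hne
  have hi : ∀ e ∈ S, e * e = 1 := fun e he => sq_one hD.1 (hS he)
  have hcube : ∀ a ∈ S, ∀ b ∈ S, (a * b) ^ 3 = 1 := by
    intro a ha b hb
    by_cases h : a = b
    · rw [h, hi b hb, one_pow]
    · exact pow_three hD.1 (hS ha) (hS hb) (hnc a ha b hb h)
  have hP := isPGroup_products hi hcube hcl
  obtain ⟨K, eK⟩ : ∃ K, K = closure {z : G | ∃ a ∈ S, ∃ b ∈ S, z = a * b} := ⟨_, rfl⟩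
  rw [← eK] at hP
  haveI : Fact (Nat.Prime 3) := ⟨Nat.prime_three⟩
  letI : MulAction ↥K G := MulAction.compHom G ((MulAut.conj (G := G)).comp K.subtype)
  have horb : MulAction.orbit ↥K a = S := by
    ext b
    constructor
    · rintro ⟨k, rfl⟩
      have hk : (k : G) ∈ closure S := by
        refine (closure_le _).2 ?_ (eK.le k.2)
        rintro _ ⟨u, hu, v, hv, rfl⟩
        exact mul_mem (subset_closure hu) (subset_closure hv)
      exact (mem_self_conj_closure hi hcl hk a ha).1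
    · intro hb
      by_cases h : a = b
      · exact h ▸ MulAction.mem_orbit_self a
      · exact ⟨⟨a * b, eK ▸ subset_closure ⟨a, ha, b, hb, rfl⟩⟩,
          conj_of_noncomm hD.1 (hS ha) (hS hb) (hnc a ha b hb h)⟩
  obtain ⟨m, hm⟩ := hP.card_orbit a
  exact ⟨m, by rw [← Nat.card_coe_set_eq, ← horb]; exact hm⟩

/-- Two members not commuting, with the same partners, do not occur in the setting. -/
theorem eq_of_perp_eq (hD : Cfsg.IsThreeTranspositionGroup D) (h3 : Cfsg.pCore 3 G = ⊥) {u v : G}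
    (hu : u ∈ D) (hv : v ∈ D) (h : Perp D u = Perp D v) : u = v := by
  have hm := ((wRel_iff hD hu).1 ⟨hu, hv, h⟩).2
  rw [h3, mem_bot] at hm
  rw [eq_inv_of_mul_eq_one_left hm, inv_eq hD.1 hv]

variable (hD : Cfsg.IsThreeTranspositionClass D) (hP : Cfsg.IsPrimitiveUnderConj D)
  (hw : ∃ a ∈ D, ∃ b ∈ D, a ≠ b ∧ Commute a b)
include hD hP hw

omit hP in
theorem perp_nonempty {x : G} (hx : x ∈ D) : (Perp D x).Nonempty := by
  obtain ⟨a, ha, b, hb, hab, hc⟩ := hw
  obtain ⟨g, rfl⟩ := class_exists_conj hD ha hx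
  exact ⟨g * b * g⁻¹, (mem_perp_conj (class_isGroup hD) g a b).2 ⟨hb, hab.symm, hc⟩⟩

theorem pair_comm {x a x' a' : G} (hx : x ∈ D) (ha : a ∈ Perp D x) (hx' : x' ∈ D)
    (ha' : a' ∈ Perp D x') : ∃ g : G, g * x * g⁻¹ = x' ∧ g * a * g⁻¹ = a' := by
  have hG := class_isGroup hD
  obtain ⟨g₁, rfl⟩ := class_exists_conj hD hx hx'
  obtain ⟨h1, h2, h3⟩ := (mem_perp_conj hG g₁ x a).2 ha
  obtain ⟨g₂, e1, e2⟩ := trans_comm hG hP hw hx' h1 h2 h3 ha'.1 ha'.2.1 ha'.2.2
  exact ⟨g₂ * g₁, by rw [mul_inv_rev]; simpa [mul_assoc] using e1,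
    by rw [mul_inv_rev]; simpa [mul_assoc] using e2⟩

theorem pair_noncomm {x y u v : G} (hx : x ∈ D) (hy : y ∈ D) (hxy : ¬ Commute x y) (hu : u ∈ D)
    (hv : v ∈ D) (huv : ¬ Commute u v) : ∃ g : G, g * x * g⁻¹ = u ∧ g * y * g⁻¹ = v := by
  have hG := class_isGroup hD
  obtain ⟨g₁, rfl⟩ := class_exists_conj hD hx hu
  obtain ⟨g₂, e1, e2⟩ := trans_noncomm hG hP hw hu (conj_mem hG hy)
    (fun h => hxy ((commute_conj_iff g₁ x y).1 h)) hv huv
  exact ⟨g₂ * g₁, by rw [mul_inv_rev]; simpa [mul_assoc] using e1,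
    by rw [mul_inv_rev]; simpa [mul_assoc] using e2⟩

/-- The partners of any member pairwise do not commute. -/
theorem perp_noncomm (h2 : Cfsg.pCore 2 G = ⊥) {x₀ : G} (hx₀ : x₀ ∈ D)
    (h : ¬ Cfsg.oddCore ↥(closure (Perp D x₀)) ≤ center ↥(closure (Perp D x₀))) :
    ∀ x ∈ D, ∀ a ∈ Perp D x, ∀ b ∈ Perp D x, a ≠ b → ¬ Commute a b := by
  have hG := class_isGroup hD
  -- the partners of `x₀` form a class of the group they generate
  obtain ⟨E, eE⟩ : ∃ E : Set ↥(closure (Perp D x₀)), E = {d : ↥(closure (Perp D x₀)) | (d : G) ∈ Perp D x₀} := ⟨_, rfl⟩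
  have hfix : ∀ k ∈ closure (Perp D x₀), k * x₀ * k⁻¹ = x₀ := by
    intro k hk
    refine conj_eq_of_commute (?_ : Commute k x₀)
    induction hk using closure_induction with
    | mem y hy => exact hy.2.2.symm
    | one => exact Commute.one_left _
    | mul p q _ _ hp hq => exact hp.mul_left hq
    | inv p _ hp => exact hp.inv_left
  have hE : Cfsg.IsThreeTranspositionClass E := by
    refine ⟨⟨fun d hd => ?_, fun d hd e he => ?_⟩, ?_, ?_⟩
    · rw [eE] at hd
      rw [← Subgroup.orderOf_coe]; exact hD.1.1 _ hd.1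
    · rw [eE] at hd he
      rcases hD.1.2 _ hd.1 _ he.1 with e | e
      · exact Or.inl (Subtype.ext (by simpa using e))
      · exact Or.inr (Subtype.ext (by simpa using e))
    · obtain ⟨a, ha⟩ := perp_nonempty hD hw hx₀
      refine ⟨⟨a, subset_closure ha⟩, by rw [eE]; exact ha, ?_⟩
      ext d
      rw [eE]
      show ((d : G) ∈ Perp D x₀) ↔ IsConj _ d
      rw [isConj_iff]
      constructor
      · intro hd
        obtain ⟨g, hg, e⟩ := CfsgLib.Fischer.perp_class hD hP hw h2 hx₀ ha hd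
        exact ⟨⟨g, hg⟩, Subtype.ext (by simpa using e)⟩
      · rintro ⟨c, rfl⟩
        have := (mem_perp_conj hG (c : G) x₀ a).2 ha
        rw [hfix c c.2] at this
        simpa using this
    · rw [eE]
      exact closure_closure_coe_preimage
  have h3 : ¬ Cfsg.pCore 3 ↥(closure (Perp D x₀)) ≤ center _ := fun h3 => h (oddCore_le_center hE h3)
  obtain ⟨a₀, ha₀⟩ := perp_nonempty hD hw hx₀
  obtain ⟨w, hW, hwne⟩ := exists_wRel_ne hE h3 (d := ⟨a₀, subset_closure ha₀⟩) (by rw [eE]; exact ha₀)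
  have hb₀ : (w : G) ∈ Perp D x₀ := by have := hW.2.1; rwa [eE] at this
  have hab₀ : ¬ Commute a₀ (w : G) := fun hc => hW.not_commute hwne (Subtype.ext hc.eq)
  have hM₀ : Mutual D a₀ x₀ ⊆ Perp D (w : G) := by
    rintro z ⟨hza, hzx⟩
    have hz : (⟨z, subset_closure hzx⟩ : ↥(closure (Perp D x₀))) ∈ E := by rw [eE]; exact hzx
    obtain ⟨h1, h2⟩ := hW.commute_of_commute hz (fun e => hza.2.1 (congrArg Subtype.val e))
      (Subtype.ext hza.2.2.eq)
    exact ⟨hza.1, fun e => h1 (Subtype.ext e), congrArg Subtype.val h2.eq⟩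
  -- every commuting pair has such a third member
  have hthird : ∀ x ∈ D, ∀ a ∈ Perp D x,
      ∃ y ∈ Perp D a, ¬ Commute x y ∧ Mutual D x a ⊆ Perp D y := by
    intro x hx a ha
    obtain ⟨g, e1, e2⟩ := pair_comm hD hP hw ha₀.1 (perp_symm hx₀ ha₀) hx ha
    refine ⟨g * (w : G) * g⁻¹, ?_, ?_, ?_⟩
    · rw [← e2]; exact (mem_perp_conj hG g x₀ w).2 hb₀
    · rw [← e1]; exact fun hc => hab₀ ((commute_conj_iff g a₀ w).1 hc)
    · rw [← e1, ← e2, ← image_mutual hG, ← image_perp hG]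
      exact Set.image_mono hM₀
  have hMcard : ∀ x ∈ D, ∀ a ∈ Perp D x, ∀ f ∈ Perp D x,
      (Mutual D x a).ncard = (Mutual D x f).ncard := by
    intro x hx a ha f hf
    obtain ⟨g, e1, e2⟩ := pair_comm hD hP hw hx ha hx hf
    rw [← Set.ncard_image_of_injective (Mutual D x a) (MulAut.conj g).injective, image_mutual hG,
      e1, e2]
  have hdiff : ∀ x ∈ D, ∀ a ∈ Perp D x, ∀ u ∈ D, ∀ v ∈ D, ¬ Commute u v →
      (Perp D u \ Perp D v).ncard ≤ (Twins D x a).ncard := by
    intro x hx a ha u hu v hv huv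
    obtain ⟨y, hy, hxy, hM⟩ := hthird x hx a ha
    have hsub : Perp D x \ Perp D y ⊆ Twins D x a := by
      rintro f ⟨hf, hfy⟩
      have hfy' : ¬ Commute f y := fun hc =>
        hfy ⟨hf.1, fun e => hxy (e ▸ hf.2.2), hc.symm⟩
      have hfa : ¬ Commute f a := fun hc => hfy (hM ⟨hf, hf.1,
        fun e => hfy (e.symm ▸ perp_symm ha.1 hy), hc.symm⟩)
      refine ⟨hf, hfa, (Set.eq_of_subset_of_ncard_le ?_ (hMcard x hx f hf a ha).le
        (Set.toFinite _)).symm⟩
      intro g hg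
      exact ⟨hg.1, hg.1.1, fun e => hfa (e ▸ hg.2.2.2.symm),
        commute_of_path hG hx ha hy hxy hM hf hfa hfy' hg⟩
    obtain ⟨g, e1, e2⟩ := pair_noncomm hD hP hw hx hy.1 hxy hu hv huv
    rw [← e1, ← e2, ← image_perp hG, ← image_perp hG, ← Set.image_sdiff (MulAut.conj g).injective,
      Set.ncard_image_of_injective _ (MulAut.conj g).injective]
    exact Set.ncard_le_ncard hsub (Set.toFinite _)
  have hlink : ∀ x ∈ D, ∀ a ∈ Perp D x, ∀ f ∈ Perp D x, ¬ Commute a f →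
      Mutual D x a = Mutual D x f := by
    intro x hx a ha f hf haf
    refine Set.eq_of_subset_of_ncard_le ?_ (hMcard x hx f hf a ha).le (Set.toFinite _)
    intro g hg
    refine ⟨hg.1, ?_⟩
    by_contra hgf
    have hsub : insert g (Twins D x g) ⊆ Perp D a \ Perp D f := by
      refine Set.insert_subset ⟨hg.2, hgf⟩ ?_
      rintro g' ⟨hg', -, hMg⟩
      have ha' : a ∈ Mutual D x g' := by rw [hMg]; exact ⟨ha, perp_symm ha.1 hg.2⟩
      refine ⟨perp_symm hg'.1 ha'.2, fun hc => hgf (perp_symm hg.1.1 ?_)⟩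
      have hf' : f ∈ Mutual D x g' := ⟨hf, perp_symm hf.1 hc⟩
      rw [hMg] at hf'
      exact hf'.2
    have h1 := (Set.ncard_le_ncard hsub (Set.toFinite _)).trans
      (hdiff x hx g hg.1 a ha.1 f hf.1 haf)
    rw [Set.ncard_insert_of_notMem (fun h => h.2.1 (Commute.refl g))] at h1
    omega
  intro x hx a ha b hb hab hc
  have key : Mutual D x a = Mutual D x b := by
    have hcon := CfsgLib.Fischer.link_connected hD hP hw h2 hx ha hb
    have : ∀ c, Relation.ReflTransGen (CfsgLib.Fischer.Link D x) a c →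
        Mutual D x a = Mutual D x c := by
      intro c hc'
      induction hc' with
      | refl => rfl
      | tail _ hpq ih => exact ih.trans (hlink x hx _ hpq.1 _ hpq.2.1 hpq.2.2)
    exact this b hcon
  have hb' : b ∈ Mutual D x b := key ▸ ⟨hb, hb.1, hab.symm, hc⟩
  exact hb'.2.2.1 rfl

/-- Triangle-free classes in the setting are those of the symmetric group of degree five. -/
theorem iso_perm_five (h3 : Cfsg.pCore 3 G = ⊥)
    (hnc : ∀ x ∈ D, ∀ a ∈ Perp D x, ∀ b ∈ Perp D x, a ≠ b → ¬ Commute a b) {x : G} (hx : x ∈ D)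
    (htwo : ∃ a ∈ Perp D x, ∃ b ∈ Perp D x, a ≠ b) : Nonempty (G ≃* Equiv.Perm (Fin 5)) := by
  classical
  haveI := Fintype.ofFinite G
  have hG := class_isGroup hD
  obtain ⟨a, ha, b, hb, hab⟩ := htwo
  obtain ⟨k, ek⟩ : ∃ k, k = (Perp D x).ncard := ⟨_, rfl⟩
  obtain ⟨c, ec⟩ : ∃ c, c = (Mutual D a b).ncard := ⟨_, rfl⟩
  have hdeg : ∀ z ∈ D, (Perp D z).ncard = k := by
    intro z hz
    obtain ⟨g, rfl⟩ := class_exists_conj hD hx hz
    rw [← image_perp hG, Set.ncard_image_of_injective _ (MulAut.conj g).injective, ek]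
  have hcom : ∀ u ∈ D, ∀ v ∈ D, ¬ Commute u v → (Mutual D u v).ncard = c := by
    intro u hu v hv huv
    obtain ⟨g, rfl, rfl⟩ := pair_noncomm hD hP hw ha.1 hb.1 (hnc x hx a ha b hb hab) hu hv huv
    rw [← image_mutual hG, Set.ncard_image_of_injective _ (MulAut.conj g).injective, ec]
  have hc1 : 1 ≤ c := by
    rw [ec]
    exact (Set.ncard_pos (Set.toFinite _)).2 ⟨x, perp_symm hx ha, perp_symm hx hb⟩
  have hcl : ∀ u, ∀ y ∈ Perp D u, ∀ z ∈ Perp D u, y * z * y ∈ Perp D u := by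
    intro u y hy z hz
    refine ⟨self_conj_mem hG hy.1 hz.1, fun e => ?_, (hy.2.2.mul_right hz.2.2).mul_right hy.2.2⟩
    apply hz.2.1
    have e1 : y * u * y = u := by
      rw [← hy.2.2.eq, mul_assoc, sq_one hG.1 hy.1, mul_one]
    calc z = y * (y * z * y) * y := by
          rw [show y * (y * z * y) * y = (y * y) * z * (y * y) by group, sq_one hG.1 hy.1, one_mul,
            mul_one]
      _ = u := by rw [e, e1]
  obtain ⟨β, hβ⟩ : ∃ β, k = 3 ^ β := by
    rw [ek]
    exact ncard_pow_three hG (fun _ h => h.1) ⟨a, ha⟩ (hnc x hx) (hcl x)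
  obtain ⟨γ, hγ⟩ : ∃ γ, c = 3 ^ γ := by
    rw [ec]
    refine ncard_pow_three hG (fun _ h => h.1.1) ⟨x, perp_symm hx ha, perp_symm hx hb⟩
      (fun y hy z hz => hnc a ha.1 y hy.1 z hz.1)
      (fun y hy z hz => ⟨hcl a y hy.1 z hz.1, hcl b y hy.2 z hz.2⟩)
  have hck : c < k := by
    have hca : c ≤ k := ec ▸ hdeg a ha.1 ▸ Set.ncard_le_ncard Set.inter_subset_left (Set.toFinite _)
    refine lt_of_le_of_ne hca fun e => hab ?_
    have e1 : Mutual D a b = Perp D a := Set.eq_of_subset_of_ncard_le Set.inter_subset_left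
      (by rw [hdeg a ha.1, ← ec, e]) (Set.toFinite _)
    have e2 : Mutual D a b = Perp D b := Set.eq_of_subset_of_ncard_le Set.inter_subset_right
      (by rw [hdeg b hb.1, ← ec, e]) (Set.toFinite _)
    exact eq_of_perp_eq hG h3 ha.1 hb.1 (e1.symm.trans e2)
  have hk3 : 3 ≤ k := by
    rcases Nat.eq_zero_or_pos β with rfl | h
    · simp at hβ; omega
    · rw [hβ]; exact (pow_one 3).symm.le.trans (Nat.pow_le_pow_right (by norm_num) h)
  -- counting
  obtain ⟨T, eT⟩ : ∃ T : Set G, T = {z | z ∈ D ∧ ¬ Commute x z} := ⟨_, rfl⟩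
  have hT : D.ncard = 1 + k + T.ncard := by
    have : D = insert x (Perp D x) ∪ T := by
      ext z
      rw [eT]
      constructor
      · intro hz
        by_cases h1 : z = x
        · exact Or.inl (Or.inl h1)
        · by_cases h2 : Commute x z
          · exact Or.inl (Or.inr ⟨hz, h1, h2⟩)
          · exact Or.inr ⟨hz, h2⟩
      · rintro ((rfl | h) | h)
        exacts [hx, h.1, h.1]
    conv_lhs => rw [this]
    rw [Set.ncard_union_eq ?_ (Set.toFinite _) (Set.toFinite _),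
      Set.ncard_insert_of_notMem (fun h => h.2.1 rfl), ← ek, add_comm k 1]
    rw [eT, Set.disjoint_left]
    rintro z (rfl | h) ⟨-, h2⟩
    · exact h2 (Commute.refl z)
    · exact h2 h.2.2
  have hcount : k * (k - 1) = T.ncard * c := by
    have h := Finset.sum_card_bipartiteAbove_eq_sum_card_bipartiteBelow (α := G) (β := G)
      (fun u v => u ≠ v ∧ Commute u v) (s := (Perp D x).toFinset) (t := T.toFinset)
    rw [Finset.sum_const_nat (m := k - 1) ?_, Finset.sum_const_nat (m := c) ?_] at h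
    · rw [← Set.ncard_eq_toFinset_card', ← Set.ncard_eq_toFinset_card', ← ek] at h
      exact h
    · intro v hv
      rw [Set.mem_toFinset, eT] at hv
      rw [← hcom x hx v hv.1 hv.2, Set.ncard_eq_toFinset_card']
      congr 1
      ext u
      simp only [Finset.mem_bipartiteBelow, Set.mem_toFinset]
      exact ⟨fun ⟨h1, h2, h3⟩ => ⟨h1, h1.1, h2, h3.symm⟩,
        fun ⟨h1, h2⟩ => ⟨h1, h2.2.1, h2.2.2.symm⟩⟩
    · intro u hu
      rw [Set.mem_toFinset] at hu
      rw [← hdeg u hu.1, ← Set.ncard_sdiff_singleton_of_mem (perp_symm hx hu),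
        Set.ncard_eq_toFinset_card']
      congr 1
      ext v
      simp only [Finset.mem_bipartiteAbove, Set.mem_toFinset, eT]
      constructor
      · rintro ⟨⟨h1, h2⟩, h3, h4⟩
        exact ⟨⟨h1, h3.symm, h4⟩, fun e => h2 ((Set.mem_singleton_iff.1 e).symm ▸ Commute.refl v)⟩
      · rintro ⟨h1, h2⟩
        exact ⟨⟨h1.1, fun hc => hnc u hu.1 x (perp_symm hx hu) v h1 (fun e => h2 e.symm) hc⟩,
          h1.2.1.symm, h1.2.2⟩
  -- the eigenvalues
  obtain ⟨d, hd⟩ := CfsgLib.TriangleFree.discriminant_square (V := ↥D)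
    (fun u v => (v : G) ∈ Perp D (u : G)) (fun u h => h.2.1 rfl)
    (fun u v h => perp_symm u.2 h) hk3 hc1 hck.le
    (fun u => by
      rw [ncard_subtype (D := D) (fun z => z ∈ Perp D (u : G)), ← hdeg (u : G) u.2]
      congr 1
      ext z
      exact ⟨fun h => h.2, fun h => ⟨h.1, h⟩⟩)
    (fun u v z huv huz hvz => hnc (u : G) u.2 v huv z huz hvz.2.1.symm hvz.2.2)
    (fun u v hne huv => by
      rw [ncard_subtype (D := D) (fun z => z ∈ Perp D (u : G) ∧ z ∈ Perp D (v : G)),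
        ← hcom (u : G) u.2 v v.2 (fun hc => huv ⟨v.2, fun e => hne (Subtype.ext e.symm), hc⟩)]
      congr 1
      ext z
      exact ⟨fun h => h.2, fun h => ⟨h.1.1, h⟩⟩)
    (by
      rw [← Nat.card_eq_fintype_card, Nat.card_coe_set_eq, hT]
      obtain ⟨k', rfl⟩ : ∃ k', k = k' + 1 := ⟨k - 1, by omega⟩
      rw [Nat.add_sub_cancel] at hcount
      nlinarith)
  rw [hβ, hγ] at hd
  obtain ⟨rfl, rfl⟩ := params (hγ ▸ hβ ▸ hck) hd
  rw [pow_one] at hβ
  rw [pow_zero] at hγ
  have hD10 : D.ncard = 10 := by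
    rw [hT, hβ]; rw [hβ, hγ] at hcount; omega
  -- a path of four members
  obtain ⟨y, hy, hyx⟩ := Set.exists_ne_of_one_lt_ncard
    (show 1 < (Perp D a).ncard by rw [hdeg a ha.1, hβ]; norm_num) x
  have hxy : ¬ Commute x y := hnc a ha.1 x (perp_symm hx ha) y hy hyx.symm
  have hby : ¬ Commute y b := by
    intro hc
    have h1 : ({a, b} : Set G) ⊆ Mutual D x y := by
      rintro z (rfl | rfl)
      · exact ⟨ha, perp_symm ha.1 hy⟩
      · exact ⟨hb, hb.1, fun e => hxy (e ▸ hb.2.2), hc⟩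
    have := Set.ncard_le_ncard h1 (Set.toFinite _)
    rw [Set.ncard_pair hab, hcom x hx y hy.1 hxy, hγ] at this
    omega
  obtain ⟨φ, e0, e1, -, -⟩ := exists_hom_five hG.1 hx hy.1 hb.1 ha.1 hxy hby
    (hnc x hx b hb a ha hab.symm) hb.2.2 ha.2.2 hy.2.2.symm
  have hinj : Function.Injective φ :=
    CfsgLib.Recog.SymTwoCentralizers.injective_of_hom (n := 4) (by norm_num) φ 0 1 rfl (by
      show φ (Equiv.swap 0 1) ≠ φ (Equiv.swap 1 2)
      rw [e0, e1]; exact hyx.symm)
  obtain ⟨S, eS⟩ : ∃ S : Finset (Equiv.Perm (Fin 5)), S =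
      ((Finset.univ : Finset (Fin 5 × Fin 5)).filter fun p => p.1 < p.2).image
        fun p => Equiv.swap p.1 p.2 := ⟨_, rfl⟩
  have hS10 : S.card = 10 := by rw [eS]; decide +kernel
  have hSD : φ '' (S : Set (Equiv.Perm (Fin 5))) ⊆ D := by
    rintro _ ⟨σ, hσ, rfl⟩
    rw [eS, Finset.mem_coe, Finset.mem_image] at hσ
    obtain ⟨p, hp, rfl⟩ := hσ
    obtain ⟨g, hg⟩ := isConj_iff.1 (Equiv.Perm.isConj_swap (show (0 : Fin 5) ≠ 1 by decide)
      (Finset.mem_filter.1 hp).2.ne)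
    rw [← hg, map_mul, map_mul, map_inv, e0]
    exact conj_mem hG hx
  have himg : φ '' (S : Set (Equiv.Perm (Fin 5))) = D := Set.eq_of_subset_of_ncard_le hSD
    (by rw [Set.ncard_image_of_injective _ hinj, Set.ncard_coe_finset, hS10, hD10]) (Set.toFinite _)
  have hsurj : Function.Surjective φ := by
    rw [← MonoidHom.range_eq_top, eq_top_iff, ← hD.2.2, closure_le]
    intro z hz
    rw [← himg] at hz
    obtain ⟨σ, -, rfl⟩ := hz
    exact ⟨σ, rfl⟩
  exact ⟨(MulEquiv.ofBijective φ ⟨hinj, hsurj⟩).symm⟩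

omit hD hP hw in
/-- Fischer's case of a noncentral odd core. -/
theorem iso_of_oddCore_not_central
    (hsol : ∀ N : Subgroup G, N.Normal → Group.IsSolvable ↥N → N = ⊥)
    (hperf : ⁅commutator G, commutator G⁆ = commutator G) (hD : Cfsg.IsThreeTranspositionClass D)
    {x : G} (hx : x ∈ D)
    (h : ¬ Cfsg.oddCore ↥(closure (Perp D x)) ≤ center ↥(closure (Perp D x))) :
    Nonempty (G ≃* Equiv.Perm (Fin 5)) := by
  obtain ⟨hP, hw, h2⟩ := CfsgLib.Fischer.setting hsol hperf hD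
  have h3 : Cfsg.pCore 3 G = ⊥ := hsol _ CfsgLib.Amalgam.normal_pCore
    (solvable_of_isPGroup Nat.prime_three CfsgLib.Amalgam.isPGroup_pCore)
  refine iso_perm_five hD hP hw h3 (perp_noncomm hD hP hw h2 hx h) hx ?_
  by_contra hone
  push Not at hone
  apply h
  intro k hk
  rw [mem_center_iff]
  intro l
  obtain ⟨a, ha⟩ := perp_nonempty hD hw hx
  have hle : closure (Perp D x) ≤ zpowers a := (closure_le _).2 fun b hb =>
    (hone a ha b hb) ▸ mem_zpowers a
  obtain ⟨i, hi⟩ := mem_zpowers_iff.1 (hle l.2)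
  obtain ⟨j, hj⟩ := mem_zpowers_iff.1 (hle k.2)
  apply Subtype.ext
  show (l : G) * k = k * l
  rw [← hi, ← hj]
  exact ((Commute.refl a).zpow_zpow i j).eq

end CfsgLib.FischerOdd
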