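import Cfsg.Agent.Lib.Fischer.ClassInClass
import Cfsg.Agent.Lib.Recog.SymTwoCentralizers
import Cfsg.Agent.Lib.Solvable.PCore
import Cfsg.Agent.Lib.Comp.Subnormal
import Cfsg.Prelude.Def_CaseTheorems

/-!
Classes of 3-transpositions whose members commuting with a given one generate a group with
noncentral odd core: those members commute pairwise only trivially.
-/

set_option autoImplicit false

namespace CfsgLib.FischerOdd

open Subgroup CfsgLib.Trans3

variable {G : Type*} [Group G] {D : Set G}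

/-- The members of `D` commuting with `x`, other than `x`. -/
def Perp (D : Set G) (x : G) : Set G := {y | y ∈ D ∧ y ≠ x ∧ Commute x y}

/-- The members of `D` commuting with both `x` and `a`, other than these. -/
def Mutual (D : Set G) (x a : G) : Set G := Perp D x ∩ Perp D a

/-- The partners of `x` not commuting with `a` having the same mutual partners as `a`. -/
def Twins (D : Set G) (x a : G) : Set G :=
  {f | f ∈ Perp D x ∧ ¬ Commute f a ∧ Mutual D x f = Mutual D x a}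

theorem perp_symm {x a : G} (hx : x ∈ D) (h : a ∈ Perp D x) : x ∈ Perp D a :=
  ⟨hx, h.2.1.symm, h.2.2.symm⟩

theorem mem_perp_conj (hD : Cfsg.IsThreeTranspositionGroup D) (g x z : G) :
    g * z * g⁻¹ ∈ Perp D (g * x * g⁻¹) ↔ z ∈ Perp D x := by
  constructor
  · rintro ⟨h1, h2, h3⟩
    refine ⟨?_, fun e => h2 (by rw [e]), (commute_conj_iff g x z).1 h3⟩
    have := hD.2.1 g⁻¹ _ h1
    rwa [show g⁻¹ * (g * z * g⁻¹) * g⁻¹⁻¹ = z by group] at this
  · rintro ⟨h1, h2, h3⟩
    exact ⟨conj_mem hD h1, fun e => h2 ((MulAut.conj g).injective e),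
      (commute_conj_iff g x z).2 h3⟩

theorem image_perp (hD : Cfsg.IsThreeTranspositionGroup D) (g x : G) :
    (MulAut.conj g) '' Perp D x = Perp D (g * x * g⁻¹) := by
  ext z
  constructor
  · rintro ⟨y, hy, rfl⟩
    exact (mem_perp_conj hD g x y).2 hy
  · intro hz
    refine ⟨g⁻¹ * z * g, (mem_perp_conj hD g x _).1 ?_, by simp [mul_assoc]⟩
    rwa [show g * (g⁻¹ * z * g) * g⁻¹ = z by group]

theorem image_mutual (hD : Cfsg.IsThreeTranspositionGroup D) (g x a : G) :
    (MulAut.conj g) '' Mutual D x a = Mutual D (g * x * g⁻¹) (g * a * g⁻¹) := by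
  rw [Mutual, Set.image_inter (MulAut.conj g).injective, image_perp hD, image_perp hD]
  rfl

theorem image_twins (hD : Cfsg.IsThreeTranspositionGroup D) (g x a : G) :
    (MulAut.conj g) '' Twins D x a = Twins D (g * x * g⁻¹) (g * a * g⁻¹) := by
  have key : ∀ f, g * f * g⁻¹ ∈ Twins D (g * x * g⁻¹) (g * a * g⁻¹) ↔ f ∈ Twins D x a := fun f => by
    show (_ ∧ _ ∧ _) ↔ (_ ∧ _ ∧ _)
    rw [mem_perp_conj hD, commute_conj_iff, ← image_mutual hD, ← image_mutual hD,
      (Set.image_injective.2 (MulAut.conj g).injective).eq_iff]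
  ext z
  constructor
  · rintro ⟨y, hy, rfl⟩
    exact (key y).2 hy
  · intro hz
    refine ⟨g⁻¹ * z * g, (key _).1 ?_, by simp [mul_assoc]⟩
    rwa [show g * (g⁻¹ * z * g) * g⁻¹ = z by group]

/-- The homomorphism of the symmetric group of degree five given by a path of four members. -/
theorem exists_hom_five (hD : Cfsg.IsThreeTranspositionSet D) {x y f a : G} (hx : x ∈ D)
    (hy : y ∈ D) (hf : f ∈ D) (ha : a ∈ D) (hxy : ¬ Commute x y) (hyf : ¬ Commute y f)
    (hfa : ¬ Commute f a) (hxf : Commute x f) (hxa : Commute x a) (hya : Commute y a) :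
    ∃ φ : Equiv.Perm (Fin 5) →* G, φ (Equiv.swap 0 1) = x ∧ φ (Equiv.swap 1 2) = y ∧
      φ (Equiv.swap 2 3) = f ∧ φ (Equiv.swap 3 4) = a := by
  obtain ⟨φ, hφ, -⟩ := CfsgLib.Recog.SymTwoCentralizers.exists_hom (n := 4)
    (fun i => [x, y, f, a].getD i 1)
    (by intro i hi; interval_cases i <;> exact sq_one hD (by assumption))
    (by
      intro i hi
      have hi' : i < 3 := by omega
      interval_cases i
      · exact pow_three hD hx hy hxy
      · exact pow_three hD hy hf hyf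
      · exact pow_three hD hf ha hfa)
    (by
      intro i j hij hj
      have hi : i < 2 := by omega
      interval_cases i <;> interval_cases j <;> first | omega | assumption)
  exact ⟨φ, hφ 0, hφ 1, hφ 2, hφ 3⟩

/-- If the mutual partners of a commuting pair `x`, `a` commute with `y`, they commute with every
partner of `x` commuting with neither `a` nor `y`. -/
theorem commute_of_path (hD : Cfsg.IsThreeTranspositionGroup D) {x a y f g : G} (hx : x ∈ D)
    (ha : a ∈ Perp D x) (hy : y ∈ Perp D a) (hxy : ¬ Commute x y)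
    (hM : Mutual D x a ⊆ Perp D y) (hf : f ∈ Perp D x) (hfa : ¬ Commute f a)
    (hfy : ¬ Commute f y) (hg : g ∈ Mutual D x a) : Commute f g := by
  by_contra hfg
  obtain ⟨φ, e0, e1, e2, e3⟩ := exists_hom_five hD.1 hx hy.1 hf.1 ha.1 hxy (fun h => hfy h.symm)
    hfa hf.2.2 ha.2.2 hy.2.2.symm
  obtain ⟨v, ev⟩ : ∃ v : Equiv.Perm (Fin 5), v = Equiv.swap 1 2 * Equiv.swap 2 3 * Equiv.swap 0 1 *
      Equiv.swap 1 2 * Equiv.swap 3 4 * Equiv.swap 2 3 := ⟨_, rfl⟩
  have i1 : v * Equiv.swap 3 4 * v⁻¹ = Equiv.swap 0 1 := by rw [ev]; decide +kernel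
  have i2 : v * Equiv.swap 1 2 * v⁻¹ = Equiv.swap 3 4 := by rw [ev]; decide +kernel
  have i3 : v * Equiv.swap 0 4 * v⁻¹ = Equiv.swap 1 2 := by rw [ev]; decide +kernel
  have hgy : Commute g y := (hM hg).2.2.symm
  have hga : Commute g a := hg.2.2.2.symm
  have hgx : Commute g x := hg.1.2.2.symm
  obtain ⟨w, ew⟩ : ∃ w, w = φ v := ⟨_, rfl⟩
  have c1 : w * a * w⁻¹ = x := by rw [ew, ← e3, ← e0, ← map_inv, ← map_mul, ← map_mul, i1]
  have c2 : w * y * w⁻¹ = a := by rw [ew, ← e1, ← e3, ← map_inv, ← map_mul, ← map_mul, i2]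
  have c3 : w * φ (Equiv.swap 0 4) * w⁻¹ = y := by
    rw [ew, ← e1, ← map_inv, ← map_mul, ← map_mul, i3]
  have hh : w * g * w⁻¹ ∈ D := conj_mem hD hg.1.1
  have h1 : Commute x (w * g * w⁻¹) := c1 ▸ (commute_conj_iff w a g).2 hga.symm
  have h2 : Commute a (w * g * w⁻¹) := c2 ▸ (commute_conj_iff w y g).2 hgy.symm
  have h3 : ¬ Commute y (w * g * w⁻¹) := by
    intro h
    rw [← c3] at h
    have h' := (commute_conj_iff w _ g).1 h
    have i4 : Equiv.swap 1 2 * Equiv.swap 0 1 * Equiv.swap 3 4 * Equiv.swap 0 4 *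
        (Equiv.swap 1 2 * Equiv.swap 0 1 * Equiv.swap 3 4)⁻¹ =
        (Equiv.swap 2 3 : Equiv.Perm (Fin 5)) := by decide +kernel
    have h4 := congrArg φ i4
    rw [map_mul, map_mul, map_inv, map_mul, map_mul, e0, e1, e2, e3] at h4
    have hu : Commute g (y * x * a) := (hgy.mul_right hgx).mul_right hga
    exact hfg (h4 ▸ ((hu.mul_right h'.symm).mul_right hu.inv_right).symm)
  have hne1 : w * g * w⁻¹ ≠ x := fun e =>
    hg.2.2.1 ((MulAut.conj w).injective (e.trans c1.symm))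
  have hne2 : w * g * w⁻¹ ≠ a := fun e => h3 (e.symm ▸ hy.2.2.symm)
  exact h3 (hM ⟨⟨hh, hne1, h1⟩, ⟨hh, hne2, h2⟩⟩).2.2

variable [Finite G]

/-- If `O₃` of a group generated by a class of 3-transpositions is central, so is the odd core. -/
theorem oddCore_le_center (hD : Cfsg.IsThreeTranspositionClass D)
    (h3 : Cfsg.pCore 3 G ≤ center G) : Cfsg.oddCore G ≤ center G := by
  have hG := class_isGroup hD
  haveI hKn : (Cfsg.oddCore G).Normal := CfsgLib.Solvable.pPrimeCore_normal 2 G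
  have hodd : ∀ z ∈ Cfsg.oddCore G, z ^ 2 = 1 → z = 1 := by
    intro z hz hz2
    have h1 : Nat.Coprime (Nat.card (Cfsg.oddCore G)) 2 :=
      CfsgLib.Solvable.pPrimeCore_coprime (G := G) 2
    have h2 : orderOf z ∣ Nat.card (Cfsg.oddCore G) := by
      simpa using orderOf_dvd_natCard (⟨z, hz⟩ : Cfsg.oddCore G)
    exact orderOf_eq_one_iff.1
      (Nat.eq_one_of_dvd_coprimes h1 h2 (orderOf_dvd_of_pow_eq_one hz2))
  refine le_center_of_commute_class hD.2.2 fun k hk d hd => ?_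
  obtain ⟨O, eO⟩ : ∃ O : Set G, O = {e | ∃ k ∈ Cfsg.oddCore G, e = k * d * k⁻¹} := ⟨_, rfl⟩
  have hOD : ∀ e ∈ O, e ∈ D := by
    rw [eO]; rintro _ ⟨k, -, rfl⟩; exact class_conj_mem hD k hd
  have hOK : ∀ e ∈ O, e * d ∈ Cfsg.oddCore G := by
    rw [eO]
    rintro _ ⟨k, hk, rfl⟩
    have := hKn.conj_mem _ (inv_mem hk) d
    rw [show k * d * k⁻¹ * d = k * (d * k⁻¹ * d⁻¹) by rw [inv_eq hD.1 hd]; group]
    exact mul_mem hk this
  have hprod : ∀ a ∈ O, ∀ b ∈ O, a * b ∈ Cfsg.oddCore G := by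
    intro a ha b hb
    have h := mul_mem (hOK a ha) (inv_mem (hOK b hb))
    rwa [show a * d * (b * d)⁻¹ = a * b⁻¹ by group, inv_eq hD.1 (hOD b hb)] at h
  have hcube : ∀ a ∈ O, ∀ b ∈ O, (a * b) ^ 3 = 1 := by
    intro a ha b hb
    by_cases hc : Commute a b
    · rw [hodd _ (hprod a ha b hb) ((commute_iff_pow_two hD.1 (hOD a ha) (hOD b hb)).1 hc), one_pow]
    · exact pow_three hD.1 (hOD a ha) (hOD b hb) hc
  have hconjO : ∀ k ∈ Cfsg.oddCore G, ∀ e ∈ O, k * e * k⁻¹ ∈ O := by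
    rw [eO]
    rintro k hk _ ⟨l, hl, rfl⟩
    exact ⟨k * l, mul_mem hk hl, by group⟩
  have hclosed : ∀ a ∈ O, ∀ b ∈ O, a * b * a ∈ O := by
    intro a ha b hb
    have h := hconjO _ (hprod a ha b hb) b hb
    rwa [mul_inv_rev, inv_eq hD.1 (hOD a ha), inv_eq hD.1 (hOD b hb), ← mul_assoc,
      mul_assoc (a * b), sq_one hD.1 (hOD b hb), mul_one] at h
  have hP := isPGroup_products (fun e he => sq_one hD.1 (hOD e he)) hcube hclosed
  obtain ⟨P, eP⟩ : ∃ P, P = closure {z : G | ∃ a ∈ O, ∃ b ∈ O, z = a * b} := ⟨_, rfl⟩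
  rw [← eP] at hP
  have hPK : P ≤ Cfsg.oddCore G := by
    rw [eP, closure_le]; rintro _ ⟨a, ha, b, hb, rfl⟩; exact hprod a ha b hb
  have hnorm : Cfsg.oddCore G ≤ normalizer (P : Set G) := by
    have key : ∀ k ∈ Cfsg.oddCore G, ∀ y ∈ P, k * y * k⁻¹ ∈ P := fun k hk y hy => by
      have : P ≤ P.comap (MulAut.conj k).toMonoidHom := by
        rw [eP, closure_le]
        rintro _ ⟨a, ha, b, hb, rfl⟩
        exact subset_closure ⟨k * a * k⁻¹, hconjO k hk a ha, k * b * k⁻¹, hconjO k hk b hb,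
          by simp [mul_assoc]⟩
      exact this hy
    intro k hk y
    refine ⟨key k hk y, fun hy => ?_⟩
    simpa [mul_assoc] using key k⁻¹ (inv_mem hk) _ hy
  haveI : Fact (Nat.Prime 3) := ⟨Nat.prime_three⟩
  have hP3 := (CfsgLib.Comp.le_pCore_of_isSubnormal
    (CfsgLib.Comp.isSubnormal_of_le_normalizer hPK hKn.isSubnormal hnorm) hP).trans h3
  have hdO : d ∈ O := by rw [eO]; exact ⟨1, one_mem _, by group⟩
  have hkO : k * d * k⁻¹ ∈ O := hconjO k hk d hdO
  obtain ⟨e, he⟩ : ∃ e, e = k * d * k⁻¹ := ⟨_, rfl⟩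
  rw [← he] at hkO
  have hz : d * e ∈ center G := hP3 (by rw [eP]; exact subset_closure ⟨d, hdO, e, hkO, rfl⟩)
  have h2 : (d * e) ^ 2 = 1 := by
    have hcm : d * (d * e) = (d * e) * d := mem_center_iff.1 hz d
    rw [← mul_assoc, sq_one hD.1 hd, one_mul] at hcm
    rw [pow_two, ← mul_assoc, ← hcm, sq_one hD.1 (hOD e hkO)]
  have h := hodd _ (hprod d hdO e hkO) h2
  have hde : d = k * d * k⁻¹ := by
    rw [← he]
    have := congrArg (fun z => d * z) h
    simpa [← mul_assoc, sq_one hD.1 hd] using this.symm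
  exact eq_mul_inv_iff_mul_eq.1 hde

end CfsgLib.FischerOdd
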