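import Cfsg.Agent.Lib.Golay.FischerPolarLines

/-!
Lines of the polar space of a class of 3-transpositions carry three or five points.
-/

set_option autoImplicit false

namespace CfsgLib.FischerPolar

open Subgroup CfsgLib.Trans3 CfsgLib.FischerOdd

variable {G : Type*} [Group G] [Finite G] {D : Set G}

/-- The image in `G` of `O₂` of the group generated by the partners of `x`. -/
def OTwo (D : Set G) (x : G) : Subgroup G :=
  (Cfsg.pCore 2 ↥(closure (Perp D x))).map (closure (Perp D x)).subtype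

/-- The products of two members of one class. -/
def ETwo (D : Set G) (x a : G) : Subgroup G :=
  closure {g | ∃ b ∈ Cl D x a, ∃ c ∈ Cl D x a, g = b * c}

theorem perp_isClass (hD : Cfsg.IsThreeTranspositionClass D) (hP : Cfsg.IsPrimitiveUnderConj D)
    (hw : ∃ a ∈ D, ∃ b ∈ D, a ≠ b ∧ Commute a b) (h2 : Cfsg.pCore 2 G = ⊥) {x : G} (hx : x ∈ D) :
    Cfsg.IsThreeTranspositionClass {d : ↥(closure (Perp D x)) | (d : G) ∈ Perp D x} := by
  have hG := class_isGroup hD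
  have hfix : ∀ k ∈ closure (Perp D x), k * x * k⁻¹ = x := by
    intro k hk
    refine conj_eq_of_commute (?_ : Commute k x)
    induction hk using closure_induction with
    | mem y hy => exact hy.2.2.symm
    | one => exact Commute.one_left _
    | mul p q _ _ hp hq => exact hp.mul_left hq
    | inv p _ hp => exact hp.inv_left
  refine ⟨⟨fun d hd => ?_, fun d hd e he => ?_⟩, ?_, closure_closure_coe_preimage⟩
  · rw [← Subgroup.orderOf_coe]; exact hD.1.1 _ hd.1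
  · rcases hD.1.2 _ hd.1 _ he.1 with e | e
    · exact Or.inl (Subtype.ext (by simpa using e))
    · exact Or.inr (Subtype.ext (by simpa using e))
  · obtain ⟨a, ha⟩ := perp_nonempty hD hw hx
    refine ⟨⟨a, subset_closure ha⟩, ha, ?_⟩
    ext d
    show ((d : G) ∈ Perp D x) ↔ IsConj _ d
    rw [isConj_iff]
    constructor
    · intro hd
      obtain ⟨g, hg, e⟩ := CfsgLib.Fischer.perp_class hD hP hw h2 hx ha hd
      exact ⟨⟨g, hg⟩, Subtype.ext (by simpa using e)⟩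
    · rintro ⟨c, rfl⟩
      have := (mem_perp_conj hG (c : G) x a).2 ha
      rw [hfix c c.2] at this
      simpa using this

/-- Fischer's case gives the setting of the polar lines. -/
theorem Setting.of_pCore (hsol : ∀ N : Subgroup G, N.Normal → Group.IsSolvable ↥N → N = ⊥)
    (hperf : ⁅commutator G, commutator G⁆ = commutator G) (hD : Cfsg.IsThreeTranspositionClass D)
    {x : G} (hx : x ∈ D)
    (h : ¬ Cfsg.pCore 2 ↥(closure (Perp D x)) ≤ center ↥(closure (Perp D x))) : Setting D := by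
  obtain ⟨hP, hw, h2⟩ := CfsgLib.Fischer.setting hsol hperf hD
  refine ⟨hD, hP, hw, h2, hsol _ CfsgLib.Amalgam.normal_pCore
    (solvable_of_isPGroup Nat.prime_three CfsgLib.Amalgam.isPGroup_pCore), hsol _ inferInstance
      (Group.isSolvable_of_comm fun a b => Subtype.ext (mem_center_iff.1 b.2 a)), ?_⟩
  obtain ⟨a, ha⟩ := perp_nonempty hD hw hx
  obtain ⟨v, hv, hne⟩ := exists_vRel_ne (perp_isClass hD hP hw h2 hx) h
    (d := ⟨a, subset_closure ha⟩) ha
  refine ⟨x, hx, a, ha, (v : G), ⟨hv.2.1, fun y hy => ?_⟩, fun e => hne (Subtype.ext e)⟩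
  have h' := hv.2.2 ⟨y, subset_closure hy⟩ hy
  constructor
  · intro hc
    exact (congrArg Subtype.val (h'.2 (Subtype.ext hc.eq.symm)).eq :).symm
  · intro hc
    exact (congrArg Subtype.val (h'.1 (Subtype.ext hc.eq.symm)).eq :).symm

variable {x a b : G}
variable (S : Setting D)
include S

theorem Setting.mul_mem_oTwo (hx : x ∈ D) (ha : a ∈ Perp D x) (hb : b ∈ Cl D x a) :
    a * b ∈ OTwo D x := by
  have hE := perp_isClass S.isClass S.prim S.width S.two hx
  refine ⟨⟨a, subset_closure ha⟩ * ⟨b, subset_closure hb.1⟩,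
    ((vRel_iff (class_isGroup hE) (d := ⟨a, subset_closure ha⟩) ha).1
      ⟨ha, hb.1, fun e he => ⟨fun hc => ?_, fun hc => ?_⟩⟩).2, rfl⟩
  · exact Subtype.ext (((hb.2 _ he).2 (congrArg Subtype.val hc.eq.symm :)).symm).eq
  · exact Subtype.ext (((hb.2 _ he).1 (congrArg Subtype.val hc.eq.symm :)).symm).eq

theorem Setting.oTwo_conj (hx : x ∈ D) {v g : G} (hv : v ∈ Perp D x) (hg : g ∈ OTwo D x) :
    g * v * g⁻¹ ∈ Cl D x v := by
  have hE := perp_isClass S.isClass S.prim S.width S.two hx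
  obtain ⟨g', hg', rfl⟩ := hg
  haveI := CfsgLib.Amalgam.normal_pCore (G := ↥(closure (Perp D x))) (p := 2)
  obtain ⟨v', rfl⟩ : ∃ v' : ↥(closure (Perp D x)), (v' : G) = v := ⟨⟨v, subset_closure hv⟩, rfl⟩
  have hV : VRel {d : ↥(closure (Perp D x)) | (d : G) ∈ Perp D x} v' (g' * v' * g'⁻¹) := by
    refine (vRel_iff (class_isGroup hE) hv).2 ⟨class_conj_mem hE g' hv, ?_⟩
    have hv2 : v' * v' = 1 := Subtype.ext (by simpa using sq_one S.isClass.1 hv.1)
    rw [show v' * (g' * v' * g'⁻¹) = (v' * g' * v'⁻¹) * g'⁻¹ by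
      rw [inv_eq_of_mul_eq_one_right hv2]; group]
    exact mul_mem ((inferInstance : (Cfsg.pCore 2 _).Normal).conj_mem g' hg' v') (inv_mem hg')
  refine ⟨hV.2.1, fun y hy => ?_⟩
  have h' := hV.2.2 ⟨y, subset_closure hy⟩ hy
  constructor
  · intro hc
    exact (congrArg Subtype.val (h'.2 (Subtype.ext hc.eq.symm)).eq :).symm
  · intro hc
    exact (congrArg Subtype.val (h'.1 (Subtype.ext hc.eq.symm)).eq :).symm

theorem Setting.oTwo_conj_cl (hx : x ∈ D) {v g z : G} (hg : g ∈ OTwo D x) (hz : z ∈ Cl D x v) :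
    g * z * g⁻¹ ∈ Cl D x v :=
  cl_eq hz ▸ S.oTwo_conj hx hz.1 hg

theorem Setting.pair_mem_oTwo (hx : x ∈ D) {b c : G} (hb : b ∈ Cl D x a) (hc : c ∈ Cl D x a) :
    b * c ∈ OTwo D x :=
  S.mul_mem_oTwo hx hb.1 (cl_eq hb ▸ hc)

theorem Setting.eTwo_le (hx : x ∈ D) : ETwo D x a ≤ OTwo D x := by
  rw [ETwo, closure_le]
  rintro _ ⟨b, hb, c, hc, rfl⟩
  exact S.pair_mem_oTwo hx hb hc

omit S in
omit [Finite G] in
theorem eTwo_comm (ha : a ∈ Perp D x) {g h : G} (hg : g ∈ ETwo D x a) (hh : h ∈ ETwo D x a) :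
    Commute g h := by
  refine commute_closure ?_ hg hh
  rintro _ ⟨b, hb, c, hc, rfl⟩ _ ⟨b', hb', c', hc', rfl⟩
  exact ((commute_cl ha hb hb').mul_left (commute_cl ha hc hb')).mul_right
    ((commute_cl ha hb hc').mul_left (commute_cl ha hc hc'))

omit S in
omit [Finite G] in
theorem pair_mem_eTwo {b c : G} (hb : b ∈ Cl D x a) (hc : c ∈ Cl D x a) :
    b * c ∈ ETwo D x a := subset_closure ⟨b, hb, c, hc, rfl⟩

theorem Setting.exists_noncomm (hx : x ∈ D) (ha : a ∈ Perp D x) :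
    ∃ v ∈ Perp D x, ¬ Commute v a := by
  by_contra h
  push Not at h
  obtain ⟨b, hb, hba⟩ := S.exists_mate hx ha
  have := CfsgLib.Fischer.link_connected S.isClass S.prim S.width S.two hx ha hb.1
  rcases Relation.ReflTransGen.cases_head this with h' | ⟨c, hc, -⟩
  · exact hba h'.symm
  · exact hc.2.2 (h c hc.2.1).symm

/-- `G` is generated by `x`, its partners and one member not commuting with `x`. -/
theorem Setting.generate (hx : x ∈ D) {d : G} (hd : d ∈ D) (hxd : ¬ Commute x d) {K : Subgroup G}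
    (h1 : Perp D x ⊆ K) (h2 : x ∈ K) (h3 : d ∈ K) : K = ⊤ := by
  refine top_le_iff.1 (S.isClass.2.2 ▸ (closure_le _).2 fun z hz => ?_)
  by_cases hxz : Commute x z
  · by_cases h : z = x
    · exact h ▸ h2
    · exact h1 ⟨hz, h, hxz⟩
  · obtain ⟨h, hh, rfl⟩ := trans_noncomm_closure S.group S.prim S.width hx hd hxd hz hxz
    have : h ∈ K := by
      refine (closure_le _).2 ?_ hh
      rintro y ⟨hy, hc⟩
      by_cases e : y = x
      · exact e ▸ h2
      · exact h1 ⟨hy, e, hc⟩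
    exact mul_mem (mul_mem this h3) (inv_mem this)

theorem Setting.eq_one_of_fix (hx : x ∈ D) {d g : G} (hd : d ∈ D) (hxd : ¬ Commute x d)
    (h1 : ∀ v ∈ Perp D x, Commute g v) (h2 : Commute g x) (h3 : Commute g d) : g = 1 := by
  have htop := S.generate hx hd hxd (K := centralizer {g})
    (fun v hv => mem_centralizer_singleton_iff.2 (h1 v hv).eq.symm)
    (mem_centralizer_singleton_iff.2 h2.eq.symm) (mem_centralizer_singleton_iff.2 h3.eq.symm)
  rw [← mem_bot, ← S.centre, mem_center_iff]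
  intro y
  exact mem_centralizer_singleton_iff.1 (htop ▸ mem_top y)

/-- Two commuting members not commuting with `x` with the same partners of `x` are equal. -/
theorem Setting.eq_of_common (hx : x ∈ D) {d₁ d₂ : G} (h1 : d₁ ∈ D) (h2 : d₂ ∈ D)
    (hx1 : ¬ Commute x d₁) (hc : Commute d₁ d₂)
    (hS : ∀ s ∈ Perp D x, Commute s d₁ → Commute s d₂) : d₁ = d₂ := by
  by_contra hne
  have h21 : d₂ ∈ Perp D d₁ := ⟨h2, Ne.symm hne, hc⟩
  obtain ⟨p, hp, hxp⟩ := S.exists_rep h1 h21 hx (fun h => hx1 h.symm)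
  have hpx : p ∈ Perp D x := ⟨hp.1.1, fun e => hx1 (e ▸ hp.1.2.2.symm), hxp⟩
  have hall : ∀ y ∈ Perp D x, Commute y p := by
    intro y hy
    obtain ⟨s, hs, hds⟩ := S.exists_rep hx hy h1 hx1
    have hsd : s ∈ Perp D d₁ := ⟨hs.1.1, fun e => hx1 (e ▸ hs.1.2.2), hds⟩
    have hsp : Commute s p := (hp.2 s hsd).1 (hS s hs.1 hds.symm)
    exact ((hs.2 p hpx).2 hsp.symm).symm
  obtain ⟨v, hv, hvp⟩ := S.exists_noncomm hx hpx
  exact hvp (hall v hv)

theorem Setting.pair_moves (hx : x ∈ D) (ha : a ∈ Perp D x) {v b c : G} (hv : v ∈ Perp D x)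
    (hva : ¬ Commute v a) (hb : b ∈ Cl D x a) (hc : c ∈ Cl D x a) (hbc : b ≠ c) :
    b * c * v * (b * c)⁻¹ ≠ v := by
  intro e
  have h1 : Commute v (b * c) := (mul_inv_eq_iff_eq_mul.1 e).symm
  have h2 := ((commute_mul_iff S.isClass.1 hb.1.1 hc.1.1 hv.1 hbc (commute_cl ha hb hc)).1 h1).1
  exact hva ((hb.2 v hv).2 h2)

theorem Setting.eTwo_trans (hx : x ∈ D) (ha : a ∈ Perp D x) {v w : G} (hv : v ∈ Perp D x)
    (hva : ¬ Commute v a) (hw : w ∈ Cl D x v) :
    ∃ c ∈ Cl D x a, a * c * v * (a * c)⁻¹ = w := by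
  have hinj : Set.InjOn (fun c => a * c * v * (a * c)⁻¹) (Cl D x a) := by
    intro c hc c' hc' e
    by_contra hne
    refine S.pair_moves hx ha hv hva hc' hc (Ne.symm hne) ?_
    have hs := S.isClass.1
    have e' : c * v * c⁻¹ = c' * v * c'⁻¹ := by
      apply (MulAut.conj a).injective
      simpa [mul_assoc] using e
    rw [show c' * c * v * (c' * c)⁻¹ = c' * (c * v * c⁻¹) * c'⁻¹ by group, e',
      inv_eq hs hc'.1.1, show c' * (c' * v * c') * c' = (c' * c') * v * (c' * c') by group,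
      sq_one hs hc'.1.1, one_mul, mul_one]
  have himg : (fun c => a * c * v * (a * c)⁻¹) '' Cl D x a = Cl D x v := by
    refine Set.eq_of_subset_of_ncard_le ?_ ?_ (Set.toFinite _)
    · rintro _ ⟨c, hc, rfl⟩
      exact S.oTwo_conj hx hv (S.mul_mem_oTwo hx ha hc)
    · rw [Set.ncard_image_of_injOn hinj]; exact (S.cl_card hx hv hx ha).le
  rw [← himg] at hw
  exact hw

/-- An element of `ETwo` fixing one member of a class fixes all of it. -/
theorem Setting.eTwo_fix_class (hx : x ∈ D) (ha : a ∈ Perp D x) {v w g : G} (hv : v ∈ Perp D x)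
    (hw : w ∈ Cl D x v) (hg : g ∈ ETwo D x a) (hgv : Commute g v) : Commute g w := by
  by_cases hva : Commute v a
  · have hgen : ETwo D x a ≤ centralizer {w} := by
      rw [ETwo, closure_le]
      rintro _ ⟨b, hb, c, hc, rfl⟩
      refine mem_centralizer_singleton_iff.2 (Commute.mul_left (?_ : Commute b w) ?_).eq
      · exact (hw.2 b hb.1).1 ((hb.2 v hv).1 hva).symm
      · exact (hw.2 c hc.1).1 ((hc.2 v hv).1 hva).symm
    exact mem_centralizer_singleton_iff.1 (hgen hg)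
  · obtain ⟨c, hc, rfl⟩ := S.eTwo_trans hx ha hv hva hw
    have h := eTwo_comm ha hg (pair_mem_eTwo (mem_cl_self ha) hc)
    exact (h.mul_right hgv).mul_right h.inv_right

theorem Setting.eTwo_eq_one (hx : x ∈ D) (ha : a ∈ Perp D x) {d g : G} (hd : d ∈ D)
    (hxd : ¬ Commute x d) (hg : g ∈ ETwo D x a) (hgd : Commute g d) : g = 1 := by
  have hgx : Commute g x := by
    refine Commute.symm (mem_centralizer_singleton_iff.1
      ((closure_le (centralizer {x})).2 ?_ hg) |>.symm)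
    rintro _ ⟨b, hb, c, hc, rfl⟩
    exact mem_centralizer_singleton_iff.2 (hb.1.2.2.symm.mul_left hc.1.2.2.symm).eq
  refine S.eq_one_of_fix hx hd hxd (fun v hv => ?_) hgx hgd
  obtain ⟨s, ⟨hs, hds⟩, huniq⟩ := S.existsUnique_rep hx hv hd hxd
  have hgs : Commute g s := by
    have hm := S.oTwo_conj_cl hx (S.eTwo_le hx hg) hs
    have hc : Commute d (g * s * g⁻¹) := by
      have := (commute_conj_iff g d s).2 hds
      rwa [conj_eq_of_commute hgd] at this
    exact mul_inv_eq_iff_eq_mul.1 (huniq _ ⟨hm, hc⟩)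
  exact S.eTwo_fix_class hx ha hs.1 (cl_eq hs ▸ mem_cl_self hv) hg hgs

/-- Conjugation by the other members of the class swaps the two classes at `b` of `d` and of its
conjugate by `x`. -/
theorem Setting.swap_cl (hx : x ∈ D) (hb : b ∈ Perp D x) {c d : G} (hd : d ∈ D)
    (hxd : ¬ Commute x d) (hdb : Commute d b) (hc : c ∈ Cl D x b) (hcb : c ≠ b) {z : G} :
    (z ∈ Cl D b d → c * z * c⁻¹ ∈ Cl D b (x * d * x⁻¹)) ∧
    (z ∈ Cl D b (x * d * x⁻¹) → c * z * c⁻¹ ∈ Cl D b d) := by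
  have hs := S.isClass.1
  have hxc : x ∈ Cl D b c := S.cl_swap hx hb hc hcb
  have hbc : c ∈ Perp D b := ⟨hc.1.1, hcb, commute_cl hb (mem_cl_self hb) hc⟩
  have hcx : c * x ∈ OTwo D b := S.mul_mem_oTwo hb.1 hbc hxc
  have hxb : x * b * x⁻¹ = b := conj_eq_of_commute hb.2.2
  have himg : ∀ {u w}, u ∈ Cl D b w → x * u * x⁻¹ ∈ Cl D b (x * w * x⁻¹) := by
    intro u w hu
    have := image_cl (D := D) S.group x b w ▸ Set.mem_image_of_mem (MulAut.conj x) hu
    rwa [hxb] at this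
  have hxx : ∀ u, x * (x * u * x⁻¹) * x⁻¹ = u := fun u => by
    rw [inv_eq hs hx, show x * (x * u * x) * x = (x * x) * u * (x * x) by group, sq_one hs hx,
      one_mul, mul_one]
  have hfac : ∀ u, c * u * c⁻¹ = (c * x) * (x * u * x⁻¹) * (c * x)⁻¹ := fun u => by
    conv_lhs => rw [← hxx u]
    group
  constructor
  · intro hz
    rw [hfac]
    exact S.oTwo_conj_cl hb.1 hcx (himg hz)
  · intro hz
    rw [hfac]
    have := himg hz
    rw [hxx] at this
    exact S.oTwo_conj_cl hb.1 hcx this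

theorem Setting.conj_mem_union (hx : x ∈ D) (ha : a ∈ Perp D x) (hb : b ∈ Cl D x a) {d : G}
    (hd : d ∈ D) (hxd : ¬ Commute x d) (hdb : Commute d b) {g : G}
    (hg : g ∈ closure (Cl D x a)) :
    ∀ z ∈ Cl D b d ∪ Cl D b (x * d * x⁻¹),
      g * z * g⁻¹ ∈ Cl D b d ∪ Cl D b (x * d * x⁻¹) ∧
        g⁻¹ * z * g ∈ Cl D b d ∪ Cl D b (x * d * x⁻¹) := by
  have hstep : ∀ c ∈ Cl D x a, ∀ z ∈ Cl D b d ∪ Cl D b (x * d * x⁻¹),
      c * z * c⁻¹ ∈ Cl D b d ∪ Cl D b (x * d * x⁻¹) := by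
    intro c hc z hz
    by_cases hcb : c = b
    · subst hcb
      have : Commute c z := by rcases hz with h | h <;> exact h.1.2.2
      rwa [conj_eq_of_commute this]
    · obtain ⟨h1, h2⟩ := S.swap_cl hx hb.1 hd hxd hdb (cl_eq hb ▸ hc) hcb (z := z)
      rcases hz with h | h
      exacts [Or.inr (h1 h), Or.inl (h2 h)]
  induction hg using closure_induction with
  | mem c hc =>
    intro z hz
    have hcc : c⁻¹ = c := inv_eq S.isClass.1 hc.1.1
    have := hstep c hc z hz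
    exact ⟨this, by rw [hcc] at this ⊢; exact this⟩
  | one => intro z hz; simpa using hz
  | mul p q _ _ hp hq =>
    intro z hz
    refine ⟨?_, ?_⟩
    · rw [show p * q * z * (p * q)⁻¹ = p * (q * z * q⁻¹) * p⁻¹ by group]
      exact (hp _ (hq z hz).1).1
    · rw [show (p * q)⁻¹ * z * (p * q) = q⁻¹ * (p⁻¹ * z * p) * q by group]
      exact (hq _ (hp z hz).2).2
  | inv p _ hp =>
    intro z hz
    rw [inv_inv]
    exact ⟨(hp z hz).2, (hp z hz).1⟩

omit S in
omit [Finite G] in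
theorem eTwo_le_closure : ETwo D x a ≤ closure (Cl D x a) := by
  rw [ETwo, closure_le]
  rintro _ ⟨b, hb, c, hc, rfl⟩
  exact mul_mem (subset_closure hb) (subset_closure hc)

theorem Setting.eTwo_card (hx : x ∈ D) (ha : a ∈ Perp D x) :
    Nat.card (ETwo D x a) ≤ 2 * (Cl D x a).ncard := by
  obtain ⟨d, hd, hxd⟩ : ∃ d ∈ D, ¬ Commute x d := by
    obtain ⟨v, hv, hvx⟩ := S.exists_noncomm ha.1 (perp_symm hx ha)
    exact ⟨v, hv.1, fun h => hvx h.symm⟩
  obtain ⟨b, hb, hdb⟩ := S.exists_rep hx ha hd hxd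
  have hbd : d ∈ Perp D b := ⟨hd, fun e => hxd (e ▸ hb.1.2.2), hdb.symm⟩
  have hbd' : x * d * x⁻¹ ∈ Perp D b := by
    have := (mem_perp_conj S.group x b d).2 hbd
    rwa [conj_eq_of_commute hb.1.2.2] at this
  have hinj : Function.Injective fun g : ↥(ETwo D x a) => (g : G) * d * (g : G)⁻¹ := by
    intro g h e
    apply Subtype.ext
    have hm : (h : G)⁻¹ * g ∈ ETwo D x a := mul_mem (inv_mem h.2) g.2
    have := S.eTwo_eq_one hx ha hd hxd hm (mul_inv_eq_iff_eq_mul.1 (by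
      calc (h : G)⁻¹ * g * d * ((h : G)⁻¹ * g)⁻¹
          = (h : G)⁻¹ * ((g : G) * d * (g : G)⁻¹) * h := by group
        _ = (h : G)⁻¹ * ((h : G) * d * (h : G)⁻¹) * h := congrArg (fun z => (h : G)⁻¹ * z * h) e
        _ = d := by group))
    exact (inv_mul_eq_one.1 this).symm
  calc Nat.card (ETwo D x a)
      = (Set.range fun g : ↥(ETwo D x a) => (g : G) * d * (g : G)⁻¹).ncard := by
        rw [← Nat.card_coe_set_eq, Nat.card_range_of_injective hinj]
    _ ≤ (Cl D b d ∪ Cl D b (x * d * x⁻¹)).ncard := by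
        refine Set.ncard_le_ncard ?_ (Set.toFinite _)
        rintro _ ⟨g, rfl⟩
        exact (S.conj_mem_union hx ha hb hd hxd hdb (eTwo_le_closure g.2) d
          (Or.inl (mem_cl_self hbd))).1
    _ ≤ 2 * (Cl D x a).ncard := by
        refine (Set.ncard_union_le _ _).trans ?_
        rw [S.cl_card hb.1.1 hbd hx ha, S.cl_card hb.1.1 hbd' hx ha, two_mul]

theorem Setting.exists_rep_eq (hx : x ∈ D) {p : G} (hp : p ∈ Perp D x) :
    ∃ d ∈ D, ¬ Commute x d ∧ Commute d p := by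
  obtain ⟨y, hy, hyx⟩ := S.exists_noncomm hp.1 (perp_symm hx hp)
  exact ⟨y, hy.1, fun h => hyx h.symm, hy.2.2.symm⟩

theorem Setting.pair_ne (hx : x ∈ D) (ha : a ∈ Perp D x) {u₁ u₂ p c : G} (h1 : u₁ ∈ Cl D x a)
    (h2 : u₂ ∈ Cl D x a) (h3 : p ∈ Cl D x a) (h4 : c ∈ Cl D x a) (hu : u₁ ≠ u₂) (hp1 : p ≠ u₁)
    (hp2 : p ≠ u₂) (hpc : p ≠ c) : u₁ * u₂ ≠ p * c := by
  intro e
  have hs := S.isClass.1
  obtain ⟨d, hd, hxd, hdp⟩ := S.exists_rep_eq hx h3.1
  have hnot : ∀ z ∈ Cl D x a, z ≠ p → ¬ Commute d z := fun z hz hne h =>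
    S.not_both hx h3.1 (cl_eq h3 ▸ hz) hne hd hxd hdp.symm h.symm
  have hh := (quad_aux S hd h1.1.1 h2.1.1 (commute_cl ha h1 h2) (hnot u₁ h1 hp1.symm)
    (hnot u₂ h2 hp2.symm)).2.2
  rw [show u₁ * u₂ * d * u₂ * u₁ = (u₁ * u₂) * d * (u₁ * u₂)⁻¹ by
      rw [mul_inv_rev, inv_eq hs h1.1.1, inv_eq hs h2.1.1]; group, e,
    show p * c * d * (p * c)⁻¹ = p * (c * d * c⁻¹) * p⁻¹ by group] at hh
  have h5 : Commute d (c * d * c⁻¹) := by
    have := (commute_conj_iff p d (c * d * c⁻¹)).1 (by rwa [conj_eq_of_commute hdp.symm])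
    exact this
  have hdc := hnot c h4 hpc.symm
  rw [inv_eq hs h4.1.1, braid hs h4.1.1 hd (fun h => hdc h.symm)] at h5
  have h6 := (commute_conj_iff d _ _).2 h5
  rw [inv_eq hs hd, show d * (d * c * d) * d = (d * d) * c * (d * d) by group] at h6
  simp only [sq_one hs hd, one_mul, mul_one] at h6
  exact hdc h6

/-- Any member not commuting with the class fixes the product of four matched members. -/
theorem Setting.quad_product (hx : x ∈ D) (ha : a ∈ Perp D x) {v t₁ t₂ p : G} (hv : v ∈ Perp D x)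
    (hva : ¬ Commute v a) (h1 : t₁ ∈ Cl D x a) (h2 : t₂ ∈ Cl D x a) (h3 : p ∈ Cl D x a)
    (h12 : t₁ ≠ t₂) (hp1 : p ≠ t₁) (hp2 : p ≠ t₂) :
    ∃ c ∈ Cl D x a, c ≠ t₁ ∧ c ≠ t₂ ∧ c ≠ p ∧ Commute (t₁ * t₂ * p * c) v := by
  have hs := S.isClass.1
  have hn : ∀ z ∈ Cl D x a, ¬ Commute v z := fun z hz h => hva ((hz.2 v hv).2 h)
  obtain ⟨hcL, c1, c2, c3, hvc⟩ := S.quad_spec hx ha hv.1 (Set.mem_insert_of_mem _ h1)
    (Set.mem_insert_of_mem _ h2) (Set.mem_insert_of_mem _ h3) h12 hp1 hp2 (hn _ h1) (hn _ h2)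
    (hn _ h3)
  obtain ⟨c, hc⟩ : ∃ c, c = quad v t₁ t₂ p := ⟨_, rfl⟩
  rw [← hc] at hcL c1 c2 c3 hvc
  have hcC : c ∈ Cl D x a := hcL.resolve_left fun e => hvc (e ▸ hv.2.2.symm)
  refine ⟨c, hcC, c1, c2, c3, mul_inv_eq_iff_eq_mul.1 ?_⟩
  have e1 : c * v * c⁻¹ = t₂ * t₁ * p * v * (p * t₁ * t₂) := by
    rw [inv_eq hs hcC.1.1, ← braid hs hv.1 hcC.1.1 hvc, hc, quad,
      show v * (v * t₂ * t₁ * v * p * v * t₁ * t₂ * v) * v
        = (v * v) * t₂ * t₁ * (v * p * v) * t₁ * t₂ * (v * v) by group, sq_one hs hv.1, one_mul,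
      mul_one, braid hs hv.1 h3.1.1 (hn _ h3)]
    group
  calc t₁ * t₂ * p * c * v * (t₁ * t₂ * p * c)⁻¹
      = t₁ * t₂ * p * (c * v * c⁻¹) * (t₁ * t₂ * p)⁻¹ := by group
    _ = (t₁ * t₂ * p) * (t₂ * t₁ * p) * v * ((p * t₁ * t₂) * (p * (t₂ * t₁))) := by
        rw [e1, mul_inv_rev, mul_inv_rev, inv_eq hs h1.1.1, inv_eq hs h2.1.1, inv_eq hs h3.1.1]
        group
    _ = v := by
        have k1 : Commute p (t₂ * t₁) := (commute_cl ha h3 h2).mul_right (commute_cl ha h3 h1)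
        rw [show t₁ * t₂ * p * (t₂ * t₁ * p) = t₁ * t₂ * (p * (t₂ * t₁)) * p by group, k1.eq,
          show t₁ * t₂ * (t₂ * t₁ * p) * p = t₁ * (t₂ * t₂) * t₁ * (p * p) by group,
          sq_one hs h2.1.1, mul_one, sq_one hs h1.1.1, one_mul, sq_one hs h3.1.1, one_mul,
          show p * t₁ * t₂ * (t₂ * t₁ * p) = p * (t₁ * (t₂ * t₂) * t₁) * p by group,
          sq_one hs h2.1.1, mul_one, sq_one hs h1.1.1, mul_one, sq_one hs h3.1.1, mul_one]

/-- Classes have two or four members. -/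
theorem Setting.cl_two_or_four (hx : x ∈ D) (ha : a ∈ Perp D x) :
    (Cl D x a).ncard = 2 ∨ (Cl D x a).ncard = 4 := by
  classical
  haveI := Fintype.ofFinite G
  obtain ⟨v, hv, hva⟩ := S.exists_noncomm hx ha
  obtain ⟨b₀, hb₀, hb₀a⟩ := S.exists_mate hx ha
  have hev : Even ((Cl D x a).ncard) := by
    have hvn : ∀ b ∈ Cl D x a, ¬ Commute v b := fun b hb h => hva ((hb.2 v hv).2 h)
    have hL : ∀ {z}, z ∈ Cl D x a → z ∈ Line D x a := fun h => Set.mem_insert_of_mem _ h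
    have hself := mem_cl_self ha
    have e2 : Even ((Cl D x a \ {a}) \ {b₀}).toFinset.card := by
      refine even_of_invol _ (fun b => quad v a b b₀) ?_ ?_ ?_
      all_goals
        intro b hb
        rw [Set.mem_toFinset] at hb
        obtain ⟨⟨hb, hba⟩, hbb⟩ := hb
        have hba' : b ≠ a := hba
        have hbb' : b ≠ b₀ := hbb
        obtain ⟨h1, h2, h3, h4, h5⟩ := S.quad_spec hx ha hv.1 (hL hself) (hL hb) (hL hb₀)
          hba'.symm hb₀a hbb'.symm hva (hvn b hb) (hvn b₀ hb₀)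
      · rw [Set.mem_toFinset]
        exact ⟨⟨h1.resolve_left (fun e => h5 (by rw [e]; exact hv.2.2.symm)), h2⟩, h4⟩
      · exact h3
      · exact S.quad_invol hx ha hv.1 (hL hself) (hL hb) (hL hb₀) hba'.symm hb₀a hbb'.symm
          hva (hvn b hb) (hvn b₀ hb₀)
    rw [← Set.ncard_eq_toFinset_card'] at e2
    rw [← Set.ncard_sdiff_singleton_add_one (mem_cl_self ha), ← Set.ncard_sdiff_singleton_add_one
      (show b₀ ∈ Cl D x a \ {a} from ⟨hb₀, hb₀a⟩)]
    exact (e2.add (by norm_num : Even 2))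
  have h2 : 2 ≤ (Cl D x a).ncard :=
    (Set.one_lt_ncard (Set.toFinite _)).2 ⟨b₀, hb₀, a, mem_cl_self ha, hb₀a⟩
  suffices h : (Cl D x a).ncard ≤ 4 by
    obtain ⟨m, hm⟩ := hev
    omega
  by_contra hbig
  push Not at hbig
  have hpick : ∀ s : Finset G, s.card ≤ 4 → ∃ z ∈ Cl D x a, z ∉ s := by
    intro s hs
    by_contra hno
    push Not at hno
    have := Set.ncard_le_ncard (show Cl D x a ⊆ ↑s from hno) s.finite_toSet
    rw [Set.ncard_coe_finset] at this
    omega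
  obtain ⟨p, hp, hpn⟩ := hpick {a, b₀} (Finset.card_le_two.trans (by norm_num))
  simp only [Finset.mem_insert, Finset.mem_singleton, not_or] at hpn
  obtain ⟨c, hc, c1, c2, c3, hg⟩ :=
    S.quad_product hx ha hv hva (mem_cl_self ha) hb₀ hp hb₀a.symm hpn.1 hpn.2
  obtain ⟨p', hp', hpn'⟩ := hpick {a, b₀, p, c}
    (Finset.card_le_four.trans (by norm_num))
  simp only [Finset.mem_insert, Finset.mem_singleton, not_or] at hpn'
  obtain ⟨c', hc', -, -, c3', hg'⟩ :=
    S.quad_product hx ha hv hva (mem_cl_self ha) hb₀ hp' hb₀a.symm hpn'.1 hpn'.2.1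
  have hmem : ∀ {p c}, p ∈ Cl D x a → c ∈ Cl D x a → a * b₀ * p * c ∈ ETwo D x a := by
    intro p c hp hc
    rw [mul_assoc]
    exact mul_mem (pair_mem_eTwo (mem_cl_self ha) hb₀) (pair_mem_eTwo hp hc)
  obtain ⟨T, hT⟩ : ∃ T : Set G, T = {g | g ∈ ETwo D x a ∧ Commute g v} := ⟨_, rfl⟩
  have hT3 : 3 ≤ T.ncard := by
    have hne1 : a * b₀ * p * c ≠ 1 := by
      intro e
      refine S.pair_ne hx ha (mem_cl_self ha) hb₀ hp hc hb₀a.symm hpn.1 hpn.2 c3.symm ?_
      rw [mul_assoc (a * b₀)] at e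
      rw [eq_inv_of_mul_eq_one_left e, mul_inv_rev, inv_eq S.isClass.1 hp.1.1,
        inv_eq S.isClass.1 hc.1.1]
      exact (commute_cl ha hc hp).eq
    have hne2 : a * b₀ * p' * c' ≠ 1 := by
      intro e
      refine S.pair_ne hx ha (mem_cl_self ha) hb₀ hp' hc' hb₀a.symm hpn'.1 hpn'.2.1 c3'.symm ?_
      rw [mul_assoc (a * b₀)] at e
      rw [eq_inv_of_mul_eq_one_left e, mul_inv_rev, inv_eq S.isClass.1 hp'.1.1,
        inv_eq S.isClass.1 hc'.1.1]
      exact (commute_cl ha hc' hp').eq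
    have hne3 : a * b₀ * p * c ≠ a * b₀ * p' * c' := by
      intro e
      rw [mul_assoc, mul_assoc (a * b₀)] at e
      exact S.pair_ne hx ha hp hc hp' hc' c3.symm hpn'.2.2.1 hpn'.2.2.2 c3'.symm
        (mul_left_cancel e)
    have hsub : ({1, a * b₀ * p * c, a * b₀ * p' * c'} : Set G) ⊆ T := by
      rw [hT]
      rintro g (rfl | rfl | rfl)
      exacts [⟨one_mem _, Commute.one_left _⟩, ⟨hmem hp hc, hg⟩, ⟨hmem hp' hc', hg'⟩]
    refine le_trans ?_ (Set.ncard_le_ncard hsub (Set.toFinite _))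
    rw [Set.ncard_eq_three.2 ⟨_, _, _, hne1.symm, hne2.symm, hne3, rfl⟩]
  have hprod : T.ncard * (Cl D x a).ncard ≤ Nat.card (ETwo D x a) := by
    rw [← Set.ncard_prod]
    refine (Set.ncard_le_ncard_of_injOn (fun q => a * q.2 * q.1) ?_ ?_ (Set.toFinite _)).trans
      (Nat.card_coe_set_eq (ETwo D x a : Set G)).ge
    · rintro ⟨g, c⟩ ⟨hg, hc⟩
      rw [hT] at hg
      exact mul_mem (pair_mem_eTwo (mem_cl_self ha) hc) hg.1
    · rintro ⟨g, c⟩ ⟨hg, hc⟩ ⟨g', c'⟩ ⟨hg', hc'⟩ e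
      rw [hT] at hg hg'
      have hcc : c = c' := by
        by_contra hne
        refine S.pair_moves hx ha hv hva hc' hc (Ne.symm hne) ?_
        have e1 : c' * c = g' * g⁻¹ := by
          have e2 : c * g = c' * g' := by
            have := congrArg (fun z => a * z) e
            simp only [← mul_assoc, sq_one S.isClass.1 ha.1, one_mul] at this
            exact this
          rw [show g' = c'⁻¹ * (c * g) by rw [e2]; group, inv_eq S.isClass.1 hc'.1.1]
          group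
        rw [e1, conj_eq_of_commute (hg'.2.mul_left hg.2.inv_left)]
      subst hcc
      exact Prod.ext (mul_left_cancel e) rfl
  have := S.eTwo_card hx ha
  nlinarith

/-- When a class has four members their product is `x`. -/
theorem Setting.cl_prod (hx : x ∈ D) (ha : a ∈ Perp D x) (h4 : (Cl D x a).ncard = 4)
    {t₁ t₂ t₃ t₄ : G} (h1 : t₁ ∈ Cl D x a) (h2 : t₂ ∈ Cl D x a) (h3 : t₃ ∈ Cl D x a)
    (ht : t₄ ∈ Cl D x a) (h12 : t₁ ≠ t₂) (h13 : t₁ ≠ t₃) (h14 : t₁ ≠ t₄) (h23 : t₂ ≠ t₃)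
    (h24 : t₂ ≠ t₄) (h34 : t₃ ≠ t₄) : t₁ * t₂ * t₃ * t₄ = x := by
  classical
  have hs := S.isClass.1
  have hcl : Cl D x a = {t₁, t₂, t₃, t₄} := by
    symm
    refine Set.eq_of_subset_of_ncard_le ?_ ?_ (Set.toFinite _)
    · rintro z (rfl | rfl | rfl | rfl) <;> assumption
    · rw [h4, show ({t₁, t₂, t₃, t₄} : Set G) = ↑({t₁, t₂, t₃, t₄} : Finset G) by simp,
        Set.ncard_coe_finset]
      simp [h12, h13, h14, h23, h24, h34]
  obtain ⟨g, eg⟩ : ∃ g, g = t₁ * t₂ * t₃ * t₄ := ⟨_, rfl⟩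
  rw [← eg]
  have hgv : ∀ v ∈ Perp D x, Commute g v := by
    intro v hv
    by_cases hva : Commute v a
    · have hz : ∀ z ∈ Cl D x a, Commute z v := fun z hz => ((hz.2 v hv).1 hva).symm
      rw [eg]
      exact (((hz _ h1).mul_left (hz _ h2)).mul_left (hz _ h3)).mul_left (hz _ ht)
    · obtain ⟨c, hc, c1, c2, c3, hg⟩ := S.quad_product hx ha hv hva h1 h2 h3 h12 h13.symm h23.symm
      rw [hcl] at hc
      rcases hc with rfl | rfl | rfl | rfl
      · exact absurd rfl c1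
      · exact absurd rfl c2
      · exact absurd rfl c3
      · rw [eg]; exact hg
  have hgx : Commute g x := by
    rw [eg]
    exact ((h1.1.2.2.symm.mul_left h2.1.2.2.symm).mul_left h3.1.2.2.symm).mul_left ht.1.2.2.symm
  obtain ⟨d, hd, hxd⟩ : ∃ d ∈ D, ¬ Commute x d := by
    obtain ⟨v, hv, hvx⟩ := S.exists_noncomm h1.1.1 (perp_symm hx h1.1)
    exact ⟨v, hv.1, fun h => hvx h.symm⟩
  -- reorder so that the member commuting with `d` is the first factor
  obtain ⟨b, hb, hdb⟩ := S.exists_rep hx ha hd hxd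
  obtain ⟨q₁, q₂, q₃, hq, hq1, hq2, hq3, n1, n2, n3⟩ : ∃ q₁ q₂ q₃, g = q₁ * q₂ * q₃ * b ∧
      q₁ ∈ Cl D x a ∧ q₂ ∈ Cl D x a ∧ q₃ ∈ Cl D x a ∧ q₁ ≠ b ∧ q₂ ≠ b ∧ q₃ ≠ b := by
    have k12 := (commute_cl ha h1 h2).eq
    have k13 := (commute_cl ha h1 h3).eq
    have k14 := (commute_cl ha h1 ht).eq
    have k23 := (commute_cl ha h2 h3).eq
    have k24 := (commute_cl ha h2 ht).eq
    have k34 := (commute_cl ha h3 ht).eq
    have hb' := hb
    rw [hcl] at hb'
    rcases hb' with rfl | rfl | rfl | rfl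
    · refine ⟨t₂, t₃, t₄, ?_, h2, h3, ht, h12.symm, h13.symm, h14.symm⟩
      rw [eg, mul_assoc _ t₄, ← k14, ← mul_assoc, mul_assoc t₂ t₃, ← k13, ← mul_assoc, k12]
    · refine ⟨t₁, t₃, t₄, ?_, h1, h3, ht, h12, h23.symm, h24.symm⟩
      rw [eg, mul_assoc _ t₄, ← k24, ← mul_assoc, mul_assoc t₁ t₃, ← k23, ← mul_assoc]
    · refine ⟨t₁, t₂, t₄, ?_, h1, h2, ht, h13, h23, h34.symm⟩
      rw [eg, mul_assoc _ t₄, ← k34, ← mul_assoc]
    · exact ⟨t₁, t₂, t₃, eg, h1, h2, h3, h14, h24, h34⟩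
  have hbd : d ∈ Perp D b := ⟨hd, fun e => hxd (e ▸ hb.1.2.2), hdb.symm⟩
  have hsw := fun {q z : G} (hq : q ∈ Cl D x a) (n : q ≠ b) =>
    S.swap_cl hx hb.1 hd hxd hdb (cl_eq hb ▸ hq) n (z := z)
  have hgd : g * d * g⁻¹ ∈ Cl D b (x * d * x⁻¹) := by
    rw [hq, show q₁ * q₂ * q₃ * b * d * (q₁ * q₂ * q₃ * b)⁻¹
      = q₁ * (q₂ * (q₃ * (b * d * b⁻¹) * q₃⁻¹) * q₂⁻¹) * q₁⁻¹ by group,
      conj_eq_of_commute hdb.symm]
    exact (hsw hq1 n1).1 ((hsw hq2 n2).2 ((hsw hq3 n3).1 (mem_cl_self hbd)))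
  have hbd' : x * d * x⁻¹ ∈ Perp D b := by
    have := (mem_perp_conj S.group x b d).2 hbd
    rwa [conj_eq_of_commute hb.1.2.2] at this
  have heq : g * d * g⁻¹ = x * d * x⁻¹ := by
    refine S.eq_of_common hx (class_conj_mem S.isClass g hd) (class_conj_mem S.isClass x hd) ?_
      (commute_cl hbd' hgd (mem_cl_self hbd')) fun s hs hsd => ?_
    · intro h
      rw [← conj_eq_of_commute hgx] at h
      exact hxd ((commute_conj_iff g x d).1 h)
    · rw [← conj_eq_of_commute (hgv s hs)] at hsd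
      have := (commute_conj_iff x s d).2 ((commute_conj_iff g s d).1 hsd)
      rwa [conj_eq_of_commute hs.2.2] at this
  have h := S.eq_one_of_fix hx hd hxd (g := x⁻¹ * g)
    (fun v hv => (hv.2.2.inv_left).mul_left (hgv v hv)) ((Commute.refl x).inv_left.mul_left hgx)
    (mul_inv_eq_iff_eq_mul.1 (by
      calc x⁻¹ * g * d * (x⁻¹ * g)⁻¹ = x⁻¹ * (g * d * g⁻¹) * x := by group
        _ = d := by rw [heq]; group))
  exact (inv_mul_eq_one.1 h).symm

end CfsgLib.FischerPolar
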