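import Cfsg.Agent.Lib.Golay.FischerPolarQ

/-!
Lines with five points: the orientation and the automorphism of order three of the space
`Qg / {1, x}`.
-/

set_option autoImplicit false

namespace CfsgLib.FischerPolar

open Subgroup CfsgLib.Trans3 CfsgLib.FischerOdd
open scoped _root_.Classical

variable {G : Type*} [Group G] [Finite G] {D : Set G}

/-- A member `x`, one not commuting with it, and classes of four. -/
structure Frame (D : Set G) where
  setting : Setting D
  four : ∀ x ∈ D, ∀ a ∈ Perp D x, (Cl D x a).ncard = 4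
  x : G
  f : G
  hx : x ∈ D
  hf : f ∈ D
  hxf : ¬ Commute x f

variable (P : Frame D)

/-- The members of `Perp D P.x` commuting with `P.f`: one of every class. -/
def Frame.Rep (b : G) : Prop := b ∈ Perp D P.x ∧ Commute b P.f

/-- The other members of a class. -/
def Frame.Mate (b c : G) : Prop := c ∈ Cl D P.x b ∧ c ≠ b

theorem Frame.hs (P : Frame D) : Cfsg.IsThreeTranspositionSet D := P.setting.isClass.1

theorem Frame.hxx : P.x * P.x = 1 := sq_one P.hs P.hx

theorem Frame.x_ne_one : P.x ≠ 1 := invol_ne_one (P.hs.1 P.x P.hx)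

theorem Frame.exists_rep {a : G} (ha : a ∈ Perp D P.x) : ∃ b, P.Rep b ∧ b ∈ Cl D P.x a := by
  obtain ⟨b, hb, hfb⟩ := P.setting.exists_rep P.hx ha P.hf P.hxf
  exact ⟨b, ⟨hb.1, hfb.symm⟩, hb⟩

theorem Frame.rep_unique {a b c : G} (ha : a ∈ Perp D P.x) (hb : P.Rep b) (hc : P.Rep c)
    (h1 : b ∈ Cl D P.x a) (h2 : c ∈ Cl D P.x a) : b = c := by
  obtain ⟨d, -, hu⟩ := P.setting.existsUnique_rep P.hx ha P.hf P.hxf
  exact (hu b ⟨h1, hb.2.symm⟩).trans (hu c ⟨h2, hc.2.symm⟩).symm

theorem Frame.mate_not_commute {b c : G} (hb : P.Rep b) (hc : P.Mate b c) : ¬ Commute c P.f :=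
  P.setting.not_both P.hx hb.1 hc.1 hc.2 P.hf P.hxf hb.2

/-! ### Adjacent representatives -/

/-- The image of `v` under the pair `u, c`. -/
def th (u v c : G) : G := (u * c) * v * (u * c)⁻¹

theorem th_facts {u v c : G} (hu : P.Rep u) (hv : v ∈ Perp D P.x) (huv : ¬ Commute u v)
    (hc : c ∈ Cl D P.x u) :
    th v u (th u v c) = c ∧ (u * v * u) * (v * c * v) = (u * c) * (v * th u v c) := by
  have hcv : ¬ Commute c v := fun h => huv ((hc.2 v hv).2 h.symm).symm
  have hs := P.hs
  obtain ⟨φ, e1, e2, e3⟩ := exists_hom_perm_four (sq_one hs hu.1.1) (sq_one hs hv.1)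
    (sq_one hs hc.1.1) (commute_cl hu.1 (mem_cl_self hu.1) hc).eq (braid hs hu.1.1 hv.1 huv)
    (braid hs hv.1 hc.1.1 fun h => hcv h.symm)
  constructor
  · simp only [th]
    rw [← e1, ← e2, ← e3]
    simp only [← map_mul, ← map_inv]
    exact congrArg φ (by decide +kernel)
  · simp only [th]
    rw [← e1, ← e2, ← e3]
    simp only [← map_mul, ← map_inv]
    exact congrArg φ (by decide +kernel)

theorem Frame.th_mate {u v c : G} (hu : P.Rep u) (hv : P.Rep v) (huv : ¬ Commute u v)
    (hc : P.Mate u c) : P.Mate v (th u v c) :=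
  ⟨P.setting.oTwo_conj P.hx hv.1 (P.setting.mul_mem_oTwo P.hx hu.1 hc.1),
    P.setting.pair_moves P.hx hu.1 hv.1 (fun h => huv h.symm) (mem_cl_self hu.1) hc.1 hc.2.symm⟩

theorem Frame.mid_rep {u v : G} (hu : P.Rep u) (hv : P.Rep v) : P.Rep (u * v * u) := by
  have hu' := inv_eq P.hs hu.1.1
  have h1 := (mem_perp_conj P.setting.group u P.x v).2 hv.1
  rw [conj_eq_of_commute hu.1.2.2.symm, hu'] at h1
  exact ⟨h1, (hu.2.mul_left hv.2).mul_left hu.2⟩

theorem Frame.mid_mate {u v c : G} (hu : P.Rep u) (hv : P.Rep v) (huv : ¬ Commute u v)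
    (hc : P.Mate u c) : P.Mate (u * v * u) (v * c * v) := by
  have hv' := inv_eq P.hs hv.1.1
  have h1 := image_cl (D := D) P.setting.group v P.x u ▸
    Set.mem_image_of_mem (MulAut.conj v) hc.1
  rw [conj_eq_of_commute hv.1.2.2.symm, hv', braid P.hs hv.1.1 hu.1.1 fun h => huv h.symm] at h1
  refine ⟨by simpa [hv'] using h1, fun e => hc.2 ?_⟩
  rw [← braid P.hs hv.1.1 hu.1.1 fun h => huv h.symm] at e
  exact mul_left_cancel (mul_right_cancel e)

theorem Frame.mid_adj {u v : G} (hu : P.Rep u) (hv : P.Rep v) (huv : ¬ Commute u v) :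
    ¬ Commute (u * v * u) u ∧ ¬ Commute (u * v * u) v := by
  have hs := P.hs
  refine ⟨fun h => huv ?_, fun h => huv ?_⟩
  · have := (commute_conj_iff u v u).1 (by
      rwa [inv_eq hs hu.1.1, show u * u * u = u by rw [sq_one hs hu.1.1, one_mul]])
    exact this.symm
  · rw [braid hs hu.1.1 hv.1.1 huv] at h
    exact (commute_conj_iff v u v).1 (by
      rwa [inv_eq hs hv.1.1, show v * v * v = v by rw [sq_one hs hv.1.1, one_mul]])

/-- A path of length three of noncommuting members gives one of length two. -/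
theorem Frame.shorten {u p q w : G} (hu : P.Rep u) (hp : P.Rep p) (hq : P.Rep q) (hw : P.Rep w)
    (hup : ¬ Commute u p) (hpq : ¬ Commute p q) (hqw : ¬ Commute q w) (huq : Commute u q)
    (hpw : Commute p w) : ¬ Commute (p * q * p) u ∧ ¬ Commute (p * q * p) w := by
  have hs := P.hs
  have hp' := inv_eq hs hp.1.1
  refine ⟨fun h => hpq ?_, fun h => hqw ?_⟩
  · have h1 := (commute_conj_iff p⁻¹ _ _).2 h
    rw [inv_inv, hp', show p * (p * q * p) * p = (p * p) * q * (p * p) by group, sq_one hs hp.1.1,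
      one_mul, mul_one, braid hs hp.1.1 hu.1.1 fun e => hup e.symm] at h1
    have h2 := (commute_conj_iff u⁻¹ _ _).2 h1
    rw [inv_inv, inv_eq hs hu.1.1, show u * (u * p * u) * u = (u * u) * p * (u * u) by group,
      sq_one hs hu.1.1, one_mul, mul_one, huq.eq, mul_assoc, sq_one hs hu.1.1, mul_one] at h2
    exact h2.symm
  · have h1 := (commute_conj_iff p⁻¹ _ _).2 h
    rw [inv_inv, hp', show p * (p * q * p) * p = (p * p) * q * (p * p) by group, sq_one hs hp.1.1,
      one_mul, mul_one, hpw.eq, mul_assoc, sq_one hs hp.1.1, mul_one] at h1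
    exact h1

theorem Frame.near {u w : G} (hu : P.Rep u) (hw : P.Rep w) :
    w = u ∨ ¬ Commute w u ∨ ∃ v, P.Rep v ∧ ¬ Commute v u ∧ ¬ Commute v w := by
  have hS := P.setting
  have h := CfsgLib.Fischer.link_connected hS.isClass hS.prim hS.width hS.two P.hx hu.1 hw.1
  suffices H : ∀ z, Relation.ReflTransGen (CfsgLib.Fischer.Link D P.x) u z → ∀ s, P.Rep s →
      s ∈ Cl D P.x z → s = u ∨ ¬ Commute s u ∨ ∃ v, P.Rep v ∧ ¬ Commute v u ∧ ¬ Commute v s from
    H w h w hw (mem_cl_self hw.1)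
  intro z hz
  induction hz with
  | refl => exact fun s hs hsz => Or.inl (P.rep_unique hu.1 hs hu hsz (mem_cl_self hu.1))
  | @tail q r _ hqr ih =>
    intro s hs hsr
    obtain ⟨q', hq', hqq⟩ := P.exists_rep hqr.1
    have hne : ¬ Commute q' s := fun h => hqr.2.2 ((hsr.2 q hqr.1).2 ((hqq.2 s hs.1).2 h.symm).symm)
    by_cases hsu : Commute s u
    · by_cases hs0 : s = u
      · exact Or.inl hs0
      refine Or.inr (Or.inr ?_)
      rcases ih q' hq' hqq with e | h1 | ⟨v, hv, hvu, hvq⟩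
      · subst e; exact absurd hsu fun h => hne h.symm
      · exact ⟨q', hq', h1, hne⟩
      · by_cases hvs : Commute v s
        · by_cases hqu : Commute q' u
          · obtain ⟨h1, h2⟩ := P.shorten hu hv hq' hs (fun h => hvu h.symm) hvq hne hqu.symm hvs
            exact ⟨v * q' * v, P.mid_rep hv hq', h1, h2⟩
          · exact ⟨q', hq', hqu, hne⟩
        · exact ⟨v, hv, hvu, hvs⟩
    · exact Or.inr (Or.inl hsu)

/-! ### The space -/

/-- Noncommutation with `g`, as a function on `Qg`. -/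
noncomputable def Frame.wfun (g : ↥(Qg D P.x)) : ↥(Qg D P.x) → ZMod 2 :=
  fun h => if Commute (g : G) h then 0 else 1

theorem Frame.conj_cases (g h : ↥(Qg D P.x)) :
    (g : G) * h * (g : G)⁻¹ = if Commute (g : G) h then (h : G) else h * P.x := by
  split_ifs with hc
  · exact conj_eq_of_commute hc
  · exact (P.setting.qg_comm_cases P.four P.hx g.2 h.2).resolve_left
      fun e => hc (mul_inv_eq_iff_eq_mul.1 e)

theorem Frame.wfun_mul (g h : ↥(Qg D P.x)) : P.wfun (g * h) = P.wfun g + P.wfun h := by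
  funext k
  have e : ((g * h : ↥(Qg D P.x)) : G) * k * ((g * h : ↥(Qg D P.x)) : G)⁻¹
      = g * (h * k * (h : G)⁻¹) * (g : G)⁻¹ := by
    rw [Subgroup.coe_mul]; group
  have hne : (k : G) * P.x ≠ k := fun e => P.x_ne_one (mul_eq_left.1 e)
  rw [P.conj_cases (g * h) k, P.conj_cases h k] at e
  simp only [wfun, Pi.add_apply]
  have hgk := P.conj_cases g k
  have hgx : (g : G) * P.x * (g : G)⁻¹ = P.x := conj_eq_of_commute (commute_qg_self g.2)
  have key : (g : G) * (k * P.x) * (g : G)⁻¹ = (g * k * (g : G)⁻¹) * P.x := by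
    calc (g : G) * (k * P.x) * (g : G)⁻¹ = (g * k * (g : G)⁻¹) * (g * P.x * (g : G)⁻¹) := by group
      _ = _ := by rw [hgx]
  by_cases h1 : Commute ((g * h : ↥(Qg D P.x)) : G) k <;> by_cases h2 : Commute (g : G) k <;>
    by_cases h3 : Commute (h : G) k <;>
    simp only [h1, h2, h3, if_true, if_false, key] at e hgk ⊢
  all_goals first
    | decide
    | (exfalso
       simp only [hgk, mul_assoc, P.hxx, mul_one] at e
       first | exact hne e | exact hne e.symm)

/-- The space `Qg / {1, x}`. -/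
noncomputable def Frame.W : AddSubgroup (↥(Qg D P.x) → ZMod 2) where
  carrier := Set.range P.wfun
  zero_mem' := ⟨1, funext fun h => by simp [wfun]⟩
  add_mem' := by
    rintro _ _ ⟨g, rfl⟩ ⟨h, rfl⟩
    exact ⟨g * h, P.wfun_mul g h⟩
  neg_mem' := by
    rintro _ ⟨g, rfl⟩
    exact ⟨g, (ZModModule.neg_eq_self _).symm⟩

/-- The class of an element of `Qg`. -/
noncomputable def Frame.psi (g : ↥(Qg D P.x)) : ↥P.W := ⟨P.wfun g, g, rfl⟩

theorem Frame.psi_mul (g h : ↥(Qg D P.x)) : P.psi (g * h) = P.psi g + P.psi h :=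
  Subtype.ext (P.wfun_mul g h)

theorem Frame.psi_one : P.psi (1 : ↥(Qg D P.x)) = 0 :=
  Subtype.ext (funext fun h => if_pos (by simp))

theorem Frame.psi_surjective : Function.Surjective P.psi :=
  fun ⟨_, g, hg⟩ => ⟨g, Subtype.ext hg⟩

theorem Frame.add_self_eq (w : ↥P.W) : w + w = 0 :=
  Subtype.ext (ZModModule.add_self (w : ↥(Qg D P.x) → ZMod 2))

/-- The commutator form. -/
noncomputable def Frame.beta (w v : ↥P.W) : ZMod 2 :=
  (w : ↥(Qg D P.x) → ZMod 2) (Function.surjInv P.psi_surjective v)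

theorem Frame.beta_psi (g h : ↥(Qg D P.x)) :
    P.beta (P.psi g) (P.psi h) = if Commute (g : G) h then 0 else 1 := by
  obtain ⟨k, hk⟩ : ∃ k, k = Function.surjInv P.psi_surjective (P.psi h) := ⟨_, rfl⟩
  have hk' : P.psi k = P.psi h := hk ▸ Function.surjInv_eq P.psi_surjective _
  have h1 := congrFun (congrArg Subtype.val hk') g
  show P.wfun g (Function.surjInv P.psi_surjective (P.psi h)) = _
  rw [← hk]
  simp only [psi, wfun] at h1 ⊢
  rw [if_congr (⟨Commute.symm, Commute.symm⟩ : Commute (g : G) k ↔ Commute (k : G) g) rfl rfl, h1]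
  exact if_congr ⟨Commute.symm, Commute.symm⟩ rfl rfl

theorem Frame.beta_symm (w v : ↥P.W) : P.beta w v = P.beta v w := by
  obtain ⟨g, rfl⟩ := P.psi_surjective w
  obtain ⟨h, rfl⟩ := P.psi_surjective v
  rw [P.beta_psi, P.beta_psi]
  exact if_congr ⟨Commute.symm, Commute.symm⟩ rfl rfl

theorem Frame.beta_self (w : ↥P.W) : P.beta w w = 0 := by
  obtain ⟨g, rfl⟩ := P.psi_surjective w
  rw [P.beta_psi, if_pos (Commute.refl _)]

theorem Frame.beta_add_left (u w v : ↥P.W) : P.beta (u + w) v = P.beta u v + P.beta w v := rfl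

theorem Frame.beta_add_right (u w v : ↥P.W) : P.beta u (w + v) = P.beta u w + P.beta u v := by
  rw [P.beta_symm, P.beta_add_left, P.beta_symm w, P.beta_symm v]

theorem Frame.beta_zero_left (v : ↥P.W) : P.beta 0 v = 0 := rfl

theorem Frame.beta_zero_right (v : ↥P.W) : P.beta v 0 = 0 := by
  rw [P.beta_symm]; rfl

theorem Frame.psi_eq_iff (g h : ↥(Qg D P.x)) :
    P.psi g = P.psi h ↔ (g : G) = h ∨ (g : G) = h * P.x := by
  constructor
  · intro e
    have hc : ∀ k ∈ Qg D P.x, Commute ((h⁻¹ * g : ↥(Qg D P.x)) : G) k := by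
      intro k hk
      have e0 : P.psi (h⁻¹ * g) = 0 := by
        have h1 : P.psi g = P.psi h + P.psi (h⁻¹ * g) := by rw [← P.psi_mul, mul_inv_cancel_left]
        rw [← e] at h1
        exact left_eq_add.1 h1
      have h2 := P.beta_psi (h⁻¹ * g) ⟨k, hk⟩
      rw [e0, P.beta_zero_left] at h2
      by_contra hn
      rw [if_neg hn] at h2
      exact zero_ne_one h2
    rcases P.setting.qg_centre P.four P.hx (h⁻¹ * g).2 hc with e1 | e1
    · left; rw [Subgroup.coe_mul, Subgroup.coe_inv] at e1; exact (inv_mul_eq_one.1 e1).symm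
    · right; rw [Subgroup.coe_mul, Subgroup.coe_inv] at e1; exact inv_mul_eq_iff_eq_mul.1 e1
  · intro e
    refine Subtype.ext (funext fun k => ?_)
    show P.wfun g k = P.wfun h k
    refine if_congr ?_ rfl rfl
    rcases e with e | e <;> rw [e]
    have hxk : Commute P.x (k : G) := (commute_qg_self k.2).symm
    refine ⟨fun hc => ?_, fun hc => hc.mul_left hxk⟩
    have := hc.mul_left hxk
    rwa [mul_assoc, P.hxx, mul_one] at this

/-- The element of the space given by a pair in one class. -/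
noncomputable def Frame.gen (b c : G) : ↥P.W :=
  if h : b * c ∈ Qg D P.x then P.psi ⟨b * c, h⟩ else 0

theorem Frame.gen_eq {b c : G} (hb : P.Rep b) (hc : c ∈ Cl D P.x b) :
    P.gen b c = P.psi ⟨b * c, pair_mem_qg hb.1 (mem_cl_self hb.1) hc⟩ := dif_pos _

theorem Frame.gen_self {b : G} (hb : P.Rep b) : P.gen b b = 0 := by
  rw [P.gen_eq hb (mem_cl_self hb.1)]
  rw [← P.psi_one]
  congr 1
  exact Subtype.ext (sq_one P.hs hb.1.1)

/-- An element as functional on the pairs of a class. -/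
theorem Frame.beta_gen {b c : G} (hb : P.Rep b) (hc : P.Mate b c) (g : ↥(Qg D P.x)) :
    P.beta (P.psi g) (P.gen b c) =
      if (g : G) * b * (g : G)⁻¹ = b ∨ (g : G) * b * (g : G)⁻¹ = c then 0 else 1 := by
  rw [P.gen_eq hb hc.1, P.beta_psi]
  refine if_congr ⟨fun h => ?_, fun h => ?_⟩ rfl rfl
  · by_contra hn
    have h1 := (P.setting.qg_pair P.four P.hx hb.1 (mem_cl_self hb.1) hc.1 hc.2.symm g.2).2
      (not_or.1 hn)
    have h2 := conj_eq_of_commute (h : Commute (g : G) (b * c))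
    rw [h2] at h1
    exact P.x_ne_one (left_eq_mul.1 h1)
  · exact mul_inv_eq_iff_eq_mul.1
      ((P.setting.qg_pair P.four P.hx hb.1 (mem_cl_self hb.1) hc.1 hc.2.symm g.2).1 h)

theorem Frame.beta_gen_commute {u c v d : G} (hu : P.Rep u) (hc : P.Mate u c) (hv : P.Rep v)
    (hd : P.Mate v d) (huv : Commute u v) : P.beta (P.gen u c) (P.gen v d) = 0 := by
  rw [P.gen_eq hu hc.1, P.beta_gen hv hd, if_pos (Or.inl (conj_eq_of_commute ?_))]
  exact huv.mul_left ((hc.1.2 v hv.1).1 huv.symm).symm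

theorem Frame.beta_gen_adj {u c v d : G} (hu : P.Rep u) (hc : P.Mate u c) (hv : P.Rep v)
    (hd : P.Mate v d) (huv : ¬ Commute u v) :
    P.beta (P.gen u c) (P.gen v d) = if d = th u v c then 0 else 1 := by
  rw [P.gen_eq hu hc.1, P.beta_gen hv hd]
  refine if_congr ⟨fun h => ?_, fun h => Or.inr h.symm⟩ rfl rfl
  rcases h with h | h
  · exact absurd h (P.th_mate hu hv huv hc).2
  · exact h.symm

theorem Frame.mate_exists {b : G} (hb : P.Rep b) :
    ∃ p q r, p ≠ q ∧ p ≠ r ∧ q ≠ r ∧ ∀ c, P.Mate b c ↔ c = p ∨ c = q ∨ c = r := by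
  have h3 : (Cl D P.x b \ {b}).ncard = 3 := by
    rw [Set.ncard_sdiff_singleton_of_mem (mem_cl_self hb.1), P.four P.x P.hx b hb.1]
  obtain ⟨p, q, r, h1, h2, h3, e⟩ := Set.ncard_eq_three.1 h3
  refine ⟨p, q, r, h1, h2, h3, fun c => ?_⟩
  show c ∈ Cl D P.x b \ {b} ↔ _
  rw [e]
  simp

theorem Frame.gen_sum {b p q r : G} (hb : P.Rep b) (hp : P.Mate b p) (hq : P.Mate b q)
    (hr : P.Mate b r) (hpq : p ≠ q) (hpr : p ≠ r) (hqr : q ≠ r) :
    P.gen b p + P.gen b q + P.gen b r = 0 := by
  have h := P.setting.cl_prod P.hx hb.1 (P.four P.x P.hx b hb.1) (mem_cl_self hb.1) hp.1 hq.1 hr.1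
    hp.2.symm hq.2.symm hr.2.symm hpq hpr hqr
  rw [P.gen_eq hb hp.1, P.gen_eq hb hq.1, P.gen_eq hb hr.1, ← P.psi_mul, ← P.psi_mul]
  have hbp := commute_cl hb.1 hp.1 (mem_cl_self hb.1)
  have hqb := commute_cl hb.1 hq.1 (mem_cl_self hb.1)
  have h1 := P.psi_one
  rw [← h1, P.psi_eq_iff]
  right
  simp only [Subgroup.coe_mul, Subgroup.coe_one, one_mul]
  calc b * p * (b * q) * (b * r) = b * (p * b) * (q * b) * r := by group
    _ = b * (b * p) * (b * q) * r := by rw [hbp.eq, hqb.eq]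
    _ = (b * b) * p * b * q * r := by group
    _ = (p * b) * q * r := by rw [sq_one P.hs hb.1.1, one_mul]
    _ = b * p * q * r := by rw [hbp.eq]
    _ = P.x := h

theorem Frame.mid_gen {u v c : G} (hu : P.Rep u) (hv : P.Rep v) (huv : ¬ Commute u v)
    (hc : P.Mate u c) :
    P.gen (u * v * u) (v * c * v) = P.gen u c + P.gen v (th u v c) := by
  rw [P.gen_eq hu hc.1, P.gen_eq hv (P.th_mate hu hv huv hc).1,
    P.gen_eq (P.mid_rep hu hv) (P.mid_mate hu hv huv hc).1, ← P.psi_mul]
  congr 1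
  exact Subtype.ext (th_facts P hu hv.1 huv hc.1).2

theorem Frame.induction_gen {p : ↥P.W → Prop} (h0 : p 0) (hadd : ∀ u v, p u → p v → p (u + v))
    (hgen : ∀ b c, P.Rep b → P.Mate b c → p (P.gen b c)) (w : ↥P.W) : p w := by
  obtain ⟨⟨g, hg⟩, rfl⟩ := P.psi_surjective w
  have hneg : ∀ u, p u → p (-u) := fun u hu => by
    rwa [neg_eq_of_add_eq_zero_right (P.add_self_eq u)]
  induction hg using closure_induction with
  | mem g hg =>
    obtain ⟨a, ha, c, hc, d, hd, rfl⟩ := hg
    obtain ⟨b, hb, hba⟩ := P.exists_rep ha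
    have key : ∀ z ∈ Cl D P.x a, p (P.gen b z) := fun z hz => by
      by_cases e : z = b
      · subst e; rw [P.gen_self hb]; exact h0
      · exact hgen b z hb ⟨cl_eq hba ▸ hz, e⟩
    have e : P.psi ⟨c * d, pair_mem_qg ha hc hd⟩ = P.gen b c + P.gen b d := by
      rw [P.gen_eq hb (cl_eq hba ▸ hc), P.gen_eq hb (cl_eq hba ▸ hd), ← P.psi_mul]
      congr 1
      refine Subtype.ext ?_
      show c * d = b * c * (b * d)
      rw [(commute_cl ha hba hc).eq, show c * b * (b * d) = c * (b * b) * d by group,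
        sq_one P.hs hb.1.1, mul_one]
    rw [e]
    exact hadd _ _ (key c hc) (key d hd)
  | one =>
    have h1 := P.psi_one
    exact h1 ▸ h0
  | mul g h hg hh ihg ihh => exact (P.psi_mul ⟨g, hg⟩ ⟨h, hh⟩) ▸ hadd _ _ ihg ihh
  | inv g hg ih =>
    have e : P.psi ⟨g⁻¹, inv_mem hg⟩ = -P.psi ⟨g, hg⟩ := by
      refine eq_neg_of_add_eq_zero_left ?_
      rw [← P.psi_mul, ← P.psi_one]
      congr 1
      exact Subtype.ext (by simp)
    exact e ▸ hneg _ ih

theorem Frame.nondeg {w : ↥P.W} (h : ∀ b c, P.Rep b → P.Mate b c → P.beta w (P.gen b c) = 0) :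
    w = 0 := by
  obtain ⟨g, rfl⟩ := P.psi_surjective w
  refine Subtype.ext (funext fun k => ?_)
  have h1 : ∀ v, P.beta (P.psi g) v = 0 := fun v => by
    refine P.induction_gen (p := fun v => P.beta (P.psi g) v = 0) (P.beta_zero_right _) ?_ h v
    intro u v hu hv
    rw [P.beta_add_right, hu, hv, add_zero]
  have h2 := h1 (P.psi k)
  rw [P.beta_psi] at h2
  exact h2

theorem Frame.ext_beta {w v : ↥P.W}
    (h : ∀ b c, P.Rep b → P.Mate b c → P.beta w (P.gen b c) = P.beta v (P.gen b c)) : w = v := by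
  have := P.nondeg (w := w + v) fun b c hb hc => by
    rw [P.beta_add_left, h b c hb hc]; exact ZModModule.add_self _
  rw [← sub_eq_zero, sub_eq_add_neg, neg_eq_of_add_eq_zero_right (P.add_self_eq v)]
  exact this

/-! ### Labels and signs -/

theorem Frame.exists_label (b : G) :
    ∃ e : Fin 3 → G, P.Rep b → Function.Injective e ∧ ∀ c, P.Mate b c ↔ ∃ i, e i = c := by
  by_cases hb : P.Rep b
  · obtain ⟨p, q, r, h1, h2, h3, h⟩ := P.mate_exists hb
    refine ⟨![p, q, r], fun _ => ⟨?_, fun c => ?_⟩⟩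
    · intro i j e
      fin_cases i <;> fin_cases j <;> simp_all
    · rw [h c, Fin.exists_fin_succ, Fin.exists_fin_two]
      simp [eq_comm]
  · exact ⟨fun _ => b, fun h => absurd h hb⟩

/-- An enumeration of the mates of a representative. -/
noncomputable def Frame.lbl (b : G) : Fin 3 → G := Classical.choose (P.exists_label b)

theorem Frame.lbl_spec {b : G} (hb : P.Rep b) :
    Function.Injective (P.lbl b) ∧ ∀ c, P.Mate b c ↔ ∃ i, P.lbl b i = c :=
  Classical.choose_spec (P.exists_label b) hb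

theorem Frame.lbl_mate {b : G} (hb : P.Rep b) (i : Fin 3) : P.Mate b (P.lbl b i) :=
  ((P.lbl_spec hb).2 _).2 ⟨i, rfl⟩

theorem Frame.exists_perm (u v : G) :
    ∃ p : Equiv.Perm (Fin 3), P.Rep u → P.Rep v → ¬ Commute u v →
      ∀ i, th u v (P.lbl u i) = P.lbl v (p i) := by
  by_cases h : P.Rep u ∧ P.Rep v ∧ ¬ Commute u v
  · obtain ⟨hu, hv, huv⟩ := h
    choose p hp using fun i => ((P.lbl_spec hv).2 _).1 (P.th_mate hu hv huv (P.lbl_mate hu i))
    have hinj : Function.Injective p := by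
      intro i j e
      apply (P.lbl_spec hu).1
      have h1 := congrArg (th v u) ((hp i).symm.trans ((congrArg _ e).trans (hp j)))
      rwa [(th_facts P hu hv.1 huv (P.lbl_mate hu i).1).1,
        (th_facts P hu hv.1 huv (P.lbl_mate hu j).1).1] at h1
    exact ⟨Equiv.ofBijective p (Finite.injective_iff_bijective.1 hinj),
      fun _ _ _ i => (hp i).symm⟩
  · exact ⟨1, fun h1 h2 h3 => absurd ⟨h1, h2, h3⟩ h⟩

/-- The bijection of mates in labels. -/
noncomputable def Frame.lperm (u v : G) : Equiv.Perm (Fin 3) := Classical.choose (P.exists_perm u v)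

theorem Frame.lperm_spec {u v : G} (hu : P.Rep u) (hv : P.Rep v) (huv : ¬ Commute u v) (i : Fin 3) :
    th u v (P.lbl u i) = P.lbl v (P.lperm u v i) :=
  Classical.choose_spec (P.exists_perm u v) hu hv huv i

/-- The orientation sign. -/
noncomputable def Frame.sgn (u v : G) : ℤˣ := Equiv.Perm.sign (P.lperm u v)

theorem Frame.sgn_symm {u v : G} (hu : P.Rep u) (hv : P.Rep v) (huv : ¬ Commute u v) :
    P.sgn v u = P.sgn u v := by
  have e : P.lperm v u * P.lperm u v = 1 := by
    refine Equiv.ext fun i => (P.lbl_spec hu).1 ?_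
    rw [Equiv.Perm.mul_apply, ← P.lperm_spec hv hu (fun h => huv h.symm),
      ← P.lperm_spec hu hv huv, (th_facts P hu hv.1 huv (P.lbl_mate hu i).1).1]
    rfl
  simp only [sgn]
  rw [eq_inv_of_mul_eq_one_left e, map_inv, Int.units_inv_eq_self]

/-- Triangles are even. -/
theorem Frame.sgn_triangle {u v w : G} (hu : P.Rep u) (hv : P.Rep v) (hw : P.Rep w)
    (huv : ¬ Commute u v) (hvw : ¬ Commute v w) (huw : ¬ Commute u w) :
    P.sgn u v * P.sgn v w = P.sgn u w := by
  obtain ⟨M, hM⟩ : ∃ M, M = P.lperm w u * P.lperm v w * P.lperm u v := ⟨_, rfl⟩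
  have hwu : ¬ Commute w u := fun h => huw h.symm
  have hMi : ∀ i, P.lbl u (M i) = th w u (th v w (th u v (P.lbl u i))) := fun i => by
    rw [hM, Equiv.Perm.mul_apply, Equiv.Perm.mul_apply, P.lperm_spec hu hv huv,
      P.lperm_spec hv hw hvw, P.lperm_spec hw hu hwu]
  have hkey : ∀ c, P.Mate u c → th w u (th v w (th u v c)) = c → th v w (th u v c) = th u w c :=
    fun c hc e => by
    have hd := P.th_mate hv hw hvw (P.th_mate hu hv huv hc)
    rw [← (th_facts P hw hu.1 hwu hd.1).1, e]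
  have hpar : ∀ {c e : G}, P.Mate u c → P.Mate w e →
      P.beta (P.gen (u * v * u) (v * c * v)) (P.gen w e) =
        (if e = th u w c then 0 else 1) + if e = th v w (th u v c) then 0 else 1 := by
    intro c e hc he
    rw [P.mid_gen hu hv huv hc, P.beta_add_left, P.beta_gen_adj hu hc hw he huw,
      P.beta_gen_adj hv (P.th_mate hu hv huv hc) hw he hvw]
  have hdich : (∀ i, M i ≠ i) ∨ M = 1 := by
    by_contra hn
    obtain ⟨hn1, hn2⟩ := not_or.1 hn
    push Not at hn1
    obtain ⟨i, hi⟩ := hn1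
    apply hn2
    have hc := P.lbl_mate hu i
    have e := hkey _ hc (by rw [← hMi, hi])
    -- the middle of `u, v` commutes with `w`
    have hUw : Commute (u * v * u) w := by
      by_contra hUw
      have hm := P.mid_mate hu hv huv hc
      obtain ⟨p, q, r, h1, h2, h3, hall⟩ := P.mate_exists hw
      obtain ⟨z, hz, hzne⟩ : ∃ z, P.Mate w z ∧ z ≠ th (u * v * u) w (v * P.lbl u i * v) := by
        by_cases hp : p = th (u * v * u) w (v * P.lbl u i * v)
        · exact ⟨q, (hall q).2 (by simp), fun h => h1 (hp.trans h.symm)⟩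
        · exact ⟨p, (hall p).2 (by simp), hp⟩
      have h4 := hpar hc hz
      rw [e, P.beta_gen_adj (P.mid_rep hu hv) hm hw hz hUw, if_neg hzne,
        ZModModule.add_self] at h4
      exact one_ne_zero h4
    refine Equiv.ext fun j => (P.lbl_spec hu).1 ?_
    have hj := P.lbl_mate hu j
    have hd := P.th_mate hv hw hvw (P.th_mate hu hv huv hj)
    have h5 := hpar hj hd
    rw [P.beta_gen_commute (P.mid_rep hu hv) (P.mid_mate hu hv huv hj) hw hd hUw, if_pos rfl,
      add_zero] at h5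
    rw [hMi, Equiv.Perm.one_apply]
    by_cases h6 : th v w (th u v (P.lbl u j)) = th u w (P.lbl u j)
    · rw [h6, (th_facts P hu hw.1 huw hj.1).1]
    · rw [if_neg h6] at h5; exact absurd h5 zero_ne_one
  have hsign : Equiv.Perm.sign M = 1 := by
    rcases hdich with h | h
    · have key : ∀ p : Equiv.Perm (Fin 3), (∀ i, p i ≠ i) → Equiv.Perm.sign p = 1 := by decide +kernel
      exact key M h
    · rw [h, map_one]
  rw [hM, map_mul, map_mul] at hsign
  have h7 : P.sgn w u * P.sgn v w * P.sgn u v = 1 := hsign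
  rw [P.sgn_symm hu hw huw] at h7
  calc P.sgn u v * P.sgn v w = P.sgn u w * P.sgn u w * (P.sgn u v * P.sgn v w) := by
        rw [Int.units_mul_self, one_mul]
    _ = P.sgn u w * (P.sgn u w * P.sgn v w * P.sgn u v) := by
        rw [mul_comm (P.sgn u v), mul_assoc, mul_assoc]
    _ = P.sgn u w := by rw [h7, mul_one]

/-- Two paths of length two between commuting members have the same sign. -/
theorem Frame.sgn_quad {u v z w : G} (hu : P.Rep u) (hv : P.Rep v) (hz : P.Rep z) (hw : P.Rep w)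
    (huv : ¬ Commute u v) (hvw : ¬ Commute v w) (huz : ¬ Commute u z) (hzw : ¬ Commute z w)
    (huw : Commute u w) :
    P.sgn u v * P.sgn v w = P.sgn u z * P.sgn z w := by
  by_cases hvz : Commute v z
  · obtain ⟨r, er⟩ : ∃ r, r = u * v * u := ⟨_, rfl⟩
    have hr : P.Rep r := er ▸ P.mid_rep hu hv
    obtain ⟨hru, hrv⟩ := er ▸ P.mid_adj hu hv huv
    have hrz : ¬ Commute r z := fun h => huz (by
      rw [er, braid P.hs hu.1.1 hv.1.1 huv] at h
      have h1 := (commute_conj_iff v⁻¹ _ _).2 h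
      rw [inv_inv, inv_eq P.hs hv.1.1, show v * (v * u * v) * v = (v * v) * u * (v * v) by group,
        sq_one P.hs hv.1.1, one_mul, mul_one, hvz.eq, mul_assoc, sq_one P.hs hv.1.1, mul_one] at h1
      exact h1)
    have hrw : ¬ Commute r w := fun h => hvw (by
      rw [er] at h
      have h1 := (commute_conj_iff u⁻¹ _ _).2 h
      rw [inv_inv, inv_eq P.hs hu.1.1, show u * (u * v * u) * u = (u * u) * v * (u * u) by group,
        sq_one P.hs hu.1.1, one_mul, mul_one, huw.eq, mul_assoc, sq_one P.hs hu.1.1, mul_one] at h1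
      exact h1)
    have a := P.sgn_triangle hu hv hr huv (fun h => hrv h.symm) (fun h => hru h.symm)
    have b := P.sgn_triangle hr hv hw hrv hvw hrw
    have c := P.sgn_triangle hu hz hr huz (fun h => hrz h.symm) (fun h => hru h.symm)
    have d := P.sgn_triangle hr hz hw hrz hzw hrw
    have e1 : P.sgn u v * P.sgn v w = P.sgn u r * P.sgn r w := by
      rw [← a, ← b, P.sgn_symm hr hv hrv,
        show P.sgn u v * P.sgn r v * (P.sgn r v * P.sgn v w)
          = P.sgn u v * (P.sgn r v * P.sgn r v) * P.sgn v w by group, Int.units_mul_self, mul_one]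
    have e2 : P.sgn u z * P.sgn z w = P.sgn u r * P.sgn r w := by
      rw [← c, ← d, P.sgn_symm hr hz hrz,
        show P.sgn u z * P.sgn r z * (P.sgn r z * P.sgn z w)
          = P.sgn u z * (P.sgn r z * P.sgn r z) * P.sgn z w by group, Int.units_mul_self, mul_one]
    exact e1.trans e2.symm
  · rw [← P.sgn_triangle hu hv hz huv hvz huz, mul_assoc,
      ← P.sgn_triangle hv hz hw hvz hzw hvw]

/-! ### The orientation -/

theorem Frame.rep_nonempty : ∃ b, P.Rep b := by
  obtain ⟨a, ha⟩ := perp_nonempty P.setting.isClass P.setting.width P.hx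
  obtain ⟨b, hb, -⟩ := P.exists_rep ha
  exact ⟨b, hb⟩

/-- A representative fixed once and for all. -/
noncomputable def Frame.base : G := Classical.choose P.rep_nonempty

theorem Frame.base_rep : P.Rep P.base := Classical.choose_spec P.rep_nonempty

/-- The potential of the signs. -/
noncomputable def Frame.pot (w : G) : ℤˣ :=
  if ¬ Commute P.base w then P.sgn P.base w
  else if h : ∃ v, P.Rep v ∧ ¬ Commute v P.base ∧ ¬ Commute v w then
    P.sgn P.base (Classical.choose h) * P.sgn (Classical.choose h) w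
  else 1

theorem Frame.pot_common {w v : G} (hw : P.Rep w) (hv : P.Rep v) (h1 : ¬ Commute P.base v)
    (h2 : ¬ Commute v w) : P.pot w = P.sgn P.base v * P.sgn v w := by
  have hex : ∃ v, P.Rep v ∧ ¬ Commute v P.base ∧ ¬ Commute v w := ⟨v, hv, fun h => h1 h.symm, h2⟩
  by_cases hb : Commute P.base w
  · rw [pot, if_neg (not_not.2 hb), dif_pos hex]
    obtain ⟨c1, c2, c3⟩ := Classical.choose_spec hex
    exact P.sgn_quad P.base_rep c1 hv hw (fun h => c2 h.symm) c3 h1 h2 hb
  · rw [pot, if_pos hb, P.sgn_triangle P.base_rep hv hw h1 h2 hb]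

theorem Frame.pot_edge {w w' : G} (hw : P.Rep w) (hw' : P.Rep w') (h : ¬ Commute w w') :
    P.pot w' = P.pot w * P.sgn w w' := by
  have hadj : ∀ z, ¬ Commute P.base z → P.pot z = P.sgn P.base z := fun z hz => if_pos hz
  by_cases hb : Commute P.base w
  · by_cases hwb : w = P.base
    · have h1 : P.pot P.base = 1 := by
        obtain hex | hex := em (∃ v, P.Rep v ∧ ¬ Commute v P.base ∧ ¬ Commute v P.base)
        · obtain ⟨v, hv, h1, -⟩ := hex
          rw [P.pot_common P.base_rep hv (fun h => h1 h.symm) h1,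
            P.sgn_symm P.base_rep hv (fun h => h1 h.symm), Int.units_mul_self]
        · rw [pot, if_neg (not_not.2 (Commute.refl _)), dif_neg hex]
      rw [hwb, h1, one_mul, hadj w' (hwb ▸ h)]
    obtain h0 | h0 | ⟨v, hv, hvb, hvw⟩ := P.near P.base_rep hw
    · exact absurd h0 hwb
    · exact absurd hb.symm h0
    by_cases hb' : Commute P.base w'
    · have key : ∀ r, P.Rep r → ¬ Commute r P.base → ¬ Commute r w → ¬ Commute r w' →
          P.pot w' = P.pot w * P.sgn w w' := by
        intro r hr r1 r2 r3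
        rw [P.pot_common hw' hr (fun h => r1 h.symm) r3, P.pot_common hw hr (fun h => r1 h.symm) r2,
          mul_assoc, P.sgn_triangle hr hw hw' r2 h r3]
      by_cases hvw' : Commute v w'
      · obtain ⟨h1, h2⟩ := P.shorten P.base_rep hv hw hw' (fun h => hvb h.symm) hvw h hb hvw'
        refine key (v * w * v) (P.mid_rep hv hw) h1 (fun e => ?_) h2
        exact (P.mid_adj hv hw hvw).2 e
      · exact key v hv hvb hvw hvw'
    · rw [hadj w' hb', P.pot_common hw hw' hb' (fun e => h e.symm), mul_assoc,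
        P.sgn_symm hw hw' h, Int.units_mul_self, mul_one]
  · rw [P.pot_common hw' hw hb h, hadj w hb]

/-- The cyclic order of the labels. -/
noncomputable def Frame.rot (b : G) : Equiv.Perm (Fin 3) :=
  if P.pot b = 1 then finRotate 3 else (finRotate 3)⁻¹

theorem Frame.rot_comm {u v : G} (hu : P.Rep u) (hv : P.Rep v) (huv : ¬ Commute u v) (i : Fin 3) :
    P.lperm u v (P.rot u i) = P.rot v (P.lperm u v i) := by
  have h := P.pot_edge hu hv huv
  have key : ∀ (p : Equiv.Perm (Fin 3)) (s : ℤˣ),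
      ∀ i, p ((if s = 1 then finRotate 3 else (finRotate 3)⁻¹) i) =
        (if s * Equiv.Perm.sign p = 1 then finRotate 3 else (finRotate 3)⁻¹) (p i) := by
    decide +kernel
  rw [rot, rot, h]
  exact key _ _ i

/-- The next mate. -/
noncomputable def Frame.nxt (b c : G) : G := P.lbl b (P.rot b (Function.invFun (P.lbl b) c))

theorem Frame.nxt_lbl {b : G} (hb : P.Rep b) (i : Fin 3) :
    P.nxt b (P.lbl b i) = P.lbl b (P.rot b i) := by
  rw [nxt, Function.leftInverse_invFun (P.lbl_spec hb).1 i]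

theorem Frame.nxt_spec {b c : G} (hb : P.Rep b) (hc : P.Mate b c) :
    P.Mate b (P.nxt b c) ∧ P.nxt b c ≠ c ∧ P.nxt b (P.nxt b c) ≠ c ∧
      P.nxt b (P.nxt b c) ≠ P.nxt b c ∧ P.nxt b (P.nxt b (P.nxt b c)) = c ∧
      ∀ d, P.Mate b d → d = c ∨ d = P.nxt b c ∨ d = P.nxt b (P.nxt b c) := by
  obtain ⟨i, rfl⟩ := ((P.lbl_spec hb).2 c).1 hc
  simp only [P.nxt_lbl hb]
  have key : ∀ r : Equiv.Perm (Fin 3), r = finRotate 3 ∨ r = (finRotate 3)⁻¹ → ∀ i : Fin 3,
      r i ≠ i ∧ r (r i) ≠ i ∧ r (r i) ≠ r i ∧ r (r (r i)) = i ∧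
        ∀ j, j = i ∨ j = r i ∨ j = r (r i) := by
    decide +kernel
  obtain ⟨k1, k2, k3, k4, k5⟩ := key (P.rot b) (by rw [rot]; split_ifs <;> simp) i
  have hinj := (P.lbl_spec hb).1
  refine ⟨P.lbl_mate hb _, hinj.ne k1, hinj.ne k2, hinj.ne k3, by rw [k4], fun d hd => ?_⟩
  obtain ⟨j, rfl⟩ := ((P.lbl_spec hb).2 d).1 hd
  rcases k5 j with e | e | e <;> simp [e]

theorem Frame.nxt_th {u v c : G} (hu : P.Rep u) (hv : P.Rep v) (huv : ¬ Commute u v)
    (hc : P.Mate u c) : th u v (P.nxt u c) = P.nxt v (th u v c) := by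
  obtain ⟨i, rfl⟩ := ((P.lbl_spec hu).2 c).1 hc
  rw [P.nxt_lbl hu, P.lperm_spec hu hv huv, P.lperm_spec hu hv huv, P.nxt_lbl hv,
    P.rot_comm hu hv huv]

/-! ### The automorphism -/

theorem Frame.exists_J (w : ↥P.W) :
    ∃ z, ∀ b c, P.Rep b → P.Mate b c →
      P.beta z (P.gen b c) = P.beta w (P.gen b (P.nxt b (P.nxt b c))) := by
  refine P.induction_gen (p := fun w => ∃ z, ∀ b c, P.Rep b → P.Mate b c →
    P.beta z (P.gen b c) = P.beta w (P.gen b (P.nxt b (P.nxt b c)))) ⟨0, fun b c _ _ => ?_⟩ ?_ ?_ w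
  · rw [P.beta_zero_left, P.beta_zero_left]
  · rintro u v ⟨z, hz⟩ ⟨y, hy⟩
    exact ⟨z + y, fun b c hb hc => by
      rw [P.beta_add_left, P.beta_add_left, hz b c hb hc, hy b c hb hc]⟩
  · intro u d hu hd
    refine ⟨P.gen u (P.nxt u d), fun b c hb hc => ?_⟩
    have hd' := (P.nxt_spec hu hd).1
    obtain ⟨hc', -, -, -, hc3, -⟩ := P.nxt_spec hb hc
    have hc'' := (P.nxt_spec hb hc').1
    by_cases hub : Commute u b
    · rw [P.beta_gen_commute hu hd' hb hc hub, P.beta_gen_commute hu hd hb hc'' hub]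
    · rw [P.beta_gen_adj hu hd' hb hc hub, P.beta_gen_adj hu hd hb hc'' hub, P.nxt_th hu hb hub hd]
      refine if_congr ⟨fun e => ?_, fun e => ?_⟩ rfl rfl
      · rw [e]
        exact (P.nxt_spec hb (P.th_mate hu hb hub hd)).2.2.2.2.1
      · rw [← e, hc3]

/-- The automorphism of order three. -/
noncomputable def Frame.J (w : ↥P.W) : ↥P.W := Classical.choose (P.exists_J w)

theorem Frame.J_spec (w : ↥P.W) {b c : G} (hb : P.Rep b) (hc : P.Mate b c) :
    P.beta (P.J w) (P.gen b c) = P.beta w (P.gen b (P.nxt b (P.nxt b c))) :=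
  Classical.choose_spec (P.exists_J w) b c hb hc

theorem Frame.J_add (u v : ↥P.W) : P.J (u + v) = P.J u + P.J v :=
  P.ext_beta fun b c hb hc => by
    rw [P.beta_add_left, P.J_spec _ hb hc, P.J_spec _ hb hc, P.J_spec _ hb hc, P.beta_add_left]

theorem Frame.J_zero : P.J 0 = 0 :=
  P.ext_beta fun b c hb hc => by rw [P.J_spec _ hb hc, P.beta_zero_left, P.beta_zero_left]

theorem Frame.J_gen {b c : G} (hb : P.Rep b) (hc : P.Mate b c) :
    P.J (P.gen b c) = P.gen b (P.nxt b c) := by
  refine P.ext_beta fun v e hv he => ?_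
  rw [P.J_spec _ hv he]
  obtain ⟨he', -, -, -, he3, -⟩ := P.nxt_spec hv he
  have he'' := (P.nxt_spec hv he').1
  have hc' := (P.nxt_spec hb hc).1
  by_cases hbv : Commute b v
  · rw [P.beta_gen_commute hb hc hv he'' hbv, P.beta_gen_commute hb hc' hv he hbv]
  · rw [P.beta_gen_adj hb hc hv he'' hbv, P.beta_gen_adj hb hc' hv he hbv, P.nxt_th hb hv hbv hc]
    refine if_congr ⟨fun e => ?_, fun e => ?_⟩ rfl rfl
    · rw [← e, he3]
    · rw [e]
      exact (P.nxt_spec hv (P.th_mate hb hv hbv hc)).2.2.2.2.1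

theorem Frame.J_sum (w : ↥P.W) : P.J (P.J w) + P.J w + w = 0 := by
  refine P.induction_gen (p := fun w => P.J (P.J w) + P.J w + w = 0) ?_ ?_ ?_ w
  · simp [P.J_zero]
  · intro u v hu hv
    rw [P.J_add, P.J_add, show P.J (P.J u) + P.J (P.J v) + (P.J u + P.J v) + (u + v)
      = (P.J (P.J u) + P.J u + u) + (P.J (P.J v) + P.J v + v) by abel, hu, hv, add_zero]
  · intro b c hb hc
    obtain ⟨h1, h2, h3, h4, -, -⟩ := P.nxt_spec hb hc
    rw [P.J_gen hb hc, P.J_gen hb h1]
    exact P.gen_sum hb (P.nxt_spec hb h1).1 h1 hc h4 h3 h2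

theorem Frame.beta_J (w v : ↥P.W) : P.beta (P.J w) (P.J v) = P.beta w v := by
  refine P.induction_gen (p := fun v => P.beta (P.J w) (P.J v) = P.beta w v) ?_ ?_ ?_ v
  · rw [P.J_zero, P.beta_zero_right, P.beta_zero_right]
  · intro a b ha hb
    rw [P.J_add, P.beta_add_right, P.beta_add_right, ha, hb]
  · intro b c hb hc
    obtain ⟨h1, -, -, -, h5, -⟩ := P.nxt_spec hb hc
    rw [P.J_gen hb hc, P.J_spec _ hb h1, h5]

theorem Frame.J_J (w : ↥P.W) : P.J (P.J w) = P.J w + w := by
  have := P.J_sum w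
  rw [add_assoc] at this
  rw [eq_neg_of_add_eq_zero_left this, neg_eq_of_add_eq_zero_right (P.add_self_eq _)]

theorem Frame.beta_J_left (w v : ↥P.W) : P.beta (P.J w) v = P.beta w v + P.beta w (P.J v) := by
  have h : v = P.J (P.J (P.J v)) := by
    rw [P.J_J v, P.J_add, P.J_J v, add_comm (P.J v) v, add_assoc, P.add_self_eq, add_zero]
  conv_lhs => rw [h]
  rw [P.beta_J, P.J_J, P.beta_add_right, add_comm]

/-! ### The quadratic form -/

/-- The squaring form. -/
noncomputable def Frame.quad2 (w : ↥P.W) : ZMod 2 :=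
  if ((Function.surjInv P.psi_surjective w : ↥(Qg D P.x)) : G) *
      ((Function.surjInv P.psi_surjective w : ↥(Qg D P.x)) : G) = 1
    then 0 else 1

theorem Frame.quad2_psi (g : ↥(Qg D P.x)) :
    P.quad2 (P.psi g) = if (g : G) * g = 1 then 0 else 1 := by
  obtain ⟨k, hk⟩ : ∃ k, k = Function.surjInv P.psi_surjective (P.psi g) := ⟨_, rfl⟩
  have hk' : P.psi k = P.psi g := hk ▸ Function.surjInv_eq P.psi_surjective _
  rw [quad2, ← hk]
  refine if_congr ?_ rfl rfl
  rcases (P.psi_eq_iff k g).1 hk' with e | e <;> rw [e]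
  have hgx : Commute (g : G) P.x := commute_qg_self g.2
  rw [show (g : G) * P.x * (g * P.x) = g * (P.x * g) * P.x by group, ← hgx.eq,
    show (g : G) * (g * P.x) * P.x = g * g * (P.x * P.x) by group, P.hxx, mul_one]

theorem Frame.quad2_zero : P.quad2 0 = 0 := by
  have h1 := P.psi_one
  rw [← h1, P.quad2_psi, if_pos (by simp)]

theorem Frame.quad2_add (w v : ↥P.W) :
    P.quad2 (w + v) = P.quad2 w + P.quad2 v + P.beta w v := by
  obtain ⟨g, rfl⟩ := P.psi_surjective w
  obtain ⟨h, rfl⟩ := P.psi_surjective v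
  rw [← P.psi_mul, P.quad2_psi, P.quad2_psi, P.quad2_psi, P.beta_psi, Subgroup.coe_mul]
  have hgg := P.setting.qg_sq_cases P.four P.hx g.2
  have hhh := P.setting.qg_sq_cases P.four P.hx h.2
  have hhx : Commute (h : G) P.x := commute_qg_self h.2
  have hgx : Commute (g : G) P.x := commute_qg_self g.2
  have hx1 := P.x_ne_one
  have hc := P.conj_cases g h
  by_cases hgh : Commute (g : G) h
  · rw [if_pos hgh, add_zero, show (g : G) * h * (g * h) = g * (h * g) * h by group, ← hgh.eq,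
      show (g : G) * (g * h) * h = (g * g) * (h * h) by group]
    rcases hgg with a | a <;> rcases hhh with b | b <;> simp [a, b, hx1, P.hxx] <;> decide
  · rw [if_neg hgh] at hc ⊢
    rw [show (g : G) * h * (g * h) = (g * h * (g : G)⁻¹) * (g * g) * h by group, hc]
    rcases hgg with a | a <;> rcases hhh with b | b <;>
      simp only [a, b, mul_assoc, one_mul, mul_one, ← hhx.eq, P.hxx] <;>
      simp [← mul_assoc, b, hx1, P.hxx] <;> decide

theorem Frame.quad2_gen {b c : G} (hb : P.Rep b) (hc : P.Mate b c) : P.quad2 (P.gen b c) = 0 := by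
  rw [P.gen_eq hb hc.1, P.quad2_psi, if_pos]
  show b * c * (b * c) = 1
  rw [show b * c * (b * c) = b * (c * b) * c by group,
    (commute_cl hb.1 hc.1 (mem_cl_self hb.1)).eq,
    show b * (b * c) * c = (b * b) * (c * c) by group, sq_one P.hs hb.1.1, sq_one P.hs hc.1.1.1,
    one_mul]

theorem Frame.quad2_J (w : ↥P.W) : P.quad2 (P.J w) = P.quad2 w := by
  refine P.induction_gen (p := fun w => P.quad2 (P.J w) = P.quad2 w) ?_ ?_ ?_ w
  · rw [P.J_zero]
  · intro u v hu hv
    rw [P.J_add, P.quad2_add, P.quad2_add, hu, hv, P.beta_J]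
  · intro b c hb hc
    rw [P.J_gen hb hc, P.quad2_gen hb hc, P.quad2_gen hb (P.nxt_spec hb hc).1]

theorem Frame.beta_self_J (w : ↥P.W) : P.beta w (P.J w) = P.quad2 w := by
  have h := P.quad2_add (P.J w) w
  rw [← P.J_J, P.quad2_J, P.quad2_J, ZModModule.add_self, zero_add] at h
  rw [h, P.beta_symm]

/-- A functional which on every class is zero or that of `w` is zero or that of `w`. -/
theorem Frame.dichotomy (w y : ↥P.W)
    (h : ∀ b, P.Rep b → (∀ c, P.Mate b c → P.beta y (P.gen b c) = 0) ∨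
      ∀ c, P.Mate b c → P.beta y (P.gen b c) = P.beta w (P.gen b c)) :
    y = 0 ∨ y = w := by
  -- the classes where `w` is not zero agree along edges
  have hedge : ∀ b v, P.Rep b → P.Rep v → ¬ Commute b v →
      (∃ c, P.Mate b c ∧ P.beta w (P.gen b c) ≠ 0) → (∃ c, P.Mate v c ∧ P.beta w (P.gen v c) ≠ 0) →
      (∀ c, P.Mate b c → P.beta y (P.gen b c) = P.beta w (P.gen b c)) →
      ∀ c, P.Mate v c → P.beta y (P.gen v c) = P.beta w (P.gen v c) := by
    intro b v hb hv hbv ⟨c₀, hc₀, hw₀⟩ ⟨d₀, hd₀, hw₁⟩ hby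
    refine (h v hv).resolve_left fun h0 => ?_
    have hU := P.mid_rep hb hv
    rcases h _ hU with h2 | h2
    · have h3 := h2 _ (P.mid_mate hb hv hbv hc₀)
      rw [P.mid_gen hb hv hbv hc₀, P.beta_add_right, hby c₀ hc₀,
        h0 _ (P.th_mate hb hv hbv hc₀), add_zero] at h3
      exact hw₀ h3
    · have hvb : ¬ Commute v b := fun e => hbv e.symm
      have hd := P.th_mate hv hb hvb hd₀
      have h3 := h2 _ (P.mid_mate hb hv hbv hd)
      rw [P.mid_gen hb hv hbv hd, P.beta_add_right, P.beta_add_right, hby _ hd,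
        h0 _ (P.th_mate hb hv hbv hd), (th_facts P hv hb.1 hvb hd₀.1).1] at h3
      exact hw₁ (left_eq_add.1 (by rwa [add_zero] at h3))
  by_cases hall : ∀ b, P.Rep b → (∀ c, P.Mate b c → P.beta y (P.gen b c) = 0)
  · exact Or.inl (P.nondeg fun b c hb hc => hall b hb c hc)
  right
  push Not at hall
  obtain ⟨b, hb, c, hc, hbc⟩ := hall
  have hby := (h b hb).resolve_left fun e => hbc (e c hc)
  have hbm : ∃ c, P.Mate b c ∧ P.beta w (P.gen b c) ≠ 0 := ⟨c, hc, hby c hc ▸ hbc⟩
  refine P.ext_beta fun v d hv hd => ?_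
  by_cases hvm : ∃ c, P.Mate v c ∧ P.beta w (P.gen v c) ≠ 0
  · revert d
    obtain e | hvb | ⟨r, hr, hrb, hrv⟩ := P.near hb hv
    · subst e; exact fun d hd => hby d hd
    · exact fun d hd => hedge b v hb hv (fun e => hvb e.symm) hbm hvm hby d hd
    · by_cases hrm : ∃ c, P.Mate r c ∧ P.beta w (P.gen r c) ≠ 0
      · exact fun d hd => hedge r v hr hv hrv hrm hvm
          (hedge b r hb hr (fun e => hrb e.symm) hbm hrm hby) d hd
      · push Not at hrm
        by_cases hvb : Commute v b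
        · obtain ⟨U, eU⟩ : ∃ U, U = b * r * b := ⟨_, rfl⟩
          have hbr : ¬ Commute b r := fun e => hrb e.symm
          have hU : P.Rep U := eU ▸ P.mid_rep hb hr
          obtain ⟨hUb, -⟩ := eU ▸ P.mid_adj hb hr hbr
          have hUv : ¬ Commute U v := fun e => hrv (by
            rw [eU] at e
            have h1 := (commute_conj_iff b⁻¹ _ _).2 e
            rw [inv_inv, inv_eq P.hs hb.1.1,
              show b * (b * r * b) * b = (b * b) * r * (b * b) by group, sq_one P.hs hb.1.1,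
              one_mul, mul_one, hvb.symm.eq, mul_assoc, sq_one P.hs hb.1.1, mul_one] at h1
            exact h1)
          have hUm : ∃ c, P.Mate U c ∧ P.beta w (P.gen U c) ≠ 0 := by
            obtain ⟨c, hc, hne⟩ := hbm
            refine ⟨r * c * r, eU ▸ P.mid_mate hb hr hbr hc, ?_⟩
            rw [eU, P.mid_gen hb hr hbr hc, P.beta_add_right,
              hrm _ (P.th_mate hb hr hbr hc), add_zero]
            exact hne
          exact fun d hd => hedge U v hU hv hUv hUm hvm
            (hedge b U hb hU (fun e => hUb e.symm) hbm hUm hby) d hd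
        · exact fun d hd => hedge b v hb hv (fun e => hvb e.symm) hbm hvm hby d hd
  · push Not at hvm
    rcases h v hv with e | e
    · rw [e d hd, hvm d hd]
    · exact e d hd

end CfsgLib.FischerPolar
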