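import Cfsg.Agent.Lib.Golay.FischerPolarJ

/-!
Lines with five points: the first coordinate of the members not commuting with `x`.
-/

set_option autoImplicit false

namespace CfsgLib.FischerPolar

open Subgroup CfsgLib.Trans3 CfsgLib.FischerOdd
open scoped _root_.Classical

variable {G : Type*} [Group G] [Finite G] {D : Set G} (P : Frame D)

/-- `P.x` in `Qg`. -/
noncomputable def Frame.xQ : ↥(Qg D P.x) := ⟨P.x, P.setting.x_mem_qg P.four P.hx⟩

theorem Frame.psi_xQ : P.psi P.xQ = 0 :=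
  Subtype.ext (funext fun h => if_pos (commute_qg_self h.2).symm)

theorem Frame.xQ_comm (g : ↥(Qg D P.x)) : P.xQ * g = g * P.xQ :=
  Subtype.ext (commute_qg_self g.2).symm.eq

theorem Frame.xQ_sq : P.xQ * P.xQ = 1 := Subtype.ext P.hxx

theorem Frame.beta_eq_zero_iff (g h : ↥(Qg D P.x)) :
    P.beta (P.psi g) (P.psi h) = 0 ↔ Commute (g : G) h := by
  rw [P.beta_psi]; split_ifs with e <;> simp [e]

/-- `g` carries `f` to a member commuting with `f`. -/
def Frame.Sig (g : ↥(Qg D P.x)) : Prop := Commute P.f ((g : G) * P.f * (g : G)⁻¹)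

/-- The distinguished element of a pair. -/
noncomputable def Frame.sig (b c : G) : ↥(Qg D P.x) :=
  if h : P.x * (b * c) ∈ Qg D P.x then ⟨P.x * (b * c), h⟩ else 1

theorem Frame.sig_coe {b c : G} (hb : P.Rep b) (hc : c ∈ Cl D P.x b) :
    (P.sig b c : G) = P.x * (b * c) := by
  rw [sig, dif_pos (mul_mem (P.setting.x_mem_qg P.four P.hx)
    (pair_mem_qg hb.1 (mem_cl_self hb.1) hc))]

theorem Frame.psi_sig {b c : G} (hb : P.Rep b) (hc : c ∈ Cl D P.x b) :
    P.psi (P.sig b c) = P.gen b c := by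
  rw [P.gen_eq hb hc, P.psi_eq_iff]
  right
  rw [P.sig_coe hb hc]
  exact (commute_qg_self (pair_mem_qg hb.1 (mem_cl_self hb.1) hc)).symm.eq

theorem Frame.pair_sq {b c : G} (hb : P.Rep b) (hc : c ∈ Cl D P.x b) : b * c * (b * c) = 1 := by
  rw [show b * c * (b * c) = b * (c * b) * c by group,
    (commute_cl hb.1 hc (mem_cl_self hb.1)).eq,
    show b * (b * c) * c = (b * b) * (c * c) by group, sq_one P.hs hb.1.1, sq_one P.hs hc.1.1,
    one_mul]

theorem Frame.sig_sq {b c : G} (hb : P.Rep b) (hc : c ∈ Cl D P.x b) :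
    P.sig b c * P.sig b c = 1 := by
  apply Subtype.ext
  have hx : Commute P.x (b * c) :=
    (commute_qg_self (pair_mem_qg hb.1 (mem_cl_self hb.1) hc)).symm
  rw [Subgroup.coe_mul, P.sig_coe hb hc,
    show P.x * (b * c) * (P.x * (b * c)) = P.x * ((b * c) * P.x) * (b * c) by group, ← hx.eq,
    show P.x * (P.x * (b * c)) * (b * c) = (P.x * P.x) * (b * c * (b * c)) by group, P.hxx,
    P.pair_sq hb hc, one_mul, Subgroup.coe_one]

theorem Frame.sig_eq {g g' : ↥(Qg D P.x)}
    (h : (g : G) * P.f * (g : G)⁻¹ = (g' : G) * P.f * (g' : G)⁻¹) : g = g' := by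
  have e := P.setting.qg_eq_one P.four P.hx P.hf P.hxf (g'⁻¹ * g).2 (mul_inv_eq_iff_eq_mul.1 (by
    rw [Subgroup.coe_mul, Subgroup.coe_inv]
    calc (g' : G)⁻¹ * g * P.f * ((g' : G)⁻¹ * g)⁻¹
        = (g' : G)⁻¹ * ((g : G) * P.f * (g : G)⁻¹) * g' := by group
      _ = P.f := by rw [h]; group))
  exact (inv_mul_eq_one.1 (Subtype.ext e)).symm

theorem Frame.rep_perp_f {b : G} (hb : P.Rep b) : P.f ∈ Perp D b :=
  ⟨P.hf, fun e => P.hxf (e ▸ hb.1.2.2), hb.2⟩

theorem Frame.sig_image {b c : G} (hb : P.Rep b) (hc : P.Mate b c) :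
    (P.sig b c : G) * P.f * (P.sig b c : G)⁻¹ ∈ Cl D b P.f := by
  have hs := P.hs
  have h1 := (P.setting.swap_cl P.hx hb.1 P.hf P.hxf hb.2.symm hc.1 hc.2 (z := P.f)).1
    (mem_cl_self (P.rep_perp_f hb))
  have h2 := image_cl (D := D) P.setting.group P.x b (P.x * P.f * P.x⁻¹) ▸
    Set.mem_image_of_mem (MulAut.conj P.x) h1
  rw [conj_eq_of_commute hb.1.2.2,
    show P.x * (P.x * P.f * P.x⁻¹) * P.x⁻¹ = P.f by
      rw [inv_eq hs P.hx, show P.x * (P.x * P.f * P.x) * P.x = (P.x * P.x) * P.f * (P.x * P.x) by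
        group, P.hxx, one_mul, mul_one]] at h2
  rw [P.sig_coe hb hc.1]
  convert h2 using 1
  have hbc : Commute b (c * P.f * c⁻¹) := by
    have k := commute_cl hb.1 (mem_cl_self hb.1) hc.1
    exact (k.mul_right hb.2).mul_right k.inv_right
  calc P.x * (b * c) * P.f * (P.x * (b * c))⁻¹
      = P.x * (b * (c * P.f * c⁻¹) * b⁻¹) * P.x⁻¹ := by group
    _ = _ := by rw [conj_eq_of_commute hbc]; rfl

theorem Frame.gen_ne_zero {b c : G} (hb : P.Rep b) (hc : P.Mate b c) : P.gen b c ≠ 0 := by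
  intro e
  rw [P.gen_eq hb hc.1, ← P.psi_one, P.psi_eq_iff] at e
  simp only [Subgroup.coe_one, one_mul] at e
  rcases e with e | e
  · exact hc.2 (mul_left_cancel (e.trans (sq_one P.hs hb.1.1).symm))
  · obtain ⟨v, hv, hvb⟩ := P.setting.exists_noncomm P.hx hb.1
    refine P.setting.pair_moves P.hx hb.1 hv hvb (mem_cl_self hb.1) hc.1 hc.2.symm ?_
    rw [e]
    exact conj_eq_of_commute hv.2.2

theorem Frame.sig_ne_one {b c : G} (hb : P.Rep b) (hc : P.Mate b c) : P.sig b c ≠ 1 := fun e =>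
  P.gen_ne_zero hb hc (by rw [← P.psi_sig hb hc.1, e, P.psi_one])

theorem Frame.sig_mem {b c : G} (hb : P.Rep b) (hc : P.Mate b c) : P.Sig (P.sig b c) :=
  commute_cl (P.rep_perp_f hb) (mem_cl_self (P.rep_perp_f hb)) (P.sig_image hb hc)

theorem Frame.sig_one : P.Sig 1 := by simp [Sig]

theorem Frame.sig_inj {b c c' : G} (hb : P.Rep b) (hc : P.Mate b c) (hc' : P.Mate b c')
    (h : P.sig b c = P.sig b c') : c = c' := by
  have h' := congrArg Subtype.val h
  simp only [P.sig_coe hb hc.1, P.sig_coe hb hc'.1] at h'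
  exact mul_left_cancel (mul_left_cancel h')

/-- The class of `f` at a representative. -/
theorem Frame.cl_f {b : G} (hb : P.Rep b) {z : G} (hz : z ∈ Cl D b P.f) :
    z = P.f ∨ ∃ c, P.Mate b c ∧ z = (P.sig b c : G) * P.f * (P.sig b c : G)⁻¹ := by
  obtain ⟨p, q, r, hpq, hpr, hqr, hall⟩ := P.mate_exists hb
  have hp := (hall p).2 (Or.inl rfl)
  have hq := (hall q).2 (Or.inr (Or.inl rfl))
  have hr := (hall r).2 (Or.inr (Or.inr rfl))
  obtain ⟨φ, eφ⟩ : ∃ φ, φ = fun c => (P.sig b c : G) * P.f * (P.sig b c : G)⁻¹ := ⟨_, rfl⟩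
  have hne : ∀ c, P.Mate b c → φ c ≠ P.f := fun c hc e =>
    P.sig_ne_one hb hc (P.sig_eq (by rw [eφ] at e; simpa using e))
  have hinj : ∀ c c', P.Mate b c → P.Mate b c' → φ c = φ c' → c = c' := fun c c' hc hc' e =>
    P.sig_inj hb hc hc' (P.sig_eq (by rw [eφ] at e; exact e))
  have himg : ({P.f, φ p, φ q, φ r} : Set G) = Cl D b P.f := by
    refine Set.eq_of_subset_of_ncard_le ?_ ?_ (Set.toFinite _)
    · rintro w (rfl | rfl | rfl | rfl)
      · exact mem_cl_self (P.rep_perp_f hb)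
      all_goals subst eφ
      exacts [P.sig_image hb hp, P.sig_image hb hq, P.sig_image hb hr]
    · rw [P.four b hb.1.1 P.f (P.rep_perp_f hb),
        Set.ncard_insert_of_notMem (by simp [(hne p hp).symm, (hne q hq).symm, (hne r hr).symm]),
        Set.ncard_insert_of_notMem (by
          rintro (e | e)
          exacts [hpq (hinj p q hp hq e), hpr (hinj p r hp hr e)]),
        Set.ncard_pair fun e => hqr (hinj q r hq hr e)]
  rw [← himg] at hz
  subst eφ
  rcases hz with e | e | e | e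
  exacts [Or.inl e, Or.inr ⟨p, hp, e⟩, Or.inr ⟨q, hq, e⟩, Or.inr ⟨r, hr, e⟩]

theorem Frame.image_not_commute (g : ↥(Qg D P.x)) :
    ¬ Commute P.x ((g : G) * P.f * (g : G)⁻¹) := fun h =>
  P.hxf ((commute_conj_iff (g : G) P.x P.f).1 (by
    rwa [conj_eq_of_commute (commute_qg_self g.2)]))

theorem Frame.sig_cases {g : ↥(Qg D P.x)} (hg : P.Sig g) :
    g = 1 ∨ ∃ b c, P.Rep b ∧ P.Mate b c ∧ g = P.sig b c := by
  obtain ⟨d, ed⟩ : ∃ d, d = (g : G) * P.f * (g : G)⁻¹ := ⟨_, rfl⟩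
  have hd : d ∈ D := ed ▸ class_conj_mem P.setting.isClass _ P.hf
  by_cases hdf : d = P.f
  · exact Or.inl (P.sig_eq (by rw [← ed, hdf]; simp))
  right
  have hfd : d ∈ Perp D P.f := ⟨hd, hdf, ed ▸ hg⟩
  obtain ⟨b, hb, hxb⟩ := P.setting.exists_rep P.hf hfd P.hx (fun h => P.hxf h.symm)
  have hxd : ¬ Commute P.x d := ed ▸ P.image_not_commute g
  have hbx : b ≠ P.x := fun e => P.hxf (by rw [← e]; exact hb.1.2.2.symm)
  have hR : P.Rep b := ⟨⟨hb.1.1, hbx, hxb⟩, hb.1.2.2.symm⟩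
  have hdb : d ∈ Cl D P.f b := cl_symm hfd hb
  have hne : d ≠ b := fun e => hxd (e ▸ hxb)
  have hdc : d ∈ Cl D b P.f := by
    have hbd : d ∈ Perp D b := ⟨hd, hne, commute_cl hb.1 (mem_cl_self hb.1) hdb⟩
    rw [cl_eq (P.setting.cl_swap P.hf hb.1 hdb hne)]
    exact mem_cl_self hbd
  obtain e | ⟨c, hc, e⟩ := P.cl_f hR hdc
  · exact absurd e hdf
  · exact ⟨b, c, hR, hc, P.sig_eq (ed.symm.trans e)⟩

theorem Frame.sig_quad {g : ↥(Qg D P.x)} (hg : P.Sig g) :
    P.quad2 (P.psi g) = 0 ∧ g * g = 1 := by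
  rcases P.sig_cases hg with rfl | ⟨b, c, hb, hc, rfl⟩
  · exact ⟨by rw [P.psi_one, P.quad2_zero], one_mul _⟩
  · exact ⟨by rw [P.psi_sig hb hc.1, P.quad2_gen hb hc], P.sig_sq hb hc.1⟩

theorem Frame.x_sig {b c : G} (hb : P.Rep b) (hc : P.Mate b c) :
    ¬ P.Sig (P.xQ * P.sig b c) := by
  intro h
  have e : ((P.xQ * P.sig b c : ↥(Qg D P.x)) : G) = b * c := by
    rw [Subgroup.coe_mul, P.sig_coe hb hc.1]
    show P.x * (P.x * (b * c)) = b * c
    rw [← mul_assoc, P.hxx, one_mul]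
  rw [Sig, e] at h
  have hnc := P.mate_not_commute hb hc
  have k := commute_cl hb.1 (mem_cl_self hb.1) hc.1
  rw [show b * c * P.f * (b * c)⁻¹ = b * (c * P.f * c⁻¹) * b⁻¹ by group,
    conj_eq_of_commute ((k.mul_right hb.2).mul_right k.inv_right), inv_eq P.hs hc.1.1.1,
    braid P.hs hc.1.1.1 P.hf hnc] at h
  have h1 := (commute_conj_iff P.f⁻¹ _ _).2 h
  rw [inv_inv, inv_eq P.hs P.hf,
    show P.f * (P.f * c * P.f) * P.f = (P.f * P.f) * c * (P.f * P.f) by group, sq_one P.hs P.hf,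
    one_mul, mul_one, one_mul] at h1
  exact hnc h1.symm

theorem Frame.x_not_sig : ¬ P.Sig P.xQ := by
  intro h
  have h' : Commute P.f (P.x * P.f * P.x⁻¹) := h
  rw [inv_eq P.hs P.hx, braid P.hs P.hx P.hf P.hxf] at h'
  have h1 := (commute_conj_iff P.f⁻¹ _ _).2 h'
  rw [inv_inv, inv_eq P.hs P.hf,
    show P.f * (P.f * P.x * P.f) * P.f = (P.f * P.f) * P.x * (P.f * P.f) by group,
    sq_one P.hs P.hf, one_mul, mul_one, one_mul] at h1
  exact P.hxf h1.symm

/-! ### Shifts -/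

/-- The four distinguished elements of a class. -/
def Frame.Four (b : G) (s : ↥(Qg D P.x)) : Prop := s = 1 ∨ ∃ c, P.Mate b c ∧ s = P.sig b c

theorem Frame.four_sq {b : G} {s : ↥(Qg D P.x)} (hb : P.Rep b) (hs : P.Four b s) : s * s = 1 := by
  rcases hs with rfl | ⟨c, hc, rfl⟩
  exacts [one_mul _, P.sig_sq hb hc.1]

theorem Frame.four_mul {b : G} {s t : ↥(Qg D P.x)} (hb : P.Rep b) (hs : P.Four b s)
    (ht : P.Four b t) : P.Four b (s * t) := by
  rcases hs with rfl | ⟨c, hc, rfl⟩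
  · rwa [one_mul]
  rcases ht with rfl | ⟨c', hc', rfl⟩
  · rw [mul_one]; exact Or.inr ⟨c, hc, rfl⟩
  by_cases e : c = c'
  · subst e; exact Or.inl (P.sig_sq hb hc.1)
  right
  obtain ⟨h1, h2, h3, h4, h5, hall⟩ := P.nxt_spec hb hc
  obtain ⟨c'', hc'', n1, n2⟩ : ∃ c'', P.Mate b c'' ∧ c'' ≠ c ∧ c'' ≠ c' := by
    rcases hall c' hc' with rfl | rfl | rfl
    · exact absurd rfl e
    · exact ⟨_, (P.nxt_spec hb h1).1, h3, h4⟩
    · exact ⟨_, h1, h2, h4.symm⟩
  refine ⟨c'', hc'', Subtype.ext ?_⟩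
  have k := P.setting.cl_fourth P.four P.hx hb.1 (mem_cl_self hb.1) hc''.1 hc.1 hc'.1 hc''.2.symm e
    hc.2 n1.symm hc'.2 n2.symm
  have hxc : Commute P.x (b * c) :=
    (commute_qg_self (pair_mem_qg hb.1 (mem_cl_self hb.1) hc.1)).symm
  rw [Subgroup.coe_mul, P.sig_coe hb hc.1, P.sig_coe hb hc'.1, P.sig_coe hb hc''.1]
  calc P.x * (b * c) * (P.x * (b * c')) = P.x * ((b * c) * P.x) * (b * c') := by group
    _ = P.x * (P.x * (b * c)) * (b * c') := by rw [hxc.eq]
    _ = (P.x * P.x) * b * (c * b) * c' := by group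
    _ = (b * b) * (c * c') := by
        rw [P.hxx, one_mul, (commute_cl hb.1 hc.1 (mem_cl_self hb.1)).eq]; group
    _ = b * c'' * P.x := by rw [sq_one P.hs hb.1.1, one_mul, k]
    _ = P.x * (b * c'') := (commute_qg_self (pair_mem_qg hb.1 (mem_cl_self hb.1) hc''.1)).eq

theorem Frame.four_sig {b : G} {s : ↥(Qg D P.x)} (hb : P.Rep b) (hs : P.Four b s) : P.Sig s := by
  rcases hs with rfl | ⟨c, hc, rfl⟩
  exacts [P.sig_one, P.sig_mem hb hc]

theorem Frame.four_beta {b v : G} {s : ↥(Qg D P.x)} (hb : P.Rep b) (hv : P.Rep v)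
    (hs : P.Four b s) (hbv : Commute b v) {c : G} (hc : P.Mate v c) :
    P.beta (P.psi s) (P.gen v c) = 0 := by
  rcases hs with rfl | ⟨d, hd, rfl⟩
  · rw [P.psi_one]; rfl
  · rw [P.psi_sig hb hd.1]; exact P.beta_gen_commute hb hd hv hc hbv

theorem Frame.four_beta_J {b v : G} {s t : ↥(Qg D P.x)} (hb : P.Rep b) (hv : P.Rep v)
    (hs : P.Four b s) (ht : P.Four v t) (hbv : Commute b v) :
    P.beta (P.psi s) (P.J (P.psi t)) = 0 ∧ P.beta (P.psi s) (P.psi t) = 0 := by
  rcases ht with rfl | ⟨d, hd, rfl⟩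
  · rw [P.psi_one, P.J_zero]; exact ⟨P.beta_zero_right _, P.beta_zero_right _⟩
  · rw [P.psi_sig hv hd.1, P.J_gen hv hd]
    exact ⟨P.four_beta hb hv hs hbv (P.nxt_spec hv hd).1, P.four_beta hb hv hs hbv hd⟩

/-- `g` moves the class of `b`. -/
def Frame.Moves (g : ↥(Qg D P.x)) (b : G) : Prop := (g : G) * b * (g : G)⁻¹ ≠ b

theorem Frame.moves_iff {b : G} (hb : P.Rep b) (g : ↥(Qg D P.x)) :
    P.Moves g b ↔ ∃ c, P.Mate b c ∧ P.beta (P.psi g) (P.gen b c) = 1 := by
  constructor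
  · intro hm
    obtain ⟨p, q, r, hpq, -, -, hall⟩ := P.mate_exists hb
    by_cases e : (g : G) * b * (g : G)⁻¹ = p
    · exact ⟨q, (hall q).2 (by simp), by
        rw [P.beta_gen hb ((hall q).2 (by simp)), if_neg]
        rintro (h | h)
        exacts [hm h, hpq (e.symm.trans h)]⟩
    · exact ⟨p, (hall p).2 (by simp), by
        rw [P.beta_gen hb ((hall p).2 (by simp)), if_neg (not_or.2 ⟨hm, e⟩)]⟩
  · rintro ⟨c, hc, h⟩ e
    rw [P.beta_gen hb hc, if_pos (Or.inl e)] at h
    exact zero_ne_one h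

theorem Frame.fixed_iff {b : G} (hb : P.Rep b) (g : ↥(Qg D P.x)) :
    ¬ P.Moves g b ↔ ∀ c, P.Mate b c → P.beta (P.psi g) (P.gen b c) = 0 := by
  rw [P.moves_iff hb g]
  push Not
  refine forall₂_congr fun c _ => ?_
  generalize P.beta (P.psi g) (P.gen b c) = t
  revert t; decide

theorem Frame.moves_congr {b : G} (hb : P.Rep b) {g h : ↥(Qg D P.x)}
    (e : ∀ c, P.Mate b c → P.beta (P.psi g) (P.gen b c) = P.beta (P.psi h) (P.gen b c)) :
    P.Moves g b ↔ P.Moves h b := by
  rw [P.moves_iff hb, P.moves_iff hb]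
  exact exists_congr fun c => and_congr_right fun hc => by rw [e c hc]

theorem Frame.commute_image_iff {b : G} (hb : P.Rep b) (g : ↥(Qg D P.x)) :
    Commute b ((g : G) * P.f * (g : G)⁻¹) ↔ ¬ P.Moves g b := by
  have hd : (g : G) * P.f * (g : G)⁻¹ ∈ D := class_conj_mem P.setting.isClass _ P.hf
  have hxd := P.image_not_commute g
  have hc : Commute ((g : G) * b * (g : G)⁻¹) ((g : G) * P.f * (g : G)⁻¹) :=
    (commute_conj_iff _ _ _).2 hb.2
  refine ⟨fun h hm => hm ?_, fun h => ?_⟩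
  · obtain ⟨s, -, hu⟩ := P.setting.existsUnique_rep P.hx hb.1 hd hxd
    exact (hu _ ⟨P.setting.qg_conj_cl P.hx g.2 (mem_cl_self hb.1), hc.symm⟩).trans
      (hu b ⟨mem_cl_self hb.1, h.symm⟩).symm
  · rw [Moves, not_not] at h
    rwa [h] at hc

theorem Frame.moved_mate {b : G} (hb : P.Rep b) {g : ↥(Qg D P.x)} (hm : P.Moves g b) :
    P.Mate b ((g : G) * b * (g : G)⁻¹) :=
  ⟨P.setting.qg_conj_cl P.hx g.2 (mem_cl_self hb.1), hm⟩

theorem Frame.beta_moved {b c : G} (hb : P.Rep b) (hc : P.Mate b c) {g : ↥(Qg D P.x)}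
    (hm : P.Moves g b) :
    P.beta (P.psi g) (P.gen b c) = if c = (g : G) * b * (g : G)⁻¹ then 0 else 1 := by
  rw [P.beta_gen hb hc]
  exact if_congr ⟨fun h => (h.resolve_left hm).symm, fun h => Or.inr h.symm⟩ rfl rfl

theorem Frame.beta_gen_sum {b c : G} (hb : P.Rep b) (hc : P.Mate b c) (w : ↥P.W) :
    P.beta w (P.gen b c) + P.beta w (P.gen b (P.nxt b c))
      + P.beta w (P.gen b (P.nxt b (P.nxt b c))) = 0 := by
  obtain ⟨h1, h2, h3, h4, -, -⟩ := P.nxt_spec hb hc
  rw [← P.beta_add_right, ← P.beta_add_right,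
    P.gen_sum hb hc h1 (P.nxt_spec hb h1).1 h2.symm h3.symm h4.symm, P.beta_zero_right]

theorem Frame.exists_shift {b : G} (hb : P.Rep b) {g : ↥(Qg D P.x)} (hm : P.Moves g b) :
    ∃ s, P.Four b s ∧ P.Sig (s * g) := by
  have hd : (g : G) * P.f * (g : G)⁻¹ ∈ D := class_conj_mem P.setting.isClass _ P.hf
  have hbd : ¬ Commute b ((g : G) * P.f * (g : G)⁻¹) := fun h => (P.commute_image_iff hb g).1 h hm
  obtain ⟨z, hz, hdz⟩ := P.setting.exists_rep hb.1.1 (P.rep_perp_f hb) hd hbd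
  obtain e | ⟨c, hc, e⟩ := P.cl_f hb hz
  · exact ⟨1, Or.inl rfl, by rw [one_mul, Sig]; exact (e ▸ hdz).symm⟩
  · refine ⟨P.sig b c, Or.inr ⟨c, hc, rfl⟩, ?_⟩
    have hinv : (P.sig b c : G)⁻¹ = P.sig b c := by
      rw [inv_eq_iff_mul_eq_one, ← Subgroup.coe_mul, P.sig_sq hb hc.1, Subgroup.coe_one]
    rw [e] at hdz
    have h1 := (commute_conj_iff (P.sig b c : G) _ _).2 hdz.symm
    have e1 : (P.sig b c : G) * ((P.sig b c : G) * P.f * (P.sig b c : G)⁻¹) * (P.sig b c : G)⁻¹
        = P.f := by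
      rw [show (P.sig b c : G) * ((P.sig b c : G) * P.f * (P.sig b c : G)⁻¹) * (P.sig b c : G)⁻¹
        = ((P.sig b c : G) * P.sig b c) * P.f * ((P.sig b c : G) * P.sig b c)⁻¹ by group,
        ← Subgroup.coe_mul, P.sig_sq hb hc.1]
      simp
    rw [e1] at h1
    rw [Sig, Subgroup.coe_mul]
    convert h1 using 1
    group

/-! ### The value -/

theorem Frame.exists_value (g : ↥(Qg D P.x)) (hq : P.quad2 (P.psi g) ≠ 0) :
    ∃ ε, ∀ b c, P.Rep b → P.Mate b c → P.Moves g b → P.Sig (P.sig b c * g) →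
      P.beta (P.psi g) (P.J (P.gen b c)) = ε := by
  have hs := P.hs
  obtain ⟨d, ed⟩ : ∃ d, d = (g : G) * P.f * (g : G)⁻¹ := ⟨_, rfl⟩
  have hd : d ∈ D := ed ▸ class_conj_mem P.setting.isClass _ P.hf
  have hxd : ¬ Commute P.x d := ed ▸ P.image_not_commute g
  have hfd : ¬ Commute P.f d := fun h => hq (P.sig_quad (g := g) (by rw [Sig, ← ed]; exact h)).1
  obtain ⟨e, ee⟩ : ∃ e, e = P.f * d * P.f := ⟨_, rfl⟩
  have he : e ∈ D := ee ▸ self_conj_mem P.setting.group P.hf hd
  have ed' : d = P.f * e * P.f := by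
    rw [ee, show P.f * (P.f * d * P.f) * P.f = (P.f * P.f) * d * (P.f * P.f) by group,
      sq_one hs P.hf, one_mul, mul_one]
  have ee' : e = d * P.f * d := ee.trans (braid hs P.hf hd hfd)
  have hxe : ¬ Commute P.x e := by
    intro hxe
    apply hq
    by_cases hex : e = P.x
    · have : g = P.xQ := P.sig_eq (by
        rw [← ed, ed', hex]
        show _ = P.x * P.f * P.x⁻¹
        rw [inv_eq hs P.hx, braid hs P.hx P.hf P.hxf])
      rw [this, P.psi_xQ, P.quad2_zero]
    obtain ⟨b, hb, hbe⟩ := P.exists_rep (a := e) ⟨he, hex, hxe⟩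
    have heb : e ∈ Cl D P.x b := cl_symm ⟨he, hex, hxe⟩ hbe
    have hne : e ≠ b := fun h => by
      have h1 : Commute P.f e := h ▸ hb.2.symm
      rw [ed', h1.eq, mul_assoc, sq_one hs P.hf, mul_one] at hfd
      exact hfd h1
    have : g = ⟨b * e, pair_mem_qg hb.1 (mem_cl_self hb.1) heb⟩ := P.sig_eq (by
      rw [← ed]
      show d = b * e * P.f * (b * e)⁻¹
      have k := commute_cl hb.1 (mem_cl_self hb.1) heb
      rw [show b * e * P.f * (b * e)⁻¹ = b * (e * P.f * e⁻¹) * b⁻¹ by group,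
        conj_eq_of_commute ((k.mul_right hb.2).mul_right k.inv_right), inv_eq hs he, ed',
        braid hs P.hf he (fun h1 => hfd (by
          rw [ed', h1.eq, mul_assoc, sq_one hs P.hf, mul_one]; exact h1))])
    rw [this, ← P.gen_eq hb heb, P.quad2_gen hb ⟨heb, hne⟩]
  obtain ⟨r, hr, er⟩ := P.setting.qg_trans P.four P.hx P.hf P.hxf he hxe
  obtain ⟨R, hR⟩ : ∃ R : ↥(Qg D P.x), (R : G) = r := ⟨⟨r, hr⟩, rfl⟩
  rw [← hR] at er
  -- where `R` moves, and where it sends
  have hfix : ∀ b, P.Rep b → ¬ P.Moves g b → ¬ P.Moves R b := fun b hb hm =>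
    (P.commute_image_iff hb R).1 (by
      rw [er, ee]
      have h1 := (P.commute_image_iff hb g).2 hm
      rw [← ed] at h1
      exact (hb.2.mul_right h1).mul_right hb.2)
  have hmove : ∀ b, P.Rep b → P.Moves g b → P.Moves R b ∧
      (R : G) * b * (R : G)⁻¹ ≠ (g : G) * b * (g : G)⁻¹ := by
    intro b hb hm
    refine ⟨fun hR' => ?_, fun heq => ?_⟩
    · have h1 : Commute b e := er ▸ (P.commute_image_iff hb R).2 fun h => h hR'
      apply (P.commute_image_iff hb g).1 ?_ hm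
      rw [← ed, ed']
      exact (hb.2.mul_right h1).mul_right hb.2
    · have h1 : Commute ((g : G) * b * (g : G)⁻¹) e := by
        have := (commute_conj_iff (R : G) b P.f).2 hb.2
        rwa [er, heq] at this
      have h2 : Commute ((g : G) * b * (g : G)⁻¹) d := ed ▸ (commute_conj_iff (g : G) b P.f).2 hb.2
      have h3 : P.f = d * e * d := by
        rw [ee', show d * (d * P.f * d) * d = (d * d) * P.f * (d * d) by group, sq_one hs hd,
          one_mul, mul_one]
      have h4 : Commute ((g : G) * b * (g : G)⁻¹) P.f :=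
        h3 ▸ (h2.mul_right h1).mul_right h2
      exact P.mate_not_commute hb (P.moved_mate hb hm) h4
  -- the two possible functionals
  have hdi : P.psi R + P.J (P.psi g) = 0 ∨ P.psi R + P.J (P.psi g) = P.psi g := by
    refine P.dichotomy _ _ fun b hb => ?_
    by_cases hm : P.Moves g b
    · obtain ⟨hRm, hne⟩ := hmove b hb hm
      have hc1 := P.moved_mate hb hm
      obtain ⟨n1, n2, n3, n4, n5, hall⟩ := P.nxt_spec hb hc1
      have hc2 := P.moved_mate hb hRm
      rcases hall _ hc2 with h | h | h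
      · exact absurd h hne
      · left
        intro c hc
        rw [P.beta_add_left, P.J_spec _ hb hc, P.beta_moved hb hc hRm,
          P.beta_moved hb (P.nxt_spec hb (P.nxt_spec hb hc).1).1 hm, h]
        by_cases hcc : c = P.nxt b ((g : G) * b * (g : G)⁻¹)
        · rw [if_pos hcc, hcc, n5, if_pos rfl, add_zero]
        · rw [if_neg hcc, if_neg, ZModModule.add_self]
          intro h'
          apply hcc
          rw [← h', (P.nxt_spec hb hc).2.2.2.2.1]
      · right
        intro c hc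
        rw [P.beta_add_left, P.J_spec _ hb hc, P.beta_moved hb hc hRm,
          P.beta_moved hb (P.nxt_spec hb (P.nxt_spec hb hc).1).1 hm, P.beta_moved hb hc hm, h]
        rcases hall c hc with hcc | hcc | hcc <;>
          simp [hcc, n2, n3, n4, n5, n3.symm, n4.symm, ZModModule.add_self]
    · left
      intro c hc
      rw [P.beta_add_left, P.J_spec _ hb hc, (P.fixed_iff hb R).1 (hfix b hb hm) c hc,
        (P.fixed_iff hb g).1 hm _ (P.nxt_spec hb (P.nxt_spec hb hc).1).1, add_zero]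
  refine ⟨if P.psi R + P.J (P.psi g) = 0 then 0 else 1, fun b c hb hc hm hsig => ?_⟩
  obtain ⟨hRm, -⟩ := hmove b hb hm
  have hsq := (P.sig_quad hsig).1
  rw [P.psi_mul, P.quad2_add, P.psi_sig hb hc.1, P.quad2_gen hb hc, zero_add,
    P.beta_symm] at hsq
  have hq1 : P.quad2 (P.psi g) = 1 := by
    revert hq; generalize P.quad2 (P.psi g) = t; revert t; decide
  have hw1 : P.beta (P.psi g) (P.gen b c) = 1 := by
    rw [hq1] at hsq
    revert hsq; generalize P.beta (P.psi g) (P.gen b c) = t; revert t; decide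
  -- `c` is not the image under `R`
  have hw2 : P.beta (P.psi R) (P.gen b c) = 1 := by
    rw [P.beta_moved hb hc hRm, if_neg]
    intro hcR
    have hce : Commute c e := by
      have := (commute_conj_iff (R : G) b P.f).2 hb.2
      rwa [er, ← hcR] at this
    have hcD := hc.1.1.1
    have hnc := P.mate_not_commute hb hc
    obtain ⟨h, eh⟩ : ∃ h, h = c * P.f * c⁻¹ := ⟨_, rfl⟩
    have hd1 : Commute h d := by
      have h1 := (commute_conj_iff P.f c e).2 hce
      rw [inv_eq hs P.hf, ← ed', ← braid hs hcD P.hf hnc] at h1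
      rwa [eh, inv_eq hs hcD]
    have hd2 : Commute h (P.x * d * P.x⁻¹) := by
      have hp : (P.sig b c : G) * P.f * (P.sig b c : G)⁻¹ = P.x * h * P.x⁻¹ := by
        rw [eh, P.sig_coe hb hc.1]
        have k := commute_cl hb.1 (mem_cl_self hb.1) hc.1
        calc P.x * (b * c) * P.f * (P.x * (b * c))⁻¹
            = P.x * (b * (c * P.f * c⁻¹) * b⁻¹) * P.x⁻¹ := by group
          _ = _ := by rw [conj_eq_of_commute ((k.mul_right hb.2).mul_right k.inv_right)]
      have hinv : (P.sig b c : G) * P.sig b c = 1 := by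
        rw [← Subgroup.coe_mul, P.sig_sq hb hc.1, Subgroup.coe_one]
      have h1 : Commute ((P.sig b c : G) * P.f * (P.sig b c : G)⁻¹) d := by
        have h0 := (commute_conj_iff (P.sig b c : G) _ _).2 hsig
        rw [Subgroup.coe_mul] at h0
        rw [show (P.sig b c : G) * ((P.sig b c : G) * g * P.f * ((P.sig b c : G) * g)⁻¹) *
            (P.sig b c : G)⁻¹ = ((P.sig b c : G) * P.sig b c) * ((g : G) * P.f * (g : G)⁻¹) *
            ((P.sig b c : G) * P.sig b c)⁻¹ by group, hinv, inv_one, one_mul, mul_one, ← ed] at h0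
        exact h0
      rw [hp] at h1
      have h2 := (commute_conj_iff P.x _ _).2 h1
      rwa [show P.x * (P.x * h * P.x⁻¹) * P.x⁻¹ = (P.x * P.x) * h * (P.x * P.x)⁻¹ by group,
        P.hxx, inv_one, one_mul, mul_one] at h2
    have hxh : Commute h P.x := by
      have h3 : P.x = d * (P.x * d * P.x⁻¹) * d := by
        rw [inv_eq hs P.hx, braid hs P.hx hd hxd,
          show d * (d * P.x * d) * d = (d * d) * P.x * (d * d) by group, sq_one hs hd, one_mul,
          mul_one]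
      rw [h3]
      exact (hd1.mul_right hd2).mul_right hd1
    rw [eh] at hxh
    exact P.hxf ((commute_conj_iff c _ _).1 (by
      rwa [conj_eq_of_commute hc.1.1.2.2.symm])).symm
  have hsum := P.beta_gen_sum hb hc (P.psi g)
  rw [P.J_gen hb hc]
  rw [hw1] at hsum
  rcases hdi with h | h
  · rw [if_pos h]
    have h1 := congrArg (fun w => P.beta w (P.gen b c)) h
    simp only [P.beta_add_left, P.J_spec _ hb hc, hw2, P.beta_zero_left] at h1
    revert h1 hsum
    generalize P.beta (P.psi g) (P.gen b (P.nxt b c)) = t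
    generalize P.beta (P.psi g) (P.gen b (P.nxt b (P.nxt b c))) = u
    revert t u; decide
  · have hg0 : P.psi g ≠ 0 := fun e0 => hq (by rw [e0, P.quad2_zero])
    rw [if_neg (h.symm ▸ hg0)]
    have h1 := congrArg (fun w => P.beta w (P.gen b c)) h
    simp only [P.beta_add_left, P.J_spec _ hb hc, hw2, hw1] at h1
    revert h1 hsum
    generalize P.beta (P.psi g) (P.gen b (P.nxt b c)) = t
    generalize P.beta (P.psi g) (P.gen b (P.nxt b (P.nxt b c))) = u
    revert t u; decide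

/-- The first coordinate (its part in the prime field). -/
noncomputable def Frame.lam (g : ↥(Qg D P.x)) : ZMod 2 :=
  if h : P.quad2 (P.psi g) = 0 then (if P.Sig g then 0 else 1)
  else Classical.choose (P.exists_value g h)

theorem Frame.lam_eq_zero_iff (g : ↥(Qg D P.x)) :
    P.Sig g ↔ P.quad2 (P.psi g) = 0 ∧ P.lam g = 0 := by
  constructor
  · intro h
    have hq := (P.sig_quad h).1
    exact ⟨hq, by rw [lam, dif_pos hq, if_pos h]⟩
  · rintro ⟨hq, h⟩
    rw [lam, dif_pos hq] at h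
    by_contra hn
    rw [if_neg hn] at h
    exact one_ne_zero h

theorem Frame.lam_shift {b : G} (hb : P.Rep b) {g s : ↥(Qg D P.x)} (hm : P.Moves g b)
    (hs : P.Four b s) (hsig : P.Sig (s * g)) :
    P.lam g = P.beta (P.psi g) (P.J (P.psi s)) := by
  rcases hs with rfl | ⟨c, hc, rfl⟩
  · rw [one_mul] at hsig
    rw [((P.lam_eq_zero_iff g).1 hsig).2, P.psi_one, P.J_zero, P.beta_zero_right]
  rw [P.psi_sig hb hc.1]
  by_cases hq : P.quad2 (P.psi g) = 0
  · have hsq := (P.sig_quad hsig).1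
    rw [P.psi_mul, P.quad2_add, P.psi_sig hb hc.1, P.quad2_gen hb hc, hq, zero_add, zero_add,
      P.beta_symm] at hsq
    have hcg : c = (g : G) * b * (g : G)⁻¹ := by
      rw [P.beta_moved hb hc hm] at hsq
      by_contra hne
      rw [if_neg hne] at hsq
      exact one_ne_zero hsq
    have hnot : ¬ P.Sig g := by
      intro hg
      -- two shifts would give two members commuting with the image
      have hd : (g : G) * P.f * (g : G)⁻¹ ∈ D := class_conj_mem P.setting.isClass _ P.hf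
      have hbd : ¬ Commute b ((g : G) * P.f * (g : G)⁻¹) := fun h =>
        (P.commute_image_iff hb g).1 h hm
      obtain ⟨z, -, hu⟩ := P.setting.existsUnique_rep hb.1.1 (P.rep_perp_f hb) hd hbd
      have hinv : (P.sig b c : G) * P.sig b c = 1 := by
        rw [← Subgroup.coe_mul, P.sig_sq hb hc.1, Subgroup.coe_one]
      have h1 : Commute ((g : G) * P.f * (g : G)⁻¹)
          ((P.sig b c : G) * P.f * (P.sig b c : G)⁻¹) := by
        have h0 := (commute_conj_iff (P.sig b c : G) _ _).2 hsig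
        rw [Subgroup.coe_mul] at h0
        rw [show (P.sig b c : G) * ((P.sig b c : G) * g * P.f * ((P.sig b c : G) * g)⁻¹) *
            (P.sig b c : G)⁻¹ = ((P.sig b c : G) * P.sig b c) * ((g : G) * P.f * (g : G)⁻¹) *
            ((P.sig b c : G) * P.sig b c)⁻¹ by group, hinv, inv_one, one_mul, mul_one] at h0
        exact h0.symm
      have h2 := (hu _ ⟨P.sig_image hb hc, h1⟩).trans
        (hu P.f ⟨mem_cl_self (P.rep_perp_f hb), Commute.symm hg⟩).symm
      exact P.sig_ne_one hb hc (P.sig_eq (by simpa using h2))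
    rw [lam, dif_pos hq, if_neg hnot, P.J_gen hb hc, P.beta_moved hb (P.nxt_spec hb hc).1 hm,
      if_neg (hcg ▸ (P.nxt_spec hb hc).2.1)]
  · rw [lam, dif_neg hq, Classical.choose_spec (P.exists_value g hq) b c hb hc hm hsig]

theorem Frame.lam_one : P.lam 1 = 0 := ((P.lam_eq_zero_iff 1).1 P.sig_one).2

theorem Frame.lam_x : P.lam P.xQ = 1 := by
  rw [lam, dif_pos (by rw [P.psi_xQ, P.quad2_zero]), if_neg P.x_not_sig]

theorem Frame.exists_moves {g : ↥(Qg D P.x)} (h : P.psi g ≠ 0) : ∃ b, P.Rep b ∧ P.Moves g b := by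
  by_contra hn
  push Not at hn
  exact h (P.nondeg fun b c hb hc => (P.fixed_iff hb g).1 (hn b hb) c hc)

theorem Frame.lam_xQ_mul (g : ↥(Qg D P.x)) : P.lam (P.xQ * g) = P.lam g + 1 := by
  by_cases h0 : P.psi g = 0
  · rw [← P.psi_one, P.psi_eq_iff] at h0
    simp only [Subgroup.coe_one, one_mul] at h0
    rcases h0 with e | e
    · rw [show g = 1 from Subtype.ext e, mul_one, P.lam_x, P.lam_one, zero_add]
    · rw [show g = P.xQ from Subtype.ext e, P.xQ_sq, P.lam_x, P.lam_one]; decide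
  obtain ⟨b, hb, hm⟩ := P.exists_moves h0
  obtain ⟨s, hs, hsig⟩ := P.exists_shift hb hm
  obtain ⟨t, et⟩ : ∃ t, t = s * g := ⟨_, rfl⟩
  rw [← et] at hsig
  have hpt : P.psi t = P.psi s + P.psi g := et ▸ P.psi_mul s g
  have hon : ∀ c, P.Mate b c → P.beta (P.psi t) (P.gen b c) = P.beta (P.psi g) (P.gen b c) :=
    fun c hc => by
      rw [hpt, P.beta_add_left, P.four_beta hb hb hs (Commute.refl b) hc, zero_add]
  have hmt : P.Moves t b := (P.moves_congr hb hon).2 hm
  obtain e | ⟨u, c, hu, hc, e⟩ := P.sig_cases hsig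
  · exact absurd (show (t : G) * b * (t : G)⁻¹ = b by rw [e]; simp) hmt
  have hub : ¬ Commute u b := fun hc' => by
    obtain ⟨d, hd, h1⟩ := (P.moves_iff hb t).1 hmt
    rw [e, P.psi_sig hu hc.1, P.beta_gen_commute hu hc hb hd hc'] at h1
    exact zero_ne_one h1
  obtain ⟨c₁, ec⟩ : ∃ c₁, c₁ = th u b c := ⟨_, rfl⟩
  have hc₁ : P.Mate b c₁ := ec ▸ P.th_mate hu hb hub hc
  have hzero : P.beta (P.psi g) (P.gen b c₁) = 0 := by
    rw [← hon c₁ hc₁, e, P.psi_sig hu hc.1, P.beta_gen_adj hu hc hb hc₁ hub, if_pos ec]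
  have hs' : P.Four b (P.sig b c₁ * s) := P.four_mul hb (Or.inr ⟨c₁, hc₁, rfl⟩) hs
  have hx' : P.Moves (P.xQ * g) b := (P.moves_congr hb fun d _ => by
    rw [P.psi_mul, P.psi_xQ, zero_add]).2 hm
  have hsig' : P.Sig (P.sig b c₁ * s * (P.xQ * g)) := by
    have hU := P.mid_mate hu hb hub hc
    have hmem := P.sig_mem (P.mid_rep hu hb) hU
    convert hmem using 1
    rw [show P.sig b c₁ * s * (P.xQ * g) = P.sig b c₁ * (s * P.xQ) * g by group, ← P.xQ_comm s,
      show P.sig b c₁ * (P.xQ * s) * g = P.sig b c₁ * (P.xQ * (s * g)) by group, ← et, e]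
    apply Subtype.ext
    rw [Subgroup.coe_mul, Subgroup.coe_mul, P.sig_coe hb hc₁.1, P.sig_coe hu hc.1,
      P.sig_coe (P.mid_rep hu hb) hU.1, (th_facts P hu hb.1 hub hc.1).2, ← ec]
    show P.x * (b * c₁) * (P.x * (P.x * (u * c))) = P.x * (u * c * (b * c₁))
    rw [← mul_assoc P.x P.x, P.hxx, one_mul, mul_assoc]
    congr 1
    have h1 : Commute (u * c) (b * c₁) := by
      have h2 := P.beta_gen_adj hu hc hb hc₁ hub
      rw [if_pos ec, P.gen_eq hu hc.1, P.gen_eq hb hc₁.1] at h2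
      exact (P.beta_eq_zero_iff _ _).1 h2
    exact h1.eq.symm
  rw [P.lam_shift hb hx' hs' hsig', P.lam_shift hb hm hs (et ▸ hsig), P.psi_mul (P.sig b c₁),
    P.psi_mul P.xQ, P.psi_xQ, zero_add, P.J_add, P.beta_add_right, P.psi_sig hb hc₁.1,
    P.J_gen hb hc₁]
  have h1 : P.beta (P.psi g) (P.gen b (P.nxt b c₁)) = 1 := by
    rw [P.beta_moved hb (P.nxt_spec hb hc₁).1 hm, if_neg]
    rw [P.beta_moved hb hc₁ hm] at hzero
    intro e'
    by_cases hh : c₁ = (g : G) * b * (g : G)⁻¹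
    · exact (P.nxt_spec hb hc₁).2.1 (e'.trans hh.symm)
    · rw [if_neg hh] at hzero; exact one_ne_zero hzero
  rw [h1, add_comm]

theorem Frame.lam_sig_mul {b c : G} (hb : P.Rep b) (hc : P.Mate b c) (h : ↥(Qg D P.x)) :
    P.lam (P.sig b c * h) = P.lam h + P.beta (P.psi h) (P.J (P.gen b c)) := by
  have hf : P.Four b (P.sig b c) := Or.inr ⟨c, hc, rfl⟩
  -- the case where the class moves
  have hmove : ∀ (b c : G) (h : ↥(Qg D P.x)), P.Rep b → P.Mate b c → P.Moves h b →
      P.lam (P.sig b c * h) = P.lam h + P.beta (P.psi h) (P.J (P.gen b c)) := by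
    intro b c h hb hc hm
    have hf : P.Four b (P.sig b c) := Or.inr ⟨c, hc, rfl⟩
    obtain ⟨s, hs, hsig⟩ := P.exists_shift hb hm
    have hm' : P.Moves (P.sig b c * h) b := (P.moves_congr hb fun d hd => by
      rw [P.psi_mul, P.beta_add_left, P.four_beta hb hb hf (Commute.refl b) hd, zero_add]).2 hm
    have hsig' : P.Sig (s * P.sig b c * (P.sig b c * h)) := by
      rwa [show s * P.sig b c * (P.sig b c * h) = s * (P.sig b c * P.sig b c) * h by group,
        P.sig_sq hb hc.1, mul_one]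
    rw [P.lam_shift hb hm' (P.four_mul hb hs hf) hsig', P.lam_shift hb hm hs hsig, P.psi_mul,
      P.psi_mul s, P.J_add, P.beta_add_left, P.beta_add_right, P.beta_add_right,
      (P.four_beta_J hb hb hf hs (Commute.refl b)).1, (P.four_beta_J hb hb hf hf (Commute.refl b)).1,
      P.psi_sig hb hc.1]
    abel
  by_cases hm : P.Moves h b
  · exact hmove b c h hb hc hm
  have hz : P.beta (P.psi h) (P.J (P.gen b c)) = 0 := by
    rw [P.J_gen hb hc]; exact (P.fixed_iff hb h).1 hm _ (P.nxt_spec hb hc).1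
  rw [hz, add_zero]
  by_cases h1 : ∃ v, P.Rep v ∧ Commute v b ∧ P.Moves h v
  · obtain ⟨v, hv, hvb, hvm⟩ := h1
    obtain ⟨s, hs, hsig⟩ := P.exists_shift hv hvm
    obtain ⟨hbsJ, hbs⟩ := P.four_beta_J hb hv hf hs hvb.symm
    have hm' : P.Moves (P.sig b c * h) v := (P.moves_congr hv fun d hd => by
      rw [P.psi_mul, P.beta_add_left, P.four_beta hb hv hf hvb.symm hd, zero_add]).2 hvm
    have hcomm : s * P.sig b c = P.sig b c * s :=
      Subtype.ext ((P.beta_eq_zero_iff _ _).1 hbs).eq.symm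
    have hsig' : P.Sig (s * (P.sig b c * h)) := by
      rw [← mul_assoc, hcomm, mul_assoc]
      obtain ⟨t, et⟩ : ∃ t, t = s * h := ⟨_, rfl⟩
      rw [← et] at hsig ⊢
      obtain e | ⟨u, e', hu, he', e⟩ := P.sig_cases hsig
      · rw [e, mul_one]; exact P.four_sig hb hf
      have hub : Commute u b := by
        by_contra hn
        have hall : ∀ d, P.Mate b d → P.beta (P.psi t) (P.gen b d) = 0 := fun d hd => by
          rw [et, P.psi_mul, P.beta_add_left, P.four_beta hv hb hs hvb hd,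
            (P.fixed_iff hb h).1 hm d hd, add_zero]
        have := hall _ (P.nxt_spec hb (P.th_mate hu hb hn he')).1
        rw [e, P.psi_sig hu he'.1, P.beta_gen_adj hu he' hb
          (P.nxt_spec hb (P.th_mate hu hb hn he')).1 hn,
          if_neg (P.nxt_spec hb (P.th_mate hu hb hn he')).2.1] at this
        exact one_ne_zero this
      by_cases hube : u = b
      · subst hube
        rw [e]; exact P.four_sig hb (P.four_mul hb hf (Or.inr ⟨e', he', rfl⟩))
      have hy := P.sig_image hb hc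
      obtain ⟨y, ey⟩ : ∃ y, y = (P.sig b c : G) * P.f * (P.sig b c : G)⁻¹ := ⟨_, rfl⟩
      rw [← ey] at hy
      have huP : u ∈ Perp D b := ⟨hu.1.1, hube, hub.symm⟩
      have huy : Commute u y := (hy.2 u huP).1 hu.2
      have hyu : y ∈ Perp D u := ⟨hy.1.1, fun h' => by
        apply P.hxf
        have h1 : (P.sig b c : G) * P.x * (P.sig b c : G)⁻¹ = P.x :=
          conj_eq_of_commute (commute_qg_self (P.sig b c).2)
        refine (commute_conj_iff (P.sig b c : G) _ _).1 ?_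
        rw [h1, ← ey, h']
        exact hu.1.2.2, huy⟩
      have hfy : Commute y P.f :=
        commute_cl (P.rep_perp_f hb) hy (mem_cl_self (P.rep_perp_f hb))
      have h3 := ((P.sig_image hu he').2 y hyu).1 hfy
      rw [ey, ← e] at h3
      have h4 := (commute_conj_iff (P.sig b c : G) _ _).2 h3
      have hinv : (P.sig b c : G) * P.sig b c = 1 := by
        rw [← Subgroup.coe_mul, P.sig_sq hb hc.1, Subgroup.coe_one]
      rw [show (P.sig b c : G) * ((P.sig b c : G) * P.f * (P.sig b c : G)⁻¹) * (P.sig b c : G)⁻¹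
          = ((P.sig b c : G) * P.sig b c) * P.f * ((P.sig b c : G) * P.sig b c)⁻¹ by group,
        hinv, inv_one, one_mul, mul_one] at h4
      rw [Sig, Subgroup.coe_mul]
      convert h4 using 1
      group
    rw [P.lam_shift hv hm' hs hsig', P.lam_shift hv hvm hs hsig, P.psi_mul, P.beta_add_left,
      hbsJ, zero_add]
  by_cases h2 : ∃ v, P.Rep v ∧ ¬ Commute b v ∧ P.Moves h v ∧
      (h : G) * v * (h : G)⁻¹ ≠ th b v c
  · obtain ⟨v, hv, hbv, hvm, hne⟩ := h2
    have hd := P.th_mate hb hv hbv hc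
    obtain ⟨d, ed⟩ : ∃ d, d = th b v c := ⟨_, rfl⟩
    rw [← ed] at hd hne
    have hU := P.mid_rep hb hv
    have hUc := P.mid_mate hb hv hbv hc
    have hsplit : P.sig b c = P.sig (b * v * b) (v * c * v) * (P.xQ * P.sig v d) := by
      apply Subtype.ext
      rw [Subgroup.coe_mul, Subgroup.coe_mul, P.sig_coe hb hc.1, P.sig_coe hU hUc.1,
        P.sig_coe hv hd.1, (th_facts P hb hv.1 hbv hc.1).2, ← ed]
      show P.x * (b * c) = P.x * (b * c * (v * d)) * (P.x * (P.x * (v * d)))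
      rw [← mul_assoc P.x P.x (v * d), P.hxx, one_mul, mul_assoc P.x,
        mul_assoc (b * c), P.pair_sq hv hd.1, mul_one]
    have hUm : P.Moves (P.xQ * (P.sig v d * h)) (b * v * b) := by
      rw [P.moves_iff hU]
      obtain ⟨c₁, ec₁⟩ : ∃ c₁, c₁ = (h : G) * v * (h : G)⁻¹ := ⟨_, rfl⟩
      rw [← ec₁] at hne
      refine ⟨v * c * v, hUc, ?_⟩
      have hvb : ¬ Commute v b := fun e => hbv e.symm
      rw [P.psi_mul, P.psi_xQ, zero_add, P.psi_mul, P.psi_sig hv hd.1, P.mid_gen hb hv hbv hc,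
        ← ed, P.beta_add_left, P.beta_add_right, P.beta_add_right,
        P.beta_gen_adj hv hd hb hc hvb, P.beta_gen_commute hv hd hv hd (Commute.refl v),
        (P.fixed_iff hb h).1 hm c hc, P.beta_moved hv hd hvm, ← ec₁,
        if_neg hne.symm, if_pos (by rw [ed, (th_facts P hb hv.1 hbv hc.1).1]), zero_add, zero_add,
        zero_add]
    rw [hsplit, show P.sig (b * v * b) (v * c * v) * (P.xQ * P.sig v d) * h
        = P.sig (b * v * b) (v * c * v) * (P.xQ * (P.sig v d * h)) by group,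
      hmove _ _ _ hU hUc hUm, P.lam_xQ_mul, hmove _ _ _ hv hd hvm, P.mid_gen hb hv hbv hc, ← ed,
      P.J_add, P.psi_mul, P.psi_xQ, zero_add, P.psi_mul, P.psi_sig hv hd.1, P.beta_add_left,
      P.beta_add_right, P.beta_add_right, hz, zero_add]
    have hvb : ¬ Commute v b := fun e => hbv e.symm
    have e1 : P.beta (P.gen v d) (P.J (P.gen b c)) = 1 := by
      rw [P.J_gen hb hc, P.beta_gen_adj hv hd hb (P.nxt_spec hb hc).1 hvb, if_neg]
      rw [ed, (th_facts P hb hv.1 hbv hc.1).1]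
      exact (P.nxt_spec hb hc).2.1
    have e2 : P.beta (P.gen v d) (P.J (P.gen v d)) = 0 := by
      rw [P.J_gen hv hd]
      exact P.beta_gen_commute hv hd hv (P.nxt_spec hv hd).1 (Commute.refl v)
    rw [e1, e2]
    generalize P.lam h = p
    generalize P.beta (P.psi h) (P.J (P.gen v d)) = t
    revert p t; decide
  -- otherwise `h` is trivial or the shift itself
  push Not at h1 h2
  have hw : P.psi h = 0 ∨ P.psi h = P.gen b c := by
    refine P.dichotomy _ _ fun v hv => ?_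
    by_cases hvm : P.Moves h v
    · right
      intro e he
      have hbv : ¬ Commute b v := fun hc' => h1 v hv hc'.symm hvm
      rw [P.beta_moved hv he hvm, P.beta_gen_adj hb hc hv he hbv, h2 v hv hbv hvm]
    · exact Or.inl ((P.fixed_iff hv h).1 hvm)
  rw [← P.psi_one, P.psi_eq_iff, P.gen_eq hb hc.1, P.psi_eq_iff] at hw
  simp only [Subgroup.coe_one, one_mul] at hw
  have hs0 := ((P.lam_eq_zero_iff _).1 (P.sig_mem hb hc)).2
  have hxs : h = P.xQ * P.sig b c ∨ h = P.sig b c ∨ h = 1 ∨ h = P.xQ := by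
    rcases hw with (e | e) | e | e
    · exact Or.inr (Or.inr (Or.inl (Subtype.ext e)))
    · exact Or.inr (Or.inr (Or.inr (Subtype.ext e)))
    · left
      apply Subtype.ext
      rw [e, Subgroup.coe_mul, P.sig_coe hb hc.1]
      show b * c = P.x * (P.x * (b * c))
      rw [← mul_assoc P.x, P.hxx, one_mul]
    · right; left
      apply Subtype.ext
      rw [e, P.sig_coe hb hc.1]
      exact (commute_qg_self (pair_mem_qg hb.1 (mem_cl_self hb.1) hc.1)).eq
  rcases hxs with rfl | rfl | rfl | rfl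
  · rw [← mul_assoc, ← P.xQ_comm, mul_assoc, P.sig_sq hb hc.1, mul_one, P.lam_xQ_mul, hs0,
      P.lam_x, zero_add]
  · rw [P.sig_sq hb hc.1, P.lam_one, hs0]
  · rw [mul_one, P.lam_one, hs0]
  · rw [← P.xQ_comm, P.lam_xQ_mul, hs0, P.lam_x, zero_add]

/-- The cocycle of the first coordinate. -/
theorem Frame.lam_mul (g h : ↥(Qg D P.x)) :
    P.lam (g * h) = P.lam g + P.lam h + P.beta (P.psi h) (P.J (P.psi g)) := by
  obtain ⟨K, hK⟩ : ∃ K : ↥(Qg D P.x) → Prop, K = fun g => ∀ h,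
      P.lam (g * h) = P.lam g + P.lam h + P.beta (P.psi h) (P.J (P.psi g)) := ⟨_, rfl⟩
  have hmul : ∀ a b, K a → K b → K (a * b) := by
    rw [hK]
    intro a b ha hb h
    rw [mul_assoc, ha, hb, ha b, P.psi_mul b, P.psi_mul a b, P.beta_add_left, P.J_add,
      P.beta_add_right]
    abel
  have hx : K P.xQ := by
    rw [hK]
    intro h
    rw [P.lam_xQ_mul, P.lam_x, P.psi_xQ, P.J_zero, P.beta_zero_right, add_zero, add_comm]
  have h1 : K 1 := by
    rw [hK]
    intro h
    rw [one_mul, P.lam_one, P.psi_one, P.J_zero, P.beta_zero_right, add_zero, zero_add]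
  have hlift : ∀ a b, P.psi a = P.psi b → K b → K a := by
    intro a b e hb
    rcases (P.psi_eq_iff a b).1 e with e | e
    · rwa [show a = b from Subtype.ext e]
    · rw [show a = b * P.xQ from Subtype.ext e]; exact hmul _ _ hb hx
  suffices H : ∀ w, ∀ a, P.psi a = w → K a by
    have := H _ g rfl
    rw [hK] at this
    exact this h
  intro w
  refine P.induction_gen (p := fun w => ∀ a, P.psi a = w → K a) ?_ ?_ ?_ w
  · exact fun a e => hlift a 1 (e.trans P.psi_one.symm) h1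
  · intro u v hu hv a e
    obtain ⟨p, hp⟩ := P.psi_surjective u
    obtain ⟨q, hq⟩ := P.psi_surjective v
    exact hlift a (p * q) (by rw [e, P.psi_mul, hp, hq]) (hmul _ _ (hu p hp) (hv q hq))
  · intro b c hb hc a e
    refine hlift a (P.sig b c) (e.trans (P.psi_sig hb hc.1).symm) ?_
    rw [hK]
    intro h
    rw [P.lam_sig_mul hb hc, ((P.lam_eq_zero_iff _).1 (P.sig_mem hb hc)).2, zero_add,
      P.psi_sig hb hc.1]

theorem Frame.lam_inv (g : ↥(Qg D P.x)) : P.lam g⁻¹ = P.lam g + P.quad2 (P.psi g) := by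
  have h := P.lam_mul g⁻¹ g
  rw [inv_mul_cancel, P.lam_one] at h
  have e : P.psi g⁻¹ = P.psi g := by
    have h1 := P.psi_mul g⁻¹ g
    rw [inv_mul_cancel, P.psi_one] at h1
    rw [eq_neg_of_add_eq_zero_left h1.symm, neg_eq_of_add_eq_zero_right (P.add_self_eq _)]
  rw [e, P.beta_self_J] at h
  revert h
  generalize P.lam g⁻¹ = a
  generalize P.lam g = b
  generalize P.quad2 (P.psi g) = q
  revert a b q; decide

end CfsgLib.FischerPolar
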