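import Cfsg.Agent.Lib.Golay.FischerOddCore

/-!
The polar lines of a class of 3-transpositions whose members commuting with a given one generate a
group with noncentral `O₂`.
-/

set_option autoImplicit false

namespace CfsgLib.FischerPolar

open Subgroup CfsgLib.Trans3 CfsgLib.FischerOdd

variable {G : Type*} [Group G] [Finite G] {D : Set G}

/-- The partners of `x` with the same commuting partners of `x` as `a`. -/
def Cl (D : Set G) (x a : G) : Set G :=
  {b | b ∈ Perp D x ∧ ∀ y ∈ Perp D x, Commute y a ↔ Commute y b}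

/-- The polar line through a commuting pair. -/
def Line (D : Set G) (x a : G) : Set G := insert x (Cl D x a)

/-- The hypotheses: no solvable normal subgroup, primitive, a nontrivial class on some line. -/
structure Setting (D : Set G) : Prop where
  isClass : Cfsg.IsThreeTranspositionClass D
  prim : Cfsg.IsPrimitiveUnderConj D
  width : ∃ a ∈ D, ∃ b ∈ D, a ≠ b ∧ Commute a b
  two : Cfsg.pCore 2 G = ⊥
  three : Cfsg.pCore 3 G = ⊥
  centre : center G = ⊥
  big : ∃ x ∈ D, ∃ a ∈ Perp D x, ∃ b ∈ Cl D x a, b ≠ a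

variable {x a b : G}

omit [Finite G] in
theorem mem_cl_self (ha : a ∈ Perp D x) : a ∈ Cl D x a := ⟨ha, fun _ _ => Iff.rfl⟩

omit [Finite G] in
theorem cl_symm (ha : a ∈ Perp D x) (hb : b ∈ Cl D x a) : a ∈ Cl D x b :=
  ⟨ha, fun y hy => (hb.2 y hy).symm⟩

omit [Finite G] in
theorem cl_eq (hb : b ∈ Cl D x a) : Cl D x b = Cl D x a := by
  ext z
  exact ⟨fun h => ⟨h.1, fun y hy => (hb.2 y hy).trans (h.2 y hy)⟩,
    fun h => ⟨h.1, fun y hy => (hb.2 y hy).symm.trans (h.2 y hy)⟩⟩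

omit [Finite G] in
theorem commute_cl {c : G} (ha : a ∈ Perp D x) (hb : b ∈ Cl D x a) (hc : c ∈ Cl D x a) :
    Commute b c := by
  have h1 : Commute b a := ((hb.2 a ha).1 (Commute.refl a)).symm
  exact (hc.2 b hb.1).1 h1

omit [Finite G] in
theorem commute_line {t t' : G} (ha : a ∈ Perp D x) (ht : t ∈ Line D x a) (ht' : t' ∈ Line D x a) :
    Commute t t' := by
  rcases ht with rfl | ht <;> rcases ht' with rfl | ht'
  · exact Commute.refl _
  · exact ht'.1.2.2
  · exact ht.1.2.2.symm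
  · exact commute_cl ha ht ht'

omit [Finite G] in
theorem image_cl (hD : Cfsg.IsThreeTranspositionGroup D) (g x a : G) :
    (MulAut.conj g) '' Cl D x a = Cl D (g * x * g⁻¹) (g * a * g⁻¹) := by
  have key : ∀ b, g * b * g⁻¹ ∈ Cl D (g * x * g⁻¹) (g * a * g⁻¹) ↔ b ∈ Cl D x a := fun b => by
    show (_ ∧ _) ↔ (_ ∧ _)
    rw [mem_perp_conj hD]
    refine and_congr_right fun _ => ⟨fun h y hy => ?_, fun h y hy => ?_⟩
    · have := h _ ((mem_perp_conj hD g x y).2 hy)
      rwa [commute_conj_iff, commute_conj_iff] at this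
    · obtain ⟨z, rfl⟩ : ∃ z, y = g * z * g⁻¹ := ⟨g⁻¹ * y * g, by group⟩
      rw [commute_conj_iff, commute_conj_iff]
      exact h z ((mem_perp_conj hD g x z).1 hy)
  ext z
  constructor
  · rintro ⟨y, hy, rfl⟩
    exact (key y).2 hy
  · intro hz
    refine ⟨g⁻¹ * z * g, (key _).1 ?_, by simp [mul_assoc]⟩
    rwa [show g * (g⁻¹ * z * g) * g⁻¹ = z by group]

omit [Finite G] in
theorem image_line (hD : Cfsg.IsThreeTranspositionGroup D) (g x a : G) :
    (MulAut.conj g) '' Line D x a = Line D (g * x * g⁻¹) (g * a * g⁻¹) := by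
  rw [Line, Set.image_insert_eq, image_cl hD]
  rfl

omit [Finite G] in
theorem conj_mem_line (hD : Cfsg.IsThreeTranspositionGroup D) (g : G) {t : G}
    (ht : t ∈ Line D x a) : g * t * g⁻¹ ∈ Line D (g * x * g⁻¹) (g * a * g⁻¹) :=
  image_line hD g x a ▸ Set.mem_image_of_mem (MulAut.conj g) ht

variable (S : Setting D)
include S

theorem Setting.group : Cfsg.IsThreeTranspositionGroup D := class_isGroup S.isClass

theorem Setting.move {x a x' a' : G} (hx : x ∈ D) (ha : a ∈ Perp D x) (hx' : x' ∈ D)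
    (ha' : a' ∈ Perp D x') : ∃ g : G, g * x * g⁻¹ = x' ∧ g * a * g⁻¹ = a' :=
  pair_comm S.isClass S.prim S.width hx ha hx' ha'

theorem Setting.mutual_card {x a x' a' : G} (hx : x ∈ D) (ha : a ∈ Perp D x) (hx' : x' ∈ D)
    (ha' : a' ∈ Perp D x') : (Mutual D x a).ncard = (Mutual D x' a').ncard := by
  obtain ⟨g, rfl, rfl⟩ := S.move hx ha hx' ha'
  rw [← image_mutual S.group, Set.ncard_image_of_injective _ (MulAut.conj g).injective]

theorem Setting.cl_card {x a x' a' : G} (hx : x ∈ D) (ha : a ∈ Perp D x) (hx' : x' ∈ D)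
    (ha' : a' ∈ Perp D x') : (Cl D x a).ncard = (Cl D x' a').ncard := by
  obtain ⟨g, rfl, rfl⟩ := S.move hx ha hx' ha'
  rw [← image_cl S.group, Set.ncard_image_of_injective _ (MulAut.conj g).injective]

theorem Setting.exists_mate (hx : x ∈ D) (ha : a ∈ Perp D x) : ∃ b ∈ Cl D x a, b ≠ a := by
  obtain ⟨x₀, hx₀, a₀, ha₀, b₀, hb₀, hne⟩ := S.big
  have h1 : 1 < (Cl D x₀ a₀).ncard := by
    refine (Set.one_lt_ncard (Set.toFinite _)).2 ⟨b₀, hb₀, a₀, mem_cl_self ha₀, hne⟩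
  rw [S.cl_card hx₀ ha₀ hx ha] at h1
  exact Set.exists_ne_of_one_lt_ncard h1 a

/-- A member not commuting with `x` commutes with at most one member of a class. -/
theorem Setting.not_both (hx : x ∈ D) (ha : a ∈ Perp D x) (hb : b ∈ Cl D x a) (hne : b ≠ a)
    {d : G} (hd : d ∈ D) (hxd : ¬ Commute x d) (hda : Commute a d) : ¬ Commute b d := by
  intro hdb
  have hab : b ∈ Perp D a := ⟨hb.1.1, hne, commute_cl ha (mem_cl_self ha) hb⟩
  have hsub : insert x (Mutual D x a \ {b}) ⊆ Mutual D a b := by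
    refine Set.insert_subset ⟨perp_symm hx ha, perp_symm hx hb.1⟩ ?_
    rintro z ⟨⟨hz, hza⟩, hzb⟩
    exact ⟨hza, hza.1, fun e => hzb e, ((hb.2 z hz).1 hza.2.2.symm).symm⟩
  have hbM : b ∈ Mutual D x a := ⟨hb.1, hab⟩
  have hcard : (insert x (Mutual D x a \ {b})).ncard = (Mutual D a b).ncard := by
    rw [Set.ncard_insert_of_notMem (fun h => h.1.1.2.1 rfl),
      Set.ncard_sdiff_singleton_add_one hbM]
    exact S.mutual_card hx ha ha.1 hab
  have heq := Set.eq_of_subset_of_ncard_le hsub hcard.ge (Set.toFinite _)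
  have hdM : d ∈ Mutual D a b := ⟨⟨hd, fun e => hxd (e ▸ ha.2.2), hda⟩,
    hd, fun e => hxd (e ▸ hb.1.2.2), hdb⟩
  rw [← heq] at hdM
  rcases hdM with rfl | h
  · exact hxd (Commute.refl _)
  · exact hxd h.1.1.2.2

theorem Setting.cl_swap (hx : x ∈ D) (ha : a ∈ Perp D x) (hb : b ∈ Cl D x a) (hne : b ≠ a) :
    x ∈ Cl D a b := by
  refine ⟨perp_symm hx ha, fun y hy => ⟨fun hyb => ?_, fun hyx => ?_⟩⟩
  · by_contra hyx
    exact S.not_both hx ha hb hne hy.1 (fun h => hyx h.symm) hy.2.2 hyb.symm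
  · by_cases h : y = x
    · exact h ▸ hb.1.2.2
    · exact (hb.2 y ⟨hy.1, h, hyx.symm⟩).1 hy.2.2.symm

theorem Setting.cl_other (hx : x ∈ D) (ha : a ∈ Perp D x) (hb : b ∈ Cl D x a) (hne : b ≠ a) :
    Cl D a b = insert x (Cl D x a \ {a}) := by
  symm
  have hab : b ∈ Perp D a := ⟨hb.1.1, hne, commute_cl ha (mem_cl_self ha) hb⟩
  refine Set.eq_of_subset_of_ncard_le (Set.insert_subset (S.cl_swap hx ha hb hne) ?_) ?_
    (Set.toFinite _)
  · rintro z ⟨hz, hza⟩
    have h1 := S.cl_swap hx ha hb hne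
    have h2 := S.cl_swap hx ha hz hza
    have hz' : z ∈ Perp D a := ⟨hz.1.1, hza, commute_cl ha (mem_cl_self ha) hz⟩
    rw [← cl_eq h1, cl_eq h2]
    exact mem_cl_self hz'
  · rw [Set.ncard_insert_of_notMem (fun h => h.1.1.2.1 rfl),
      Set.ncard_sdiff_singleton_add_one (mem_cl_self ha), S.cl_card hx ha ha.1 hab]

theorem Setting.line_other (hx : x ∈ D) (ha : a ∈ Perp D x) (hb : b ∈ Cl D x a) (hne : b ≠ a) :
    Line D a b = Line D x a := by
  rw [Line, S.cl_other hx ha hb hne, Line, Set.insert_comm, Set.insert_sdiff_singleton,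
    Set.insert_eq_of_mem (mem_cl_self ha)]

theorem Setting.line_eq (hx : x ∈ D) (ha : a ∈ Perp D x) {t t' : G} (ht : t ∈ Line D x a)
    (ht' : t' ∈ Line D x a) (hne : t ≠ t') : Line D t t' = Line D x a ∧ t' ∈ Perp D t ∧ t ∈ D := by
  have hc := commute_line ha ht ht'
  rcases ht with rfl | ht
  · rcases ht' with rfl | ht'
    · exact absurd rfl hne
    · exact ⟨by rw [Line, Line, cl_eq ht'], ht'.1, hx⟩
  · have hat : Cl D x t = Cl D x a := cl_eq ht
    rcases ht' with rfl | ht'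
    · obtain ⟨b, hb, hbt⟩ := S.exists_mate hx ht.1
      have h1 := S.line_other hx ht.1 hb hbt
      refine ⟨?_, perp_symm hx ht.1, ht.1.1⟩
      rw [show Line D t t' = Line D t b by rw [Line, Line, cl_eq (S.cl_swap hx ht.1 hb hbt)], h1,
        Line, Line, hat]
    · have h1 := S.line_other hx ht.1 (hat ▸ ht') hne.symm
      exact ⟨by rw [h1, Line, Line, hat], ⟨ht'.1.1, hne.symm, hc⟩, ht.1.1⟩

/-- The fourth point determined by three points of a line and a member commuting with none. -/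
def quad (v a b p : G) : G := v * b * a * v * p * v * a * b * v

theorem quad_aux {v a b : G} (hv : v ∈ D) (ha : a ∈ D) (hb : b ∈ D) (hab : Commute a b)
    (hva : ¬ Commute v a) (hvb : ¬ Commute v b) :
    (v * b * a * v) * a * (v * a * b * v) = b ∧ (v * b * a * v) * b * (v * a * b * v) = a ∧
      Commute v (a * b * v * b * a) := by
  have hs := S.isClass.1
  obtain ⟨φ, e1, e2, e3⟩ := exists_hom_perm_four (sq_one hs ha) (sq_one hs hv) (sq_one hs hb)
    hab.eq (braid hs ha hv fun h => hva h.symm) (braid hs hv hb hvb)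
  refine ⟨?_, ?_, ?_⟩
  · rw [← e1, ← e2, ← e3]; simp only [← map_mul]; exact congrArg φ (by decide +kernel)
  · rw [← e1, ← e2, ← e3]; simp only [← map_mul]; exact congrArg φ (by decide +kernel)
  · show v * _ = _ * v
    rw [← e1, ← e2, ← e3]; simp only [← map_mul]; exact congrArg φ (by decide +kernel)

theorem Setting.quad_spec (hx : x ∈ D) (ha0 : a ∈ Perp D x) {v t₁ t₂ p : G} (hv : v ∈ D)
    (h₁ : t₁ ∈ Line D x a) (h₂ : t₂ ∈ Line D x a) (hp : p ∈ Line D x a) (h12 : t₁ ≠ t₂)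
    (hp1 : p ≠ t₁) (hp2 : p ≠ t₂) (hv1 : ¬ Commute v t₁) (hv2 : ¬ Commute v t₂)
    (hvp : ¬ Commute v p) :
    quad v t₁ t₂ p ∈ Line D x a ∧ quad v t₁ t₂ p ≠ t₁ ∧ quad v t₁ t₂ p ≠ t₂ ∧
      quad v t₁ t₂ p ≠ p ∧ ¬ Commute v (quad v t₁ t₂ p) := by
  have hs := S.isClass.1
  obtain ⟨hL, h21, ht₁⟩ := S.line_eq hx ha0 h₁ h₂ h12
  have ht₂ : t₂ ∈ D := h21.1
  have hpD : p ∈ D := (S.line_eq hx ha0 hp h₁ hp1).2.2
  have hc12 := commute_line ha0 h₁ h₂
  obtain ⟨g1, g2, g3⟩ := quad_aux S hv ht₁ ht₂ hc12 hv1 hv2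
  obtain ⟨g, hg⟩ : ∃ g, g = v * t₂ * t₁ * v := ⟨_, rfl⟩
  have hgi : g⁻¹ = v * t₁ * t₂ * v := by
    rw [hg, mul_inv_rev, mul_inv_rev, mul_inv_rev, inv_eq hs hv, inv_eq hs ht₁, inv_eq hs ht₂]
    group
  have hq : quad v t₁ t₂ p = g * p * g⁻¹ := by rw [hgi, hg, quad]; group
  rw [← hg, ← hgi] at g1 g2
  have hp12 : ¬ Commute (v * p * v) (t₁ * t₂) := by
    intro h
    have h' := ((commute_mul_iff hs ht₁ ht₂ (self_conj_mem S.group hv hpD) h12 hc12).1 h).1
    rw [braid hs hv hpD hvp] at h'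
    have h'' := (commute_conj_iff p _ _).2 h'
    rw [inv_eq hs hpD, show p * (p * v * p) * p = (p * p) * v * (p * p) by group, sq_one hs hpD,
      one_mul, mul_one, show p * t₁ * p = t₁ by
        rw [(commute_line ha0 hp h₁).eq, mul_assoc, sq_one hs hpD, mul_one]] at h''
    exact hv1 h''
  refine ⟨?_, ?_, ?_, ?_, ?_⟩
  · rw [hq, ← hL]
    have h := conj_mem_line S.group g (show p ∈ Line D t₁ t₂ by rw [hL]; exact hp)
    rw [g1, g2] at h
    rwa [(S.line_eq hx ha0 h₂ h₁ h12.symm).1, ← hL] at h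
  · rw [hq]
    intro e
    exact hp2 ((MulAut.conj g).injective (e.trans g2.symm))
  · rw [hq]
    intro e
    exact hp1 ((MulAut.conj g).injective (e.trans g1.symm))
  · intro e
    apply hp12
    have h1 : Commute g p := mul_inv_eq_iff_eq_mul.1 (hq ▸ e)
    have h2 := (commute_conj_iff v _ _).2 h1
    rw [inv_eq hs hv, hg, show v * (v * t₂ * t₁ * v) * v = (v * v) * (t₂ * t₁) * (v * v) by group,
      sq_one hs hv, one_mul, mul_one, ← hc12.eq] at h2
    exact h2.symm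
  · intro e
    apply hvp
    rw [hq] at e
    have h1 := (commute_conj_iff g⁻¹ _ _).2 e
    rw [inv_inv, show g⁻¹ * (g * p * g⁻¹) * g = p by group, hgi,
      show g = v * t₂ * t₁ * v from hg,
      show v * t₁ * t₂ * v * v * (v * t₂ * t₁ * v) = v * t₁ * t₂ * (v * v) * v * t₂ * t₁ * v by
        group, sq_one hs hv, mul_one,
      show v * t₁ * t₂ * v * t₂ * t₁ * v = v * (t₁ * t₂ * v * t₂ * t₁) * v by group, g3.eq,
      mul_assoc, sq_one hs hv, mul_one] at h1
    have h2 := (commute_conj_iff (t₂ * t₁) _ _).2 h1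
    rw [mul_inv_rev, inv_eq hs ht₁, inv_eq hs ht₂,
      show t₂ * t₁ * (t₁ * t₂ * v * t₂ * t₁) * (t₁ * t₂)
        = t₂ * (t₁ * t₁) * t₂ * v * t₂ * (t₁ * t₁) * t₂ by group, sq_one hs ht₁, mul_one, mul_one,
      sq_one hs ht₂, one_mul, mul_assoc v, sq_one hs ht₂, mul_one,
      show t₂ * t₁ * p * (t₁ * t₂) = t₂ * (t₁ * p * t₁) * t₂ by group,
      show t₁ * p * t₁ = p by
        rw [(commute_line ha0 h₁ hp).eq, mul_assoc, sq_one hs ht₁, mul_one],
      show t₂ * p * t₂ = p by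
        rw [(commute_line ha0 h₂ hp).eq, mul_assoc, sq_one hs ht₂, mul_one]] at h2
    exact h2

theorem Setting.quad_invol {v t₁ t₂ p : G} (hx : x ∈ D) (ha0 : a ∈ Perp D x) (hv : v ∈ D)
    (h₁ : t₁ ∈ Line D x a) (h₂ : t₂ ∈ Line D x a) (hp : p ∈ Line D x a) (h12 : t₁ ≠ t₂)
    (hp1 : p ≠ t₁) (hp2 : p ≠ t₂) (hv1 : ¬ Commute v t₁) (hv2 : ¬ Commute v t₂)
    (hvp : ¬ Commute v p) : quad v t₁ (quad v t₁ t₂ p) p = t₂ := by
  have hs := S.isClass.1
  obtain ⟨hcL, -, -, -, hvc⟩ := S.quad_spec hx ha0 hv h₁ h₂ hp h12 hp1 hp2 hv1 hv2 hvp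
  obtain ⟨c, hc⟩ : ∃ c, c = quad v t₁ t₂ p := ⟨_, rfl⟩
  rw [← hc] at hcL hvc ⊢
  have ht₁ : t₁ ∈ D := (S.line_eq hx ha0 h₁ h₂ h12).2.2
  have ht₂ : t₂ ∈ D := (S.line_eq hx ha0 h₂ h₁ h12.symm).2.2
  have hcD : c ∈ D := by
    rw [hc, quad]
    have hpD : p ∈ D := (S.line_eq hx ha0 hp h₁ hp1).2.2
    have := self_conj_mem S.group hv (self_conj_mem S.group ht₂ (self_conj_mem S.group ht₁
      (self_conj_mem S.group hv hpD)))
    rwa [show v * (t₂ * (t₁ * (v * p * v) * t₁) * t₂) * v = v * t₂ * t₁ * v * p * v * t₁ * t₂ * v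
      by group] at this
  have h1 : t₁ * (v * p * v) * t₁ = t₂ * (c * v * c) * t₂ := by
    rw [← braid hs hv hcD hvc, hc, quad,
      show t₂ * (v * (v * t₂ * t₁ * v * p * v * t₁ * t₂ * v) * v) * t₂
        = t₂ * (v * v) * t₂ * t₁ * v * p * v * t₁ * t₂ * (v * v) * t₂ by group, sq_one hs hv]
    simp only [mul_one, sq_one hs ht₂, one_mul, mul_assoc]
  have hct : c * t₂ = t₂ * c := (commute_line ha0 hcL h₂).eq
  calc quad v t₁ c p = v * (c * (t₁ * (v * p * v) * t₁) * c) * v := by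
        rw [quad, show v * c * t₁ * v * p * v * t₁ * c * v
          = v * (c * (t₁ * (v * p * v) * t₁) * c) * v by group]
    _ = v * ((c * t₂) * c * v * (c * t₂ * c)) * v := by rw [h1]; group
    _ = v * (t₂ * v * t₂) * v := by
        rw [show c * t₂ * c = t₂ by rw [hct, mul_assoc, sq_one hs hcD, mul_one]]

    _ = t₂ := by
        rw [← braid hs hv ht₂ hv2, show v * (v * t₂ * v) * v = (v * v) * t₂ * (v * v) by group,
          sq_one hs hv, one_mul, mul_one]

omit S in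
theorem even_of_invol {α : Type*} (s : Finset α) (f : α → α) (h1 : ∀ z ∈ s, f z ∈ s)
    (h2 : ∀ z ∈ s, f z ≠ z) (h3 : ∀ z ∈ s, f (f z) = z) : Even s.card := by
  rw [← ZMod.natCast_eq_zero_iff_even]
  have := Finset.sum_involution (s := s) (f := fun _ => (1 : ZMod 2)) (fun z _ => f z)
    (fun _ _ => by decide) (fun z hz _ => h2 z hz) h1 h3
  simpa using this

/-- A member not commuting with `x` commutes with some member of every class. -/
theorem Setting.exists_rep (hx : x ∈ D) (ha : a ∈ Perp D x) {d : G} (hd : d ∈ D)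
    (hxd : ¬ Commute x d) : ∃ b ∈ Cl D x a, Commute d b := by
  classical
  by_contra hno
  push Not at hno
  haveI := Fintype.ofFinite G
  have hxL : x ∈ Line D x a := Set.mem_insert _ _
  have hL : ∀ {z}, z ∈ Cl D x a → z ∈ Line D x a := fun h => Set.mem_insert_of_mem _ h
  have hself := mem_cl_self ha
  have hclass : ∀ z ∈ Line D x a, z ≠ x → z ∈ Cl D x a := fun z hz hne => hz.resolve_left hne
  -- all but `a` pair up through `d`
  have e1 : Even (Cl D x a \ {a}).toFinset.card := by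
    refine even_of_invol _ (fun b => quad d a b x) ?_ ?_ ?_
    all_goals
      intro b hb
      rw [Set.mem_toFinset] at hb
      obtain ⟨hb, hba⟩ := hb
      have hba' : b ≠ a := hba
      have hargs := S.quad_spec hx ha hd (hL hself) (hL hb) hxL hba'.symm ha.2.1.symm hb.1.2.1.symm
        (hno a hself) (hno b hb) (fun h => hxd h.symm)
      obtain ⟨h1, h2, h3, h4, -⟩ := hargs
    · rw [Set.mem_toFinset]; exact ⟨hclass _ h1 h4, h2⟩
    · exact h3
    · exact S.quad_invol hx ha hd (hL hself) (hL hb) hxL hba'.symm ha.2.1.symm hb.1.2.1.symm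
        (hno a hself) (hno b hb) (fun h => hxd h.symm)
  -- all but two pair up through a partner of `x`
  obtain ⟨v, hv, hva⟩ : ∃ v ∈ Perp D x, ¬ Commute v a := by
    by_contra h
    push Not at h
    obtain ⟨b, hb, hba⟩ := S.exists_mate hx ha
    have := CfsgLib.Fischer.link_connected S.isClass S.prim S.width S.two hx ha hb.1
    rcases Relation.ReflTransGen.cases_head this with h' | ⟨c, hc, -⟩
    · exact hba h'.symm
    · exact hc.2.2 (h c hc.2.1).symm
  obtain ⟨b₀, hb₀, hb₀a⟩ := S.exists_mate hx ha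
  have hvn : ∀ b ∈ Cl D x a, ¬ Commute v b := fun b hb h => hva ((hb.2 v hv).2 h)
  have e2 : Even ((Cl D x a \ {a}) \ {b₀}).toFinset.card := by
    refine even_of_invol _ (fun b => quad v a b b₀) ?_ ?_ ?_
    all_goals
      intro b hb
      rw [Set.mem_toFinset] at hb
      obtain ⟨⟨hb, hba⟩, hbb⟩ := hb
      have hba' : b ≠ a := hba
      have hbb' : b ≠ b₀ := hbb
      have hargs := S.quad_spec hx ha hv.1 (hL hself) (hL hb) (hL hb₀) hba'.symm hb₀a hbb'.symm
        hva (hvn b hb) (hvn b₀ hb₀)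
      obtain ⟨h1, h2, h3, h4, h5⟩ := hargs
    · rw [Set.mem_toFinset]
      exact ⟨⟨hclass _ h1 (fun e => h5 (by rw [e]; exact hv.2.2.symm)), h2⟩, h4⟩
    · exact h3
    · exact S.quad_invol hx ha hv.1 (hL hself) (hL hb) (hL hb₀) hba'.symm hb₀a hbb'.symm
        hva (hvn b hb) (hvn b₀ hb₀)
  rw [← Set.ncard_eq_toFinset_card'] at e1 e2
  rw [← Set.ncard_sdiff_singleton_add_one (show b₀ ∈ Cl D x a \ {a} from ⟨hb₀, hb₀a⟩),
    Nat.even_add_one] at e1
  exact e1 e2

theorem Setting.existsUnique_rep (hx : x ∈ D) (ha : a ∈ Perp D x) {d : G} (hd : d ∈ D)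
    (hxd : ¬ Commute x d) : ∃! b, b ∈ Cl D x a ∧ Commute d b := by
  obtain ⟨b, hb, hdb⟩ := S.exists_rep hx ha hd hxd
  refine ⟨b, ⟨hb, hdb⟩, fun c hc => by_contra fun hne => ?_⟩
  exact S.not_both hx hb.1 (cl_eq hb ▸ hc.1) hne hd hxd hdb.symm hc.2.symm

end CfsgLib.FischerPolar
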