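import Cfsg.Agent.Lib.Golay.FischerPolarBound

/-!
Lines with five points: the regular normal two-group on the members not commuting with a given one.
-/

set_option autoImplicit false

namespace CfsgLib.FischerPolar

open Subgroup CfsgLib.Trans3 CfsgLib.FischerOdd

variable {G : Type*} [Group G] [Finite G] {D : Set G}

/-- The group generated by the products of two members of one class at `x`. -/
def Qg (D : Set G) (x : G) : Subgroup G :=
  closure {g | ∃ a ∈ Perp D x, ∃ b ∈ Cl D x a, ∃ c ∈ Cl D x a, g = b * c}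

omit [Finite G] in
theorem pair_mem_qg {x a b c : G} (ha : a ∈ Perp D x) (hb : b ∈ Cl D x a) (hc : c ∈ Cl D x a) :
    b * c ∈ Qg D x :=
  subset_closure ⟨a, ha, b, hb, c, hc, rfl⟩

omit [Finite G] in
theorem commute_qg_self {x g : G} (hg : g ∈ Qg D x) : Commute g x := by
  have hle : Qg D x ≤ centralizer {x} := by
    rw [Qg, closure_le]
    rintro _ ⟨a, -, b, hb, c, hc, rfl⟩
    exact mem_centralizer_singleton_iff.2 (hb.1.2.2.symm.mul_left hc.1.2.2.symm).eq
  exact mem_centralizer_singleton_iff.1 (hle hg)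

/-- Two fixed point free involutions of four points agreeing at one point agree everywhere. -/
theorem agree_of_four {α : Type*} {s : Set α} (hs : s.ncard = 4) {f g : α → α}
    (hf : ∀ z ∈ s, f z ∈ s ∧ f z ≠ z ∧ f (f z) = z) (hg : ∀ z ∈ s, g z ∈ s ∧ g z ≠ z ∧ g (g z) = z)
    {z : α} (hz : z ∈ s) (he : f z = g z) : ∀ w ∈ s, f w = g w := by
  intro w hw
  obtain ⟨h1, h2, h3⟩ := hf z hz
  by_cases hwz : w = z
  · rw [hwz, he]
  by_cases hwf : w = f z
  · rw [hwf, h3]
    conv_rhs => rw [he, (hg z hz).2.2]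
  by_contra hne
  have hfin : s.Finite := Set.finite_of_ncard_pos (by omega)
  have hsub : ({z, f z, w, f w, g w} : Set α) ⊆ s := by
    rintro p (rfl | rfl | rfl | rfl | rfl)
    exacts [hz, h1, hw, (hf w hw).1, (hg w hw).1]
  have h5 : ({z, f z, w, f w, g w} : Set α).ncard = 5 := by
    have a1 : f w ≠ z := fun e => hwf (by rw [← e, (hf w hw).2.2])
    have a2 : f w ≠ f z := fun e => hwz (by rw [← (hf w hw).2.2, e, h3])
    have a3 : g w ≠ z := fun e => hwf (by rw [he, ← e, (hg w hw).2.2])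
    have a4 : g w ≠ f z := fun e => hwz (by rw [← (hg w hw).2.2, e, he, (hg z hz).2.2])
    rw [Set.ncard_insert_of_notMem (by simp [h2.symm, Ne.symm hwz, a1.symm, a3.symm]),
      Set.ncard_insert_of_notMem (by simp [Ne.symm hwf, a2.symm, a4.symm]),
      Set.ncard_insert_of_notMem (by simp [(hf w hw).2.1.symm, (hg w hw).2.1.symm]),
      Set.ncard_pair hne]
  have := Set.ncard_le_ncard hsub hfin
  omega

variable (S : Setting D) (hfour : ∀ x ∈ D, ∀ a ∈ Perp D x, (Cl D x a).ncard = 4)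
variable {x : G}
include S

theorem Setting.qg_le (hx : x ∈ D) : Qg D x ≤ OTwo D x := by
  rw [Qg, closure_le]
  rintro _ ⟨a, ha, b, hb, c, hc, rfl⟩
  exact S.pair_mem_oTwo hx hb hc

theorem Setting.qg_conj_cl (hx : x ∈ D) {v w g : G} (hg : g ∈ Qg D x) (hw : w ∈ Cl D x v) :
    g * w * g⁻¹ ∈ Cl D x v :=
  S.oTwo_conj_cl hx (S.qg_le hx hg) hw

theorem Setting.eTwo_agree (hx : x ∈ D) {u v w h h' : G} (hu : u ∈ Perp D x) (hv : v ∈ Perp D x)
    (hw : w ∈ Cl D x v) (hh : h ∈ ETwo D x u) (hh' : h' ∈ ETwo D x u)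
    (he : h * v * h⁻¹ = h' * v * h'⁻¹) : h * w * h⁻¹ = h' * w * h'⁻¹ := by
  have hm : h'⁻¹ * h ∈ ETwo D x u := mul_mem (inv_mem hh') hh
  have hfix := S.eTwo_fix_class hx hu hv hw hm (mul_inv_eq_iff_eq_mul.1 (by
    calc h'⁻¹ * h * v * (h'⁻¹ * h)⁻¹ = h'⁻¹ * (h * v * h⁻¹) * h' := by group
      _ = v := by rw [he]; group))
  calc h * w * h⁻¹ = h' * ((h'⁻¹ * h) * w * (h'⁻¹ * h)⁻¹) * h'⁻¹ := by group
    _ = h' * w * h'⁻¹ := by rw [conj_eq_of_commute hfix]

include hfour

/-- On one class every element of `Qg` acts as a product of two members of a class not commuting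
with it. -/
theorem Setting.qg_act (hx : x ∈ D) {u v g : G} (hu : u ∈ Perp D x) (hv : v ∈ Perp D x)
    (hvu : ¬ Commute v u) (hg : g ∈ Qg D x) :
    ∃ c ∈ Cl D x u, ∀ w ∈ Cl D x v, g * w * g⁻¹ = u * c * w * (u * c)⁻¹ := by
  have hs := S.isClass.1
  have hsame : ∀ h ∈ ETwo D x u, ∃ c ∈ Cl D x u,
      ∀ w ∈ Cl D x v, h * w * h⁻¹ = u * c * w * (u * c)⁻¹ := by
    intro h hh
    have hm := S.oTwo_conj hx hv (S.eTwo_le hx hh)
    obtain ⟨c, hc, e⟩ := S.eTwo_trans hx hu hv hvu hm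
    exact ⟨c, hc, fun w hw =>
      S.eTwo_agree hx hu hv hw hh (pair_mem_eTwo (mem_cl_self hu) hc) e.symm⟩
  suffices h : ∀ g ∈ Qg D x, ∃ h ∈ ETwo D x u, ∀ w ∈ Cl D x v, g * w * g⁻¹ = h * w * h⁻¹ by
    obtain ⟨h, hh, h1⟩ := h g hg
    obtain ⟨c, hc, h2⟩ := hsame h hh
    exact ⟨c, hc, fun w hw => (h1 w hw).trans (h2 w hw)⟩
  clear hg g
  intro g hg
  induction hg using closure_induction with
  | mem g hg =>
    obtain ⟨a, ha, b, hb, c, hc, rfl⟩ := hg
    by_cases hva : Commute v a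
    · refine ⟨1, one_mem _, fun w hw => ?_⟩
      have hz : ∀ z ∈ Cl D x a, Commute z w := fun z hz =>
        (hw.2 z hz.1).1 ((hz.2 v hv).1 hva).symm
      rw [conj_eq_of_commute ((hz b hb).mul_left (hz c hc))]
      group
    by_cases hbc : b = c
    · refine ⟨1, one_mem _, fun w _ => ?_⟩
      rw [hbc, sq_one hs hc.1.1]
    have hm := S.oTwo_conj hx hv (S.pair_mem_oTwo hx hb hc)
    obtain ⟨c', hc', e⟩ := S.eTwo_trans hx hu hv hvu hm
    refine ⟨u * c', pair_mem_eTwo (mem_cl_self hu) hc', ?_⟩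
    have hne : u ≠ c' := by
      rintro rfl
      exact S.pair_moves hx ha hv hva hb hc hbc (by rw [← e, sq_one hs hu.1]; group)
    have hinv : ∀ {p q w : G}, p ∈ D → q ∈ D → Commute p q →
        p * q * (p * q * w * (p * q)⁻¹) * (p * q)⁻¹ = w := by
      intro p q w hp hq hpq
      have e2 : (p * q) * (p * q) = 1 := by
        rw [mul_assoc, ← mul_assoc q, ← hpq.eq, mul_assoc p q q, sq_one hs hq, mul_one,
          sq_one hs hp]
      calc p * q * (p * q * w * (p * q)⁻¹) * (p * q)⁻¹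
          = ((p * q) * (p * q)) * w * ((p * q) * (p * q))⁻¹ := by group
        _ = w := by rw [e2]; group
    refine agree_of_four (hfour x hx v hv) (f := fun w => b * c * w * (b * c)⁻¹)
      (g := fun w => u * c' * w * (u * c')⁻¹) ?_ ?_ (mem_cl_self hv) e.symm
    · intro w hw
      have hwa : ¬ Commute w a := fun h => hva ((hw.2 a ha).2 h.symm).symm
      exact ⟨S.oTwo_conj_cl hx (S.pair_mem_oTwo hx hb hc) hw,
        S.pair_moves hx ha hw.1 hwa hb hc hbc, hinv hb.1.1 hc.1.1 (commute_cl ha hb hc)⟩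
    · intro w hw
      have hwu : ¬ Commute w u := fun h => hvu ((hw.2 u hu).2 h.symm).symm
      exact ⟨S.oTwo_conj_cl hx (S.pair_mem_oTwo hx (mem_cl_self hu) hc') hw,
        S.pair_moves hx hu hw.1 hwu (mem_cl_self hu) hc' hne,
        hinv hu.1 hc'.1.1 (commute_cl hu (mem_cl_self hu) hc')⟩
  | one => exact ⟨1, one_mem _, fun w _ => rfl⟩
  | mul p q hp hq ihp ihq =>
    obtain ⟨h₁, hh₁, e₁⟩ := ihp
    obtain ⟨h₂, hh₂, e₂⟩ := ihq
    refine ⟨h₁ * h₂, mul_mem hh₁ hh₂, fun w hw => ?_⟩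
    calc p * q * w * (p * q)⁻¹ = p * (q * w * q⁻¹) * p⁻¹ := by group
      _ = h₁ * (h₂ * w * h₂⁻¹) * h₁⁻¹ := by
          rw [e₂ w hw, e₁ _ (S.oTwo_conj_cl hx (S.eTwo_le hx hh₂) hw)]
      _ = _ := by group
  | inv p hp ihp =>
    obtain ⟨h, hh, e⟩ := ihp
    refine ⟨h⁻¹, inv_mem hh, fun w hw => ?_⟩
    obtain ⟨z, hz⟩ : ∃ z, z = h⁻¹ * w * h⁻¹⁻¹ := ⟨_, rfl⟩
    have hzc : z ∈ Cl D x v := hz ▸ S.oTwo_conj_cl hx (S.eTwo_le hx (inv_mem hh)) hw
    have := e z hzc
    rw [show h * z * h⁻¹ = w by rw [hz]; group] at this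
    rw [← hz, ← this]
    group

theorem Setting.qg_fix_class (hx : x ∈ D) {v w g : G} (hv : v ∈ Perp D x) (hw : w ∈ Cl D x v)
    (hg : g ∈ Qg D x) (hgv : Commute g v) : Commute g w := by
  obtain ⟨u, hu, huv⟩ := S.exists_noncomm hx hv
  obtain ⟨c, hc, e⟩ := S.qg_act hfour hx hu hv (fun h => huv h.symm) hg
  have h1 := (e v (mem_cl_self hv)).symm.trans (conj_eq_of_commute hgv)
  have h2 := S.eTwo_fix_class hx hu hv hw (pair_mem_eTwo (mem_cl_self hu) hc)
    (mul_inv_eq_iff_eq_mul.1 h1)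
  exact mul_inv_eq_iff_eq_mul.1 ((e w hw).trans (conj_eq_of_commute h2))

theorem Setting.qg_invol (hx : x ∈ D) {v g : G} (hv : v ∈ Perp D x) (hg : g ∈ Qg D x) :
    g * (g * v * g⁻¹) * g⁻¹ = v := by
  obtain ⟨u, hu, huv⟩ := S.exists_noncomm hx hv
  obtain ⟨c, hc, e⟩ := S.qg_act hfour hx hu hv (fun h => huv h.symm) hg
  rw [e _ (S.qg_conj_cl hx hg (mem_cl_self hv)), e v (mem_cl_self hv)]
  have e2 : (u * c) * (u * c) = 1 := by
    rw [mul_assoc, ← mul_assoc c, ← (commute_cl hu (mem_cl_self hu) hc).eq, mul_assoc u c c,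
      sq_one S.isClass.1 hc.1.1, mul_one, sq_one S.isClass.1 hu.1]
  calc u * c * (u * c * v * (u * c)⁻¹) * (u * c)⁻¹
      = ((u * c) * (u * c)) * v * ((u * c) * (u * c))⁻¹ := by group
    _ = v := by rw [e2]; group

theorem Setting.qg_eq_one (hx : x ∈ D) {d g : G} (hd : d ∈ D) (hxd : ¬ Commute x d)
    (hg : g ∈ Qg D x) (hgd : Commute g d) : g = 1 := by
  refine S.eq_one_of_fix hx hd hxd (fun v hv => ?_) (commute_qg_self hg) hgd
  obtain ⟨s, ⟨hs, hds⟩, huniq⟩ := S.existsUnique_rep hx hv hd hxd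
  have hgs : Commute g s := by
    have hm := S.qg_conj_cl hx hg hs
    have hc : Commute d (g * s * g⁻¹) := by
      have := (commute_conj_iff g d s).2 hds
      rwa [conj_eq_of_commute hgd] at this
    exact mul_inv_eq_iff_eq_mul.1 (huniq _ ⟨hm, hc⟩)
  exact S.qg_fix_class hfour hx hs.1 (cl_eq hs ▸ mem_cl_self hv) hg hgs

theorem Setting.x_mem_qg (hx : x ∈ D) : x ∈ Qg D x := by
  obtain ⟨a, ha⟩ := perp_nonempty S.isClass S.width hx
  obtain ⟨p, q, r, s, hpq, hpr, hps, hqr, hqs, hrs, e⟩ := Set.ncard_eq_four.1 (hfour x hx a ha)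
  have h := fun z (hz : z ∈ ({p, q, r, s} : Set G)) => (e ▸ hz : z ∈ Cl D x a)
  have e' := S.cl_prod hx ha (hfour x hx a ha) (h p (by simp)) (h q (by simp)) (h r (by simp))
    (h s (by simp)) hpq hpr hps hqr hqs hrs
  have hm : p * q * (r * s) ∈ Qg D x := mul_mem (pair_mem_qg ha (h p (by simp)) (h q (by simp)))
    (pair_mem_qg ha (h r (by simp)) (h s (by simp)))
  rw [← mul_assoc (p * q), e'] at hm
  exact hm

/-- The group `Qg` is transitive on the members not commuting with `x`. -/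
theorem Setting.qg_trans (hx : x ∈ D) {f d : G} (hf : f ∈ D) (hxf : ¬ Commute x f) (hd : d ∈ D)
    (hxd : ¬ Commute x d) : ∃ g ∈ Qg D x, g * f * g⁻¹ = d := by
  have hs := S.isClass.1
  obtain ⟨h, hh, rfl⟩ := trans_noncomm_closure S.group S.prim S.width hx hf hxf hd hxd
  have hstep : ∀ y ∈ D, Commute x y → ∀ z, (∃ g ∈ Qg D x, g * f * g⁻¹ = z) →
      ∃ g ∈ Qg D x, g * f * g⁻¹ = y * z * y⁻¹ := by
    rintro y hy hxy z ⟨g, hg, rfl⟩
    by_cases hyx : y = x
    · exact ⟨x * g, mul_mem (S.x_mem_qg hfour hx) hg, by rw [hyx]; group⟩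
    have hyP : y ∈ Perp D x := ⟨hy, hyx, hxy⟩
    obtain ⟨z, hz⟩ : ∃ z, z = g * f * g⁻¹ := ⟨_, rfl⟩
    have hxz : ¬ Commute x z := fun hc => hxf (by
      rw [hz, ← conj_eq_of_commute (commute_qg_self hg)] at hc
      exact (commute_conj_iff g x f).1 hc)
    obtain ⟨b, hb, hzb⟩ := S.exists_rep hx hyP (hz ▸ class_conj_mem S.isClass g hf) hxz
    refine ⟨y * b * g, mul_mem (pair_mem_qg hyP (mem_cl_self hyP) hb) hg, ?_⟩
    calc y * b * g * f * (y * b * g)⁻¹ = y * (b * z * b⁻¹) * y⁻¹ := by rw [hz]; group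
      _ = y * (g * f * g⁻¹) * y⁻¹ := by rw [conj_eq_of_commute hzb.symm, hz]
  suffices H : ∀ z, (∃ g ∈ Qg D x, g * f * g⁻¹ = z) →
      (∃ g ∈ Qg D x, g * f * g⁻¹ = h * z * h⁻¹) ∧ ∃ g ∈ Qg D x, g * f * g⁻¹ = h⁻¹ * z * h from
    (H f ⟨1, one_mem _, by group⟩).1
  clear hd hxd
  induction hh using closure_induction with
  | mem y hy =>
    intro z hz
    have h1 := hstep y hy.1 hy.2 z hz
    exact ⟨h1, by rw [inv_eq hs hy.1] at h1 ⊢; exact h1⟩
  | one => intro z hz; simpa using hz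
  | mul p q _ _ ihp ihq =>
    intro z hz
    refine ⟨?_, ?_⟩
    · rw [show p * q * z * (p * q)⁻¹ = p * (q * z * q⁻¹) * p⁻¹ by group]
      exact (ihp _ (ihq z hz).1).1
    · rw [show (p * q)⁻¹ * z * (p * q) = q⁻¹ * (p⁻¹ * z * p) * q by group]
      exact (ihq _ (ihp z hz).2).2
  | inv p _ ihp =>
    intro z hz
    rw [inv_inv]
    exact ⟨(ihp z hz).2, (ihp z hz).1⟩

theorem Setting.cl_fourth (hx : x ∈ D) {a b c p q : G} (ha : a ∈ Perp D x) (hb : b ∈ Cl D x a)
    (hc : c ∈ Cl D x a) (hp : p ∈ Cl D x a) (hq : q ∈ Cl D x a) (hbc : b ≠ c) (hpq : p ≠ q)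
    (h1 : p ≠ b) (h2 : p ≠ c) (h3 : q ≠ b) (h4 : q ≠ c) : p * q = b * c * x := by
  have hs := S.isClass.1
  rw [← S.cl_prod hx ha (hfour x hx a ha) hb hc hp hq hbc h1.symm h3.symm h2.symm h4.symm hpq,
    mul_assoc (b * c), ← mul_assoc (b * c) (b * c),
    show b * c * (b * c) = b * (c * b) * c by group, (commute_cl ha hc hb).eq,
    show b * (b * c) * c = (b * b) * (c * c) by group, sq_one hs hb.1.1, sq_one hs hc.1.1, one_mul,
    one_mul]

/-- Conjugates of the product of two members of a class. -/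
theorem Setting.qg_pair (hx : x ∈ D) {a b c g : G} (ha : a ∈ Perp D x) (hb : b ∈ Cl D x a)
    (hc : c ∈ Cl D x a) (hbc : b ≠ c) (hg : g ∈ Qg D x) :
    ((g * b * g⁻¹ = b ∨ g * b * g⁻¹ = c) → g * (b * c) * g⁻¹ = b * c) ∧
      ((g * b * g⁻¹ ≠ b ∧ g * b * g⁻¹ ≠ c) → g * (b * c) * g⁻¹ = b * c * x) := by
  have e : g * (b * c) * g⁻¹ = (g * b * g⁻¹) * (g * c * g⁻¹) := by group
  have hinv := S.qg_invol hfour hx hb.1 hg
  have hfix : g * b * g⁻¹ = b → g * c * g⁻¹ = c := fun h =>
    conj_eq_of_commute (S.qg_fix_class hfour hx hb.1 (cl_eq hb ▸ hc) hg (mul_inv_eq_iff_eq_mul.1 h))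
  refine ⟨fun h => ?_, fun ⟨h1, h2⟩ => ?_⟩
  · rcases h with h | h
    · rw [e, h, hfix h]
    · rw [h] at hinv
      rw [e, h, hinv, (commute_cl ha hb hc).eq]
  · rw [e]
    refine S.cl_fourth hfour hx ha hb hc (S.qg_conj_cl hx hg hb) (S.qg_conj_cl hx hg hc) hbc
      (fun h => hbc ((MulAut.conj g).injective h)) h1 h2 (fun h => ?_) (fun h => ?_)
    · -- the partner would be the image of `b`
      have h' := congrArg (fun z => g * z * g⁻¹) h
      rw [S.qg_invol hfour hx hc.1 hg] at h'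
      exact h2 h'.symm
    · have := S.qg_fix_class hfour hx hc.1 (cl_eq hc ▸ hb) hg (mul_inv_eq_iff_eq_mul.1 h)
      exact h1 (conj_eq_of_commute this)

theorem Setting.qg_comm_cases (hx : x ∈ D) {g h : G} (hg : g ∈ Qg D x) (hh : h ∈ Qg D x) :
    g * h * g⁻¹ = h ∨ g * h * g⁻¹ = h * x := by
  have hxx := sq_one S.isClass.1 hx
  induction hh using closure_induction with
  | mem h hh =>
    obtain ⟨a, ha, b, hb, c, hc, rfl⟩ := hh
    by_cases hbc : b = c
    · left; rw [hbc, sq_one S.isClass.1 hc.1.1]; group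
    obtain ⟨h1, h2⟩ := S.qg_pair hfour hx ha hb hc hbc hg
    by_cases h : g * b * g⁻¹ = b ∨ g * b * g⁻¹ = c
    · exact Or.inl (h1 h)
    · exact Or.inr (h2 (not_or.1 h))
  | one => left; group
  | mul p q _ hq hp' hq' =>
    have hqx : Commute q x := commute_qg_self hq
    rw [show g * (p * q) * g⁻¹ = (g * p * g⁻¹) * (g * q * g⁻¹) by group]
    rcases hp' with e1 | e1 <;> rcases hq' with e2 | e2 <;> rw [e1, e2]
    · exact Or.inl rfl
    · exact Or.inr (mul_assoc _ _ _).symm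
    · right; rw [mul_assoc p, ← hqx.eq, ← mul_assoc]
    · left; rw [mul_assoc p, ← mul_assoc x, ← hqx.eq, mul_assoc q, hxx, mul_one]
  | inv p hp hp' =>
    have hpx : Commute p x := commute_qg_self hp
    rw [show g * p⁻¹ * g⁻¹ = (g * p * g⁻¹)⁻¹ by group]
    rcases hp' with e | e <;> rw [e]
    · exact Or.inl rfl
    · right; rw [mul_inv_rev, inv_eq S.isClass.1 hx]; exact (hpx.inv_left).eq.symm

theorem Setting.qg_sq_cases (hx : x ∈ D) {g : G} (hg : g ∈ Qg D x) : g * g = 1 ∨ g * g = x := by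
  have hs := S.isClass.1
  have hxx := sq_one hs hx
  induction hg using closure_induction with
  | mem g hg =>
    obtain ⟨a, ha, b, hb, c, hc, rfl⟩ := hg
    left
    rw [show b * c * (b * c) = b * (c * b) * c by group, (commute_cl ha hc hb).eq,
      show b * (b * c) * c = (b * b) * (c * c) by group, sq_one hs hb.1.1, sq_one hs hc.1.1, one_mul]
  | one => left; group
  | mul p q hp hq hp' hq' =>
    have hqx : Commute q x := commute_qg_self hq
    have e : p * q * (p * q) = (p * q * p⁻¹) * (p * p) * q := by group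
    rw [e]
    have hc := S.qg_comm_cases hfour hx hp hq
    have hswap : ∀ z, q * (x * z) = x * (q * z) := fun z => by
      rw [← mul_assoc, hqx.eq, mul_assoc]
    rcases hc with e1 | e1 <;> rcases hp' with e2 | e2 <;> rcases hq' with e3 | e3 <;>
      simp only [e1, e2, e3, mul_one, mul_assoc, hswap, hxx, true_or, or_true]
  | inv p _ hp =>
    rcases hp with e | e
    · left; rw [← mul_inv_rev, e, inv_one]
    · right; rw [← mul_inv_rev, e, inv_eq hs hx]

/-- An element of `Qg` centralising every partner of `x` is `1` or `x`. -/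
theorem Setting.qg_kernel (hx : x ∈ D) {g : G} (hg : g ∈ Qg D x)
    (hfix : ∀ v ∈ Perp D x, Commute g v) : g = 1 ∨ g = x := by
  have hs := S.isClass.1
  obtain ⟨a, ha⟩ := perp_nonempty S.isClass S.width hx
  obtain ⟨f, hf, hxf, -⟩ := S.exists_rep_eq hx ha
  have hxQ := S.x_mem_qg hfour hx
  have hfix' : ∀ {g}, (∀ v ∈ Perp D x, Commute g v) → ∀ h ∈ Qg D x, Commute g h := by
    intro g hg h hh
    have hle : Qg D x ≤ centralizer {g} := by
      rw [Qg, closure_le]
      rintro _ ⟨a, -, b, hb, c, hc, rfl⟩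
      exact mem_centralizer_singleton_iff.2 ((hg b hb.1).mul_right (hg c hc.1)).eq.symm
    exact (mem_centralizer_singleton_iff.1 (hle hh) :).symm
  -- an element of square one
  have hinvol : ∀ g ∈ Qg D x, (∀ v ∈ Perp D x, Commute g v) → g * g = 1 → g = 1 ∨ g = x := by
    intro g hg hfix h2
    by_contra hne
    obtain ⟨hne1, hnex⟩ := not_or.1 hne
    obtain ⟨d, ed⟩ : ∃ d, d = g * f * g⁻¹ := ⟨_, rfl⟩
    have hd : d ∈ D := ed ▸ class_conj_mem S.isClass g hf
    have hxd : ¬ Commute x d := by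
      rw [ed, ← conj_eq_of_commute (commute_qg_self hg)]
      exact fun h => hxf ((commute_conj_iff g x f).1 h)
    have hdf : d ≠ f := fun e =>
      hne1 (S.qg_eq_one hfour hx hf hxf hg (mul_inv_eq_iff_eq_mul.1 (ed.symm.trans e)))
    have hS : ∀ s ∈ Perp D x, Commute s f → Commute s d := fun s hs' hsf => by
      rw [ed, ← conj_eq_of_commute (hfix s hs')]
      exact (commute_conj_iff g s f).2 hsf
    have hfd : ¬ Commute f d := fun h => hdf (S.eq_of_common hx hf hd hxf h hS).symm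
    obtain ⟨e, ee⟩ : ∃ e, e = f * d * f := ⟨_, rfl⟩
    have he : e ∈ D := ee ▸ self_conj_mem S.group hf hd
    have hge : Commute g e := by
      refine mul_inv_eq_iff_eq_mul.1 ?_
      rw [ee, show g * (f * d * f) * g⁻¹ = (g * f * g⁻¹) * (g * d * g⁻¹) * (g * f * g⁻¹) by group,
        ← ed, show g * d * g⁻¹ = (g * g) * f * (g * g)⁻¹ by rw [ed]; group, h2,
        show (1 : G) * f * 1⁻¹ = f by group, ← braid hs hf hd hfd]
    by_cases hxe : Commute x e
    · by_cases hex : e = x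
      · -- `d` is the third point of `f` and `x`
        have hd' : d = x * f * x⁻¹ := by
          rw [inv_eq hs hx, braid hs hx hf hxf, ← hex, ee,
            show f * (f * d * f) * f = (f * f) * d * (f * f) by group, sq_one hs hf, one_mul, mul_one]
        apply hnex
        have := S.qg_eq_one hfour hx hf hxf (mul_mem (inv_mem hxQ) hg) (mul_inv_eq_iff_eq_mul.1 (by
          calc x⁻¹ * g * f * (x⁻¹ * g)⁻¹ = x⁻¹ * (g * f * g⁻¹) * x := by group
            _ = f := by rw [← ed, hd']; group))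
        exact (inv_mul_eq_one.1 this).symm
      have heP : e ∈ Perp D x := ⟨he, hex, hxe⟩
      obtain ⟨v, hv, hve⟩ := S.exists_noncomm hx heP
      obtain ⟨s, hs', hfs⟩ := S.exists_rep hx hv hf hxf
      have hse : Commute s e := by
        rw [ee]; exact (hfs.symm.mul_right (hS s hs'.1 hfs.symm)).mul_right hfs.symm
      exact hve ((hs'.2 e heP).2 hse.symm).symm
    · exact hne1 (S.qg_eq_one hfour hx he hxe hg hge)
  rcases S.qg_sq_cases hfour hx hg with h2 | h2
  · exact hinvol g hg hfix h2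
  exfalso
  have hgx : Commute g x := commute_qg_self hg
  have hxx := sq_one hs hx
  have hx1 : x ≠ 1 := invol_ne_one (hs.1 x hx)
  have hg1 : g ≠ 1 := fun e => hx1 (by rw [← h2, e, one_mul])
  have hgxne : g ≠ x := fun e => hx1 (by rw [e, hxx] at h2; exact h2.symm)
  obtain ⟨d, ed⟩ : ∃ d, d = g * f * g⁻¹ := ⟨_, rfl⟩
  have hd : d ∈ D := ed ▸ class_conj_mem S.isClass g hf
  have hxd : ¬ Commute x d := by
    rw [ed, ← conj_eq_of_commute hgx]
    exact fun h => hxf ((commute_conj_iff g x f).1 h)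
  have hdf : d ≠ f := fun e =>
    hg1 (S.qg_eq_one hfour hx hf hxf hg (mul_inv_eq_iff_eq_mul.1 (ed.symm.trans e)))
  have hS : ∀ s ∈ Perp D x, Commute s f → Commute s d := fun s hs' hsf => by
    rw [ed, ← conj_eq_of_commute (hfix s hs')]
    exact (commute_conj_iff g s f).2 hsf
  have hfd : ¬ Commute f d := fun h => hdf (S.eq_of_common hx hf hd hxf h hS).symm
  obtain ⟨e, ee⟩ : ∃ e, e = f * d * f := ⟨_, rfl⟩
  have he : e ∈ D := ee ▸ self_conj_mem S.group hf hd
  have hdfd : f * d * f = d * f * d := braid hs hf hd hfd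
  by_cases hxe : Commute x e
  · by_cases hex : e = x
    · have hd' : d = x * f * x⁻¹ := by
        rw [inv_eq hs hx, braid hs hx hf hxf, ← hex, ee,
          show f * (f * d * f) * f = (f * f) * d * (f * f) by group, sq_one hs hf, one_mul, mul_one]
      have := S.qg_eq_one hfour hx hf hxf (mul_mem (inv_mem hxQ) hg) (mul_inv_eq_iff_eq_mul.1 (by
        calc x⁻¹ * g * f * (x⁻¹ * g)⁻¹ = x⁻¹ * (g * f * g⁻¹) * x := by group
          _ = f := by rw [← ed, hd']; group))
      exact hgxne (inv_mul_eq_one.1 this).symm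
    have heP : e ∈ Perp D x := ⟨he, hex, hxe⟩
    obtain ⟨v, hv, hve⟩ := S.exists_noncomm hx heP
    obtain ⟨s, hs', hfs⟩ := S.exists_rep hx hv hf hxf
    have hse : Commute s e := by
      rw [ee]; exact (hfs.symm.mul_right (hS s hs'.1 hfs.symm)).mul_right hfs.symm
    exact hve ((hs'.2 e heP).2 hse.symm).symm
  · obtain ⟨r, hr, er⟩ := S.qg_trans hfour hx hf hxf he hxe
    have hrfix : ∀ v ∈ Perp D x, Commute r v := by
      intro v hv
      obtain ⟨s, ⟨hs', hfs⟩, huniq⟩ := S.existsUnique_rep hx hv hf hxf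
      obtain ⟨t, ⟨ht, het⟩, huniq'⟩ := S.existsUnique_rep hx hv he hxe
      have hse : Commute e s := by
        rw [ee]
        exact ((hfs.symm.mul_right (hS s hs'.1 hfs.symm)).mul_right hfs.symm).symm
      have h1 : Commute e (r * s * r⁻¹) := er ▸ (commute_conj_iff r f s).2 hfs
      have h2 := (huniq' _ ⟨S.qg_conj_cl hx hr hs', h1⟩).trans (huniq' s ⟨hs', hse⟩).symm
      exact S.qg_fix_class hfour hx hs'.1 (cl_eq hs' ▸ mem_cl_self hv) hr
        (mul_inv_eq_iff_eq_mul.1 h2)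
    have hgr : Commute g r := hfix' hfix r hr
    rcases S.qg_sq_cases hfour hx hr with r2 | r2
    · rcases hinvol r hr hrfix r2 with e1 | e1 <;> rw [e1] at er
      · rw [ee] at er
        apply hdf
        have := congrArg (fun z => f * z * f) er
        simp only [one_mul, inv_one, mul_one] at this
        rw [show f * (f * d * f) * f = (f * f) * d * (f * f) by group, sq_one hs hf] at this
        simp only [one_mul, mul_one] at this
        exact this.symm
      · rw [inv_eq hs hx, ee, ← braid hs hf hx fun h => hxf h.symm] at er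
        apply hxd
        have := congrArg (fun z => f * z * f) er
        rw [show f * (f * d * f) * f = (f * f) * d * (f * f) by group,
          show f * (f * x * f) * f = (f * f) * x * (f * f) by group, sq_one hs hf, one_mul, one_mul,
          mul_one, mul_one] at this
        rw [← this]
    · have hfixgr : ∀ v ∈ Perp D x, Commute (g * r) v := fun v hv =>
        (hfix v hv).mul_left (hrfix v hv)
      have hgr2 : g * r * (g * r) = 1 := by
        rw [show g * r * (g * r) = g * (r * g) * r by group, ← hgr.eq,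
          show g * (g * r) * r = (g * g) * (r * r) by group, h2, r2, hxx]
      have hgg : g⁻¹ = g * x := by
        apply inv_eq_of_mul_eq_one_right
        rw [← mul_assoc, h2, hxx]
      rcases hinvol _ (mul_mem hg hr) hfixgr hgr2 with e1 | e1
      · -- `r = g x`
        rw [eq_inv_of_mul_eq_one_right e1, hgg] at er
        have e2 : e = x * d * x := by
          rw [← er, hgx.eq, ed, mul_inv_rev, inv_eq hs hx]; group
        rw [ee, hdfd, braid hs hx hd hxd] at e2
        exact hxf (by rw [mul_left_cancel (mul_right_cancel e2)])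
      · rw [eq_inv_mul_of_mul_eq e1, hgg, mul_assoc g x x, hxx, mul_one] at er
        rw [← ed, ee] at er
        exact hfd (mul_inv_eq_iff_eq_mul.1 (by rw [inv_eq hs hf]; exact er.symm))

/-- The centre of `Qg`. -/
theorem Setting.qg_centre (hx : x ∈ D) {g : G} (hg : g ∈ Qg D x)
    (hc : ∀ h ∈ Qg D x, Commute g h) : g = 1 ∨ g = x := by
  have hs := S.isClass.1
  refine S.qg_kernel hfour hx hg fun v hv => ?_
  by_contra hgv
  obtain ⟨z, hz⟩ : ∃ z, z = g * v * g⁻¹ := ⟨_, rfl⟩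
  have hzv : z ≠ v := fun e => hgv (mul_inv_eq_iff_eq_mul.1 (hz.symm.trans e))
  have hzC : z ∈ Cl D x v := hz ▸ S.qg_conj_cl hx hg (mem_cl_self hv)
  obtain ⟨w, hw, hwn⟩ : ∃ w ∈ Cl D x v, w ∉ ({v, z} : Set G) := by
    by_contra h
    push Not at h
    have := Set.ncard_le_ncard (show Cl D x v ⊆ {v, z} from h) (Set.toFinite _)
    rw [hfour x hx v hv, Set.ncard_pair hzv.symm] at this
    omega
  simp only [Set.mem_insert_iff, Set.mem_singleton_iff, not_or] at hwn
  have h2 := (S.qg_pair hfour hx hv (mem_cl_self hv) hw (fun e => hwn.1 e.symm) hg).2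
    ⟨by rw [← hz]; exact hzv, by rw [← hz]; exact fun e => hwn.2 e.symm⟩
  rw [conj_eq_of_commute (hc _ (pair_mem_qg hv (mem_cl_self hv) hw))] at h2
  exact invol_ne_one (hs.1 x hx) (mul_left_cancel (h2.symm.trans (mul_one _).symm))

/-- The third point of a noncommuting pair is determined by the common partners. -/
theorem Setting.third_unique (hx : x ∈ D) {d z : G} (hd : d ∈ D) (hxd : ¬ Commute x d) (hz : z ∈ D)
    (hxz : ¬ Commute x z) (hne : z ≠ d) (hS : ∀ s ∈ Perp D x, Commute d s → Commute z s) :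
    z = x * d * x := by
  have hs := S.isClass.1
  obtain ⟨g, hg, rfl⟩ := S.qg_trans hfour hx hd hxd hz hxz
  have hfix : ∀ v ∈ Perp D x, Commute g v := by
    intro v hv
    obtain ⟨s, ⟨hs', hds⟩, -⟩ := S.existsUnique_rep hx hv hd hxd
    obtain ⟨t, -, huniq'⟩ := S.existsUnique_rep hx hv hz hxz
    have h2 := (huniq' _ ⟨S.qg_conj_cl hx hg hs', (commute_conj_iff g d s).2 hds⟩).trans
      (huniq' s ⟨hs', hS s hs'.1 hds⟩).symm
    exact S.qg_fix_class hfour hx hs'.1 (cl_eq hs' ▸ mem_cl_self hv) hg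
      (mul_inv_eq_iff_eq_mul.1 h2)
  rcases S.qg_kernel hfour hx hg hfix with rfl | rfl
  · exact absurd (by group) hne
  · rw [inv_eq hs hx]

end CfsgLib.FischerPolar
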