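import Cfsg.Agent.Lib.Golay.FischerPolarBound
import Cfsg.Agent.Lib.Trans3.SpTransvections
import Cfsg.Agent.Lib.Geom.SympSpace
import Cfsg.Agent.Lib.Geom.SplitStab
import Cfsg.Agent.Lib.Geom.PSpInvol

/-!
Lines with three points: the symplectic groups over the field of two elements.
-/

set_option autoImplicit false

namespace CfsgLib.FischerPolar

open Subgroup CfsgLib.Trans3 CfsgLib.FischerOdd
open scoped _root_.Classical

variable {G : Type*} [Group G] [Finite G] {D : Set G}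

/-- The code word of noncommutation. -/
noncomputable def word (D : Set G) (u : G) : D → ZMod 2 :=
  fun y => if Commute u (y : G) then 0 else 1

variable (S : Setting D) (htwo : ∀ x ∈ D, ∀ a ∈ Perp D x, (Cl D x a).ncard = 2)
include S htwo

theorem Setting.exists_mate_eq {x a : G} (hx : x ∈ D) (ha : a ∈ Perp D x) :
    ∃ b, b ≠ a ∧ Cl D x a = {a, b} := by
  obtain ⟨b, hb, hne⟩ := S.exists_mate hx ha
  refine ⟨b, hne, (Set.eq_of_subset_of_ncard_le ?_ ?_ (Set.toFinite _)).symm⟩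
  · rintro z (rfl | rfl)
    exacts [mem_cl_self ha, hb]
  · rw [htwo x hx a ha, Set.ncard_pair hne.symm]

omit htwo in
theorem Setting.exists_common {x y : G} (hx : x ∈ D) (hy : y ∈ D) (hxy : ¬ Commute x y) :
    ∃ f ∈ Perp D x, Commute f y := by
  obtain ⟨a, ha⟩ := perp_nonempty S.isClass S.width hx
  obtain ⟨b, hb, hyb⟩ := S.exists_rep hx ha hy hxy
  exact ⟨b, hb.1, hyb.symm⟩

theorem Setting.triangle_commute {x y d f : G} (hx : x ∈ D) (hy : y ∈ D) (hxy : ¬ Commute x y)
    (hd : d ∈ D) (hdx : ¬ Commute d x) (hdy : ¬ Commute d y) (hfx : f ∈ Perp D x)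
    (hfy : Commute f y) (hdf : ¬ Commute d f) : Commute d (x * y * x) := by
  have hs := S.isClass.1
  have hf := hfx.1
  have hxf : x ∈ Perp D f := perp_symm hx hfx
  have hyf : y ∈ Perp D f := ⟨hy, fun e => hxy (e ▸ hfx.2.2), hfy⟩
  obtain ⟨x', hx', hX⟩ := S.exists_mate_eq htwo hf hxf
  obtain ⟨y', hy', hY⟩ := S.exists_mate_eq htwo hf hyf
  have hx'm : x' ∈ Cl D f x := by rw [hX]; simp
  have hy'm : y' ∈ Cl D f y := by rw [hY]; simp
  have hdx' : Commute d x' := by
    obtain ⟨b, hb, hdb⟩ := S.exists_rep hf hxf hd (fun h => hdf h.symm)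
    rw [hX] at hb
    rcases hb with rfl | rfl
    exacts [absurd hdb hdx, hdb]
  have hdy' : Commute d y' := by
    obtain ⟨b, hb, hdb⟩ := S.exists_rep hf hyf hd (fun h => hdf h.symm)
    rw [hY] at hb
    rcases hb with rfl | rfl
    exacts [absurd hdb hdy, hdb]
  have hyx' : ¬ Commute y x' := fun h => hxy ((hx'm.2 y hyf).2 h).symm
  have hy'x : ¬ Commute x y' := fun h => hxy ((hy'm.2 x hxf).2 h)
  have hy'x' : ¬ Commute y' x' := fun h => hy'x ((hx'm.2 y' hy'm.1).2 h).symm
  have hfix : ∀ {u}, u ∈ Perp D f → u * f * u⁻¹ = f := fun hu => conj_eq_of_commute hu.2.2.symm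
  -- the class of the third point
  have h1 : y * x' * y⁻¹ ∈ Cl D f (y * x * y⁻¹) := by
    have := image_cl (D := D) S.group y f x ▸ Set.mem_image_of_mem (MulAut.conj y) hx'm
    rwa [hfix hyf] at this
  have h2 : x' * y' * x'⁻¹ ∈ Cl D f (x' * y * x'⁻¹) := by
    have := image_cl (D := D) S.group x' f y ▸ Set.mem_image_of_mem (MulAut.conj x') hy'm
    rwa [hfix hx'm.1] at this
  have hzf : y * x * y⁻¹ ∈ Perp D f := by
    have := (mem_perp_conj S.group y f x).2 hxf
    rwa [hfix hyf] at this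
  obtain ⟨z', hz', hZ⟩ := S.exists_mate_eq htwo hf hzf
  have hswap : x' * y * x'⁻¹ = y * x' * y⁻¹ := by
    rw [inv_eq hs hx'm.1.1, inv_eq hs hy, braid hs hy hx'm.1.1 hyx']
  have hne : y * x' * y⁻¹ ≠ y * x * y⁻¹ := fun e => hx' ((MulAut.conj y).injective e)
  have h3 : x' * y' * x'⁻¹ ∈ Cl D f (y * x * y⁻¹) := cl_eq h1 ▸ hswap ▸ h2
  have h4 : x' * y' * x'⁻¹ ≠ y * x' * y⁻¹ := fun e =>
    hy' ((MulAut.conj x').injective (e.trans hswap.symm))
  rw [hZ] at h1 h3
  have hz : x' * y' * x'⁻¹ = x * y * x := by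
    rcases h3 with h3 | h3
    · rw [h3, inv_eq hs hy, braid hs hx hy hxy]
    · exact absurd (h3.trans (h1.resolve_left hne).symm) h4
  rw [← hz, inv_eq hs hx'm.1.1]
  exact (hdx'.mul_right hdy').mul_right hdx'

theorem Setting.triangle {x y d : G} (hx : x ∈ D) (hy : y ∈ D) (hxy : ¬ Commute x y) (hd : d ∈ D)
    (hdx : ¬ Commute d x) (hdy : ¬ Commute d y) : Commute d (x * y * x) := by
  have hs := S.isClass.1
  by_contra hdz
  have hA : ∀ f ∈ Perp D x, Commute f y → Commute d f := fun f hf hfy => by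
    by_contra h
    exact hdz (S.triangle_commute htwo hx hy hxy hd hdx hdy hf hfy h)
  obtain ⟨f, hfx, hfy⟩ := S.exists_common hx hy hxy
  have hdf := hA f hfx hfy
  have hf := hfx.1
  have hxf : x ∈ Perp D f := perp_symm hx hfx
  have hyf : y ∈ Perp D f := ⟨hy, fun e => hxy (e ▸ hfx.2.2), hfy⟩
  have hdfP : d ∈ Perp D f := ⟨hd, fun e => hdx (e ▸ hfx.2.2.symm), hdf.symm⟩
  obtain ⟨x', hx', hX⟩ := S.exists_mate_eq htwo hf hxf
  have hx'm : x' ∈ Cl D f x := by rw [hX]; simp
  have hdx' : ¬ Commute d x' := fun h => hdx ((hx'm.2 d hdfP).2 h)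
  have hyx' : ¬ Commute y x' := fun h => hxy ((hx'm.2 y hyf).2 h).symm
  -- the third point moves inside its class
  have hdz' : ¬ Commute d (x' * y * x') := by
    rw [← braid hs hy hx'm.1.1 hyx']
    intro h
    apply hdz
    have h1 : y * x' * y ∈ Cl D f (y * x * y) := by
      have := image_cl (D := D) S.group y f x ▸ Set.mem_image_of_mem (MulAut.conj y) hx'm
      rw [conj_eq_of_commute hyf.2.2.symm] at this
      simpa [inv_eq hs hy] using this
    rw [braid hs hx hy hxy]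
    exact (h1.2 d hdfP).2 h
  obtain ⟨v, hv, hvf⟩ := S.exists_noncomm hx hfx
  obtain ⟨s, hs', hys⟩ := S.exists_rep hx hv hy hxy
  have hsf : ¬ Commute s f := fun h => hvf ((hs'.2 f hfx).2 h.symm).symm
  have hsx' : ¬ Commute s x' := fun h =>
    S.not_both hf hxf hx'm hx' hs'.1.1 (fun e => hsf e.symm) hs'.1.2.2 h.symm
  have hds := hA s hs'.1 hys.symm
  have hsy : s ∈ Perp D y := ⟨hs'.1.1, fun e => hxy (e ▸ hs'.1.2.2), hys⟩
  obtain ⟨s', hs'ne, hSS⟩ := S.exists_mate_eq htwo hy hsy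
  have hs'm : s' ∈ Cl D y s := by rw [hSS]; simp
  have hx's' : Commute x' s' := by
    obtain ⟨b, hb, hxb⟩ := S.exists_rep hy hsy hx'm.1.1 hyx'
    rw [hSS] at hb
    rcases hb with rfl | rfl
    exacts [absurd hxb.symm hsx', hxb]
  have hds' : ¬ Commute d s' := fun h =>
    S.not_both hy hsy hs'm hs'ne hd (fun e => hdy e.symm) hds.symm h.symm
  exact hdz' (S.triangle_commute htwo hx'm.1.1 hy (fun h => hyx' h.symm) hd hdx' hdy
    ⟨hs'm.1.1, fun e => hyx' (e ▸ hs'm.1.2.2), hx's'⟩ hs'm.1.2.2.symm hds')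

omit [Finite G] S htwo in
theorem word_apply (u : G) (y : D) : word D u y = if Commute u (y : G) then 0 else 1 := rfl

theorem Setting.word_add {u w : G} (hu : u ∈ D) (hw : w ∈ D) (hne : u ≠ w) :
    ∃ z ∈ D, word D u + word D w = word D z := by
  have hs := S.isClass.1
  by_cases hc : Commute u w
  · have hwu : w ∈ Perp D u := ⟨hw, hne.symm, hc⟩
    obtain ⟨b, hb, hB⟩ := S.exists_mate_eq htwo hu hwu
    have hbm : b ∈ Cl D u w := by rw [hB]; simp
    refine ⟨b, hbm.1.1, funext fun ⟨y, hy⟩ => ?_⟩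
    rw [Pi.add_apply, word_apply, word_apply, word_apply]
    by_cases huy : Commute u y
    · by_cases hyu : y = u
      · subst hyu
        simp [Commute.refl, hc.symm, hbm.1.2.2.symm]
      · have hiff : Commute w y ↔ Commute b y :=
          ⟨fun h => ((hbm.2 y ⟨hy, hyu, huy⟩).1 h.symm).symm,
            fun h => ((hbm.2 y ⟨hy, hyu, huy⟩).2 h.symm).symm⟩
        by_cases h : Commute w y
        · simp [huy, h, hiff.1 h]
        · have h' : ¬ Commute b y := fun hb' => h (hiff.2 hb')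
          simp [huy, h, h']
    · obtain ⟨c, hcm, hyc⟩ := S.exists_rep hu hwu hy huy
      have hnb := S.not_both hu hwu hbm hb hy huy
      rw [hB] at hcm
      rcases hcm with rfl | rfl
      · simp [huy, hyc.symm, hnb hyc.symm]
      · by_cases h : Commute w y
        · exact absurd hyc.symm (hnb h)
        · simp [huy, h, hyc.symm]; decide
  · refine ⟨u * w * u, self_conj_mem S.group hu hw, funext fun ⟨y, hy⟩ => ?_⟩
    rw [Pi.add_apply, word_apply, word_apply, word_apply]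
    have hflip : ∀ {p q : G}, p ∈ D → q ∈ D → ¬ Commute p q → Commute p y → ¬ Commute q y →
        ¬ Commute (p * q * p) y := by
      intro p q hp _ _ hpy hqy h
      apply hqy
      have := (commute_conj_iff p _ _).2 h
      rwa [inv_eq hs hp, show p * (p * q * p) * p = (p * p) * q * (p * p) by group, sq_one hs hp,
        one_mul, mul_one, hpy.eq, mul_assoc, sq_one hs hp, mul_one] at this
    by_cases huy : Commute u y <;> by_cases hwy : Commute w y
    · simp [huy, hwy, (huy.mul_left hwy).mul_left huy]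
    · simp [huy, hwy, hflip hu hw hc huy hwy]
    · have := hflip hw hu (fun h => hc h.symm) hwy huy
      rw [← braid hs hu hw hc] at this
      simp [huy, hwy, this]
    · simp [huy, hwy, (S.triangle htwo hu hw hc hy (fun h => huy h.symm) (fun h => hwy h.symm)).symm]
      decide

omit htwo in
theorem Setting.word_inj {u w : G} (hu : u ∈ D) (hw : w ∈ D) (h : word D u = word D w) :
    u = w := by
  have key : ∀ y ∈ D, Commute w y ↔ Commute u y := by
    intro y hy
    have := congrFun h ⟨y, hy⟩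
    rw [word_apply, word_apply] at this
    by_cases h1 : Commute u y <;> by_cases h2 : Commute w y <;> simp [h1, h2] at this ⊢
  have hm := ((vRel_iff S.group hu).1 ⟨hu, hw, key⟩).2
  rw [S.two, mem_bot] at hm
  rw [eq_inv_of_mul_eq_one_left hm, inv_eq S.isClass.1 hw]

/-- Lines with three points give a symplectic group. -/
theorem Setting.iso_symplectic :
    ∃ n : ℕ, 1 ≤ n ∧ ∃ e : G ≃* Matrix.symplecticGroup (Fin n) (ZMod 2),
      ∀ d ∈ D, ∃ v, v ≠ 0 ∧ e d = CfsgLib.Trans3.SpTrans.tr v := by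
  haveI : Finite ↥D := inferInstance
  have hs := S.isClass.1
  have hG := S.group
  obtain ⟨P, eP⟩ : ∃ P : AddSubgroup (D → ZMod 2),
      (P : Set (D → ZMod 2)) = {p | p = 0 ∨ ∃ u ∈ D, p = word D u} := by
    refine ⟨{
      carrier := {p | p = 0 ∨ ∃ u ∈ D, p = word D u}
      zero_mem' := Or.inl rfl
      add_mem' := ?_
      neg_mem' := ?_ }, rfl⟩
    · rintro p q (rfl | ⟨u, hu, rfl⟩) (rfl | ⟨w, hw, rfl⟩)
      · exact Or.inl (add_zero 0)
      · exact Or.inr ⟨w, hw, zero_add _⟩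
      · exact Or.inr ⟨u, hu, add_zero _⟩
      · by_cases h : u = w
        · subst h
          exact Or.inl (funext fun y => (by decide : ∀ t : ZMod 2, t + t = 0) _)
        · obtain ⟨z, hz, e⟩ := S.word_add htwo hu hw h
          exact Or.inr ⟨z, hz, e⟩
    · intro p hp
      rwa [show -p = p from funext fun y => (by decide : ∀ t : ZMod 2, -t = t) _]
  obtain ⟨V, eV⟩ : ∃ V : Submodule (ZMod 2) (D → ZMod 2), ∀ p, p ∈ V ↔ p ∈ P :=
    ⟨AddSubgroup.toZModSubmodule 2 P, fun _ => Iff.rfl⟩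
  have hmem : ∀ p, p ∈ V ↔ p = 0 ∨ ∃ u ∈ D, p = word D u := fun p => by
    rw [eV, ← SetLike.mem_coe, eP]; rfl
  have hne0 : ∀ u ∈ D, word D u ≠ 0 := by
    intro u hu h
    have hall : ∀ y ∈ D, Commute u y := fun y hy => by
      by_contra hc
      have := congrFun h ⟨y, hy⟩
      rw [word_apply, if_neg hc] at this
      exact one_ne_zero this
    have : u ∈ center G := by
      rw [mem_center_iff]
      intro g
      have hle : closure D ≤ centralizer {u} := (closure_le _).2 fun y hy =>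
        mem_centralizer_singleton_iff.2 (hall y hy).eq.symm
      exact mem_centralizer_singleton_iff.1 (hle (S.isClass.2.2 ▸ mem_top g))
    rw [S.centre, mem_bot] at this
    exact invol_ne_one (hs.1 u hu) this
  -- the point of a nonzero vector
  choose pt hpt using fun q : {q : ↥V // q ≠ 0} =>
    ((hmem (q.1 : D → ZMod 2)).1 q.1.2).resolve_left fun h => q.2 (Subtype.ext h)
  obtain ⟨β, eβ⟩ : ∃ β : ↥V → ↥V → ZMod 2, β = fun (p q : ↥V) =>
      if h : q = 0 then 0 else (p : D → ZMod 2) ⟨pt ⟨q, h⟩, (hpt ⟨q, h⟩).1⟩ := ⟨_, rfl⟩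
  have hβw : ∀ (p q : ↥V) (u w : G) (hw : w ∈ D), u ∈ D → (p : D → ZMod 2) = word D u →
      (q : D → ZMod 2) = word D w → β p q = word D u ⟨w, hw⟩ := by
    intro p q u w hw hu hp hq
    have hq0 : q ≠ 0 := fun e => hne0 w hw (by rw [← hq, e]; rfl)
    rw [eβ]
    simp only [dif_neg hq0]
    have : pt ⟨q, hq0⟩ = w := S.word_inj (hpt ⟨q, hq0⟩).1 hw ((hpt ⟨q, hq0⟩).2.symm.trans hq)
    simp only [this, hp]
  have hz : ∀ p, β p 0 = 0 := fun p => by rw [eβ]; simp
  have hz' : ∀ q, β 0 q = 0 := fun q => by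
    rw [eβ]; dsimp only; split_ifs <;> rfl
  have hsym : ∀ p q, β p q = β q p := by
    intro p q
    by_cases hp : p = 0
    · rw [hp, hz, hz']
    by_cases hq : q = 0
    · rw [hq, hz, hz']
    rw [hβw p q _ _ (hpt ⟨q, hq⟩).1 (hpt ⟨p, hp⟩).1 (hpt ⟨p, hp⟩).2 (hpt ⟨q, hq⟩).2,
      hβw q p _ _ (hpt ⟨p, hp⟩).1 (hpt ⟨q, hq⟩).1 (hpt ⟨q, hq⟩).2 (hpt ⟨p, hp⟩).2,
      word_apply, word_apply]
    exact if_congr ⟨Commute.symm, Commute.symm⟩ rfl rfl
  have hadd : ∀ p p' q, β (p + p') q = β p q + β p' q := by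
    intro p p' q
    rw [eβ]; dsimp only; split_ifs <;> simp
  obtain ⟨B, eB⟩ : ∃ B : ↥V →ₗ[ZMod 2] ↥V →ₗ[ZMod 2] ZMod 2, ∀ p q, B p q = β p q := by
    refine ⟨AddMonoidHom.toZModLinearMap 2 (AddMonoidHom.mk' (fun p =>
      AddMonoidHom.toZModLinearMap 2 (AddMonoidHom.mk' (β p) fun q q' => ?_)) fun p p' => ?_),
      fun p q => rfl⟩
    · rw [hsym, hadd, hsym q, hsym q']
    · exact LinearMap.ext fun q => hadd p p' q
  have halt : ∀ p, B p p = 0 := by
    intro p
    rw [eB]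
    by_cases hp : p = 0
    · rw [hp, hz]
    rw [hβw p p _ _ (hpt ⟨p, hp⟩).1 (hpt ⟨p, hp⟩).1 (hpt ⟨p, hp⟩).2 (hpt ⟨p, hp⟩).2, word_apply,
      if_pos (Commute.refl _)]
  have hwm : ∀ w ∈ D, word D w ∈ V := fun w hw => (hmem _).2 (Or.inr ⟨w, hw, rfl⟩)
  have hBw : ∀ (p : ↥V) w (hw : w ∈ D), B p ⟨_, hwm w hw⟩ = (p : D → ZMod 2) ⟨w, hw⟩ := by
    intro p w hw
    rw [eB]
    by_cases hp : p = 0
    · rw [hp, hz']; rfl
    rw [hβw p _ _ w hw (hpt ⟨p, hp⟩).1 (hpt ⟨p, hp⟩).2 rfl, (hpt ⟨p, hp⟩).2]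
  have hsep : ∀ p, (∀ q, B p q = 0) → p = 0 := by
    intro p hp
    apply Subtype.ext
    funext y
    rw [← hBw p y y.2, hp]
    rfl
  -- the action
  have hconjD : ∀ (g : G) (y : D), g⁻¹ * (y : G) * g ∈ D := fun g y => by
    simpa using hG.2.1 g⁻¹ _ y.2
  obtain ⟨A, eA⟩ : ∃ A : G → (D → ZMod 2) →ₗ[ZMod 2] (D → ZMod 2),
      ∀ g p y, A g p y = p ⟨g⁻¹ * (y : G) * g, hconjD g y⟩ :=
    ⟨fun g => LinearMap.funLeft (ZMod 2) (ZMod 2) fun y : D => ⟨g⁻¹ * (y : G) * g, hconjD g y⟩,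
      fun _ _ _ => rfl⟩
  have hAw : ∀ g u, A g (word D u) = word D (g * u * g⁻¹) := by
    intro g u
    funext y
    rw [eA, word_apply, word_apply]
    refine if_congr ?_ rfl rfl
    rw [← commute_conj_iff g u, show g * (g⁻¹ * (y : G) * g) * g⁻¹ = (y : G) by group]
  have hAV : ∀ g, ∀ p ∈ V, A g p ∈ V := by
    intro g p hp
    rcases (hmem p).1 hp with rfl | ⟨u, hu, rfl⟩
    · rw [map_zero]; exact zero_mem _
    · rw [hAw]; exact hwm _ (class_conj_mem S.isClass g hu)
  have hAmul : ∀ g h p, A (g * h) p = A g (A h p) := by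
    intro g h p
    funext y
    rw [eA, eA, eA]
    exact congrArg p (Subtype.ext (by group))
  have hA1 : ∀ p, A 1 p = p := by
    intro p
    funext y
    rw [eA]
    exact congrArg p (Subtype.ext (by simp))
  obtain ⟨act, eact⟩ : ∃ act : G → (↥V ≃ₗ[ZMod 2] ↥V), ∀ g p, (act g p : D → ZMod 2) = A g p := by
    refine ⟨fun g => LinearEquiv.ofLinear ((A g).restrict (hAV g)) ((A g⁻¹).restrict (hAV g⁻¹))
      ?_ ?_, fun g p => rfl⟩ <;>
    · refine LinearMap.ext fun p => Subtype.ext ?_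
      show A _ (A _ (p : D → ZMod 2)) = p
      rw [← hAmul]
      simp [hA1]
  have hiso : ∀ g, act g ∈ CfsgLib.Geom.formIsoms B := by
    intro g p q
    by_cases hq : q = 0
    · rw [hq, map_zero, map_zero, map_zero]
    obtain ⟨w, hw, hq'⟩ : ∃ w, w ∈ D ∧ (q : D → ZMod 2) = word D w := ⟨_, hpt ⟨q, hq⟩⟩
    have e1 : q = ⟨_, hwm _ hw⟩ := Subtype.ext hq'
    have e2 : act g q = ⟨_, hwm _ (class_conj_mem S.isClass g hw)⟩ :=
      Subtype.ext (by rw [eact, hq', hAw])
    rw [e2, hBw _ _ (class_conj_mem S.isClass g hw), e1, hBw _ _ hw, eact, eA]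
    exact congrArg (p : D → ZMod 2) (Subtype.ext (by group))
  obtain ⟨n, hn⟩ : ∃ n, Module.finrank (ZMod 2) ↥V = 2 * n := by
    obtain ⟨n, hn⟩ := CfsgLib.Geom.even_finrank_symp (F := ZMod 2) (Module.finrank (ZMod 2) ↥V) B halt
      hsep rfl
    exact ⟨n, by omega⟩
  obtain ⟨d₀, hd₀, -⟩ := S.big
  have hn1 : 1 ≤ n := by
    have : Nontrivial ↥V := ⟨⟨⟨_, hwm d₀ hd₀⟩, 0, fun e => hne0 d₀ hd₀ (congrArg Subtype.val e)⟩⟩
    have := Module.finrank_pos (R := ZMod 2) (M := ↥V)
    omega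
  obtain ⟨e, he⟩ := CfsgLib.Geom.exists_symp_isometry (2 * n) B
    (CfsgLib.Geom.sympBilin n (ZMod 2)) halt hsep CfsgLib.Geom.sympBilin_self
    CfsgLib.Geom.sympBilin_sep hn (by simp; omega)
  obtain ⟨φ, eφ⟩ : ∃ φ : G →* Matrix.symplecticGroup (Fin n) (ZMod 2), ∀ g, φ g =
      CfsgLib.Geom.spEquiv n (ZMod 2)
        (CfsgLib.Geom.formIsomsCongr B _ e he ⟨act g, hiso g⟩) :=
    ⟨((CfsgLib.Geom.spEquiv n (ZMod 2)).toMonoidHom.comp
      (CfsgLib.Geom.formIsomsCongr B _ e he).toMonoidHom).comp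
      (MonoidHom.mk' (fun g => (⟨act g, hiso g⟩ : CfsgLib.Geom.formIsoms B)) fun g h =>
        Subtype.ext (LinearEquiv.ext fun p => Subtype.ext (by
          show (act (g * h) p : D → ZMod 2) = (act g (act h p) : D → ZMod 2)
          rw [eact, eact, eact, hAmul]))), fun g => rfl⟩
  have hinj : Function.Injective φ := by
    rw [injective_iff_map_eq_one]
    intro g hg
    rw [eφ] at hg
    have h1 : (⟨act g, hiso g⟩ : CfsgLib.Geom.formIsoms B) = 1 :=
      (CfsgLib.Geom.formIsomsCongr B _ e he).injective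
        ((CfsgLib.Geom.spEquiv n (ZMod 2)).injective (hg.trans (map_one _).symm) |>.trans
          (map_one _).symm)
    have h2 : ∀ u ∈ D, g * u * g⁻¹ = u := fun u hu => by
      refine S.word_inj (class_conj_mem S.isClass g hu) hu ?_
      have := congrArg (fun f : CfsgLib.Geom.formIsoms B => ((f.1 ⟨_, hwm u hu⟩ : ↥V) : D → ZMod 2)) h1
      simpa [eact, hAw] using this
    rw [← mem_bot, ← S.centre, mem_center_iff]
    intro h
    have hle : closure D ≤ centralizer {g} := (closure_le _).2 fun y hy =>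
      mem_centralizer_singleton_iff.2 (mul_inv_eq_iff_eq_mul.1 (h2 y hy)).symm
    exact mem_centralizer_singleton_iff.1 (hle (S.isClass.2.2 ▸ mem_top h))
  -- members act as transvections
  have htr : ∀ d (hd : d ∈ D), φ d = CfsgLib.Trans3.SpTrans.tr (e ⟨_, hwm d hd⟩) := by
    intro d hd
    refine CfsgLib.Trans3.SpTrans.sp_ext fun x => ?_
    rw [eφ, CfsgLib.Geom.spEquiv_mulVec, CfsgLib.Trans3.SpTrans.tr_mulVec]
    obtain ⟨p, rfl⟩ := e.surjective x
    rw [he, ← map_smul, ← map_add]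
    show e (act d (e.symm (e p))) = _
    rw [e.symm_apply_apply]
    refine congrArg e (Subtype.ext ?_)
    show (act d p : D → ZMod 2) = (p : D → ZMod 2) + B p ⟨_, hwm d hd⟩ • word D d
    rw [eact, hBw p d hd]
    rcases (hmem p).1 p.2 with h | ⟨u, hu, h⟩
    · rw [h, map_zero]; simp
    rw [h, hAw, word_apply]
    by_cases hc : Commute u d
    · rw [if_pos hc, zero_smul, add_zero, conj_eq_of_commute hc.symm]
    · rw [if_neg hc, one_smul, inv_eq hs hd, ← braid hs hu hd hc]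
      have hud : u ≠ d := ne_of_not_commute hc
      funext y
      obtain ⟨y, hy⟩ := y
      rw [Pi.add_apply, word_apply, word_apply, word_apply]
      by_cases h1 : Commute u y <;> by_cases h2 : Commute d y
      · simp [h1, h2, (h1.mul_left h2).mul_left h1]
      · have : ¬ Commute (u * d * u) y := fun h => h2 (by
          have := (commute_conj_iff u _ _).2 h
          rwa [inv_eq hs hu, show u * (u * d * u) * u = (u * u) * d * (u * u) by group, sq_one hs hu,
            one_mul, mul_one, h1.eq, mul_assoc, sq_one hs hu, mul_one] at this)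
        simp [h1, h2, this]
      · have : ¬ Commute (u * d * u) y := fun h => h1 (by
          rw [braid hs hu hd hc] at h
          have := (commute_conj_iff d _ _).2 h
          rwa [inv_eq hs hd, show d * (d * u * d) * d = (d * d) * u * (d * d) by group, sq_one hs hd,
            one_mul, mul_one, h2.eq, mul_assoc, sq_one hs hd, mul_one] at this)
        simp [h1, h2, this]
      · simp [h1, h2, (S.triangle htwo hu hd hc hy (fun h => h1 h.symm) (fun h => h2 h.symm)).symm]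
        decide
  have hsurj : Function.Surjective φ := by
    rw [← MonoidHom.range_eq_top, eq_top_iff, ← CfsgLib.Geom.closure_sympTransvection, closure_le]
    rintro M ⟨w, c, hM⟩
    rcases (by decide : ∀ t : ZMod 2, t = 0 ∨ t = 1) c with rfl | rfl
    · have : M = 1 := CfsgLib.Trans3.SpTrans.sp_ext fun x => by
        rw [hM, CfsgLib.Geom.sympTransvection_mulVec]; simp
      rw [this]; exact one_mem _
    · have hM' : M = CfsgLib.Trans3.SpTrans.tr w := Subtype.ext hM
      rw [hM']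
      by_cases hw : w = 0
      · have : CfsgLib.Trans3.SpTrans.tr w = 1 := CfsgLib.Trans3.SpTrans.sp_ext fun x => by
          rw [CfsgLib.Trans3.SpTrans.tr_mulVec, hw]; simp
        rw [this]; exact one_mem _
      · obtain ⟨u, hu, h⟩ := ((hmem (e.symm w : D → ZMod 2)).1 (e.symm w).2).resolve_left fun h0 =>
          hw (by rw [← e.apply_symm_apply w, show e.symm w = 0 from Subtype.ext h0, map_zero])
        refine ⟨u, ?_⟩
        rw [htr u hu, show (⟨_, hwm u hu⟩ : ↥V) = e.symm w from Subtype.ext h.symm, e.apply_symm_apply]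
  refine ⟨n, hn1, MulEquiv.ofBijective φ ⟨hinj, hsurj⟩, fun d hd => ⟨e ⟨_, hwm d hd⟩, ?_, htr d hd⟩⟩
  intro h0
  exact hne0 d hd (congrArg Subtype.val (e.map_eq_zero_iff.1 h0))

end CfsgLib.FischerPolar
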