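import Cfsg.Agent.Lib.Golay.LeechBasic

/-! Counting lattice vectors by their values modulo the code. -/

set_option autoImplicit false
set_option maxRecDepth 100000

namespace CfsgLib.Golay

open Cfsg

/-- Number of functions from a `k`-set to the listed values, by multiplicities, with total
weight `n` and total `r`, the remainder being counted by `base`. -/
def nVal (q : ℤ → ℕ) : List ℤ → ℕ → ℕ → ℤ → (ℕ → ℤ → ℕ) → ℕ
  | [], k, n, r, base => if Nat.beq k 0 then base n r else 0
  | v :: vs, k, n, r, base =>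
    ((List.range (k + 1)).map fun j =>
      if Nat.ble (j * q v) n then
        Nat.choose k j * nVal q vs (k - j) (n - j * q v) (r - j * v) base else 0).sum

section Count

variable {ι : Type*} [Fintype ι] [DecidableEq ι]

/-- Functions with prescribed values, total weight and total modulo `M`. -/
def valSet (q : ℤ → ℕ) (M : ℤ) (T : ι → Finset ℤ) (n : ℕ) (r : ℤ) : Finset (ι → ℤ) :=
  (Fintype.piFinset T).filter fun f => ∑ i, q (f i) = n ∧ M ∣ (∑ i, f i) - r

theorem card_valSet_split {q : ℤ → ℕ} (hq : q 0 = 0) {M : ℤ} {T : ι → Finset ℤ}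
    {X : Finset ι} {v : ℤ} {V : Finset ℤ} (hv : v ∉ V) (hX : ∀ i ∈ X, T i = insert v V)
    (n : ℕ) (r : ℤ) :
    (valSet q M T n r).card = ∑ S ∈ X.powerset,
      if S.card * q v ≤ n then
        (valSet q M (fun i => if i ∈ S then {0} else if i ∈ X then V else T i)
          (n - S.card * q v) (r - S.card * v)).card
      else 0 := by
  classical
  rw [Finset.card_eq_sum_card_fiberwise (f := fun f => X.filter fun i => f i = v) (t := X.powerset)
    (fun f _ => Finset.mem_powerset.2 (Finset.filter_subset _ _))]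
  refine Finset.sum_congr rfl fun S hS => ?_
  rw [Finset.mem_powerset] at hS
  have hsum : ∀ (φ : ℤ → ℤ), φ 0 = 0 → ∀ f : ι → ℤ, (∀ i ∈ S, f i = v) →
      ∑ i, φ (f i) = (∑ i, φ (if i ∈ S then 0 else f i)) + S.card * φ v := by
    intro φ h0 f hf
    have : ∀ i, φ (f i) = φ (if i ∈ S then 0 else f i) + if i ∈ S then φ v else 0 := fun i => by
      split_ifs with h
      · rw [hf i h, h0, zero_add]
      · rw [add_zero]
    rw [Finset.sum_congr rfl fun i _ => this i, Finset.sum_add_distrib, Finset.sum_ite_mem,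
      Finset.univ_inter, Finset.sum_const, nsmul_eq_mul]
  have hq' : ∀ f : ι → ℤ, (∀ i ∈ S, f i = v) →
      ∑ i, q (f i) = (∑ i, q (if i ∈ S then 0 else f i)) + S.card * q v := by
    intro f hf
    have := hsum (fun x => (q x : ℤ)) (by simp [hq]) f hf
    exact_mod_cast this
  by_cases hle : S.card * q v ≤ n
  · rw [if_pos hle]
    refine Finset.card_nbij' (fun f i => if i ∈ S then 0 else f i)
      (fun g i => if i ∈ S then v else g i) ?_ ?_ ?_ ?_
    · intro f hf
      simp only [valSet, Finset.coe_filter, Set.mem_setOf_eq, Finset.mem_filter,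
        Fintype.mem_piFinset] at hf ⊢
      obtain ⟨⟨hT, hn, hr⟩, hfib⟩ := hf
      have hfS : ∀ i ∈ S, f i = v := fun i hi => by
        rw [← hfib, Finset.mem_filter] at hi; exact hi.2
      refine ⟨fun i => ?_, ?_, ?_⟩
      · by_cases hi : i ∈ S
        · simp [hi]
        · simp only [if_neg hi]
          by_cases hiX : i ∈ X
          · have := hT i
            rw [hX i hiX, Finset.mem_insert] at this
            rw [if_pos hiX]
            refine this.resolve_left fun e => hi ?_
            rw [← hfib, Finset.mem_filter]; exact ⟨hiX, e⟩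
          · rw [if_neg hiX]; exact hT i
      · rw [hq' f hfS] at hn; omega
      · have := hsum id rfl f hfS
        simp only [id] at this
        rw [this] at hr
        convert hr using 1
        ring
    · intro g hg
      simp only [valSet, Finset.coe_filter, Set.mem_setOf_eq, Finset.mem_filter,
        Fintype.mem_piFinset] at hg ⊢
      obtain ⟨hT, hn, hr⟩ := hg
      have hg0 : ∀ i ∈ S, g i = 0 := fun i hi => by simpa [hi] using hT i
      have hgS : ∀ i, (if i ∈ S then (0 : ℤ) else if i ∈ S then v else g i) = g i := fun i => by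
        by_cases hi : i ∈ S
        · simp [hi, hg0 i hi]
        · simp [hi]
      have hfS : ∀ i ∈ S, (fun i => if i ∈ S then v else g i) i = v := fun i hi => by simp [hi]
      refine ⟨⟨fun i => ?_, ?_, ?_⟩, ?_⟩
      · by_cases hi : i ∈ S
        · simp [hi, hX i (hS hi)]
        · have := hT i
          simp only [if_neg hi] at this ⊢
          by_cases hiX : i ∈ X
          · rw [if_pos hiX] at this; rw [hX i hiX]; exact Finset.mem_insert_of_mem this
          · rwa [if_neg hiX] at this
      · rw [hq' _ hfS]; simp only [hgS]; omega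
      · have := hsum id rfl _ hfS
        simp only [id, hgS] at this
        rw [this]
        convert hr using 1
        ring
      · ext i
        rw [Finset.mem_filter]
        constructor
        · rintro ⟨hiX, e⟩
          by_contra hi
          simp only [if_neg hi] at e
          have := hT i
          rw [if_neg hi, if_pos hiX, e] at this
          exact hv this
        · intro hi; exact ⟨hS hi, by simp [hi]⟩
    · intro f hf
      simp only [valSet, Finset.coe_filter, Set.mem_setOf_eq, Finset.mem_filter] at hf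
      funext i
      by_cases hi : i ∈ S
      · have hi' := hi
        rw [← hf.2, Finset.mem_filter] at hi'
        simp [hi, hi'.2]
      · simp [hi]
    · intro g hg
      simp only [valSet, Finset.coe_filter, Set.mem_setOf_eq, Fintype.mem_piFinset] at hg
      funext i
      by_cases hi : i ∈ S
      · have : g i = 0 := by simpa [hi] using hg.1 i
        simp [hi, this]
      · simp [hi]
  · rw [if_neg hle, Finset.card_eq_zero, Finset.filter_eq_empty_iff]
    intro f hf hfib
    simp only [valSet, Finset.mem_filter, Fintype.mem_piFinset] at hf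
    have hfS : ∀ i ∈ S, f i = v := fun i hi => by
      rw [← hfib, Finset.mem_filter] at hi; exact hi.2
    have := hq' f hfS
    omega

theorem card_valSet {q : ℤ → ℕ} (hq : q 0 = 0) {M : ℤ} : ∀ (vals : List ℤ), vals.Nodup →
    ∀ (T : ι → Finset ℤ) (X : Finset ι), (∀ i ∈ X, T i = vals.toFinset) → ∀ (n : ℕ) (r : ℤ),
    (valSet q M T n r).card = nVal q vals X.card n r
      (fun n r => (valSet q M (fun i => if i ∈ X then {0} else T i) n r).card)
  | [], _, T, X, hX, n, r => by
    rcases X.eq_empty_or_nonempty with rfl | ⟨i, hi⟩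
    · simp [nVal]
    · rw [nVal, if_neg (by simp [Nat.beq_eq, Finset.ne_empty_of_mem hi]), Finset.card_eq_zero,
        valSet, Finset.filter_eq_empty_iff]
      intro f hf
      rw [Fintype.mem_piFinset] at hf
      simpa [hX i hi] using hf i
  | v :: vs, hnd, T, X, hX, n, r => by
    rw [List.nodup_cons] at hnd
    rw [card_valSet_split hq (V := vs.toFinset) (by simpa using hnd.1)
      (fun i hi => by rw [hX i hi, List.toFinset_cons]) n r, nVal]
    have hstep : ∀ S ∈ X.powerset,
        (if S.card * q v ≤ n then (valSet q M (fun i => if i ∈ S then {0} else if i ∈ X then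
            vs.toFinset else T i) (n - S.card * q v) (r - S.card * v)).card else 0) =
        (fun j => if Nat.ble (j * q v) n then nVal q vs (X.card - j) (n - j * q v) (r - j * v)
          (fun n r => (valSet q M (fun i => if i ∈ X then {0} else T i) n r).card) else 0) S.card := by
      intro S hS
      rw [Finset.mem_powerset] at hS
      simp only [Nat.ble_eq]
      refine if_congr Iff.rfl ?_ rfl
      rw [card_valSet hq vs hnd.2 _ (X \ S) (fun i hi => by
        rw [Finset.mem_sdiff] at hi; simp [hi.1, hi.2]), Finset.card_sdiff_of_subset hS]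
      congr 1
      funext n' r'
      congr 2
      funext i
      by_cases hi : i ∈ S
      · simp [hi, hS hi]
      · by_cases hiX : i ∈ X <;> simp [hi, hiX]
    rw [Finset.sum_congr rfl hstep, Finset.sum_powerset_apply_card (fun j =>
      if Nat.ble (j * q v) n then nVal q vs (X.card - j) (n - j * q v) (r - j * v)
        (fun n r => (valSet q M (fun i => if i ∈ X then {0} else T i) n r).card) else 0),
      ← List.sum_toFinset _ List.nodup_range, List.toFinset_range]
    refine Finset.sum_congr rfl fun j _ => ?_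
    split_ifs <;> simp

end Count

/-- Weight of a value. -/
def sqW (v : ℤ) : ℕ := v.natAbs * v.natAbs

/-- Base of the count: nothing left. -/
def delta (M : ℤ) (n : ℕ) (r : ℤ) : ℕ := if n = 0 ∧ r % M = 0 then 1 else 0

/-- Tuples with values in `V1` on `w` coordinates and in `V0` on the others. -/
def cnt2 (V1 V0 : List ℤ) (M : ℤ) (w n : ℕ) (r : ℤ) : ℕ :=
  nVal sqW V1 w n r fun n r => nVal sqW V0 (24 - w) n r (delta M)

/-- `cnt2` summed over the words of the code. -/
def cntCode (V1 V0 : List ℤ) (M : ℤ) (n : ℕ) (r : ℤ) : ℕ :=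
  1 * cnt2 V1 V0 M 0 n r + 759 * cnt2 V1 V0 M 8 n r + 2576 * cnt2 V1 V0 M 12 n r +
    759 * cnt2 V1 V0 M 16 n r + 1 * cnt2 V1 V0 M 24 n r

theorem valSet_zero_card (M : ℤ) (n : ℕ) (r : ℤ) :
    (valSet sqW M (fun _ : GolayPt => {(0 : ℤ)}) n r).card = delta M n r := by
  rw [valSet, Fintype.piFinset_singleton, Finset.filter_singleton]
  have e : M ∣ 0 - r ↔ r % M = 0 := by rw [zero_sub, dvd_neg, Int.dvd_iff_emod_eq_zero]
  simp only [sqW, Int.natAbs_zero, mul_zero, Finset.sum_const_zero, delta, e,
    eq_comm (a := (0 : ℕ))]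
  split_ifs with h <;> simp

theorem card_valSet_word (V1 V0 : List ℤ) (h1 : V1.Nodup) (h0 : V0.Nodup) (M : ℤ) (c : ℕ)
    (n : ℕ) (r : ℤ) :
    (valSet sqW M (fun i => if i ∈ mset c then V1.toFinset else V0.toFinset) n r).card =
      cnt2 V1 V0 M (pop c) n r := by
  rw [card_valSet (by rfl) V1 h1 _ (mset c) (fun i hi => if_pos hi), cnt2, card_mset]
  congr 1
  funext n r
  rw [card_valSet (by rfl) V0 h0 _ (mset c)ᶜ (fun i hi => by
    rw [Finset.mem_compl] at hi; simp [hi]), Finset.card_compl, card_mset]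
  congr 1
  funext n r
  rw [← valSet_zero_card]
  congr 2
  funext i
  by_cases hi : i ∈ mset c <;> simp [hi]

theorem code_weight_count :
    (codeList.filter fun m => Nat.beq (pop m) 0).length = 1 ∧
    (codeList.filter fun m => Nat.beq (pop m) 8).length = 759 ∧
    (codeList.filter fun m => Nat.beq (pop m) 12).length = 2576 ∧
    (codeList.filter fun m => Nat.beq (pop m) 16).length = 759 ∧
    (codeList.filter fun m => Nat.beq (pop m) 24).length = 1 := by decide +kernel

theorem sum_code (f : ℕ → ℕ) :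
    ∑ c ∈ codeList.toFinset, f (pop c) =
      1 * f 0 + 759 * f 8 + 2576 * f 12 + 759 * f 16 + 1 * f 24 := by
  have hp : ∀ c ∈ codeList.toFinset, pop c ∈ ({0, 8, 12, 16, 24} : Finset ℕ) := fun c hc => by
    rw [List.mem_toFinset, mem_codeList] at hc
    rcases supports_card (mem_supports_iff.2 ⟨c, hc, rfl⟩) with e | e | e | e | e <;>
      rw [card_mset] at e <;> rw [e] <;> decide
  rw [← Finset.sum_fiberwise_of_maps_to' hp f]
  have hl : ∀ k, (codeList.toFinset.filter fun c => pop c = k).card =
      (codeList.filter fun m => Nat.beq (pop m) k).length := fun k => by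
    rw [← List.toFinset_card_of_nodup (codeList_nodup.filter _)]
    refine congrArg Finset.card (Finset.ext fun c => ?_)
    simp only [Finset.mem_filter, List.mem_toFinset, List.mem_filter, Nat.beq_eq]
  simp only [Finset.sum_const, smul_eq_mul]
  rw [Finset.sum_insert (by decide), Finset.sum_insert (by decide), Finset.sum_insert (by decide),
    Finset.sum_insert (by decide), Finset.sum_singleton]
  obtain ⟨a, b, c, d, e⟩ := code_weight_count
  rw [hl, hl, hl, hl, hl, a, b, c, d, e]
  ring

/-- Tuples whose class of coordinates is a word of the code, as a set. -/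
theorem ncard_word_fibred (V1 V0 : List ℤ) (h1 : V1.Nodup) (h0 : V0.Nodup)
    (hd : ∀ a ∈ V1, a ∉ V0) (M : ℤ) (n : ℕ) (r : ℤ) :
    {a : GolayPt → ℤ | (∃ c ∈ supports (golayCode : Set (GolayPt → ZMod 2)),
      ∀ i, (i ∈ c → a i ∈ V1) ∧ (i ∉ c → a i ∈ V0)) ∧
      ∑ i, sqW (a i) = n ∧ M ∣ (∑ i, a i) - r}.ncard = cntCode V1 V0 M n r := by
  classical
  let G : ℕ → Finset (GolayPt → ℤ) := fun c =>
    valSet sqW M (fun i => if i ∈ mset c then V1.toFinset else V0.toFinset) n r
  have hset : {a : GolayPt → ℤ | (∃ c ∈ supports (golayCode : Set (GolayPt → ZMod 2)),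
      ∀ i, (i ∈ c → a i ∈ V1) ∧ (i ∉ c → a i ∈ V0)) ∧
      ∑ i, sqW (a i) = n ∧ M ∣ (∑ i, a i) - r} = ↑(codeList.toFinset.biUnion G) := by
    ext a
    simp only [Set.mem_setOf_eq, Finset.coe_biUnion, Set.mem_iUnion, exists_prop, Finset.mem_coe,
      List.mem_toFinset, mem_codeList, G, valSet, Finset.mem_filter, Fintype.mem_piFinset]
    constructor
    · rintro ⟨⟨_, hs', ha⟩, h⟩
      obtain ⟨c, hc', rfl⟩ := mem_supports_iff.1 hs'
      refine ⟨c, hc', fun i => ?_, h⟩
      by_cases hi : i ∈ mset c
      · rw [if_pos hi, List.mem_toFinset]; exact (ha i).1 hi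
      · rw [if_neg hi, List.mem_toFinset]; exact (ha i).2 hi
    · rintro ⟨c, hc, ha, h⟩
      refine ⟨⟨mset c, mem_supports_iff.2 ⟨c, hc, rfl⟩, fun i => ?_⟩, h⟩
      have := ha i
      constructor <;> intro hi
      · rw [if_pos hi] at this; exact List.mem_toFinset.1 this
      · rw [if_neg hi] at this; exact List.mem_toFinset.1 this
  rw [hset, Set.ncard_coe_finset, Finset.card_biUnion]
  · simp only [G, card_valSet_word V1 V0 h1 h0]
    exact sum_code fun w => cnt2 V1 V0 M w n r
  · intro c hc c' hc' hne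
    rw [Function.onFun, Finset.disjoint_left]
    intro a ha ha'
    simp only [G, valSet, Finset.mem_filter, Fintype.mem_piFinset] at ha ha'
    simp only [List.coe_toFinset, Set.mem_setOf_eq, mem_codeList] at hc hc'
    refine hne (mset_inj (isCode_lt hc) (isCode_lt hc') (Finset.ext fun i => ?_))
    have u := ha.1 i
    have u' := ha'.1 i
    by_cases hi : i ∈ mset c <;> by_cases hi' : i ∈ mset c' <;>
      simp only [hi, hi', if_true, if_false, List.mem_toFinset] at u u' ⊢
    · exact absurd u' (hd _ u)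
    · exact absurd u (hd _ u')

/-- Shape of the all-even lattice vectors. -/
theorem even_mem_iff {a : GolayPt → ℤ} :
    (fun i => 2 * a i) ∈ leechLattice ↔ mod2 a ∈ golayCode ∧ (4 : ℤ) ∣ ∑ i, a i := by
  constructor
  · intro h
    obtain ⟨m, b, h1, h2, h3⟩ := mem_leechLattice_iff.1 h
    have hm : m % 2 = 0 := by
      have := h1 none
      simp only at this
      omega
    have ha : ∀ i, a i = m / 2 + b i := fun i => by
      have := h1 i
      simp only at this
      omega
    have e : mod2 a = mod2 b + ((m / 2 : ℤ) : ZMod 2) • 1 := by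
      funext i; simp [mod2, ha i, add_comm]
    refine ⟨?_, ?_⟩
    · rw [e]
      exact Submodule.add_mem _ h2 (Submodule.smul_mem _ _
        (Submodule.subset_span (Set.mem_union_right _ rfl)))
    · rw [Finset.sum_congr rfl fun i _ => ha i, Finset.sum_add_distrib, Finset.sum_const,
        Finset.card_univ]
      simp [-Fintype.sum_option]
      generalize ∑ i, b i = s at h3 ⊢
      omega
  · rintro ⟨h2, h3⟩
    exact mem_leechLattice_iff.2 ⟨0, a, fun i => by simp, h2, by simpa using h3⟩

/-- Shape of the all-odd lattice vectors. -/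
theorem odd_mem_iff {x : GolayPt → ℤ} (hx : ∀ i, x i % 2 = 1) :
    x ∈ leechLattice ↔
      (Finset.univ.filter fun i => x i % 4 = 3) ∈ supports (golayCode : Set (GolayPt → ZMod 2)) ∧
        (8 : ℤ) ∣ (∑ i, x i) - 4 := by
  constructor
  · intro h
    obtain ⟨m, b, h1, h2, h3⟩ := mem_leechLattice_iff.1 h
    have hm : m % 2 = 1 := by have := hx none; have := h1 none; omega
    refine ⟨?_, ?_⟩
    · have e : (Finset.univ.filter fun i => x i % 4 = 3) =
          support₂ (mod2 b + (((m - 1) / 2 : ℤ) : ZMod 2) • 1) := by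
        ext i
        have := h1 i
        rw [show mod2 b + (((m - 1) / 2 : ℤ) : ZMod 2) • (1 : GolayPt → ZMod 2) =
          mod2 (fun i => b i + (m - 1) / 2) by funext j; simp [mod2], mem_support_mod2]
        simp only [Finset.mem_filter, Finset.mem_univ, true_and]
        omega
      rw [e, mem_supports_word]
      exact Submodule.add_mem _ h2 (Submodule.smul_mem _ _
        (Submodule.subset_span (Set.mem_union_right _ rfl)))
    · rw [sum_rep h1]
      generalize ∑ i, b i = s at h3 ⊢
      omega
  · rintro ⟨hc, hs⟩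
    refine mem_leechLattice_iff.2 ⟨1, fun i => (x i - 1) / 2, fun i => by have := hx i; simp only; omega, ?_, ?_⟩
    · rw [← mem_supports_word]
      convert hc using 1
      ext i
      have := hx i
      rw [mem_support_mod2]
      simp only [Finset.mem_filter, Finset.mem_univ, true_and]
      omega
    · have e := sum_rep (x := x) (m := 1) (a := fun i => (x i - 1) / 2)
        (fun i => by have := hx i; omega)
      simp only at e ⊢
      generalize ∑ i, (x i - 1) / 2 = s at e ⊢
      generalize ∑ i, x i = t at e hs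
      omega

theorem parity_cases {x : GolayPt → ℤ} (hx : x ∈ leechLattice) :
    (∀ i, x i % 2 = 0) ∨ (∀ i, x i % 2 = 1) := by
  obtain ⟨m, a, h1, -, -⟩ := mem_leechLattice_iff.1 hx
  rcases Int.emod_two_eq_zero_or_one m with h | h
  · exact Or.inl fun i => by have := h1 i; omega
  · exact Or.inr fun i => by have := h1 i; omega

theorem sqW_cast (v : ℤ) : (sqW v : ℤ) = v ^ 2 := by
  simp [sqW, sq]

/-- Even vectors with bounded entries. -/
theorem ncard_even (V1 V0 : List ℤ) (h1 : V1.Nodup) (h0 : V0.Nodup)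
    (hV1 : ∀ a ∈ V1, a % 2 = 1) (hV0 : ∀ a ∈ V0, a % 2 = 0) (n : ℕ) :
    {x : GolayPt → ℤ | x ∈ leechLattice ∧ sqNorm x = 4 * (n : ℤ) ∧
      ∀ i, 2 ∣ x i ∧ (x i / 2 ∈ V1 ∨ x i / 2 ∈ V0)}.ncard = cntCode V1 V0 4 n 0 := by
  rw [← ncard_word_fibred V1 V0 h1 h0 (fun a ha ha' => by
    have := hV1 a ha; have := hV0 a ha'; omega)]
  refine Set.ncard_congr (fun x _ i => x i / 2) ?_ ?_ ?_
  · rintro x ⟨hx, hn, hall⟩
    have hx2 : ∀ i, x i = 2 * (x i / 2) := fun i => (Int.mul_ediv_cancel' (hall i).1).symm
    have hx' : (fun i => 2 * (x i / 2)) ∈ leechLattice := by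
      convert hx using 1; funext i; exact (hx2 i).symm
    obtain ⟨hw, hs⟩ := even_mem_iff.1 hx'
    refine ⟨⟨_, mem_supports_word.2 hw, fun i => ?_⟩, ?_, by simpa using hs⟩
    · rw [mem_support_mod2]
      rcases (hall i).2 with h | h
      · exact ⟨fun _ => h, fun hne => absurd (hV1 _ h) hne⟩
      · exact ⟨fun he => absurd (hV0 _ h) (by omega), fun _ => h⟩
    · have e : sqNorm x = 4 * ((∑ i, sqW (x i / 2) : ℕ) : ℤ) := by
        rw [sqNorm, Nat.cast_sum, Finset.mul_sum]
        refine Finset.sum_congr rfl fun i _ => ?_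
        rw [sqW_cast]; conv_lhs => rw [hx2 i]
        ring
      simp only
      omega
  · intro x y hx hy h
    funext i
    have := congrFun h i
    have := (hx.2.2 i).1
    have := (hy.2.2 i).1
    omega
  · rintro a ⟨⟨c, hc, ha⟩, hn, hs⟩
    refine ⟨fun i => 2 * a i, ⟨even_mem_iff.2 ⟨?_, by simpa using hs⟩, ?_, fun i => ?_⟩, ?_⟩
    · rw [← mem_supports_word]
      convert hc using 1
      ext i
      rw [mem_support_mod2]
      by_cases hi : i ∈ c
      · simp [hi, hV1 _ ((ha i).1 hi)]
      · simp [hi, hV0 _ ((ha i).2 hi)]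
    · rw [sqNorm, ← hn, Nat.cast_sum, Finset.mul_sum]
      refine Finset.sum_congr rfl fun i _ => ?_
      rw [sqW_cast]; ring
    · refine ⟨Dvd.intro _ rfl, ?_⟩
      rw [Int.mul_ediv_cancel_left _ (by norm_num : (2 : ℤ) ≠ 0)]
      by_cases hi : i ∈ c
      · exact Or.inl ((ha i).1 hi)
      · exact Or.inr ((ha i).2 hi)
    · funext i; simp

/-- Odd vectors with bounded entries. -/
theorem ncard_odd (V1 V0 : List ℤ) (h1 : V1.Nodup) (h0 : V0.Nodup)
    (hV1 : ∀ a ∈ V1, a % 4 = 3) (hV0 : ∀ a ∈ V0, a % 4 = 1) (n : ℕ) :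
    {x : GolayPt → ℤ | x ∈ leechLattice ∧ sqNorm x = (n : ℤ) ∧
      ∀ i, x i ∈ V1 ∨ x i ∈ V0}.ncard = cntCode V1 V0 8 n 4 := by
  rw [← ncard_word_fibred V1 V0 h1 h0 (fun a ha ha' => by
    have := hV1 a ha; have := hV0 a ha'; omega)]
  congr 1
  ext x
  simp only [Set.mem_setOf_eq]
  have hn : sqNorm x = ((∑ i, sqW (x i) : ℕ) : ℤ) := by
    rw [sqNorm, Nat.cast_sum]; exact Finset.sum_congr rfl fun i _ => (sqW_cast _).symm
  constructor
  · rintro ⟨hx, he, hall⟩
    have hodd : ∀ i, x i % 2 = 1 := fun i => by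
      rcases hall i with h | h
      · have := hV1 _ h; omega
      · have := hV0 _ h; omega
    obtain ⟨hc, hs⟩ := (odd_mem_iff hodd).1 hx
    refine ⟨⟨_, hc, fun i => ?_⟩, by omega, hs⟩
    simp only [Finset.mem_filter, Finset.mem_univ, true_and]
    rcases hall i with h | h
    · exact ⟨fun _ => h, fun hne => absurd (hV1 _ h) hne⟩
    · exact ⟨fun he => absurd (hV0 _ h) (by omega), fun _ => h⟩
  · rintro ⟨⟨c, hc, ha⟩, hsum, hs⟩
    have hall : ∀ i, x i ∈ V1 ∨ x i ∈ V0 := fun i => by
      by_cases hi : i ∈ c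
      · exact Or.inl ((ha i).1 hi)
      · exact Or.inr ((ha i).2 hi)
    have hodd : ∀ i, x i % 2 = 1 := fun i => by
      rcases hall i with h | h
      · have := hV1 _ h; omega
      · have := hV0 _ h; omega
    refine ⟨(odd_mem_iff hodd).2 ⟨?_, hs⟩, by omega, hall⟩
    convert hc using 1
    ext i
    simp only [Finset.mem_filter, Finset.mem_univ, true_and]
    by_cases hi : i ∈ c
    · simp [hi, hV1 _ ((ha i).1 hi)]
    · simp [hi, hV0 _ ((ha i).2 hi)]

theorem abs_entry_le {x : GolayPt → ℤ} {N B : ℤ} (hB : 0 ≤ B) (hN : N < (B + 1) ^ 2)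
    (h : sqNorm x = N) (i : GolayPt) : -B ≤ x i ∧ x i ≤ B := by
  have hi : x i ^ 2 ≤ N := by
    rw [← h]
    exact Finset.single_le_sum (f := fun i => x i ^ 2) (fun j _ => sq_nonneg _) (Finset.mem_univ i)
  constructor <;> nlinarith

/-- All even vectors of sum of squares at most 64. -/
theorem ncard_even_all (n : ℕ) (hn : n ≤ 16) :
    {x : GolayPt → ℤ | x ∈ leechLattice ∧ sqNorm x = 4 * (n : ℤ) ∧ ∀ i, x i % 2 = 0}.ncard =
      cntCode [3, -3, 1, -1] [4, -4, 2, -2, 0] 4 n 0 := by
  rw [← ncard_even _ _ (by decide) (by decide) (by decide) (by decide)]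
  congr 1
  ext x
  simp only [Set.mem_setOf_eq]
  refine and_congr_right fun _ => and_congr_right fun he => ⟨fun h i => ?_, fun h i => ?_⟩
  · obtain ⟨a, b⟩ := abs_entry_le (B := 8) (by norm_num) (by omega) he i
    have := h i
    refine ⟨Int.dvd_of_emod_eq_zero this, ?_⟩
    have e : x i / 2 ∈ Finset.Icc (-4 : ℤ) 4 := Finset.mem_Icc.2 (by omega)
    revert e
    generalize x i / 2 = v
    intro e
    fin_cases e <;> decide
  · exact Int.emod_eq_zero_of_dvd (h i).1

/-- All odd vectors of sum of squares at most 64. -/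
theorem ncard_odd_all (n : ℕ) (hn : n ≤ 64) :
    {x : GolayPt → ℤ | x ∈ leechLattice ∧ sqNorm x = (n : ℤ) ∧ ∀ i, x i % 2 = 1}.ncard =
      cntCode [7, -5, 3, -1] [-7, 5, -3, 1] 8 n 4 := by
  rw [← ncard_odd _ _ (by decide) (by decide) (by decide) (by decide)]
  congr 1
  ext x
  simp only [Set.mem_setOf_eq]
  refine and_congr_right fun _ => and_congr_right fun he => ⟨fun h i => ?_, fun h i => ?_⟩
  · obtain ⟨a, b⟩ := abs_entry_le (B := 8) (by norm_num) (by omega) he i
    have h2 := h i
    have e : x i ∈ Finset.Icc (-8 : ℤ) 8 := Finset.mem_Icc.2 ⟨a, b⟩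
    revert h2 e
    generalize x i = v
    intro h2 e
    fin_cases e <;> first | decide | simp at h2
  · rcases h i with h | h <;> revert h <;> generalize x i = v <;> intro h <;>
      fin_cases h <;> decide

theorem finite_norm (N : ℤ) :
    {x : GolayPt → ℤ | x ∈ leechLattice ∧ sqNorm x = N}.Finite := by
  refine (Fintype.piFinset fun _ : GolayPt => Finset.Icc (-|N|) |N|).finite_toSet.subset ?_
  rintro x ⟨-, hx⟩
  rw [Finset.mem_coe, Fintype.mem_piFinset]
  intro i
  have := abs_entry_le (x := x) (N := N) (B := |N|) (abs_nonneg _)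
    (by nlinarith [le_abs_self N, abs_nonneg N]) hx i
  exact Finset.mem_Icc.2 this

/-- The number of lattice vectors of sum of squares `4 n ≤ 64`. -/
theorem ncard_norm (n : ℕ) (hn : n ≤ 16) :
    {x : GolayPt → ℤ | x ∈ leechLattice ∧ sqNorm x = 4 * (n : ℤ)}.ncard =
      cntCode [3, -3, 1, -1] [4, -4, 2, -2, 0] 4 n 0 +
        cntCode [7, -5, 3, -1] [-7, 5, -3, 1] 8 (4 * n) 4 := by
  rw [← ncard_even_all n hn, ← ncard_odd_all (4 * n) (by omega), ← Set.ncard_union_eq ?_
    ((finite_norm (4 * (n : ℤ))).subset fun x h => ⟨h.1, h.2.1⟩)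
    ((finite_norm (((4 * n : ℕ) : ℤ))).subset fun x h => ⟨h.1, h.2.1⟩)]
  · congr 1
    ext x
    simp only [Set.mem_setOf_eq, Set.mem_union, Nat.cast_mul, Nat.cast_ofNat]
    constructor
    · rintro ⟨hx, he⟩
      rcases parity_cases hx with h | h
      · exact Or.inl ⟨hx, he, h⟩
      · exact Or.inr ⟨hx, he, h⟩
    · rintro (⟨hx, he, -⟩ | ⟨hx, he, -⟩) <;> exact ⟨hx, he⟩
  · rw [Set.disjoint_left]
    rintro x ⟨-, -, h⟩ ⟨-, -, h'⟩
    have := h none; have := h' none; omega

end CfsgLib.Golay
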