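import Cfsg.Agent.Lib.Golay.RootlessLattice
import Cfsg.Agent.Lib.Golay.LeechCount
import Cfsg.Agent.Lib.Golay.SteinerIso

/-! An even lattice of rank 24 without roots, with 196560 vectors of norm 4 and an orthogonal
frame of congruent norm 8 vectors, is the lattice of the code. -/

set_option autoImplicit false
set_option maxRecDepth 100000

namespace CfsgLib.Golay

open Cfsg

theorem dotInt_comm (x y : GolayPt → ℤ) : dotInt x y = dotInt y x := by
  simp [dotInt, mul_comm]

theorem dotInt_self (x : GolayPt → ℤ) : dotInt x x = sqNorm x := by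
  simp [dotInt, sqNorm, sq]

theorem mod2_eq_iff {a a' : GolayPt → ℤ} : mod2 a = mod2 a' ↔ ∀ i, (2 : ℤ) ∣ a i - a' i := by
  rw [funext_iff]
  refine forall_congr' fun i => ?_
  simp only [mod2]
  rw [← sub_eq_zero, ← Int.cast_sub, ZMod.intCast_zmod_eq_zero_iff_dvd]; norm_num

theorem golay_golayLike : GolayLike golayCode := by
  refine ⟨by simp, Cfsg.Agent.S0358.result, fun v hv w hw => golayCode_orth hv hw,
    fun w hw => ?_, fun w hw => ?_⟩ <;>
  rcases supports_card (mem_supports_word.2 hw) with e | e | e | e | e <;> rw [e] <;> norm_num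

/-- Vectors with two entries `±4` and the others zero. -/
def fourFour : Finset (GolayPt → ℤ) :=
  valSet sqW 1 (fun _ => ([4, -4, 0] : List ℤ).toFinset) 32 0

theorem fourFour_card : fourFour.card = 1104 := by
  rw [fourFour, card_valSet (by rfl) [4, -4, 0] (by decide) _ Finset.univ (fun i _ => rfl)]
  simp only [Finset.mem_univ, if_true, valSet_zero_card, Finset.card_univ, Fintype.card_option,
    ZMod.card]
  decide +kernel

namespace Rootless

variable {L : Type*} [AddCommGroup L] (R : Rootless L)

/-- A frame: 24 congruent orthogonal vectors of norm 8. -/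
structure IsFrame (f : GolayPt → L) : Prop where
  norm : ∀ k, R.q (f k) = 8
  orth : ∀ j k, j ≠ k → R.b (f j) (f k) = 0
  congr : ∀ j k, R.cls (f j) = R.cls (f k)

variable {R} {f : GolayPt → L}

/-- Coordinates with respect to a frame. -/
def frameCoord (_hf : R.IsFrame f) : L →+ (GolayPt → ℤ) where
  toFun v k := R.b v (f k)
  map_zero' := by funext k; simp
  map_add' x y := by funext k; simp

theorem frameCoord_apply (hf : R.IsFrame f) (v : L) (k : GolayPt) :
    frameCoord hf v k = R.b v (f k) := rfl

theorem frame_expand (hf : R.IsFrame f) (v : L) :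
    (8 : ℤ) • v = ∑ k, (frameCoord hf v k) • f k := by
  by_contra hne
  set u := (8 : ℤ) • v - ∑ k, (frameCoord hf v k) • f k with hu
  have hu0 : u ≠ 0 := sub_ne_zero.2 hne
  have hperp : ∀ j, R.b u (f j) = 0 := by
    intro j
    rw [hu, map_sub, AddMonoidHom.sub_apply, map_zsmul, map_sum, AddMonoidHom.finset_sum_apply]
    simp only [map_zsmul, AddMonoidHom.smul_apply, smul_eq_mul]
    rw [Finset.sum_eq_single j (fun k _ hk => by rw [hf.orth k j hk, mul_zero]) (by simp)]
    have := hf.norm j
    simp only [q] at this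
    rw [this, frameCoord_apply]; ring
  have := R.orth_card_le (fun o : Option GolayPt => o.elim u f) ?_ ?_
  · simp at this
  · rintro (_ | i)
    · exact fun e => hu0 (R.eq_zero_of_q e)
    · simp [hf.norm]
  · rintro (_ | i) (_ | j) hij
    · exact absurd rfl hij
    · exact hperp j
    · show R.b (f i) u = 0
      rw [R.symm]; exact hperp i
    · exact hf.orth i j fun e => hij (by rw [e])

theorem frame_dot (hf : R.IsFrame f) (v w : L) :
    dotInt (frameCoord hf v) (frameCoord hf w) = 8 * R.b v w := by
  have h := congrArg (fun z => R.b z w) (frame_expand hf v)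
  simp only [map_zsmul, map_sum, AddMonoidHom.smul_apply, AddMonoidHom.finset_sum_apply,
    smul_eq_mul] at h
  rw [h, dotInt]
  refine Finset.sum_congr rfl fun k _ => ?_
  rw [frameCoord_apply hf w k, R.symm (f k) w]

theorem frame_sqNorm (hf : R.IsFrame f) (v : L) : sqNorm (frameCoord hf v) = 8 * R.q v := by
  rw [← dotInt_self]; exact frame_dot hf v v

theorem frame_injective (hf : R.IsFrame f) : Function.Injective (frameCoord hf) := by
  rw [injective_iff_map_eq_zero]
  intro v hv
  have := frame_sqNorm hf v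
  rw [hv] at this
  exact R.eq_zero_of_q (by simpa [sqNorm] using this)

theorem frame_single (hf : R.IsFrame f) (k : GolayPt) :
    frameCoord hf (f k) = Pi.single k 8 := by
  funext j
  rw [frameCoord_apply]
  by_cases h : j = k
  · subst h; rw [Pi.single_eq_same]; exact hf.norm j
  · rw [Pi.single_eq_of_ne h]; exact hf.orth k j (Ne.symm h)

/-- `4 b` is attained when `b` has even total. -/
theorem frame_four (hf : R.IsFrame f) (b : GolayPt → ℤ) (hb : 2 ∣ ∑ i, b i) :
    ∃ v, frameCoord hf v = fun i => 4 * b i := by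
  have hd : ∀ j, ∃ z, frameCoord hf z = Pi.single j 4 - Pi.single none 4 := by
    intro j
    obtain ⟨z, hz⟩ := R.cls_eq_iff.1 (hf.congr j none)
    refine ⟨z, ?_⟩
    have := congrArg (frameCoord hf) hz
    rw [map_add, map_add, frame_single, frame_single] at this
    funext i
    have := congrFun this i
    simp only [Pi.add_apply, Pi.sub_apply, Pi.single_apply] at this ⊢
    split_ifs at this ⊢ <;> omega
  choose z hz using hd
  obtain ⟨t, ht⟩ := hb
  refine ⟨(∑ j, b j • z j) + t • f none, ?_⟩
  rw [map_add, map_sum, map_zsmul, frame_single]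
  funext i
  simp only [Pi.add_apply, Finset.sum_apply, map_zsmul, Pi.smul_apply, hz, Pi.sub_apply, smul_eq_mul,
    mul_sub, Finset.sum_sub_distrib, ← Finset.sum_mul, Pi.single_apply, mul_ite, mul_zero,
    Finset.sum_ite_eq, Finset.mem_univ, if_true, ht]
  by_cases hi : i = none
  · subst hi
    simp only [if_true, eq_self_iff_true, ← Finset.sum_mul, ht]
    ring
  · simp [hi, mul_comm]

/-- No vector has a single entry `±4`. -/
theorem frame_no_single (hf : R.IsFrame f) (b : GolayPt → ℤ) (v : L)
    (hv : frameCoord hf v = fun i => 4 * b i) : 2 ∣ ∑ i, b i := by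
  by_contra hodd
  obtain ⟨w, hw⟩ := frame_four hf (b - Pi.single none 1) (by
    simp only [Pi.sub_apply, Finset.sum_sub_distrib, Finset.sum_pi_single', Finset.mem_univ,
      if_true]
    omega)
  have := frame_sqNorm hf (v - w)
  have e : frameCoord hf (v - w) = Pi.single none 4 := by
    rw [map_sub, hv, hw]
    funext i
    simp only [Pi.sub_apply, Pi.single_apply]
    split_ifs <;> ring
  rw [e] at this
  simp [sqNorm, Pi.single_apply] at this
  have := R.noRoot (v - w)
  simp only [q] at *
  omega

/-- The code of the frame. -/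
def frameCode (hf : R.IsFrame f) : Submodule (ZMod 2) (GolayPt → ZMod 2) where
  carrier := {w | ∃ v a, (frameCoord hf v = fun i => 2 * a i) ∧ mod2 a = w}
  zero_mem' := ⟨0, 0, by funext i; simp [frameCoord_apply], by funext i; simp [mod2]⟩
  add_mem' := by
    rintro _ _ ⟨v, a, hv, rfl⟩ ⟨v', a', hv', rfl⟩
    exact ⟨v + v', a + a', by rw [map_add, hv, hv']; funext i; simp [mul_add], mod2_add a a'⟩
  smul_mem' := by
    rintro c _ ⟨v, a, hv, rfl⟩
    rcases (show ∀ c : ZMod 2, c = 0 ∨ c = 1 by decide) c with rfl | rfl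
    · exact ⟨0, 0, by funext i; simp [frameCoord_apply], by funext i; simp [mod2]⟩
    · exact ⟨v, a, hv, by simp⟩

theorem frameCode_orth (hf : R.IsFrame f) :
    ∀ v ∈ frameCode hf, ∀ w ∈ frameCode hf, ∑ i, v i * w i = 0 := by
  rintro _ ⟨v, a, hv, rfl⟩ _ ⟨v', a', hv', rfl⟩
  have h := frame_dot hf v v'
  rw [hv, hv', dotInt] at h
  have e : ∑ i, 2 * a i * (2 * a' i) = 4 * ∑ i, a i * a' i := by
    rw [Finset.mul_sum]; exact Finset.sum_congr rfl fun i _ => by ring
  rw [e] at h
  simp only [mod2, ← Int.cast_mul, ← Int.cast_sum]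
  rw [ZMod.intCast_zmod_eq_zero_iff_dvd]
  exact ⟨R.b v v', by omega⟩

theorem frame_lift_norm (hf : R.IsFrame f) {v : L} {a : GolayPt → ℤ}
    (hv : frameCoord hf v = fun i => 2 * a i) : ∑ i, a i ^ 2 = 2 * R.q v := by
  have h := frame_sqNorm hf v
  rw [hv, sqNorm] at h
  have e : ∑ i, (2 * a i) ^ 2 = 4 * ∑ i, a i ^ 2 := by
    rw [Finset.mul_sum]; exact Finset.sum_congr rfl fun i _ => by ring
  omega

theorem frame_four_dvd (hf : R.IsFrame f) :
    ∀ w ∈ frameCode hf, 4 ∣ (support₂ w).card := by
  rintro _ ⟨v, a, hv, rfl⟩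
  have h := frame_lift_norm hf hv
  have h2 := R.even v
  have h4 := sum_sq_mod4 a
  simp only [q] at h
  omega

/-- Change of representative. -/
theorem frame_relift (hf : R.IsFrame f) {v : L} {a a' : GolayPt → ℤ}
    (hv : frameCoord hf v = fun i => 2 * a i) (hm : mod2 a = mod2 a') :
    (∃ v', frameCoord hf v' = fun i => 2 * a' i) ↔ (4 : ℤ) ∣ (∑ i, a i) - ∑ i, a' i := by
  choose b hb using mod2_eq_iff.1 hm
  have hs : (∑ i, a i) - ∑ i, a' i = 2 * ∑ i, b i := by
    rw [← Finset.sum_sub_distrib, Finset.mul_sum]; exact Finset.sum_congr rfl fun i _ => hb i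
  constructor
  · rintro ⟨v', hv'⟩
    have := frame_no_single hf b (v - v') (by
      rw [map_sub, hv, hv']
      funext i
      have := hb i
      simp only [Pi.sub_apply]
      omega)
    omega
  · intro h
    obtain ⟨w, hw⟩ := frame_four hf b (by omega)
    refine ⟨v - w, ?_⟩
    rw [map_sub, hv, hw]
    funext i
    have := hb i
    simp only [Pi.sub_apply]
    omega

theorem frame_no4 (hf : R.IsFrame f) :
    ∀ w ∈ frameCode hf, (support₂ w).card ≠ 4 := by
  rintro _ ⟨v, a, hv, rfl⟩ h4
  let a₁ : GolayPt → ℤ := fun i => a i % 2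
  obtain ⟨i₀, hi₀⟩ : (support₂ (mod2 a)).Nonempty := Finset.card_pos.1 (by omega)
  rw [mem_support_mod2] at hi₀
  let a₂ : GolayPt → ℤ := fun i => if i = i₀ then -1 else a i % 2
  have hm1 : mod2 a = mod2 a₁ := mod2_eq_iff.2 fun i => by simp only [a₁]; omega
  have hm2 : mod2 a = mod2 a₂ := mod2_eq_iff.2 fun i => by
    simp only [a₂]; split_ifs with h
    · subst h; omega
    · omega
  have hpar : (2 : ℤ) ∣ (∑ i, a i) - ∑ i, a₁ i := by
    rw [← Finset.sum_sub_distrib]; exact Finset.dvd_sum fun i _ => by simp only [a₁]; omega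
  have hdiff : ∑ i, a₂ i = (∑ i, a₁ i) - 2 := by
    have : ∀ i, a₂ i = a₁ i + if i = i₀ then -2 else 0 := fun i => by
      simp only [a₂, a₁]; split_ifs with h
      · subst h; omega
      · omega
    rw [Finset.sum_congr rfl fun i _ => this i, Finset.sum_add_distrib, Finset.sum_ite_eq']
    simp [sub_eq_add_neg]
  have hnorm : ∀ c : GolayPt → ℤ, (∀ i, c i ^ 2 = a₁ i) → ¬ ∃ v', frameCoord hf v' = fun i => 2 * c i := by
    rintro c hc ⟨v', hv'⟩
    have h := frame_lift_norm hf hv'
    have e : ((support₂ (mod2 a)).card : ℤ) = ∑ i, a₁ i := by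
      rw [Finset.card_eq_sum_ones, Nat.cast_sum,
        ← Finset.sum_subset (Finset.subset_univ (support₂ (mod2 a))) (f := a₁)]
      · exact Finset.sum_congr rfl fun i hi => by
          rw [mem_support_mod2] at hi; simp only [a₁]; push_cast; omega
      · intro i _ hi; rw [mem_support_mod2] at hi; simp only [a₁]; omega
    rw [Finset.sum_congr rfl fun i _ => hc i, ← e, h4] at h
    have := R.noRoot v'
    simp only [q] at h
    omega
  by_cases hs : (4 : ℤ) ∣ (∑ i, a i) - ∑ i, a₁ i
  · exact hnorm a₁ (fun i => by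
      simp only [a₁]; rcases Int.emod_two_eq_zero_or_one (a i) with e | e <;> rw [e] <;> norm_num)
      ((frame_relift hf hv hm1).2 hs)
  · refine hnorm a₂ (fun i => ?_) ((frame_relift hf hv hm2).2 (by omega))
    simp only [a₁, a₂]
    split_ifs with h
    · subst h; rw [hi₀]; norm_num
    · rcases Int.emod_two_eq_zero_or_one (a i) with e | e <;> rw [e] <;> norm_num

theorem frame_word_signs (hf : R.IsFrame f) (w : Finset GolayPt) (hw : w.card = 8)
    (A : Finset L) (hA : ∀ v ∈ A, ∃ a : GolayPt → ℤ, (frameCoord hf v = fun i => 2 * a i) ∧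
      ∀ i, if i ∈ w then (a i = 1 ∨ a i = -1) else a i = 0) : A.card ≤ 128 := by
  classical
  obtain ⟨i₀, hi₀⟩ : w.Nonempty := Finset.card_pos.1 (by omega)
  have hc : ((w.erase i₀).powerset).card = 128 := by
    rw [Finset.card_powerset, Finset.card_erase_of_mem hi₀, hw]; norm_num
  rw [← hc]
  refine Finset.card_le_card_of_injOn
    (fun v => (w.erase i₀).filter fun i => 0 < frameCoord hf v i)
    (fun v _ => Finset.mem_powerset.2 (Finset.filter_subset _ _)) ?_
  intro v hv v' hv' he
  obtain ⟨a, ha, has⟩ := hA v hv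
  obtain ⟨a', ha', has'⟩ := hA v' hv'
  have hne : ∀ i, i ≠ i₀ → a i = a' i := by
    intro i hi
    by_cases hiw : i ∈ w
    · have h1 := has i
      have h2 := has' i
      rw [if_pos hiw] at h1 h2
      have := Finset.ext_iff.1 he i
      simp only [Finset.mem_filter, Finset.mem_erase, ne_eq, hi, not_false_eq_true, hiw, true_and,
        ha, ha'] at this
      rcases h1 with h1 | h1 <;> rcases h2 with h2 | h2 <;> rw [h1, h2] at this <;> simp at this <;>
        omega
    · have h1 := has i
      have h2 := has' i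
      rw [if_neg hiw] at h1 h2
      omega
  have hm : mod2 a = mod2 a' := mod2_eq_iff.2 fun i => by
    by_cases hi : i = i₀
    · subst hi
      have h1 := has i
      have h2 := has' i
      rw [if_pos hi₀] at h1 h2
      omega
    · rw [hne i hi]; simp
  have hs := (frame_relift hf ha hm).1 ⟨v', ha'⟩
  rw [← Finset.sum_sub_distrib, Finset.sum_eq_single i₀
    (fun i _ hi => by rw [hne i hi, sub_self]) (by simp)] at hs
  apply frame_injective hf
  rw [ha, ha']
  funext i
  by_cases hi : i = i₀
  · subst hi
    have h1 := has i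
    have h2 := has' i
    rw [if_pos hi₀] at h1 h2
    rw [show a i = a' i by omega]
  · rw [hne i hi]

theorem frameCode_meet_le (hf : R.IsFrame f) {s t : Finset GolayPt}
    (hs : s.card = 8 ∧ indWord s ∈ frameCode hf) (ht : t.card = 8 ∧ indWord t ∈ frameCode hf)
    (hne : s ≠ t) : (s ∩ t).card ≤ 4 := by
  have hmem := Submodule.add_mem _ hs.2 ht.2
  have h4 := frame_four_dvd hf _ hmem
  have hno := frame_no4 hf _ hmem
  rw [support₂_add', support_indWord, support_indWord] at h4 hno
  have e := card_symmDiff_add s t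
  by_contra hgt
  push Not at hgt
  have hle : (s ∩ t).card ≤ s.card := Finset.card_le_card Finset.inter_subset_left
  have h0 : (symmDiff s t).card = 0 := by omega
  rw [Finset.card_eq_zero, ← Finset.bot_eq_empty, symmDiff_eq_bot] at h0
  exact hne h0

theorem frame_octads_le (hf : R.IsFrame f) (W : Finset (Finset GolayPt))
    (hW : ∀ s ∈ W, s.card = 8 ∧ indWord s ∈ frameCode hf) : W.card ≤ 759 := by
  have hd : (W : Set (Finset GolayPt)).PairwiseDisjoint fun s => s.powersetCard 5 := by
    intro s hs t ht hne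
    rw [Function.onFun, Finset.disjoint_left]
    intro r hr hr'
    rw [Finset.mem_powersetCard] at hr hr'
    have := frameCode_meet_le hf (hW s hs) (hW t ht) hne
    have := Finset.card_le_card (Finset.subset_inter hr.1 hr'.1)
    omega
  have h1 : (W.biUnion fun s => s.powersetCard 5).card = W.card * 56 := by
    rw [Finset.card_biUnion hd, Finset.sum_congr rfl fun s hs => by
      rw [Finset.card_powersetCard, (hW s hs).1], Finset.sum_const, smul_eq_mul]
    rfl
  have h2 : (W.biUnion fun s => s.powersetCard 5).card ≤ 42504 := by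
    refine le_trans (Finset.card_le_card (t := (Finset.univ : Finset GolayPt).powersetCard 5) ?_)
      (le_of_eq ?_)
    · intro r hr
      obtain ⟨s, -, hr⟩ := Finset.mem_biUnion.1 hr
      rw [Finset.mem_powersetCard] at hr ⊢
      exact ⟨Finset.subset_univ _, hr.2⟩
    · rw [Finset.card_powersetCard, Finset.card_univ]; simp; decide
  omega

theorem frame_entry_le (hf : R.IsFrame f) {v : L} (hv : R.q v = 4) (i : GolayPt) :
    -5 ≤ frameCoord hf v i ∧ frameCoord hf v i ≤ 5 :=
  abs_entry_le (N := 32) (by norm_num) (by norm_num) (by rw [frame_sqNorm hf, hv]; norm_num) i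

theorem frame_parity (hf : R.IsFrame f) (v : L) :
    (∀ i, frameCoord hf v i % 2 = 0) ∨ ∀ i, frameCoord hf v i % 2 = 1 := by
  have key : ∀ j, (2 : ℤ) ∣ frameCoord hf v j - frameCoord hf v none := by
    intro j
    obtain ⟨z, hz⟩ := R.cls_eq_iff.1 (hf.congr j none)
    rw [frameCoord_apply, frameCoord_apply, hz, map_add, map_add]
    exact ⟨R.b v z, by ring⟩
  rcases Int.emod_two_eq_zero_or_one (frameCoord hf v none) with h | h
  · exact Or.inl fun i => by have := key i; omega
  · exact Or.inr fun i => by have := key i; omega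

/-- The place of the entry `±3` and the pattern modulo 4 of an odd minimal vector. -/
theorem frame_odd_minimal (hf : R.IsFrame f) {v : L} (hv : R.q v = 4)
    (ho : ∀ i, frameCoord hf v i % 2 = 1) :
    ∃ i₀, ∀ i, frameCoord hf v i =
      (if i = i₀ then (if frameCoord hf v i % 4 = 3 then 3 else -3)
        else (if frameCoord hf v i % 4 = 3 then -1 else 1)) := by
  have hn : ∑ i, frameCoord hf v i ^ 2 = 32 := by
    have := frame_sqNorm hf v
    rw [hv, sqNorm] at this
    omega
  have hcases : ∀ i, frameCoord hf v i = 1 ∨ frameCoord hf v i = -1 ∨ frameCoord hf v i = 3 ∨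
      frameCoord hf v i = -3 ∨ frameCoord hf v i = 5 ∨ frameCoord hf v i = -5 := fun i => by
    obtain ⟨a, b⟩ := frame_entry_le hf hv i
    have := ho i
    omega
  have hsq : ∀ i, 1 ≤ frameCoord hf v i ^ 2 := fun i => by
    rcases hcases i with h | h | h | h | h | h <;> rw [h] <;> norm_num
  have h24 : ∀ s : Finset GolayPt, ∑ i ∈ s, frameCoord hf v i ^ 2 + ((24 : ℤ) - s.card) ≤ 32 := by
    intro s
    rw [← hn, ← Finset.sum_add_sum_compl s]
    have h1 : ∑ _i ∈ sᶜ, (1 : ℤ) ≤ ∑ i ∈ sᶜ, frameCoord hf v i ^ 2 :=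
      Finset.sum_le_sum fun i _ => hsq i
    have h2 : s.card ≤ 24 := le_trans (Finset.card_le_univ s) (by simp)
    rw [Finset.sum_const, Finset.card_compl, nsmul_eq_mul, mul_one] at h1
    simp only [Fintype.card_option, ZMod.card] at h1
    omega
  have hex : ∃ i₀, frameCoord hf v i₀ = 3 ∨ frameCoord hf v i₀ = -3 := by
    by_contra hne
    push Not at hne
    have : ∀ i, frameCoord hf v i ^ 2 = 1 := fun i => by
      have h1 := h24 {i}
      rw [Finset.sum_singleton, Finset.card_singleton] at h1
      obtain ⟨n1, n2⟩ := hne i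
      rcases hcases i with h | h | h | h | h | h <;> first
        | omega
        | (rw [h] at h1; norm_num at h1; done)
        | (rw [h]; norm_num)
    rw [Finset.sum_congr rfl fun i _ => this i] at hn
    simp at hn
  obtain ⟨i₀, hi₀⟩ := hex
  refine ⟨i₀, fun i => ?_⟩
  by_cases hi : i = i₀
  · rw [if_pos hi]
    subst hi
    rcases hi₀ with h | h <;> rw [h] <;> norm_num
  · rw [if_neg hi]
    have h1 := h24 {i, i₀}
    rw [Finset.sum_pair hi, Finset.card_pair hi] at h1
    have h9 : frameCoord hf v i₀ ^ 2 = 9 := by rcases hi₀ with h | h <;> rw [h] <;> norm_num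
    rw [h9] at h1
    rcases hcases i with h | h | h | h | h | h <;> rw [h] at h1 ⊢ <;>
      first | (norm_num; done) | (norm_num at h1)

theorem frameCode_card (hf : R.IsFrame f) [DecidablePred (· ∈ frameCode hf)] :
    (Finset.univ.filter fun w => w ∈ frameCode hf).card =
      2 ^ Module.finrank (ZMod 2) (frameCode hf) := by
  have h := Module.natCard_eq_pow_finrank (K := ZMod 2) (V := frameCode hf)
  rw [Nat.card_zmod, Nat.card_eq_fintype_card, Fintype.card_subtype] at h
  exact h

/-- Enough minimal vectors force the code to have dimension 12 and give an odd vector. -/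
theorem frame_dim (hf : R.IsFrame f) (h4 : {v : L | R.q v = 4}.ncard = 196560) :
    Module.finrank (ZMod 2) (frameCode hf) = 12 ∧ ∃ v, ∀ i, frameCoord hf v i % 2 = 1 := by
  classical
  have hfin : {v : L | R.q v = 4}.Finite := Set.finite_of_ncard_pos (by rw [h4]; norm_num)
  rw [Set.ncard_eq_toFinset_card _ hfin] at h4
  set A := hfin.toFinset with hA
  have hq : ∀ v ∈ A, R.q v = 4 := fun v hv => by simpa [hA] using hv
  let x : L → GolayPt → ℤ := fun v => frameCoord hf v
  let Aodd := A.filter fun v => ∀ i, x v i % 2 = 1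
  let A44 := A.filter fun v => ∀ i, x v i % 4 = 0
  let A8 := A.filter fun v => ¬ (∀ i, x v i % 2 = 1) ∧ ¬ ∀ i, x v i % 4 = 0
  have hsplit : A.card ≤ Aodd.card + A44.card + A8.card := by
    refine le_trans (Finset.card_le_card ?_) ((Finset.card_union_le _ _).trans
      (Nat.add_le_add_right (Finset.card_union_le _ _) _))
    intro v hv
    simp only [Aodd, A44, A8, Finset.mem_union, Finset.mem_filter]
    tauto
  have h44 : A44.card ≤ 1104 := by
    rw [← fourFour_card]
    refine Finset.card_le_card_of_injOn x ?_ ((frame_injective hf).injOn)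
    intro v hv
    simp only [A44, Finset.coe_filter, Set.mem_setOf_eq] at hv
    simp only [fourFour, valSet, Finset.coe_filter, Set.mem_setOf_eq, Fintype.mem_piFinset]
    refine ⟨fun i => ?_, ?_, one_dvd _⟩
    · obtain ⟨a, b⟩ := frame_entry_le hf (hq v hv.1) i
      have := hv.2 i
      simp only [x] at *
      simp only [List.mem_toFinset, List.mem_cons, List.not_mem_nil, or_false]
      omega
    · have := frame_sqNorm hf v
      rw [hq v hv.1, sqNorm] at this
      have e : ((∑ i, sqW (x v i) : ℕ) : ℤ) = ∑ i, x v i ^ 2 := by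
        rw [Nat.cast_sum]; exact Finset.sum_congr rfl fun i _ => sqW_cast _
      simp only [x] at e ⊢
      omega
  -- vectors with eight entries `±2`
  let W : L → Finset GolayPt := fun v => Finset.univ.filter fun i => x v i % 4 = 2
  have hshape : ∀ v ∈ A8, (W v).card = 8 ∧ indWord (W v) ∈ frameCode hf ∧
      ∃ a : GolayPt → ℤ, (frameCoord hf v = fun i => 2 * a i) ∧
        ∀ i, if i ∈ W v then (a i = 1 ∨ a i = -1) else a i = 0 := by
    intro v hv
    simp only [A8, Finset.mem_filter] at hv
    obtain ⟨hvA, hno, hn4⟩ := hv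
    have hev : ∀ i, x v i % 2 = 0 := (frame_parity hf v).resolve_right hno
    let a : GolayPt → ℤ := fun i => x v i / 2
    have ha : frameCoord hf v = fun i => 2 * a i := by
      funext i
      have := hev i
      simp only [a, x] at *
      omega
    have hWs : W v = support₂ (mod2 a) := by
      ext i
      have := hev i
      simp only [W, a, Finset.mem_filter, Finset.mem_univ, true_and, mem_support_mod2]
      omega
    have hmem : mod2 a ∈ frameCode hf := ⟨v, a, ha, rfl⟩
    have hn := frame_lift_norm hf ha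
    rw [hq v hvA] at hn
    have hc4 := frame_four_dvd hf _ hmem
    have hcn := frame_no4 hf _ hmem
    have hone : ∀ i ∈ W v, 1 ≤ a i ^ 2 := fun i hi => by
      rw [hWs, mem_support_mod2] at hi
      have : a i ≠ 0 := by omega
      nlinarith [Int.one_le_abs this, sq_abs (a i)]
    have hsumW : ((W v).card : ℤ) ≤ ∑ i ∈ W v, a i ^ 2 := by
      simpa using Finset.sum_le_sum hone
    have hsub : ∑ i ∈ W v, a i ^ 2 ≤ ∑ i, a i ^ 2 :=
      Finset.sum_le_sum_of_subset_of_nonneg (Finset.subset_univ _) fun i _ _ => sq_nonneg _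
    have hpos : (W v).card ≠ 0 := by
      intro h0
      refine hn4 fun i => ?_
      have hi : i ∉ W v := by rw [Finset.card_eq_zero.1 h0]; simp
      have := hev i
      simp only [W, Finset.mem_filter, Finset.mem_univ, true_and] at hi
      omega
    have hc8 : (W v).card = 8 := by rw [← hWs] at hc4 hcn; omega
    refine ⟨hc8, by rw [hWs, indWord_support]; exact hmem, a, ha, fun i => ?_⟩
    split_ifs with hi
    · have h1 : a i ^ 2 + ∑ j ∈ (W v).erase i, a j ^ 2 = ∑ j ∈ W v, a j ^ 2 :=
        Finset.add_sum_erase _ (fun j => a j ^ 2) hi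
      have h2 : (((W v).erase i).card : ℤ) ≤ ∑ j ∈ (W v).erase i, a j ^ 2 := by
        simpa using Finset.sum_le_sum fun j hj => hone j (Finset.mem_of_mem_erase hj)
      rw [Finset.card_erase_of_mem hi, hc8] at h2
      have h3 := hone i hi
      have : a i ^ 2 = 1 := by push_cast at h2; omega
      exact sq_eq_one_iff.1 this
    · have h1 : a i ^ 2 + ∑ j ∈ W v, a j ^ 2 ≤ ∑ j, a j ^ 2 := by
        rw [← Finset.sum_insert hi (f := fun j => a j ^ 2)]
        exact Finset.sum_le_sum_of_subset_of_nonneg (Finset.subset_univ _)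
          fun j _ _ => sq_nonneg _
      have h3 := sq_nonneg (a i)
      have : a i ^ 2 = 0 := by omega
      simpa using this
  have h8 : A8.card ≤ 759 * 128 := by
    calc A8.card ≤ (A8.image W).card * 128 := by
          rw [Finset.card_eq_sum_card_image W A8]
          refine Finset.sum_le_card_nsmul _ _ 128 fun s hs => ?_
          obtain ⟨v, hv, rfl⟩ := Finset.mem_image.1 hs
          refine frame_word_signs hf (W v) (hshape v hv).1 _ fun u hu => ?_
          rw [Finset.mem_filter] at hu
          rw [← hu.2]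
          exact (hshape u hu.1).2.2
      _ ≤ 759 * 128 := by
          refine Nat.mul_le_mul_right _ (frame_octads_le hf _ fun s hs => ?_)
          obtain ⟨v, hv, rfl⟩ := Finset.mem_image.1 hs
          exact ⟨(hshape v hv).1, (hshape v hv).2.1⟩
  -- odd vectors
  have hodd : Aodd.card ≤ 24 * 2 ^ Module.finrank (ZMod 2) (frameCode hf) := by
    rcases Aodd.eq_empty_or_nonempty with h | ⟨u, hu⟩
    · simp [h]
    have hu' : u ∈ A ∧ ∀ i, x u i % 2 = 1 := by simpa [Aodd] using hu
    rw [← frameCode_card hf, show 24 = (Finset.univ : Finset GolayPt).card from by simp,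
      ← Finset.card_product]
    have hex : ∀ v : L, ∃ i₀, v ∈ Aodd → ∀ i, x v i =
        (if i = i₀ then (if x v i % 4 = 3 then 3 else -3)
          else (if x v i % 4 = 3 then -1 else 1)) := by
      intro v
      by_cases hv : v ∈ Aodd
      · have hv' : v ∈ A ∧ ∀ i, x v i % 2 = 1 := by simpa [Aodd] using hv
        obtain ⟨i₀, hi⟩ := frame_odd_minimal hf (hq v hv'.1) hv'.2
        exact ⟨i₀, fun _ => hi⟩
      · exact ⟨none, fun h => absurd h hv⟩
    choose pos hpos using hex
    refine Finset.card_le_card_of_injOn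
      (fun v => (pos v, mod2 fun i => (x v i - x u i) / 2)) ?_ ?_
    · intro v hv
      have hv' : v ∈ A ∧ ∀ i, x v i % 2 = 1 := by simpa [Aodd] using hv
      simp only [Finset.coe_product, Finset.coe_univ, Finset.coe_filter, Set.mem_prod, Set.mem_univ,
        true_and, Set.mem_setOf_eq, Finset.mem_univ]
      refine ⟨v - u, _, ?_, rfl⟩
      funext i
      have := hv'.2 i
      have := hu'.2 i
      simp only [map_sub, Pi.sub_apply]
      show x v i - x u i = 2 * ((x v i - x u i) / 2)
      omega
    · intro v hv w hw he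
      simp only [Prod.mk.injEq] at he
      apply frame_injective hf
      funext i
      show x v i = x w i
      have hv' : v ∈ A ∧ ∀ i, x v i % 2 = 1 := by simpa [Aodd] using hv
      have hw' : w ∈ A ∧ ∀ i, x w i % 2 = 1 := by simpa [Aodd] using hw
      have h1 := hpos v hv i
      have h2 := hpos w hw i
      have h3 := mod2_eq_iff.1 he.2 i
      have := hv'.2 i
      have := hw'.2 i
      have := hu'.2 i
      have hm : (x v i % 4 = 3) ↔ (x w i % 4 = 3) := by omega
      rw [he.1] at h1
      by_cases h : x w i % 4 = 3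
      · rw [if_pos h] at h2; rw [if_pos (hm.2 h)] at h1
        by_cases hp : i = pos w
        · rw [if_pos hp] at h1 h2; omega
        · rw [if_neg hp] at h1 h2; omega
      · rw [if_neg h] at h2; rw [if_neg (fun e => h (hm.1 e))] at h1
        by_cases hp : i = pos w
        · rw [if_pos hp] at h1 h2; omega
        · rw [if_neg hp] at h1 h2; omega
  have hle : Module.finrank (ZMod 2) (frameCode hf) ≤ 12 := by
    have := isotropic_finrank_le (frameCode_orth hf)
    simp at this
    omega
  constructor
  · by_contra hne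
    have : 2 ^ Module.finrank (ZMod 2) (frameCode hf) ≤ 2 ^ 11 :=
      Nat.pow_le_pow_right (by norm_num) (by omega)
    omega
  · obtain ⟨v, hv⟩ : Aodd.Nonempty := Finset.card_pos.1 (by omega)
    exact ⟨v, (Finset.mem_filter.1 hv).2⟩

theorem frameCode_golayLike (hf : R.IsFrame f) (h4 : {v : L | R.q v = 4}.ncard = 196560) :
    GolayLike (frameCode hf) :=
  ⟨by simp, (frame_dim hf h4).1, frameCode_orth hf, frame_four_dvd hf, frame_no4 hf⟩

/-- The normal form of a lattice with a frame. -/
theorem frame_iso (hf : R.IsFrame f) (h4 : {v : L | R.q v = 4}.ncard = 196560) :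
    ∃ F : L ≃+ leechLattice,
      (∀ v w, dotInt (F v : GolayPt → ℤ) (F w : GolayPt → ℤ) = 8 * R.b v w) ∧
      ∀ k, ∃ j : GolayPt, ∃ s : ℤ, (s = 8 ∨ s = -8) ∧
        (F (f k) : GolayPt → ℤ) = Pi.single j s := by
  classical
  obtain ⟨hdim, vodd, hvodd⟩ := frame_dim hf h4
  obtain ⟨e, he⟩ := golay_unique (frameCode_golayLike hf h4)
  have hlift : ∀ w : frameCode hf, ∃ a : GolayPt → ℤ,
      (∃ v, frameCoord hf v = fun i => 2 * a i) ∧ mod2 a = w.1 := by
    rintro ⟨w, v, a, hv, hm⟩
    exact ⟨a, ⟨v, hv⟩, hm⟩
  choose lift hlv hlm using hlift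
  have heven : ∀ (v : L) (a : GolayPt → ℤ), (frameCoord hf v = fun i => 2 * a i) → (2 : ℤ) ∣ ∑ i, a i := by
    intro v a hv
    have h := frame_four_dvd hf _ ⟨v, a, hv, rfl⟩
    have h4' := sum_sq_mod4 a
    have : (2 : ℤ) ∣ (∑ i, a i ^ 2) - ∑ i, a i := by
      rw [← Finset.sum_sub_distrib]
      exact Finset.dvd_sum fun i _ => by
        rw [sq, ← mul_sub_one]
        exact (Int.even_mul_pred_self (a i)).two_dvd
    omega
  let ψ₀ : frameCode hf → ZMod 2 := fun w => ((((∑ i, lift w i) / 2 : ℤ)) : ZMod 2)
  have hψ : ∀ (w : frameCode hf) (v : L) (a : GolayPt → ℤ), (frameCoord hf v = fun i => 2 * a i) →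
      mod2 a = w.1 → ψ₀ w = (((∑ i, a i) / 2 : ℤ) : ZMod 2) := by
    intro w v a hv hm
    obtain ⟨v', hv'⟩ := hlv w
    have h := (frame_relift hf hv' ((hlm w).trans hm.symm)).1 ⟨v, hv⟩
    have := heven v a hv
    have := heven v' _ hv'
    rw [← sub_eq_zero, ← Int.cast_sub, ZMod.intCast_zmod_eq_zero_iff_dvd]
    omega
  have hadd : ∀ w w', ψ₀ (w + w') = ψ₀ w + ψ₀ w' := by
    intro w w'
    obtain ⟨v, hv⟩ := hlv w
    obtain ⟨v', hv'⟩ := hlv w'
    rw [hψ (w + w') (v + v') (lift w + lift w')
      (by rw [map_add, hv, hv']; funext i; simp [mul_add])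
      (by rw [mod2_add, hlm, hlm]; rfl)]
    simp only [ψ₀, Pi.add_apply, Finset.sum_add_distrib, ← Int.cast_add]
    congr 1
    have := heven v _ hv
    omega
  let ψ : frameCode hf →ₗ[ZMod 2] ZMod 2 :=
    { toFun := ψ₀
      map_add' := hadd
      map_smul' := fun c w => by
        rcases (show ∀ c : ZMod 2, c = 0 ∨ c = 1 by decide) c with rfl | rfl
        · simp only [zero_smul, RingHom.id_apply, smul_eq_mul, zero_mul]
          have := hadd 0 0
          rw [add_zero] at this
          revert this
          generalize ψ₀ 0 = t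
          revert t; decide
        · simp }
  obtain ⟨ψ', hψ'⟩ := LinearMap.exists_extend ψ
  let sgn : GolayPt → ℤ := fun i => if ψ' (Pi.single i 1) = 1 then -1 else 1
  have hsgn : ∀ i, sgn i = 1 ∨ sgn i = -1 := fun i => by simp only [sgn]; split_ifs <;> simp
  have hsum4 : ∀ (v : L) (a : GolayPt → ℤ), (frameCoord hf v = fun i => 2 * a i) → (4 : ℤ) ∣ ∑ i, sgn i * a i := by
    intro v a hv
    have h1 : ψ' (mod2 a) = (((∑ i, a i) / 2 : ℤ) : ZMod 2) := by
      rw [← hψ ⟨_, v, a, hv, rfl⟩ v a hv rfl]
      exact congrArg (fun g : frameCode hf →ₗ[ZMod 2] ZMod 2 => g ⟨mod2 a, v, a, hv, rfl⟩) hψ'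
    have h2 : ψ' (mod2 a) =
        (((∑ i, if ψ' (Pi.single i 1) = 1 then a i else 0 : ℤ)) : ZMod 2) := by
      have e2 : mod2 a = ∑ i, (a i : ZMod 2) • Pi.single i (1 : ZMod 2) := by
        funext j; simp [mod2, Finset.sum_apply, Pi.single_apply]
      rw [e2, map_sum, Int.cast_sum]
      refine Finset.sum_congr rfl fun i _ => ?_
      rw [map_smul, smul_eq_mul]
      rcases (show ∀ c : ZMod 2, c = 0 ∨ c = 1 by decide) (ψ' (Pi.single i 1)) with h | h <;> simp [h]
    have e : ∑ i, sgn i * a i =
        (∑ i, a i) - 2 * ∑ i, (if ψ' (Pi.single i 1) = 1 then a i else 0) := by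
      rw [Finset.mul_sum, ← Finset.sum_sub_distrib]
      refine Finset.sum_congr rfl fun i _ => ?_
      simp only [sgn]; split_ifs <;> ring
    have := heven v a hv
    rw [h1, ← sub_eq_zero, ← Int.cast_sub, ZMod.intCast_zmod_eq_zero_iff_dvd] at h2
    rw [e]
    omega
  -- the transformed coordinates
  let T : L →+ (GolayPt → ℤ) :=
    { toFun := fun v j => sgn (e.symm j) * frameCoord hf v (e.symm j)
      map_zero' := by funext j; simp
      map_add' := fun v w => by funext j; simp [mul_add] }
  have hT : ∀ v j, T v j = sgn (e.symm j) * frameCoord hf v (e.symm j) := fun v j => rfl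
  have hdot : ∀ v w, dotInt (T v) (T w) = 8 * R.b v w := by
    intro v w
    rw [← frame_dot hf v w, dotInt, dotInt]
    rw [← Equiv.sum_comp e.symm (fun i => frameCoord hf v i * frameCoord hf w i)]
    refine Finset.sum_congr rfl fun j _ => ?_
    rw [hT, hT]
    rcases hsgn (e.symm j) with h | h <;> rw [h] <;> ring
  have hTinj : Function.Injective T := by
    intro v w h
    apply frame_injective hf
    funext i
    have := congrFun h (e i)
    rw [hT, hT, Equiv.symm_apply_apply] at this
    rcases hsgn i with h' | h' <;> rw [h'] at this <;> omega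
  have hmod : ∀ a : GolayPt → ℤ, mod2 (fun i => sgn i * a i) = mod2 a := fun a =>
    mod2_eq_iff.2 fun i => by rcases hsgn i with h | h <;> rw [h] <;> omega
  -- even vectors correspond
  have hevenT : ∀ v, (∀ i, frameCoord hf v i % 2 = 0) → T v ∈ leechLattice := by
    intro v hv
    let a : GolayPt → ℤ := fun i => frameCoord hf v i / 2
    have ha : frameCoord hf v = fun i => 2 * a i := by
      funext i; have := hv i; simp only [a]; omega
    have hTa : T v = fun j => 2 * (sgn (e.symm j) * a (e.symm j)) := by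
      funext j; rw [hT, ha]; ring
    rw [hTa, even_mem_iff]
    refine ⟨(he _).2 ?_, ?_⟩
    · have : (fun i => mod2 (fun j => sgn (e.symm j) * a (e.symm j)) (e i)) = mod2 a := by
        rw [← hmod a]; funext i; simp [mod2]
      rw [this]
      exact ⟨v, a, ha, rfl⟩
    · rw [Equiv.sum_comp e.symm fun i => sgn i * a i]
      exact hsum4 v a ha
  have hevenS : ∀ y : GolayPt → ℤ, (fun j => 2 * y j) ∈ leechLattice →
      ∃ v, T v = fun j => 2 * y j := by
    intro y hy
    obtain ⟨hc, hs⟩ := even_mem_iff.1 hy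
    let a : GolayPt → ℤ := fun i => sgn i * y (e i)
    obtain ⟨v, a₀, hv, hm⟩ : mod2 a ∈ frameCode hf := by
      rw [show mod2 a = mod2 (fun i => y (e i)) from hmod _]
      exact (he (mod2 y)).1 hc
    have h1 := hsum4 v a₀ hv
    have h2 : ∑ i, sgn i * a i = ∑ j, y j := by
      rw [← Equiv.sum_comp e y]
      refine Finset.sum_congr rfl fun i _ => ?_
      simp only [a]
      rcases hsgn i with h | h <;> rw [h] <;> ring
    have h3 : (4 : ℤ) ∣ (∑ i, a₀ i) - ∑ i, a i := by
      have h2' : (4 : ℤ) ∣ (∑ i, sgn i * a₀ i) - ∑ i, sgn i * a i := by omega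
      have e3 : (∑ i, a₀ i) - ∑ i, a i =
          ((∑ i, sgn i * a₀ i) - ∑ i, sgn i * a i) + ∑ i, (1 - sgn i) * (a₀ i - a i) := by
        rw [← Finset.sum_sub_distrib, ← Finset.sum_sub_distrib, ← Finset.sum_add_distrib]
        exact Finset.sum_congr rfl fun i _ => by ring
      rw [e3]
      refine dvd_add h2' (Finset.dvd_sum fun i _ => ?_)
      obtain ⟨t, ht⟩ := mod2_eq_iff.1 hm i
      rw [ht]
      rcases hsgn i with h | h <;> rw [h]
      · simp
      · exact ⟨t, by ring⟩
    obtain ⟨v', hv'⟩ := (frame_relift hf hv hm).2 h3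
    refine ⟨v', ?_⟩
    funext j
    rw [hT, hv']
    simp only [a, Equiv.apply_symm_apply]
    rcases hsgn (e.symm j) with h | h <;> rw [h] <;> ring
  -- odd vectors
  have hmemT : ∀ v, T v ∈ leechLattice := by
    intro v
    rcases frame_parity hf v with hp | hp
    · exact hevenT v hp
    have hodd : ∀ j, T v j % 2 = 1 := fun j => by
      have := hp (e.symm j)
      rw [hT]
      rcases hsgn (e.symm j) with h | h <;> rw [h] <;> omega
    rw [odd_mem_iff hodd]
    set c₀ := Finset.univ.filter fun j => T v j % 4 = 3 with hc₀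
    have hpat : ∀ y : GolayPt → ℤ, mod2 y ∈ golayCode → (4 : ℤ) ∣ ∑ i, y i →
        2 ∣ (support₂ (mod2 y) ∩ c₀).card := by
      intro y hy hs
      obtain ⟨u, hu⟩ := hevenS y (even_mem_iff.2 ⟨hy, hs⟩)
      have h := hdot v u
      rw [hu, dotInt] at h
      have e1 : ∑ j, T v j * (2 * y j) = 2 * ∑ j, T v j * y j := by
        rw [Finset.mul_sum]; exact Finset.sum_congr rfl fun j _ => by ring
      rw [e1] at h
      have e2 : ((support₂ (mod2 y) ∩ c₀).card : ℤ) =
          ∑ j, if j ∈ c₀ then y j % 2 else 0 := by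
        rw [Finset.sum_ite_mem, Finset.univ_inter, Finset.inter_comm, ← Finset.filter_mem_eq_inter,
          Finset.card_filter, Nat.cast_sum]
        refine Finset.sum_congr rfl fun j _ => ?_
        by_cases hj : y j % 2 = 1
        · rw [if_pos (mem_support_mod2.2 hj), hj]; rfl
        · rw [if_neg (fun h => hj (mem_support_mod2.1 h))]; push_cast; omega
      have e3 : (4 : ℤ) ∣ (∑ j, T v j * y j) -
          ((∑ j, y j) + 2 * ∑ j, if j ∈ c₀ then y j % 2 else 0) := by
        rw [Finset.mul_sum, ← Finset.sum_add_distrib, ← Finset.sum_sub_distrib]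
        refine Finset.dvd_sum fun j _ => ?_
        have hj := hodd j
        by_cases hjc : T v j % 4 = 3
        · rw [if_pos (by simp [hc₀, hjc])]
          obtain ⟨t, ht⟩ : ∃ t, T v j = 4 * t + 3 := ⟨T v j / 4, by omega⟩
          rw [ht]
          exact ⟨t * y j + y j / 2, by rw [Int.emod_def]; ring⟩
        · rw [if_neg (by simp [hc₀, hjc])]
          obtain ⟨t, ht⟩ : ∃ t, T v j = 4 * t + 1 := ⟨T v j / 4, by omega⟩
          rw [ht]
          exact ⟨t * y j, by ring⟩
      omega
    have hc0 : indWord c₀ ∈ golayCode := by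
      have hperp : ∀ w ∈ golayCode, ∑ i, w i * indWord c₀ i = 0 := by
        intro w hw
        rw [dot_eq_card, support_indWord, ZMod.natCast_eq_zero_iff]
        -- a lift of `w` with entry sum divisible by 4
        obtain ⟨u, a, ha, hma⟩ := (he w).1 hw
        have hy := hevenT u (fun i => by rw [ha]; simp)
        have hTa : T u = fun j => 2 * (sgn (e.symm j) * a (e.symm j)) := by
          funext j; rw [hT, ha]; ring
        rw [hTa] at hy
        obtain ⟨h1, h2⟩ := even_mem_iff.1 hy
        have hw' : mod2 (fun j => sgn (e.symm j) * a (e.symm j)) = w := by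
          funext j
          have := congrFun ((hmod a).trans hma) (e.symm j)
          simp only [mod2, Equiv.apply_symm_apply] at this ⊢
          exact this
        rw [← hw']
        exact hpat _ h1 h2
      refine mem_of_orth (C := golayCode) (by rw [golay_golayLike.dim]; simp)
        golay_golayLike.orth hperp ?_
      have h1 := hperp 1 golay_golayLike.one_mem
      rw [dot_eq_card, support₂_one', Finset.univ_inter] at h1
      rwa [dot_eq_card, Finset.inter_self]
    refine ⟨?_, ?_⟩
    · rw [← support_indWord c₀]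
      exact mem_supports_word.2 hc0
    · have hn : ∑ j, T v j ^ 2 = 8 * R.q v := by
        have := hdot v v
        rw [dotInt_self, sqNorm] at this
        exact this
      have h4 : (4 : ℤ) ∣ c₀.card := by
        have h := golay_golayLike.four _ hc0
        rw [support_indWord] at h
        exact_mod_cast h
      have hodd' : ∀ j, ∃ t : ℤ, T v j = if j ∈ c₀ then -(4 * t + 1) else 4 * t + 1 := fun j => by
        have hj := hodd j
        by_cases hjc : T v j % 4 = 3
        · exact ⟨-(T v j) / 4, by rw [if_pos (by simp [hc₀, hjc])]; omega⟩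
        · exact ⟨T v j / 4, by rw [if_neg (by simp [hc₀, hjc])]; omega⟩
      choose t ht using hodd'
      have h1 : (16 : ℤ) ∣ (∑ j, T v j ^ 2) - (24 + 8 * ∑ j, t j) := by
        rw [show (24 : ℤ) = ∑ _j : GolayPt, 1 by simp, Finset.mul_sum, ← Finset.sum_add_distrib,
          ← Finset.sum_sub_distrib]
        refine Finset.dvd_sum fun j _ => ⟨t j ^ 2, ?_⟩
        rw [ht j]; split_ifs <;> ring
      have h2 : (8 : ℤ) ∣ (∑ j, T v j) - (24 - 2 * (c₀.card : ℤ) + 4 * ∑ j, t j) := by
        have e : (24 : ℤ) - 2 * (c₀.card : ℤ) = ∑ j, if j ∈ c₀ then (-1 : ℤ) else 1 := by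
          have : ∀ j, (if j ∈ c₀ then (-1 : ℤ) else 1) = 1 - if j ∈ c₀ then 2 else 0 := fun j => by
            split_ifs <;> norm_num
          rw [Finset.sum_congr rfl fun j _ => this j, Finset.sum_sub_distrib, Finset.sum_ite_mem,
            Finset.univ_inter]
          simp [mul_comm]
        rw [e, Finset.mul_sum, ← Finset.sum_add_distrib, ← Finset.sum_sub_distrib]
        refine Finset.dvd_sum fun j _ => ?_
        rw [ht j]
        split_ifs
        · exact ⟨-t j, by ring⟩
        · exact ⟨0, by ring⟩
      have h3 : (2 : ℤ) ∣ R.q v := R.even v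
      omega
  have hsurj : ∀ y ∈ leechLattice, ∃ v, T v = y := by
    intro y hy
    rcases parity_cases hy with hp | hp
    · have hy2 : y = fun j => 2 * (y j / 2) := by funext j; have := hp j; omega
      rw [hy2] at hy ⊢
      exact hevenS _ hy
    · have hsub := AddSubgroup.sub_mem _ hy (hmemT vodd)
      have h2 : y - T vodd = fun j => 2 * ((y - T vodd) j / 2) := by
        funext j
        have := hp j
        have hv := hvodd (e.symm j)
        simp only [Pi.sub_apply, hT]
        rcases hsgn (e.symm j) with h | h <;> rw [h] <;> omega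
      rw [h2] at hsub
      obtain ⟨v, hv⟩ := hevenS _ hsub
      refine ⟨v + vodd, ?_⟩
      rw [map_add, hv, ← h2]
      abel
  let F₀ : L →+ leechLattice :=
    { toFun := fun v => ⟨T v, hmemT v⟩
      map_zero' := Subtype.ext (map_zero T)
      map_add' := fun v w => Subtype.ext (map_add T v w) }
  let F : L ≃+ leechLattice := AddEquiv.ofBijective F₀
    ⟨fun v w h => hTinj (congrArg Subtype.val h), fun y => by
      obtain ⟨v, hv⟩ := hsurj y.1 y.2
      exact ⟨v, Subtype.ext hv⟩⟩
  refine ⟨F, hdot, fun k => ⟨e k, 8 * sgn k, by rcases hsgn k with h | h <;> simp [h], ?_⟩⟩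
  show T (f k) = _
  funext j
  rw [hT, frame_single]
  by_cases hj : j = e k
  · subst hj; simp [mul_comm]
  · have : e.symm j ≠ k := fun h => hj (by rw [← h, Equiv.apply_symm_apply])
    simp [hj, this]

end Rootless

end CfsgLib.Golay
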