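import Cfsg.Agent.Lib.Golay.Chain

/-! Straight-line programs certifying that given permutations generate a stabiliser. -/

set_option autoImplicit false
set_option maxRecDepth 100000

namespace CfsgLib.Golay

open Cfsg
open scoped Pointwise

/-- Code of the identity permutation. -/
def idCode : ℕ :=
  0 + 1 * 32 ^ 1 + 2 * 32 ^ 2 + 3 * 32 ^ 3 + 4 * 32 ^ 4 + 5 * 32 ^ 5 + 6 * 32 ^ 6 + 7 * 32 ^ 7 +
  8 * 32 ^ 8 + 9 * 32 ^ 9 + 10 * 32 ^ 10 + 11 * 32 ^ 11 + 12 * 32 ^ 12 + 13 * 32 ^ 13 +
  14 * 32 ^ 14 + 15 * 32 ^ 15 + 16 * 32 ^ 16 + 17 * 32 ^ 17 + 18 * 32 ^ 18 + 19 * 32 ^ 19 +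
  20 * 32 ^ 20 + 21 * 32 ^ 21 + 22 * 32 ^ 22 + 23 * 32 ^ 23

theorem idCode_valid : valid idCode = true := by decide +kernel

theorem img_idCode : ∀ i < 24, img idCode i = i := by decide +kernel

theorem permOf_idCode : permOf idCode = 1 := by
  refine Equiv.ext fun p => ?_
  rw [permOf_apply idCode_valid, img_idCode _ (idx_lt p), pt_idx]; rfl

/-- `c` encodes the composite of `a` after `b`. -/
def isProd (a b c : ℕ) : Bool :=
  valid c && (List.range 24).all fun i => Nat.beq (img c i) (img a (img b i))

theorem isProd_sound {a b c : ℕ} (ha : valid a = true) (hb : valid b = true)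
    (h : isProd a b c = true) : valid c = true ∧ permOf c = permOf a * permOf b := by
  simp only [isProd, Bool.and_eq_true, List.all_eq_true] at h
  refine ⟨h.1, Equiv.ext fun p => ?_⟩
  rw [Equiv.Perm.mul_apply, permOf_apply hb, permOf_pt ha (valid_lt hb (idx_lt p)),
    permOf_apply h.1, Nat.eq_of_beq_eq_true (h.2 _ (List.mem_range.2 (idx_lt p)))]

/-- Run a straight-line program: each operation `(i, j, c)` multiplies the entries `i` and `j`
(counted from the most recent) with claimed product `c`. -/
def slpRun : List (ℕ × ℕ × ℕ) → List ℕ → Option (List ℕ)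
  | [], F => some F
  | (i, j, c) :: ops, F =>
    bif isProd (F.getD i idCode) (F.getD j idCode) c then slpRun ops (c :: F) else none

/-- The program runs and its entries contain all the targets. -/
def slpOK (init : List ℕ) (ops : List (ℕ × ℕ × ℕ)) (targets : List ℕ) : Bool :=
  init.all valid &&
  match slpRun ops init with
  | none => false
  | some F => targets.all fun t => F.any fun c => Nat.beq c t

theorem slpRun_sound {K : Subgroup (Equiv.Perm GolayPt)} :
    ∀ {ops : List (ℕ × ℕ × ℕ)} {F F' : List ℕ},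
      (∀ c ∈ F, valid c = true ∧ permOf c ∈ K) → slpRun ops F = some F' →
      ∀ c ∈ F', valid c = true ∧ permOf c ∈ K
  | [], F, F', h, e => by
    rw [slpRun, Option.some.injEq] at e; subst e; exact h
  | (i, j, c) :: ops, F, F', h, e => by
    rw [slpRun] at e
    cases hp : isProd (F.getD i idCode) (F.getD j idCode) c with
    | false => rw [hp] at e; simp at e
    | true =>
      rw [hp] at e
      have hget : ∀ k, valid (F.getD k idCode) = true ∧ permOf (F.getD k idCode) ∈ K := by
        intro k
        rw [List.getD_eq_getElem?_getD]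
        cases he : F[k]? with
        | none => exact ⟨idCode_valid, by rw [Option.getD_none, permOf_idCode]; exact Subgroup.one_mem _⟩
        | some v => exact h v (List.mem_of_getElem? he)
      have hc := isProd_sound (hget i).1 (hget j).1 hp
      refine slpRun_sound (F := c :: F) ?_ e
      intro d hd
      rcases List.mem_cons.1 hd with rfl | hd
      · exact ⟨hc.1, by rw [hc.2]; exact Subgroup.mul_mem _ (hget i).2 (hget j).2⟩
      · exact h d hd

theorem slpOK_sound {K : Subgroup (Equiv.Perm GolayPt)} {init : List ℕ}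
    {ops : List (ℕ × ℕ × ℕ)} {targets : List ℕ} (hinit : ∀ c ∈ init, permOf c ∈ K)
    (h : slpOK init ops targets = true) : ∀ t ∈ targets, permOf t ∈ K := by
  intro t ht
  simp only [slpOK, Bool.and_eq_true, List.all_eq_true] at h
  obtain ⟨hv, h⟩ := h
  cases e : slpRun ops init with
  | none => rw [e] at h; simp at h
  | some F =>
    rw [e] at h
    have := List.any_eq_true.1 (List.all_eq_true.1 h t ht)
    obtain ⟨c, hc, hct⟩ := this
    rw [← Nat.eq_of_beq_eq_true hct]
    exact (slpRun_sound (fun c hc => ⟨hv c hc, hinit c hc⟩) e c hc).2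

/-- All transversal elements of a chain. -/
def chainGens (L : List Level) : List ℕ := L.flatMap fun lv => lv.2.1

theorem fixMasks_le_of_gens : ∀ {L : List Level} {X : List ℕ} {fin : List (ℕ × ℕ × ℕ)},
    chainOK X L fin = true → ∀ {K : Subgroup (Equiv.Perm GolayPt)},
      (∀ t ∈ chainGens L, permOf t ∈ K) → fixMasks X ≤ K
  | [], X, fin, h, K, _ => by
    have h1 := card_fixMasks h
    rw [chainCard] at h1
    rw [Subgroup.card_eq_one.1 h1]
    exact bot_le
  | lv :: L, X, fin, h, K, hK => by
    simp only [chainOK, Bool.and_eq_true] at h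
    obtain ⟨hb, -, hT, horb⟩ := levelOK_unpack h.1
    have ih := fixMasks_le_of_gens h.2 (K := K) fun t ht =>
      hK t (by rw [chainGens, List.flatMap_cons]; exact List.mem_append_right _ ht)
    intro σ hσ
    have hq := (horb (σ (pt lv.1))).1 ⟨σ, hσ, rfl⟩
    rw [mem_mset, testBit_orbMask] at hq
    obtain ⟨g, hg, hgq⟩ := hq
    have hgK : permOf g ∈ K :=
      hK g (by rw [chainGens, List.flatMap_cons]; exact List.mem_append_left _ hg)
    have hgF := inFix_mem (hT g hg)
    have hmem : (permOf g)⁻¹ * σ ∈ K := ih ((mem_fixMasks_cons hb).2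
      ⟨Subgroup.mul_mem _ (Subgroup.inv_mem _ hgF) hσ, by
        rw [Equiv.Perm.mul_apply, Equiv.Perm.inv_eq_iff_eq, permOf_pt (inFix_valid (hT g hg)) hb,
          hgq, pt_idx]⟩)
    have := K.mul_mem hgK hmem
    rwa [mul_inv_cancel_left] at this

end CfsgLib.Golay
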