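import Cfsg.Agent.Lib.Golay.Mathieu
import Cfsg.Agent.Lib.KnownA.MathieuOut
import Cfsg.Agent.Lib.Solvable.Gaschutz

/-!
Checked certificates for the splitting of extensions of `M23` by modules of dimension 11:
symbolic collection in a Sylow 2-subgroup, linear equations from associativity and stability.
-/

set_option autoImplicit false

namespace CfsgLib.Golay.H2Check

open Cfsg CfsgLib.Golay
open CfsgLib.KnownA.Mathieu (actW eqW eqW_sound)

/-- The coordinate space. -/
abbrev K : Type := Fin 11 → ZMod 2

theorem z2 (a : ZMod 2) : a = 0 ∨ a = 1 := by revert a; decide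

theorem kadd_self (v : K) : v + v = 0 := funext fun i => CharTwo.add_self_eq_zero (v i)

/-! ### Packed vectors of linear forms -/

/-- A field of a packed vector. -/
def fld (i V : ℕ) : ℕ := Nat.shiftRight V (Nat.mul 512 i) % 2 ^ 512

/-- Packing of forms. -/
def pack : ℕ → (ℕ → ℕ) → ℕ
  | 0, _ => 0
  | n + 1, f => Nat.xor (f 0) (Nat.shiftLeft (pack n fun i => f (i + 1)) 512)

theorem testBit_fld (i V k : ℕ) :
    (fld i V).testBit k = (decide (k < 512) && V.testBit (512 * i + k)) := by
  show ((V >>> (512 * i)) % 2 ^ 512).testBit k = _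
  rw [Nat.testBit_mod_two_pow, Nat.testBit_shiftRight]

theorem fld_xor (i a b : ℕ) : fld i (a ^^^ b) = fld i a ^^^ fld i b := by
  apply Nat.eq_of_testBit_eq
  intro k
  simp only [Nat.testBit_xor, testBit_fld]
  cases decide (k < 512) <;> simp

theorem fld_zero (i : ℕ) : fld i 0 = 0 := by
  apply Nat.eq_of_testBit_eq
  intro k; simp [testBit_fld]

theorem fld_pack : ∀ (n : ℕ) (f : ℕ → ℕ), (∀ i < n, f i < 2 ^ 512) → ∀ i < n, fld i (pack n f) = f i
  | 0, _, _, i, hi => absurd hi (Nat.not_lt_zero i)
  | n + 1, f, hf, i, hi => by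
    apply Nat.eq_of_testBit_eq
    intro k
    rw [testBit_fld]
    show (decide (k < 512) && (f 0 ^^^ ((pack n fun i => f (i + 1)) <<< 512)).testBit (512 * i + k)) = _
    rw [Nat.testBit_xor, Nat.testBit_shiftLeft]
    by_cases hk : k < 512
    · cases i with
      | zero =>
        simp [hk, show ¬ 512 ≤ k by omega]
      | succ i =>
        have h0 : (f 0).testBit (512 * (i + 1) + k) = false :=
          Nat.testBit_lt_two_pow (lt_of_lt_of_le (hf 0 (by omega))
            (Nat.pow_le_pow_right (by norm_num) (by omega)))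
        have := congrArg (fun m => Nat.testBit m k)
          (fld_pack n (fun i => f (i + 1)) (fun j hj => hf _ (by omega)) i (by omega))
        simp only [testBit_fld, hk, decide_true, Bool.true_and] at this
        rw [h0, show 512 * (i + 1) + k - 512 = 512 * i + k by omega, this]
        simp [hk, show 512 ≤ 512 * (i + 1) + k by omega]
    · simp only [hk, decide_false, Bool.false_and]
      exact (Nat.testBit_lt_two_pow (lt_of_lt_of_le (hf i hi)
        (Nat.pow_le_pow_right (by norm_num) (by omega)))).symm

/-- The value of a linear form. -/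
def lf (ρ : ℕ → ZMod 2) (m : ℕ) : ZMod 2 :=
  ∑ b ∈ Finset.range 512, if m.testBit b then ρ b else 0

theorem lf_zero (ρ : ℕ → ZMod 2) : lf ρ 0 = 0 := by simp [lf]

theorem lf_xor (ρ : ℕ → ZMod 2) (a b : ℕ) : lf ρ (a ^^^ b) = lf ρ a + lf ρ b := by
  rw [lf, lf, lf, ← Finset.sum_add_distrib]
  refine Finset.sum_congr rfl fun k _ => ?_
  rw [Nat.testBit_xor]
  cases a.testBit k <;> cases b.testBit k <;> simp [CharTwo.add_self_eq_zero]

theorem lf_two_pow (ρ : ℕ → ZMod 2) {k : ℕ} (hk : k < 512) : lf ρ (2 ^ k) = ρ k := by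
  simp only [lf, Nat.testBit_two_pow, decide_eq_true_eq]
  rw [Finset.sum_ite_eq (Finset.range 512) k ρ, if_pos (Finset.mem_range.2 hk)]

theorem lf_add (ρ ρ' : ℕ → ZMod 2) (m : ℕ) : lf (ρ + ρ') m = lf ρ m + lf ρ' m := by
  rw [lf, lf, lf, ← Finset.sum_add_distrib]
  refine Finset.sum_congr rfl fun k _ => ?_
  cases m.testBit k <;> simp

/-- The value of a packed vector. -/
def vv (ρ : ℕ → ZMod 2) (V : ℕ) : K := fun i => lf ρ (fld i V)

theorem vv_xor (ρ : ℕ → ZMod 2) (a b : ℕ) : vv ρ (a ^^^ b) = vv ρ a + vv ρ b :=
  funext fun i => by simp [vv, fld_xor, lf_xor]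

theorem vv_zero (ρ : ℕ → ZMod 2) : vv ρ 0 = 0 := funext fun i => by simp [vv, fld_zero, lf_zero]

theorem vv_zero_val (V : ℕ) : vv 0 V = 0 := funext fun i => by simp [vv, lf]

/-- The unknown vector of a block. -/
def unk (b : ℕ) : ℕ := pack 11 fun i => 2 ^ (11 * b + i)

/-- The value of a block. -/
def blk (ρ : ℕ → ZMod 2) (b : ℕ) : K := fun i => ρ (11 * b + i)

theorem vv_unk (ρ : ℕ → ZMod 2) {b : ℕ} (hb : b < 46) : vv ρ (unk b) = blk ρ b := by
  funext i
  have hi := i.2
  rw [vv, unk, fld_pack 11 _ (fun j hj => Nat.pow_lt_pow_right (by norm_num) (by omega)) i hi,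
    lf_two_pow ρ (by omega), blk]

/-- The vector with given bit pattern. -/
def colVec (c : ℕ) : K := fun i => if c.testBit i then 1 else 0

/-- Multiply a form by a bit pattern. -/
def spread (c x : ℕ) : ℕ := pack 11 fun i => bif c.testBit i then x else 0

theorem vv_spread (ρ : ℕ → ZMod 2) (c V j : ℕ) :
    vv ρ (spread c (fld j V)) = lf ρ (fld j V) • colVec c := by
  funext i
  have hlt : fld j V < 2 ^ 512 := Nat.mod_lt _ (by positivity)
  rw [vv, spread, fld_pack 11 _ (fun k _ => ?_) i i.2, Pi.smul_apply, colVec, smul_eq_mul]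
  · cases c.testBit i <;> simp [lf_zero]
  · cases c.testBit k
    · simp
    · simpa using hlt

/-- The action of a matrix given by columns. -/
def actC (cols : List ℕ) (V : ℕ) : ℕ :=
  (List.range 11).foldr (fun j acc => Nat.xor (spread (cols.getD j 0) (fld j V)) acc) 0

/-- The linear map of a matrix given by columns. -/
def lin (cols : List ℕ) (v : K) : K := ∑ j : Fin 11, v j • colVec (cols.getD j 0)

theorem vv_actC (ρ : ℕ → ZMod 2) (cols : List ℕ) (V : ℕ) :
    vv ρ (actC cols V) = lin cols (vv ρ V) := by
  have key : ∀ L : List ℕ,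
      vv ρ (L.foldr (fun j acc => Nat.xor (spread (cols.getD j 0) (fld j V)) acc) 0) =
        (L.map fun j => lf ρ (fld j V) • colVec (cols.getD j 0)).sum := by
    intro L
    induction L with
    | nil => simp [vv_zero]
    | cons j L ih =>
      show vv ρ (spread (cols.getD j 0) (fld j V) ^^^ _) = _
      rw [vv_xor, ih, vv_spread, List.map_cons, List.sum_cons]
  rw [actC, key, lin]
  rw [Finset.sum_fin_eq_sum_range]
  rw [Finset.sum_eq_multiset_sum, Finset.range_val, Multiset.range, Multiset.map_coe,
    Multiset.sum_coe]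
  refine congrArg List.sum (List.map_congr_left fun j hj => ?_)
  rw [dif_pos (List.mem_range.1 hj)]
  rfl

/-- XOR of the selected entries. -/
def comb : List ℕ → ℕ → ℕ
  | [], _ => 0
  | f :: fs, m => Nat.xor (bif m.testBit 0 then f else 0) (comb fs (Nat.div m 2))

theorem lf_comb (ρ : ℕ → ZMod 2) :
    ∀ {L : List ℕ}, (∀ f ∈ L, lf ρ f = 0) → ∀ m, lf ρ (comb L m) = 0
  | [], _, _ => lf_zero ρ
  | f :: fs, h, m => by
    show lf ρ ((bif m.testBit 0 then f else 0) ^^^ _) = 0
    rw [lf_xor, lf_comb ρ (L := fs) (fun g hg => h g (List.mem_cons_of_mem _ hg))]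
    cases m.testBit 0 <;> simp [lf_zero, h f List.mem_cons_self]

/-! ### The certificate -/

/-- An equation. -/
inductive Eqn
  | ov (i b : ℕ)
  | st (g : ℕ) (A B : List ℕ)

/-- The data of a certificate. -/
structure Data where
  codes : List ℕ
  mats : List (List ℕ)
  rels : List (ℕ × ℕ × List ℕ)
  nqs : List (ℕ × List ℕ × List ℕ)
  eqns : List Eqn
  picks : List (ℕ × ℕ)
  forms : List ℕ
  extra : List ℕ
  gauge : List ℕ
  cert : List (List ℕ)
  keys : List (List ℕ)

namespace Data

variable (D : Data)

/-- The code of a letter. -/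
def code (k : ℕ) : ℕ := D.codes.getD k idCode

/-- The identity matrix. -/
def idCols : List ℕ := [1, 2, 4, 8, 16, 32, 64, 128, 256, 512, 1024]

/-- The matrix of a letter. -/
def cols (k : ℕ) : List ℕ := D.mats.getD k idCols

/-- Look up a relation. -/
def lk : List (ℕ × ℕ × List ℕ) → ℕ → ℕ → ℕ → Option (ℕ × List ℕ)
  | [], _, _, _ => none
  | r :: rs, b, j, k =>
    bif Nat.beq r.1 j && Nat.beq r.2.1 k then some (b, r.2.2) else lk rs (b + 1) j k

theorem lk_sound : ∀ {R : List (ℕ × ℕ × List ℕ)} {b j k b' : ℕ} {w : List ℕ},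
    lk R b j k = some (b', w) → b ≤ b' ∧ R[b' - b]? = some (j, k, w)
  | [], _, _, _, _, _, h => by simp [lk] at h
  | r :: rs, b, j, k, b', w, h => by
    rw [lk] at h
    cases hc : Nat.beq r.1 j && Nat.beq r.2.1 k with
    | true =>
      rw [hc] at h
      simp only [cond_true, Option.some.injEq, Prod.mk.injEq] at h
      obtain ⟨rfl, rfl⟩ := h
      simp only [Bool.and_eq_true] at hc
      rw [← Nat.eq_of_beq_eq_true hc.1, ← Nat.eq_of_beq_eq_true hc.2]
      simp
    | false =>
      rw [hc] at h
      obtain ⟨h1, h2⟩ := lk_sound h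
      refine ⟨by omega, ?_⟩
      rw [show b' - b = (b' - (b + 1)) + 1 by omega, List.getElem?_cons_succ]
      exact h2

/-- The action of a word. -/
def actL : List ℕ → ℕ → ℕ
  | [], V => V
  | k :: w, V => actC (D.cols k) (actL w V)

/-- Collection; the first word is kept in reverse. -/
def collect : ℕ → List ℕ → List ℕ → Option (ℕ × List ℕ)
  | 0, _, _ => none
  | _ + 1, e, [] => some (0, e.reverse)
  | f + 1, [], k :: w => collect f [k] w
  | f + 1, j :: e, k :: w =>
    bif Nat.blt j k then collect f (k :: j :: e) w else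
      match lk D.rels 0 j k with
      | none => none
      | some (b, r) =>
        match collect f e (r ++ w) with
        | none => none
        | some (n, z) => some (Nat.xor (D.actL e.reverse (unk b)) n, z)

/-- The relation with a given number. -/
def rel (b : ℕ) : ℕ × ℕ × List ℕ := D.rels.getD b (0, 0, [])

/-- The stability datum with a given number. -/
def nq (a : ℕ) : ℕ × List ℕ × List ℕ := D.nqs.getD a (0, [], [])

/-- Transported value of a product of stability data. -/
def nsum : List ℕ → ℕ
  | [] => 0
  | a :: A => Nat.xor (unk (D.rels.length + a)) (D.actL (D.nq a).2.2 (nsum A))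

/-- One side of a stability equation. -/
def side (g : ℕ) (A : List ℕ) : Option (ℕ × List ℕ × List ℕ) :=
  match D.collect 400 [] (A.flatMap fun a => (D.nq a).2.1),
    D.collect 400 [] (A.flatMap fun a => (D.nq a).2.2) with
  | some (m, z), some (m', z') =>
    some (Nat.xor (Nat.xor (D.nsum A) m') (actC (D.cols g) m), z, z')
  | _, _ => none

/-- The packed vector of an equation. -/
def eval : Eqn → Option ℕ
  | .ov i b =>
    bif Nat.blt b D.rels.length then
      match D.collect 400 [] [i, (D.rel b).1, (D.rel b).2.1],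
        D.collect 400 [] (i :: (D.rel b).2.2) with
      | some (n, z), some (n', z') =>
        bif decide (z = z') then some (Nat.xor (Nat.xor n n') (actC (D.cols i) (unk b))) else none
      | _, _ => none
    else none
  | .st g A B =>
    bif (A ++ B).all (fun a => Nat.blt a D.nqs.length && Nat.beq (D.nq a).1 g) then
      match D.side g A, D.side g B with
      | some (n, z, y), some (n', z', y') =>
        bif decide (z = z') && decide (y = y') then some (Nat.xor n n') else none
      | _, _ => none
    else none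

/-- Gauge value of a word. -/
def gsum : List ℕ → ℕ
  | [] => 0
  | k :: w => Nat.xor (D.gauge.getD k 0) (actC (D.cols k) (gsum w))

/-- The normal words. -/
def normals : List (List ℕ) :=
  (List.range 128).map fun e => (List.range 7).filter fun i => e.testBit i

/-- The permutation checks. -/
def groupOK : Bool :=
  D.codes.all (fun c => inM24 c && Nat.beq (img c 23) 23) &&
  Nat.beq D.mats.length D.codes.length &&
  (D.rels.all fun r => eqW [D.code r.1, D.code r.2.1] (r.2.2.map D.code)) &&
  (D.nqs.all fun r => eqW (D.code r.1 :: r.2.1.map D.code) (r.2.2.map D.code ++ [D.code r.1])) &&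
  Nat.ble (D.rels.length + D.nqs.length) 46

/-- The checks of the Sylow subgroup. -/
def sylowOK : Bool :=
  (normals.all fun z => (List.range 7).all fun k =>
    match D.collect 400 [] (z ++ [k]) with
    | none => false
    | some r => normals.contains r.2) &&
  decide (normals.map (fun z => (List.range 24).map (actW (z.map D.code))) = D.keys)

/-- The forms come from the equations. -/
def formsOK : Bool :=
  (fun L : List (Option ℕ) =>
    Nat.beq D.forms.length D.picks.length &&
    (D.forms.zip D.picks).all fun p =>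
      Nat.blt p.2.2 11 &&
      match L.getD p.2.1 none with
      | none => false
      | some v => Nat.beq (fld p.2.2 v) p.1)
    (D.eqns.map D.eval)

/-- The corrected relations lie in the span. -/
def certOK : Bool :=
  (List.range D.rels.length).all fun b =>
    (fun t => (List.range 11).all fun i =>
      Nat.beq (fld i t) (comb (D.forms ++ D.extra) ((D.cert.getD b []).getD i 0)))
    (Nat.xor (Nat.xor (D.gsum [(D.rel b).1, (D.rel b).2.1]) (D.gsum (D.rel b).2.2)) (unk b))

end Data

/-! ### Extensions -/

/-- An extension of `M23` by the module described by a test on matrices. -/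
structure Ext (ok : ℕ → List ℕ → Bool) (E : Type*) [Group E] where
  ι : Multiplicative K →* E
  π : E →* Equiv.Perm GolayPt
  inj : Function.Injective ι
  ker : π.ker = ι.range
  range : π.range = Spor.M23
  act : ∀ (c : ℕ) (cs : List ℕ), ok c cs = true → ∀ g, π g = permOf c → ∀ j : Fin 11,
    g * ι (Multiplicative.ofAdd (Pi.single j 1)) * g⁻¹ =
      ι (Multiplicative.ofAdd (colVec (cs.getD j 0)))

namespace Ext

variable {ok : ℕ → List ℕ → Bool} {E : Type*} [Group E] (X : Ext ok E)

/-- The element of a vector. -/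
def emb (v : K) : E := X.ι (Multiplicative.ofAdd v)

theorem emb_add (v w : K) : X.emb (v + w) = X.emb v * X.emb w := by
  rw [emb, ofAdd_add, map_mul]; rfl

theorem emb_zero : X.emb 0 = 1 := by rw [emb, ofAdd_zero, map_one]

theorem emb_inj {v w : K} (h : X.emb v = X.emb w) : v = w :=
  Multiplicative.ofAdd.injective (X.inj h)

theorem π_emb (v : K) : X.π (X.emb v) = 1 := by
  rw [← MonoidHom.mem_ker, X.ker]; exact ⟨_, rfl⟩

theorem exists_emb {x : E} (h : X.π x = 1) : ∃ v, x = X.emb v := by
  rw [← MonoidHom.mem_ker, X.ker] at h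
  obtain ⟨v, rfl⟩ := h
  exact ⟨v.toAdd, rfl⟩

theorem conj_emb {g : E} {c : ℕ} {cs : List ℕ} (h : ok c cs = true) (hg : X.π g = permOf c)
    (v : K) : g * X.emb v * g⁻¹ = X.emb (lin cs v) := by
  have hv : v = ∑ j : Fin 11, v j • (Pi.single j 1 : K) := by
    funext i
    simp [Finset.sum_apply, Pi.single_apply]
  conv_lhs => rw [hv]
  rw [lin]
  generalize Finset.univ (α := Fin 11) = s
  induction s using Finset.induction_on with
  | empty => simp [emb_zero]
  | insert j s hj ih =>
    rw [Finset.sum_insert hj, Finset.sum_insert hj, emb_add, emb_add, ← ih]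
    rcases z2 (v j) with e | e
    · simp [e, emb_zero]
    · rw [e, one_smul, one_smul, show X.emb (colVec (cs.getD j 0)) =
        g * X.emb (Pi.single j 1) * g⁻¹ from (X.act c cs h g hg j).symm]
      group

variable (D : Data)

/-- Product of lifts along a word. -/
def wd (L : ℕ → E) (w : List ℕ) : E := (w.map L).prod

/-- Good lifts of the letters. -/
def IsLift (L : ℕ → E) : Prop :=
  ∀ k, X.π (L k) = permOf (D.code k) ∧ ok (D.code k) (D.cols k) = true

/-- The relations hold with the values `ρ`. -/
def RelVal (L : ℕ → E) (ρ : ℕ → ZMod 2) : Prop :=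
  ∀ b < D.rels.length,
    L (D.rel b).1 * L (D.rel b).2.1 = X.emb (blk ρ b) * wd L (D.rel b).2.2

/-- The stability data hold with the values `ρ`. -/
def NqVal (L : ℕ → E) (ρ : ℕ → ZMod 2) : Prop :=
  ∀ a < D.nqs.length, L (D.nq a).1 * wd L (D.nq a).2.1 =
    X.emb (blk ρ (D.rels.length + a)) * (wd L (D.nq a).2.2 * L (D.nq a).1)

variable {X D} {L : ℕ → E} {ρ : ℕ → ZMod 2}

theorem wd_cons (k : ℕ) (w : List ℕ) : wd L (k :: w) = L k * wd L w := List.prod_cons

theorem wd_append (u w : List ℕ) : wd L (u ++ w) = wd L u * wd L w := by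
  rw [wd, List.map_append, List.prod_append]; rfl

theorem π_wd (hL : X.IsLift D L) (w : List ℕ) :
    X.π (wd L w) = ((w.map D.code).map permOf).prod := by
  rw [wd, map_list_prod, List.map_map, List.map_map]
  exact congrArg List.prod (List.map_congr_left fun k _ => (hL k).1)

theorem act_step (hL : X.IsLift D L) (k : ℕ) (v : K) :
    L k * X.emb v = X.emb (lin (D.cols k) v) * L k := by
  rw [← X.conj_emb (hL k).2 (hL k).1 v, inv_mul_cancel_right]

theorem act_word (hL : X.IsLift D L) (w : List ℕ) (V : ℕ) :
    wd L w * X.emb (vv ρ V) = X.emb (vv ρ (D.actL w V)) * wd L w := by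
  induction w with
  | nil => simp [wd, Data.actL]
  | cons k w ih =>
    rw [wd_cons, mul_assoc, ih, ← mul_assoc, act_step hL, ← vv_actC, mul_assoc]
    rfl

theorem collect_sound (hL : X.IsLift D L) (hr : X.RelVal D L ρ) (hb : D.rels.length ≤ 46) :
    ∀ {f : ℕ} {e w : List ℕ} {n : ℕ} {z : List ℕ}, D.collect f e w = some (n, z) →
      wd L e.reverse * wd L w = X.emb (vv ρ n) * wd L z := by
  intro f
  induction f with
  | zero => intro e w n z h; simp [Data.collect] at h
  | succ f ih =>
    intro e w n z h
    cases w with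
    | nil =>
      simp only [Data.collect, Option.some.injEq, Prod.mk.injEq] at h
      obtain ⟨rfl, rfl⟩ := h
      simp [vv_zero, emb_zero, wd]
    | cons k w =>
      cases e with
      | nil =>
        simp only [Data.collect] at h
        rw [← ih h]
        simp [wd]
      | cons j e =>
        simp only [Data.collect] at h
        cases hjk : Nat.blt j k with
        | true =>
          rw [hjk, cond_true] at h
          rw [← ih h, wd_cons, List.reverse_cons (a := k), wd_append _ [k]]
          simp [wd, mul_assoc]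
        | false =>
          rw [hjk, cond_false] at h
          cases hl : Data.lk D.rels 0 j k with
          | none => rw [hl] at h; simp at h
          | some p =>
            obtain ⟨b, r⟩ := p
            rw [hl] at h
            dsimp only at h
            cases hc : D.collect f e (r ++ w) with
            | none => rw [hc] at h; simp at h
            | some q =>
              obtain ⟨n', z'⟩ := q
              rw [hc] at h
              simp only [Option.some.injEq, Prod.mk.injEq] at h
              obtain ⟨rfl, rfl⟩ := h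
              obtain ⟨-, hb'⟩ := Data.lk_sound hl
              rw [Nat.sub_zero] at hb'
              obtain ⟨hlt, -⟩ := List.getElem?_eq_some_iff.1 hb'
              have hrel : D.rel b = (j, k, r) := by
                rw [Data.rel, List.getD_eq_getElem?_getD, hb']; rfl
              have h1 := hr b hlt
              rw [hrel] at h1
              have h2 := ih hc
              rw [wd_append] at h2
              rw [show Nat.xor (D.actL e.reverse (unk b)) n' = D.actL e.reverse (unk b) ^^^ n' from rfl,
                vv_xor, emb_add, mul_assoc, ← h2, List.reverse_cons, wd_append, wd_cons k w]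
              have h3 := act_word (ρ := ρ) hL e.reverse (unk b)
              rw [vv_unk ρ (by omega)] at h3
              calc wd L e.reverse * wd L [j] * (L k * wd L w)
                  = wd L e.reverse * (L j * L k) * wd L w := by simp [wd, mul_assoc]
                _ = wd L e.reverse * X.emb (blk ρ b) * wd L r * wd L w := by
                    rw [h1]; simp [mul_assoc]
                _ = _ := by rw [h3]; simp [mul_assoc]

theorem collect_nil (hL : X.IsLift D L) (hr : X.RelVal D L ρ) (hb : D.rels.length ≤ 46)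
    {w : List ℕ} {n : ℕ} {z : List ℕ} (h : D.collect 400 [] w = some (n, z)) :
    wd L w = X.emb (vv ρ n) * wd L z := by
  simpa [wd] using collect_sound hL hr hb h

theorem nsum_sound (hL : X.IsLift D L) (hn : X.NqVal D L ρ)
    (hb : D.rels.length + D.nqs.length ≤ 46) (g : ℕ) :
    ∀ A : List ℕ, (∀ a ∈ A, a < D.nqs.length ∧ (D.nq a).1 = g) →
      L g * wd L (A.flatMap fun a => (D.nq a).2.1) =
        X.emb (vv ρ (D.nsum A)) * (wd L (A.flatMap fun a => (D.nq a).2.2) * L g) := by
  intro A
  induction A with
  | nil => intro _; simp [Data.nsum, vv_zero, emb_zero, wd]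
  | cons a A ih =>
    intro hA
    obtain ⟨ha, hg⟩ := hA a List.mem_cons_self
    have h1 := hn a ha
    rw [hg] at h1
    have h2 := ih fun b hb => hA b (List.mem_cons_of_mem _ hb)
    have h3 := act_word (ρ := ρ) hL (D.nq a).2.2 (D.nsum A)
    rw [List.flatMap_cons, List.flatMap_cons, wd_append, wd_append, ← mul_assoc, h1]
    rw [show D.nsum (a :: A) = unk (D.rels.length + a) ^^^ D.actL (D.nq a).2.2 (D.nsum A) from rfl,
      vv_xor, emb_add, vv_unk ρ (by omega)]
    calc X.emb (blk ρ (D.rels.length + a)) * (wd L (D.nq a).2.2 * L g) *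
          wd L (A.flatMap fun a => (D.nq a).2.1)
        = X.emb (blk ρ (D.rels.length + a)) * wd L (D.nq a).2.2 *
            (L g * wd L (A.flatMap fun a => (D.nq a).2.1)) := by simp [mul_assoc]
      _ = X.emb (blk ρ (D.rels.length + a)) *
            (wd L (D.nq a).2.2 * X.emb (vv ρ (D.nsum A))) *
            (wd L (A.flatMap fun a => (D.nq a).2.2) * L g) := by rw [h2]; simp [mul_assoc]
      _ = _ := by rw [h3]; simp [mul_assoc]

theorem side_sound (hL : X.IsLift D L) (hr : X.RelVal D L ρ) (hn : X.NqVal D L ρ)
    (hb : D.rels.length + D.nqs.length ≤ 46) {g : ℕ} {A : List ℕ}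
    (hA : ∀ a ∈ A, a < D.nqs.length ∧ (D.nq a).1 = g) {n : ℕ} {z y : List ℕ}
    (h : D.side g A = some (n, z, y)) :
    L g * wd L z = X.emb (vv ρ n) * (wd L y * L g) := by
  rw [Data.side] at h
  cases h1 : D.collect 400 [] (A.flatMap fun a => (D.nq a).2.1) with
  | none => rw [h1] at h; simp at h
  | some p =>
    obtain ⟨m, z1⟩ := p
    cases h2 : D.collect 400 [] (A.flatMap fun a => (D.nq a).2.2) with
    | none => rw [h1, h2] at h; simp at h
    | some q =>
      obtain ⟨m', z2⟩ := q
      rw [h1, h2] at h
      simp only [Option.some.injEq, Prod.mk.injEq] at h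
      obtain ⟨rfl, rfl, rfl⟩ := h
      have e1 := collect_nil hL hr (by omega) h1
      have e2 := collect_nil hL hr (by omega) h2
      have e3 := nsum_sound hL hn hb g A hA
      rw [e1, e2, ← mul_assoc, act_step hL, ← vv_actC] at e3
      rw [show Nat.xor (Nat.xor (D.nsum A) m') (actC (D.cols g) m) =
        D.nsum A ^^^ m' ^^^ actC (D.cols g) m from rfl, vv_xor, vv_xor, add_comm _ (vv ρ (actC _ _)),
        emb_add, emb_add]
      rw [← mul_right_inj (X.emb (vv ρ (actC (D.cols g) m))), ← mul_assoc, e3]
      simp only [mul_assoc]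
      rw [← mul_assoc (X.emb (vv ρ (actC (D.cols g) m))) (X.emb (vv ρ (actC (D.cols g) m))),
        ← X.emb_add, kadd_self, emb_zero, one_mul]

theorem eval_sound (hL : X.IsLift D L) (hr : X.RelVal D L ρ) (hn : X.NqVal D L ρ)
    (hb : D.rels.length + D.nqs.length ≤ 46) {q : Eqn} {v : ℕ} (h : D.eval q = some v) :
    vv ρ v = 0 := by
  cases q with
  | ov i b =>
    simp only [Data.eval] at h
    cases hlt : Nat.blt b D.rels.length with
    | false => rw [hlt] at h; simp at h
    | true =>
      rw [hlt, cond_true] at h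
      have hlt' : b < D.rels.length := by simpa using hlt
      cases h1 : D.collect 400 [] [i, (D.rel b).1, (D.rel b).2.1] with
      | none => rw [h1] at h; simp at h
      | some p =>
        obtain ⟨n, z⟩ := p
        cases h2 : D.collect 400 [] (i :: (D.rel b).2.2) with
        | none => rw [h1, h2] at h; simp at h
        | some p' =>
          obtain ⟨n', z'⟩ := p'
          rw [h1, h2] at h
          dsimp only at h
          by_cases hz : z = z'
          · subst hz
            simp only [decide_true, cond_true, Option.some.injEq] at h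
            subst h
            have e1 := collect_nil hL hr (by omega) h1
            have e2 := collect_nil hL hr (by omega) h2
            have e3 : wd L [i, (D.rel b).1, (D.rel b).2.1] =
                X.emb (vv ρ (actC (D.cols i) (unk b))) * wd L (i :: (D.rel b).2.2) := by
              rw [wd_cons, wd_cons i (D.rel b).2.2,
                show wd L [(D.rel b).1, (D.rel b).2.1] = L (D.rel b).1 * L (D.rel b).2.1 by simp [wd],
                hr b hlt', ← mul_assoc, act_step hL, vv_actC, vv_unk ρ (by omega), mul_assoc]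
            rw [e1, e2, ← mul_assoc, ← X.emb_add, mul_left_inj] at e3
            rw [show Nat.xor (Nat.xor n n') (actC (D.cols i) (unk b)) =
              n ^^^ n' ^^^ actC (D.cols i) (unk b) from rfl, vv_xor, vv_xor, X.emb_inj e3]
            rw [add_assoc _ (vv ρ n') (vv ρ n'), kadd_self, add_zero, kadd_self]
          · simp [hz] at h
  | st g A B =>
    simp only [Data.eval] at h
    cases hall : (A ++ B).all (fun a => Nat.blt a D.nqs.length && Nat.beq (D.nq a).1 g) with
    | false => rw [hall] at h; simp at h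
    | true =>
      rw [hall, cond_true] at h
      have hall' : ∀ a ∈ A ++ B, a < D.nqs.length ∧ (D.nq a).1 = g := fun a ha => by
        have := List.all_eq_true.1 hall a ha
        rw [Bool.and_eq_true] at this
        exact ⟨by simpa using this.1, Nat.eq_of_beq_eq_true this.2⟩
      cases h1 : D.side g A with
      | none => rw [h1] at h; simp at h
      | some p =>
        obtain ⟨n, z, y⟩ := p
        cases h2 : D.side g B with
        | none => rw [h1, h2] at h; simp at h
        | some p' =>
          obtain ⟨n', z', y'⟩ := p'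
          rw [h1, h2] at h
          dsimp only at h
          by_cases hz : z = z' ∧ y = y'
          · obtain ⟨rfl, rfl⟩ := hz
            simp only [decide_true, Bool.and_self, cond_true, Option.some.injEq] at h
            subst h
            have e1 := side_sound hL hr hn hb
              (fun a ha => hall' a (List.mem_append_left _ ha)) h1
            have e2 := side_sound hL hr hn hb
              (fun a ha => hall' a (List.mem_append_right _ ha)) h2
            rw [e1, mul_left_inj] at e2
            rw [show Nat.xor n n' = n ^^^ n' from rfl, vv_xor, X.emb_inj e2, kadd_self]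
          · exfalso
            revert h
            rcases not_and_or.1 hz with e | e <;> simp [e]

theorem forms_sound (hL : X.IsLift D L) (hr : X.RelVal D L ρ) (hn : X.NqVal D L ρ)
    (hb : D.rels.length + D.nqs.length ≤ 46) (h : D.formsOK = true) :
    ∀ f ∈ D.forms, lf ρ f = 0 := by
  simp only [Data.formsOK, Bool.and_eq_true, List.all_eq_true] at h
  obtain ⟨hlen, h⟩ := h
  intro f hf
  obtain ⟨i, hi, rfl⟩ := List.getElem_of_mem hf
  have hi' : i < D.picks.length := by rw [← Nat.eq_of_beq_eq_true hlen]; exact hi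
  have hmem : (D.forms[i], D.picks[i]) ∈ D.forms.zip D.picks := by
    refine List.mem_iff_getElem.2 ⟨i, by simp [hi, hi'], by simp⟩
  obtain ⟨h11, h2⟩ := h _ hmem
  have h11' : D.picks[i].2 < 11 := by simpa using h11
  rw [List.getD_eq_getElem?_getD, List.getElem?_map] at h2
  cases hq : D.eqns[D.picks[i].1]? with
  | none => rw [hq] at h2; simp at h2
  | some q =>
    rw [hq] at h2
    cases hv : D.eval q with
    | none => simp [hv] at h2
    | some v =>
      simp only [Option.map_some, hv, Option.getD_some] at h2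
      rw [← Nat.eq_of_beq_eq_true h2]
      exact congrFun (eval_sound hL hr hn hb hv) ⟨_, h11'⟩

theorem code_mem (hg : D.groupOK = true) (k : ℕ) :
    valid (D.code k) = true ∧ permOf (D.code k) ∈ Spor.M23 := by
  simp only [Data.groupOK, Bool.and_eq_true, List.all_eq_true] at hg
  rw [Data.code, List.getD_eq_getElem?_getD]
  cases he : D.codes[k]? with
  | none => exact ⟨idCode_valid, by rw [Option.getD_none, permOf_idCode]; exact Subgroup.one_mem _⟩
  | some c =>
    obtain ⟨h1, h2⟩ := hg.1.1.1.1 c (List.mem_of_getElem? he)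
    refine ⟨inM24_valid h1, inM24_mem h1, ?_⟩
    show permOf c none = none
    have e : (none : GolayPt) = pt 23 := by decide +kernel
    rw [e, permOf_pt (inM24_valid h1) (by norm_num), Nat.eq_of_beq_eq_true h2]

theorem eqW_prod (hg : D.groupOK = true) {u w : List ℕ}
    (h : eqW (u.map D.code) (w.map D.code) = true) (hL : X.IsLift D L) :
    X.π (wd L u) = X.π (wd L w) := by
  rw [π_wd hL, π_wd hL]
  refine eqW_sound (List.all_eq_true.2 fun c hc => ?_) h
  rw [← List.map_append] at hc
  obtain ⟨k, -, rfl⟩ := List.mem_map.1 hc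
  exact (code_mem hg k).1

theorem exists_lift (hg : D.groupOK = true)
    (hm : ∀ k ≤ D.codes.length, ok (D.code k) (D.cols k) = true) : ∃ L, X.IsLift D L := by
  have h : ∀ k, ∃ g, X.π g = permOf (D.code k) := fun k => by
    have := (code_mem hg k).2
    rwa [← X.range] at this
  choose L hL using h
  refine ⟨L, fun k => ⟨hL k, ?_⟩⟩
  by_cases hk : k ≤ D.codes.length
  · exact hm k hk
  · simp only [Data.groupOK, Bool.and_eq_true] at hg
    have hlen := Nat.eq_of_beq_eq_true hg.1.1.1.2
    have e := hm D.codes.length le_rfl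
    simp only [Data.code, Data.cols, List.getD_eq_getElem?_getD,
      List.getElem?_eq_none (show D.codes.length ≤ k by omega),
      List.getElem?_eq_none (show D.mats.length ≤ k by omega)]
    simpa only [Data.code, Data.cols, List.getD_eq_getElem?_getD,
      List.getElem?_eq_none (le_refl D.codes.length),
      List.getElem?_eq_none (show D.mats.length ≤ D.codes.length by omega)] using e

theorem exists_val (hg : D.groupOK = true) (hL : X.IsLift D L) :
    ∃ ρ, X.RelVal D L ρ ∧ X.NqVal D L ρ := by
  classical
  have hg' := hg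
  simp only [Data.groupOK, Bool.and_eq_true, List.all_eq_true] at hg'
  have key : ∀ u w : List ℕ, eqW (u.map D.code) (w.map D.code) = true →
      ∃ v, wd L u = X.emb v * wd L w := fun u w h => by
    obtain ⟨v, hv⟩ := X.exists_emb (x := wd L u * (wd L w)⁻¹)
      (by rw [map_mul, map_inv, eqW_prod hg h hL, mul_inv_cancel])
    exact ⟨v, by rw [← hv, inv_mul_cancel_right]⟩
  have hR : ∀ b, ∃ v : K, b < D.rels.length →
      L (D.rel b).1 * L (D.rel b).2.1 = X.emb v * wd L (D.rel b).2.2 := fun b => by
    by_cases hb : b < D.rels.length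
    · have hmem : D.rel b ∈ D.rels := by
        rw [Data.rel, List.getD_eq_getElem _ _ hb]; exact List.getElem_mem hb
      obtain ⟨v, hv⟩ := key [(D.rel b).1, (D.rel b).2.1] _ (hg'.1.1.2 _ hmem)
      exact ⟨v, fun _ => by simpa [wd] using hv⟩
    · exact ⟨0, fun h => absurd h hb⟩
  have hN : ∀ a, ∃ v : K, a < D.nqs.length → L (D.nq a).1 * wd L (D.nq a).2.1 =
      X.emb v * (wd L (D.nq a).2.2 * L (D.nq a).1) := fun a => by
    by_cases ha : a < D.nqs.length
    · have hmem : D.nq a ∈ D.nqs := by
        rw [Data.nq, List.getD_eq_getElem _ _ ha]; exact List.getElem_mem ha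
      obtain ⟨v, hv⟩ := key ((D.nq a).1 :: (D.nq a).2.1) ((D.nq a).2.2 ++ [(D.nq a).1])
        (by simpa using hg'.1.2 _ hmem)
      refine ⟨v, fun _ => ?_⟩
      rw [wd_cons, wd_append] at hv
      simpa [wd] using hv
    · exact ⟨0, fun h => absurd h ha⟩
  choose R hR using hR
  choose N hN using hN
  let B : ℕ → K := fun b => if b < D.rels.length then R b else N (b - D.rels.length)
  let ρ : ℕ → ZMod 2 := fun n => B (n / 11) ⟨n % 11, Nat.mod_lt _ (by norm_num)⟩
  have hB : ∀ b, blk ρ b = B b := fun b => by
    funext i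
    have := i.2
    show B ((11 * b + (i : ℕ)) / 11) _ = B b i
    rw [show (11 * b + (i : ℕ)) / 11 = b by omega]
    exact congrArg (B b) (Fin.ext (by show (11 * b + (i : ℕ)) % 11 = i; omega))
  refine ⟨ρ, fun b hb => ?_, fun a ha => ?_⟩
  · rw [hB, show B b = R b from if_pos hb]; exact hR b hb
  · rw [hB, show B (D.rels.length + a) = N a by simp [B]]; exact hN a ha

theorem gauge_wd (hL : X.IsLift D L) (w : List ℕ) :
    wd (fun k => X.emb (vv ρ (D.gauge.getD k 0)) * L k) w =
      X.emb (vv ρ (D.gsum w)) * wd L w := by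
  induction w with
  | nil => simp [wd, Data.gsum, vv_zero, emb_zero]
  | cons k w ih =>
    rw [wd_cons, ih, wd_cons,
      show D.gsum (k :: w) = D.gauge.getD k 0 ^^^ actC (D.cols k) (D.gsum w) from rfl, vv_xor,
      vv_actC, emb_add]
    rw [mul_assoc, ← mul_assoc (L k), act_step hL]
    simp [mul_assoc]

theorem relVal_gauge (hL : X.IsLift D L) (hr : X.RelVal D L ρ) (hb : D.rels.length ≤ 46)
    (hf : ∀ f ∈ D.forms ++ D.extra, lf ρ f = 0) (hc : D.certOK = true) :
    X.RelVal D (fun k => X.emb (vv ρ (D.gauge.getD k 0)) * L k) 0 := by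
  intro b hb'
  set L' : ℕ → E := fun k => X.emb (vv ρ (D.gauge.getD k 0)) * L k with hL'
  have h1 := gauge_wd (ρ := ρ) hL [(D.rel b).1, (D.rel b).2.1]
  have h2 := gauge_wd (ρ := ρ) hL (D.rel b).2.2
  rw [← hL'] at h1 h2
  simp only [Data.certOK, List.all_eq_true, List.mem_range] at hc
  have hz : vv ρ (Nat.xor (Nat.xor (D.gsum [(D.rel b).1, (D.rel b).2.1])
      (D.gsum (D.rel b).2.2)) (unk b)) = 0 := by
    funext i
    rw [vv, Nat.eq_of_beq_eq_true (hc b hb' i i.2)]
    exact lf_comb ρ hf _
  change vv ρ (_ ^^^ _ ^^^ _) = 0 at hz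
  rw [vv_xor, vv_xor, vv_unk ρ (by omega)] at hz
  have hz' : vv ρ (D.gsum [(D.rel b).1, (D.rel b).2.1]) + blk ρ b =
      vv ρ (D.gsum (D.rel b).2.2) := by
    funext i
    have := congrFun hz i
    simp only [Pi.add_apply, Pi.zero_apply] at this ⊢
    linear_combination this - CharTwo.add_self_eq_zero (vv ρ (D.gsum (D.rel b).2.2) i)
  rw [show blk (0 : ℕ → ZMod 2) b = 0 from rfl, emb_zero, one_mul]
  have e : L' (D.rel b).1 * L' (D.rel b).2.1 = wd L' [(D.rel b).1, (D.rel b).2.1] := by simp [wd]
  rw [e, h1, h2, ← hz', emb_add,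
    show wd L [(D.rel b).1, (D.rel b).2.1] = L (D.rel b).1 * L (D.rel b).2.1 by simp [wd], hr b hb',
    mul_assoc]

theorem exists_complement_of_relVal [Finite E] (hg : D.groupOK = true) (hs : D.sylowOK = true)
    (hk : D.keys.Nodup) (hL : X.IsLift D L) (hr : X.RelVal D L 0) :
    ∃ H : Subgroup E, H ⊓ X.π.ker = ⊥ ∧ H ⊔ X.π.ker = ⊤ := by
  classical
  have hb : D.rels.length ≤ 46 := by
    simp only [Data.groupOK, Bool.and_eq_true, Nat.ble_eq] at hg
    omega
  simp only [Data.sylowOK, Bool.and_eq_true, List.all_eq_true, decide_eq_true_eq] at hs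
  obtain ⟨hclose, hkeys⟩ := hs
  set S : Set E := {x | ∃ z ∈ Data.normals, wd L z = x} with hS
  have hnil : ([] : List ℕ) ∈ Data.normals := by decide +kernel
  have hlt : ∀ z ∈ Data.normals, ∀ k ∈ z, k < 7 := by decide +kernel
  have hstep : ∀ x ∈ S, ∀ k < 7, x * L k ∈ S := by
    rintro _ ⟨z, hz, rfl⟩ k hk
    have h := hclose z hz k (List.mem_range.2 hk)
    cases hc : D.collect 400 [] (z ++ [k]) with
    | none => rw [hc] at h; simp at h
    | some p =>
      rw [hc] at h
      refine ⟨p.2, List.contains_iff_mem.1 h, ?_⟩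
      have e := collect_nil hL hr hb (show D.collect 400 [] (z ++ [k]) = some (p.1, p.2) from hc)
      rw [vv_zero_val, emb_zero, one_mul, wd_append] at e
      rw [← e]; simp [wd]
  have hmulw : ∀ w : List ℕ, (∀ k ∈ w, k < 7) → ∀ x ∈ S, x * wd L w ∈ S := by
    intro w
    induction w with
    | nil => intro _ x hx; simpa [wd] using hx
    | cons k w ih =>
      intro hw x hx
      rw [wd_cons, ← mul_assoc]
      exact ih (fun i hi => hw i (List.mem_cons_of_mem _ hi)) _
        (hstep x hx k (hw k List.mem_cons_self))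
  have hmul : ∀ x ∈ S, ∀ y ∈ S, x * y ∈ S := by
    rintro x hx _ ⟨z, hz, rfl⟩
    exact hmulw z (hlt z hz) x hx
  have hone : (1 : E) ∈ S := ⟨[], hnil, rfl⟩
  have hpow : ∀ x ∈ S, ∀ n : ℕ, x ^ n ∈ S := fun x hx n => by
    induction n with
    | zero => simpa using hone
    | succ n ih => rw [pow_succ]; exact hmul _ ih _ hx
  let A : Subgroup E :=
    { carrier := S
      one_mem' := hone
      mul_mem' := fun {a b} ha hb => hmul a ha b hb
      inv_mem' := fun {a} ha => by
        obtain ⟨n, hn⟩ : ∃ n : ℕ, a⁻¹ = a ^ n := ⟨orderOf a - 1, inv_eq_of_mul_eq_one_right (by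
          rw [← pow_succ', Nat.sub_add_cancel (orderOf_pos a), pow_orderOf_eq_one])⟩
        show a⁻¹ ∈ S
        rw [hn]; exact hpow a ha n }
  have hnd : (Data.normals.map fun z => (List.range 24).map (actW (z.map D.code))).Nodup := by
    rw [hkeys]; exact hk
  have hinjN : ∀ z ∈ Data.normals, ∀ z' ∈ Data.normals,
      X.π (wd L z) = X.π (wd L z') → z = z' := by
    intro z hz z' hz' he
    refine List.inj_on_of_nodup_map hnd hz hz' (List.map_congr_left fun i hi => ?_)
    have hv : ∀ w : List ℕ, ∀ c ∈ w.map D.code, valid c = true := fun w c hc => by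
      obtain ⟨k, -, rfl⟩ := List.mem_map.1 hc
      exact (code_mem hg k).1
    obtain ⟨e1, e1'⟩ := CfsgLib.KnownA.Mathieu.actW_spec (hv z) (List.mem_range.1 hi)
    obtain ⟨e2, e2'⟩ := CfsgLib.KnownA.Mathieu.actW_spec (hv z') (List.mem_range.1 hi)
    rw [π_wd hL, π_wd hL] at he
    rw [he, e2] at e1
    have := congrArg idx e1
    rw [idx_pt e2', idx_pt e1'] at this
    exact this.symm
  have hAK : A ⊓ X.π.ker = ⊥ := by
    rw [eq_bot_iff]
    rintro x ⟨⟨z, hz, rfl⟩, hx⟩
    have := hinjN z hz [] hnil (by rw [show X.π (wd L z) = 1 from hx]; simp [wd])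
    subst this
    simp [wd]
  have hcardP : Nat.card (A.map X.π) = 128 := by
    have hset : (A.map X.π : Set (Equiv.Perm GolayPt)) =
        ((Data.normals.map fun z => X.π (wd L z)).toFinset : Set _) := by
      ext σ
      simp only [Subgroup.coe_map, Set.mem_image, SetLike.mem_coe, List.coe_toFinset,
        List.mem_map, Set.mem_ofPred_eq]
      constructor
      · rintro ⟨x, ⟨z, hz, rfl⟩, rfl⟩; exact ⟨z, hz, rfl⟩
      · rintro ⟨z, hz, rfl⟩; exact ⟨_, ⟨z, hz, rfl⟩, rfl⟩
    rw [show Nat.card (A.map X.π) = Nat.card (A.map X.π : Set (Equiv.Perm GolayPt)) from rfl, hset,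
      Nat.card_coe_set_eq, Set.ncard_coe_finset]
    rw [List.toFinset_card_of_nodup]
    · rw [List.length_map]; rfl
    · refine List.Nodup.map_on hinjN ?_
      exact List.Nodup.of_map _ hnd
  have hcardK : Nat.card X.π.ker = 2 ^ 11 := by
    rw [X.ker, ← Nat.card_congr (MonoidHom.ofInjective X.inj).toEquiv]
    rw [Nat.card_congr (Multiplicative.toAdd : Multiplicative K ≃ K)]
    simp
  have : IsMulCommutative (X.π.ker) := by
    refine ⟨⟨fun a b => Subtype.ext ?_⟩⟩
    obtain ⟨v, hv⟩ := X.exists_emb a.2
    obtain ⟨w, hw⟩ := X.exists_emb b.2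
    show (a : E) * b = b * a
    rw [hv, hw, ← X.emb_add, ← X.emb_add, add_comm]
  have hU : X.π.ker ⊔ A = Subgroup.comap X.π (A.map X.π) := by
    rw [Subgroup.comap_map_eq, sup_comm]
  have hindex : (X.π.ker ⊔ A).index = 79695 := by
    rw [hU, Subgroup.index_comap]
    have hle : A.map X.π ≤ X.π.range := by
      rintro _ ⟨x, -, rfl⟩; exact ⟨x, rfl⟩
    have h := Subgroup.relIndex_mul_relIndex ⊥ (A.map X.π) X.π.range bot_le hle
    rw [Subgroup.relIndex_bot_left, Subgroup.relIndex_bot_left, hcardP, X.range,
      card_sporM23] at h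
    rw [X.range]
    omega
  obtain ⟨H, hH⟩ := CfsgLib.Solvable.gaschutz_exists (K := X.π.ker) (A := A)
    (U := X.π.ker ⊔ A) le_sup_left (by rw [hcardK, hindex]; norm_num) hAK rfl
  refine ⟨H, ?_, ?_⟩
  · rw [inf_comm]; exact hH.disjoint.eq_bot
  · rw [sup_comm]; exact hH.sup_eq_top

/-- Everything checked. -/
theorem exists_complement [Finite E] (hg : D.groupOK = true) (hs : D.sylowOK = true)
    (hk : D.keys.Nodup) (hf : D.formsOK = true) (hc : D.certOK = true)
    (hL : X.IsLift D L) (hr : X.RelVal D L ρ) (hn : X.NqVal D L ρ)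
    (hx : ∀ f ∈ D.extra, lf ρ f = 0) :
    ∃ H : Subgroup E, H ⊓ X.π.ker = ⊥ ∧ H ⊔ X.π.ker = ⊤ := by
  have hb : D.rels.length + D.nqs.length ≤ 46 := by
    simp only [Data.groupOK, Bool.and_eq_true, Nat.ble_eq] at hg
    exact hg.2
  refine exists_complement_of_relVal hg hs hk
    (L := fun k => X.emb (vv ρ (D.gauge.getD k 0)) * L k) (fun k => ⟨?_, (hL k).2⟩)
    (relVal_gauge hL hr (by omega) (fun f hf' => ?_) hc)
  · rw [map_mul, π_emb, one_mul, (hL k).1]
  · rcases List.mem_append.1 hf' with h | h
    · exact forms_sound hL hr hn hb hf f h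
    · exact hx f h

end Ext

end CfsgLib.Golay.H2Check
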