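import Cfsg.Agent.Lib.Golay.H2Check
import Cfsg.Agent.Lib.Golay.CocodeExt

/-!
The code and cocode modules of `M23` in coordinates, and the difference of two extensions.
-/

set_option autoImplicit false
set_option maxRecDepth 100000

namespace CfsgLib.Golay.H2Check

open Cfsg CfsgLib.Golay
open CfsgLib.Golay.CocodeExt (W act mword_act code_induction)

/-- A basis of the code words vanishing at the extra point, in echelon form. -/
def BV : List ℕ :=
  [5279, 10558, 18147, 36294, 69395, 133817, 262637, 525274, 1050548, 2101096, 4196943]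

/-- Unit words representing a basis of the cocode module. -/
def UV : List ℕ := (List.range 11).map fun j => 2 ^ (12 + j)

/-- The matrix test for the code module. -/
def okCode (c : ℕ) (cs : List ℕ) : Bool :=
  valid c && (List.range 11).all fun j =>
    Nat.beq (mimg c (BV.getD j 0)) (comb BV (cs.getD j 0))

/-- Membership of the kernel of the cocode quotient. -/
def inKer (d : ℕ) : Bool := isCode d || isCode (Nat.xor d 8388608)

/-- The matrix test for the cocode module. -/
def okCoco (c : ℕ) (cs : List ℕ) : Bool :=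
  valid c && (List.range 11).all fun j =>
    inKer (Nat.xor (mimg c (UV.getD j 0)) (comb UV (cs.getD j 0)))

theorem testBit_div_two (m i : ℕ) : (Nat.div m 2).testBit i = m.testBit (i + 1) :=
  (Nat.testBit_add_one m i).symm

theorem mword_comb : ∀ (L : List ℕ) (m : ℕ),
    mword (comb L m) = ∑ j ∈ Finset.range L.length,
      (if m.testBit j then (1 : ZMod 2) else 0) • mword (L.getD j 0)
  | [], m => by simp [comb, mword_zero]
  | f :: fs, m => by
    show mword ((bif m.testBit 0 then f else 0) ^^^ comb fs (Nat.div m 2)) = _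
    rw [mword_xor, mword_comb fs, List.length_cons, Finset.sum_range_succ', add_comm]
    refine congrArg₂ (· + ·) (Finset.sum_congr rfl fun j _ => ?_) ?_
    · rw [List.getD_cons_succ, testBit_div_two]
    · cases m.testBit 0 <;> simp [mword_zero]

theorem comp_eq_act (σ : Equiv.Perm GolayPt) (x : W) : x ∘ ⇑σ⁻¹ = act σ x := rfl

/-- The word with the given coordinates. -/
def wordOf (L : List ℕ) (v : K) : W := ∑ j : Fin 11, v j • mword (L.getD j 0)

theorem wordOf_add (L : List ℕ) (v w : K) : wordOf L (v + w) = wordOf L v + wordOf L w := by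
  simp [wordOf, add_smul, Finset.sum_add_distrib]

theorem wordOf_zero (L : List ℕ) : wordOf L 0 = 0 := by simp [wordOf]

theorem wordOf_single (L : List ℕ) (j : Fin 11) :
    wordOf L (Pi.single j 1) = mword (L.getD j 0) := by
  rw [wordOf, Finset.sum_eq_single j (fun i _ hi => by simp [Pi.single_eq_of_ne hi]) (by simp)]
  simp

theorem wordOf_colVec {L : List ℕ} (hL : L.length = 11) (c : ℕ) :
    wordOf L (colVec c) = mword (comb L c) := by
  rw [mword_comb, hL, Finset.sum_range]
  rfl

theorem exists_colVec (v : K) : ∃ m < 2048, v = colVec m := by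
  refine ⟨Nat.ofBits (fun i => decide (v i = 1)),
    lt_of_lt_of_eq (Nat.ofBits_lt_two_pow _) (by norm_num), funext fun i => ?_⟩
  rw [colVec, Nat.testBit_ofBits_lt _ _ i.2]
  rcases z2 (v i) with e | e <;> simp [e]

theorem BV_code : (BV.all fun b => isCode b && !b.testBit 23) = true := by decide +kernel

theorem BV_pivot : ∀ j k : Fin 11,
    (BV.getD j 0).testBit (12 + k) = decide (j = k) := by decide +kernel

/-- Coordinates of the generators of the code. -/
def GM : List ℕ := [0, 1183, 318, 1763, 1478, 1811, 697, 493, 986, 1972, 1896, 591]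

theorem GM_ok : ((gens.zip GM).all fun p =>
    Nat.beq (bif p.1.testBit 23 then Nat.xor p.1 13062145 else p.1) (comb BV p.2)) = true := by
  decide +kernel

theorem gens_length : gens.length = GM.length := rfl

/-- The code coordinates as a linear map. -/
def codeHom : K →+ W where
  toFun := wordOf BV
  map_zero' := wordOf_zero BV
  map_add' := wordOf_add BV

theorem wordOf_BV_apply (v : K) (i : Fin 11) : wordOf BV v (pt (12 + i)) = v i := by
  have := i.2
  have hi : idx (pt (12 + (i : ℕ))) = 12 + (i : ℕ) := idx_pt (by omega)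
  rw [wordOf, Finset.sum_apply, Finset.sum_eq_single i (fun j _ hj => ?_) (by simp)]
  · rw [Pi.smul_apply, mword, hi, BV_pivot i i]; simp
  · rw [Pi.smul_apply, mword, hi, BV_pivot j i]; simp [hj]

theorem wordOf_BV_injective : Function.Injective (wordOf BV) := fun v w h =>
  funext fun i => by rw [← wordOf_BV_apply v i, h, wordOf_BV_apply]

theorem mem_range_wordOf {w : W} : w ∈ Set.range (wordOf BV) ↔ w ∈ golayCode ∧ w none = 0 := by
  constructor
  · rintro ⟨v, rfl⟩
    obtain ⟨m, -, rfl⟩ := exists_colVec v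
    rw [wordOf_colVec rfl, mword_comb]
    refine ⟨Submodule.sum_mem _ fun j hj => Submodule.smul_mem _ _ ?_, ?_⟩
    · have hj' : j < BV.length := Finset.mem_range.1 hj
      have h := List.all_eq_true.1 BV_code _ (List.getElem_mem hj')
      rw [Bool.and_eq_true] at h
      rw [List.getD_eq_getElem _ _ hj']
      exact mem_golayCode_iff.2 ⟨_, h.1, rfl⟩
    · rw [Finset.sum_apply]
      refine Finset.sum_eq_zero fun j hj => ?_
      have hj' : j < BV.length := Finset.mem_range.1 hj
      have h := List.all_eq_true.1 BV_code _ (List.getElem_mem hj')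
      rw [Bool.and_eq_true, Bool.not_eq_true'] at h
      rw [List.getD_eq_getElem _ _ hj', Pi.smul_apply]
      simp [mword, idx, h.2]
  · rintro ⟨hw, hn⟩
    have hg0 : mword 13062145 none = 1 := by decide +kernel
    have key : w + w none • mword 13062145 ∈ codeHom.range := by
      refine code_induction (fun w => w + w none • mword 13062145 ∈ codeHom.range) ?_ ?_ ?_ hw
      · simp
      · intro x y hx hy
        rw [Pi.add_apply, add_smul, add_add_add_comm]
        exact AddSubgroup.add_mem _ hx hy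
      · intro g hg
        obtain ⟨i, hi, rfl⟩ := List.getElem_of_mem hg
        have hi' : i < GM.length := gens_length ▸ hi
        have h := Nat.eq_of_beq_eq_true (List.all_eq_true.1 GM_ok (gens[i], GM[i])
          (List.mem_iff_getElem.2 ⟨i, by rw [List.length_zip]; omega, List.getElem_zip⟩))
        dsimp only at h
        refine ⟨colVec GM[i], ?_⟩
        show wordOf BV _ = _
        rw [wordOf_colVec rfl, ← h]
        cases hb : (gens[i]).testBit 23 with
        | true =>
          rw [cond_true, show mword gens[i] none = 1 by simp [mword, idx, hb], one_smul]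
          exact mword_xor _ _
        | false =>
          rw [cond_false, show mword gens[i] none = 0 by simp [mword, idx, hb], zero_smul,
            add_zero]
          all_goals rfl
    rw [hn, zero_smul, add_zero] at key
    exact key

theorem mword_none_unit : mword 8388608 = Pi.single none 1 := by
  funext p; revert p; decide +kernel

theorem inKer_sound {d : ℕ} (h : inKer d = true) :
    mword d ∈ golayCode ∨ mword d + Pi.single none 1 ∈ golayCode := by
  rw [inKer, Bool.or_eq_true] at h
  rcases h with h | h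
  · exact Or.inl (mem_golayCode_iff.2 ⟨d, h, rfl⟩)
  · exact Or.inr (mem_golayCode_iff.2 ⟨_, h, by rw [← mword_none_unit]; exact mword_xor _ _⟩)

theorem inKer_complete {d : ℕ} (hd : d < 16777216)
    (h : mword d ∈ golayCode ∨ mword d + Pi.single none 1 ∈ golayCode) : inKer d = true := by
  have key : ∀ k, k < 16777216 → mword k ∈ golayCode → isCode k = true := by
    intro k hk hk'
    obtain ⟨m, hm, e⟩ := mem_golayCode_iff.1 hk'
    have hm' : m < 16777216 := by
      rw [← isCode_iff.1 hm]
      exact (enc_facts _ (Nat.mod_lt _ (by norm_num))).2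
    rw [← mword_inj hm' hk e]; exact hm
  rw [inKer, Bool.or_eq_true]
  rcases h with h | h
  · exact Or.inl (key d hd h)
  · refine Or.inr (key _ ?_ ?_)
    · exact Nat.xor_lt_two_pow (n := 24) hd (by norm_num)
    · rw [show Nat.xor d 8388608 = d ^^^ 8388608 from rfl, mword_xor, mword_none_unit]
      exact h

theorem UV_inj_check : allB 11 (fun m => Nat.beq m 0 ||
    (Nat.blt (comb UV m) 16777216 && !inKer (comb UV m))) 0 = true := by decide +kernel

/-- Representatives of the unit words. -/
def GU : List ℕ := [1141, 1183, 1355, 1763, 435, 870, 1740, 493, 986, 1972, 797, 1594,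
  1, 2, 4, 8, 16, 32, 64, 128, 256, 512, 1024, 0]

theorem GU_ok : ((List.range 24).all fun i =>
    inKer (Nat.xor (2 ^ i) (comb UV (GU.getD i 0)))) = true := by decide +kernel

theorem mword_two_pow (p : GolayPt) : mword (2 ^ idx p) = Pi.single p 1 := by
  funext q
  simp only [mword, Nat.testBit_two_pow]
  by_cases h : q = p
  · subst h; simp
  · have : ¬ idx p = idx q := fun e => h (idx_injective e).symm
    simp [Pi.single_eq_of_ne h, this]

section Code

variable {E : Type*} [Group E] [Finite E] (N : Subgroup E) [hN : N.Normal]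
  (φ : E ⧸ N ≃* ↥Spor.M23)

/-- The projection to permutations. -/
def proj : E →* Equiv.Perm GolayPt :=
  Spor.M23.subtype.comp (φ.toMonoidHom.comp (QuotientGroup.mk' N))

omit [Finite E] in
theorem proj_ker : (proj N φ).ker = N := by
  ext x
  rw [MonoidHom.mem_ker]
  show ((φ (QuotientGroup.mk x) : ↥Spor.M23) : Equiv.Perm GolayPt) = 1 ↔ _
  rw [OneMemClass.coe_eq_one, MulEquiv.map_eq_one_iff, QuotientGroup.eq_one_iff]

omit [Finite E] in
theorem proj_range : (proj N φ).range = Spor.M23 := by
  ext σ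
  constructor
  · rintro ⟨x, rfl⟩; exact (φ (QuotientGroup.mk x)).2
  · intro h
    obtain ⟨x, hx⟩ := QuotientGroup.mk_surjective (φ.symm ⟨σ, h⟩)
    refine ⟨x, ?_⟩
    show ((φ (QuotientGroup.mk x) : ↥Spor.M23) : Equiv.Perm GolayPt) = σ
    rw [hx, MulEquiv.apply_symm_apply]

omit [Finite E] in
/-- An extension by the code module in coordinates. -/
theorem exists_ext_code
    (ψ : Additive ↥N →+ (GolayPt → ZMod 2)) (hinj : Function.Injective ψ)
    (hrange : ∀ w : GolayPt → ZMod 2, w ∈ Set.range ψ ↔ (w ∈ golayCode ∧ w none = 0))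
    (hψ : ∀ (g : E) (n : ↥N),
      ψ (Additive.ofMul ⟨g * n * g⁻¹, hN.conj_mem n n.2 g⟩)
        = ψ (Additive.ofMul n) ∘ ⇑(((φ (QuotientGroup.mk g) : ↥Spor.M23) : Equiv.Perm GolayPt)⁻¹)) :
    ∃ X : Ext okCode E, X.π.ker = N := by
  have hex : ∀ v : K, ∃ a, ψ a = wordOf BV v := fun v =>
    (hrange _).2 (mem_range_wordOf.1 ⟨v, rfl⟩)
  choose n hn using hex
  let f : K →+ Additive ↥N := AddMonoidHom.mk' n fun v w => hinj (by
    rw [map_add, hn, hn, hn, wordOf_add])
  let ι : Multiplicative K →* E := N.subtype.comp (AddMonoidHom.toMultiplicativeLeft f)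
  have hι : ∀ v, ι (Multiplicative.ofAdd v) = ((n v).toMul : E) := fun v => rfl
  refine ⟨{ ι := ι, π := proj N φ, inj := ?_, ker := ?_, range := proj_range N φ, act := ?_ },
    proj_ker N φ⟩
  · intro v w h
    obtain ⟨v, rfl⟩ := Multiplicative.ofAdd.surjective v
    obtain ⟨w, rfl⟩ := Multiplicative.ofAdd.surjective w
    rw [hι, hι] at h
    have := congrArg ψ (Additive.toMul.injective (Subtype.ext h))
    rw [hn, hn] at this
    rw [wordOf_BV_injective this]
  · rw [proj_ker]
    ext x
    constructor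
    · intro hx
      obtain ⟨v, hv⟩ := mem_range_wordOf.2 ((hrange _).1 ⟨Additive.ofMul ⟨x, hx⟩, rfl⟩)
      refine ⟨Multiplicative.ofAdd v, ?_⟩
      rw [hι, hinj ((hn v).trans hv)]
      rfl
    · rintro ⟨v, rfl⟩
      exact SetLike.coe_mem _
  · intro c cs hc g hg j
    simp only [okCode, Bool.and_eq_true, List.all_eq_true, List.mem_range] at hc
    rw [hι, hι]
    have h := hψ g (n (Pi.single j 1)).toMul
    rw [ofMul_toMul, hn, wordOf_single,
      show ((φ (QuotientGroup.mk g) : ↥Spor.M23) : Equiv.Perm GolayPt) = permOf c from hg] at h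
    have e : mword (BV.getD j 0) ∘ ⇑(permOf c)⁻¹ = wordOf BV (colVec (cs.getD j 0)) := by
      rw [show mword (BV.getD j 0) ∘ ⇑(permOf c)⁻¹ = act (permOf c) (mword (BV.getD j 0)) from rfl,
        mword_act hc.1, wordOf_colVec rfl, Nat.eq_of_beq_eq_true (hc.2 j j.2)]
    rw [e, ← hn (colVec (cs.getD j 0))] at h
    exact congrArg (fun a : Additive ↥N => ((a.toMul : ↥N) : E)) (hinj h)

omit [Finite E] in
/-- An extension by the cocode module in coordinates. -/
theorem exists_ext_cocode
    (θ : (GolayPt → ZMod 2) →+ Additive ↥N) (hsurj : Function.Surjective θ)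
    (hker : ∀ w : GolayPt → ZMod 2, θ w = 0 ↔ (w ∈ golayCode ∨ w + Pi.single none 1 ∈ golayCode))
    (hθ : ∀ (g : E) (w : GolayPt → ZMod 2),
      ((θ (w ∘ ⇑(((φ (QuotientGroup.mk g) : ↥Spor.M23) : Equiv.Perm GolayPt)⁻¹))).toMul : E)
        = g * ((θ w).toMul : E) * g⁻¹) :
    ∃ X : Ext okCoco E, X.π.ker = N ∧ (∀ v, X.emb v = ((θ (wordOf UV v)).toMul : E)) ∧
      ∀ g, ∀ v, g * X.emb v * g⁻¹ =
        ((θ (wordOf UV v ∘ ⇑((X.π g)⁻¹))).toMul : E) := by
  let f : K →+ Additive ↥N := θ.comp (AddMonoidHom.mk' (wordOf UV) (wordOf_add UV))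
  let ι : Multiplicative K →* E := N.subtype.comp (AddMonoidHom.toMultiplicativeLeft f)
  have hι : ∀ v, ι (Multiplicative.ofAdd v) = ((θ (wordOf UV v)).toMul : E) := fun v => rfl
  have hxor : ∀ a b : ℕ, inKer (Nat.xor a b) = true → θ (mword a) = θ (mword b) := by
    intro a b h
    have h0 := (hker _).2 (inKer_sound h)
    rw [show Nat.xor a b = a ^^^ b from rfl, mword_xor, map_add] at h0
    have hneg : θ (mword b) + θ (mword b) = 0 := by
      rw [← map_add, CocodeExt.wadd_self, map_zero]
    exact add_right_cancel (h0.trans hneg.symm)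
  refine ⟨{ ι := ι, π := proj N φ, inj := ?_, ker := ?_, range := proj_range N φ, act := ?_ },
    proj_ker N φ, hι, fun g v => ?_⟩
  · intro v w h
    obtain ⟨v, rfl⟩ := Multiplicative.ofAdd.surjective v
    obtain ⟨w, rfl⟩ := Multiplicative.ofAdd.surjective w
    rw [hι, hι] at h
    have h1 : θ (wordOf UV v) = θ (wordOf UV w) := Additive.toMul.injective (Subtype.ext h)
    have h2 : θ (wordOf UV (v + w)) = 0 := by
      rw [wordOf_add, map_add, h1, ← map_add, CocodeExt.wadd_self, map_zero]
    obtain ⟨m, hm, e⟩ := exists_colVec (v + w)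
    rw [e, wordOf_colVec rfl, hker] at h2
    have hc := allB_range UV_inj_check (k := m) (by simpa using hm)
    rw [Bool.or_eq_true, Bool.and_eq_true, Bool.not_eq_true'] at hc
    rcases hc with hc | ⟨hlt, hc⟩
    · have hvw : v + w = 0 := by
        rw [e, Nat.eq_of_beq_eq_true hc]
        funext i; simp [colVec]
      have : v = w := by
        have := congrArg (· + w) hvw
        simpa [add_assoc, kadd_self] using this
      rw [this]
    · rw [inKer_complete (by simpa using hlt) h2] at hc
      exact absurd hc (by simp)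
  · rw [proj_ker]
    ext x
    constructor
    · intro hx
      obtain ⟨w, hw⟩ := hsurj (Additive.ofMul ⟨x, hx⟩)
      have hmem : w ∈ AddSubgroup.comap θ f.range := by
        have hw' : w = ∑ p, w p • (Pi.single p 1 : W) := by
          funext q; simp [Finset.sum_apply, Pi.single_apply]
        rw [hw']
        refine AddSubgroup.sum_mem _ fun p _ => ?_
        rcases z2 (w p) with e | e
        · simp [e]
        · rw [e, one_smul, ← mword_two_pow]
          refine ⟨colVec (GU.getD (idx p) 0), ?_⟩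
          show θ (wordOf UV _) = _
          rw [wordOf_colVec rfl]
          exact (hxor _ _ (List.all_eq_true.1 GU_ok _ (List.mem_range.2 (idx_lt p)))).symm
      obtain ⟨v, hv⟩ := hmem
      refine ⟨Multiplicative.ofAdd v, ?_⟩
      show ((f v).toMul : E) = x
      rw [hv, hw]
      rfl
    · rintro ⟨v, rfl⟩
      exact SetLike.coe_mem _
  · intro c cs hc g hg j
    simp only [okCoco, Bool.and_eq_true, List.all_eq_true, List.mem_range] at hc
    rw [hι, hι, wordOf_single, wordOf_colVec rfl, ← hθ g]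
    have hk := hxor (mimg c (UV.getD j 0)) (comb UV (cs.getD j 0)) (hc.2 j j.2)
    rw [show ((φ (QuotientGroup.mk g) : ↥Spor.M23) : Equiv.Perm GolayPt) = permOf c from hg,
      comp_eq_act, mword_act hc.1, hk]
  · show g * ι (Multiplicative.ofAdd v) * g⁻¹ = _
    rw [hι, ← hθ]
    rfl

end Code

/-! ### The difference of two extensions -/

namespace Ext

variable {ok : ℕ → List ℕ → Bool} {E : Type*} [Group E] (X : Ext ok E)
  {E' : Type*} [Group E'] (X' : Ext ok E') {D : Data}

theorem iso_of_vals [Finite E] [Finite E']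
    (hcompat : ∀ g g', X.π g = X'.π g' → ∀ v, ∃ u,
      g * X.emb v * g⁻¹ = X.emb u ∧ g' * X'.emb v * g'⁻¹ = X'.emb u)
    (hg : D.groupOK = true) (hs : D.sylowOK = true)
    (hk : D.keys.Nodup) (hf : D.formsOK = true) (hc : D.certOK = true)
    (hm : ∀ k ≤ D.codes.length, ok (D.code k) (D.cols k) = true)
    (hns : ∀ H : Subgroup E, H ⊓ X.π.ker = ⊥ → H ⊔ X.π.ker ≠ ⊤)
    (hns' : ∀ H : Subgroup E', H ⊓ X'.π.ker = ⊥ → H ⊔ X'.π.ker ≠ ⊤)
    {F : ℕ} (hF : D.extra = [F]) :
    Nonempty (E ≃* E') := by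
  classical
  obtain ⟨L, hL⟩ := exists_lift (X := X) hg hm
  obtain ⟨L', hL'⟩ := exists_lift (X := X') hg hm
  obtain ⟨ρ, hr, hn⟩ := exists_val hg hL
  obtain ⟨ρ', hr', hn'⟩ := exists_val hg hL'
  have e1 : lf ρ F = 1 := by
    rcases z2 (lf ρ F) with e | e
    · obtain ⟨H, h1, h2⟩ := exists_complement hg hs hk hf hc hL hr hn
        (fun f hf' => by rw [hF, List.mem_singleton] at hf'; rw [hf', e])
      exact absurd h2 (hns H h1)
    · exact e
  have e1' : lf ρ' F = 1 := by
    rcases z2 (lf ρ' F) with e | e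
    · obtain ⟨H, h1, h2⟩ := exists_complement hg hs hk hf hc hL' hr' hn'
        (fun f hf' => by rw [hF, List.mem_singleton] at hf'; rw [hf', e])
      exact absurd h2 (hns' H h1)
    · exact e
  -- the fibre product
  let U : Subgroup (E × E') :=
    MonoidHom.eqLocus (X.π.comp (MonoidHom.fst E E')) (X'.π.comp (MonoidHom.snd E E'))
  have hmemU : ∀ {p : E × E'}, p ∈ U ↔ X.π p.1 = X'.π p.2 := Iff.rfl
  let pr : K → K → U := fun v w => ⟨(X.emb v, X'.emb w), by
    rw [hmemU, X.π_emb, X'.π_emb]⟩
  let δ : Multiplicative K →* U := MonoidHom.mk' (fun v => pr v.toAdd v.toAdd) fun v w =>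
    Subtype.ext (Prod.ext (X.emb_add _ _) (X'.emb_add _ _))
  have hΔ : δ.range.Normal := ⟨by
    rintro _ ⟨v, rfl⟩ ⟨⟨g, g'⟩, hgg⟩
    obtain ⟨u, hu, hu'⟩ := hcompat g g' hgg v.toAdd
    exact ⟨Multiplicative.ofAdd u, Subtype.ext (Prod.ext hu.symm hu'.symm)⟩⟩
  let q : U →* U ⧸ δ.range := QuotientGroup.mk' δ.range
  have hq : ∀ v w, q (pr v w) = q (pr (v + w) 0) := fun v w => by
    refine (QuotientGroup.eq_iff_div_mem).2 ⟨Multiplicative.ofAdd w, Subtype.ext (Prod.ext ?_ ?_)⟩
    · show X.emb w = X.emb v / X.emb (v + w)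
      rw [eq_div_iff_mul_eq', ← X.emb_add, add_left_comm, kadd_self, add_zero]
    · show X'.emb w = X'.emb w / X'.emb 0
      rw [X'.emb_zero, div_one]
  have hδker : δ.range ≤ (X.π.comp ((MonoidHom.fst E E').comp U.subtype)).ker := by
    rintro _ ⟨v, rfl⟩; exact X.π_emb _
  let π : U ⧸ δ.range →* Equiv.Perm GolayPt := QuotientGroup.lift δ.range _ hδker
  have hπ : ∀ p : U, π (q p) = X.π p.1.1 := fun p => rfl
  let ι : Multiplicative K →* U ⧸ δ.range :=
    MonoidHom.mk' (fun v => q (pr v.toAdd 0)) fun v w => by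
      rw [← map_mul]
      refine congrArg q (Subtype.ext (Prod.ext (X.emb_add _ _) ?_))
      show X'.emb 0 = X'.emb 0 * X'.emb 0
      rw [X'.emb_zero, mul_one]
  have hker : π.ker = ι.range := by
    ext x
    constructor
    · intro hx
      obtain ⟨⟨⟨a, b⟩, hab⟩, rfl⟩ := QuotientGroup.mk'_surjective δ.range x
      have ha : X.π a = 1 := hx
      obtain ⟨v, rfl⟩ := X.exists_emb ha
      obtain ⟨w, rfl⟩ := X'.exists_emb (show X'.π b = 1 by rw [← hmemU.1 hab]; exact ha)
      exact ⟨Multiplicative.ofAdd (v + w), (hq v w).symm⟩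
    · rintro ⟨v, rfl⟩; exact X.π_emb _
  have hinj : Function.Injective ι := by
    rw [← MonoidHom.ker_eq_bot_iff, eq_bot_iff]
    intro v hv
    obtain ⟨u, hu⟩ := (QuotientGroup.eq_one_iff _).1 (MonoidHom.mem_ker.1 hv)
    have h2 : X'.emb u.toAdd = X'.emb 0 := congrArg (fun p : U => p.1.2) hu
    have h1 : X.emb u.toAdd = X.emb v.toAdd := congrArg (fun p : U => p.1.1) hu
    rw [X'.emb_inj h2] at h1
    exact Multiplicative.toAdd.injective (X.emb_inj h1).symm
  have hlift : ∀ σ ∈ Spor.M23, ∃ g g', X.π g = σ ∧ X'.π g' = σ := fun σ hσ => by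
    obtain ⟨g, hg⟩ := X.range.symm ▸ hσ
    obtain ⟨g', hg'⟩ := X'.range.symm ▸ hσ
    exact ⟨g, g', hg, hg'⟩
  have hrange : π.range = Spor.M23 := by
    ext σ
    constructor
    · rintro ⟨x, rfl⟩
      obtain ⟨p, rfl⟩ := QuotientGroup.mk'_surjective δ.range x
      rw [← X.range]; exact ⟨p.1.1, rfl⟩
    · intro hσ
      obtain ⟨g, g', h1, h2⟩ := hlift σ hσ
      exact ⟨q ⟨(g, g'), h1.trans h2.symm⟩, h1⟩
  let Y : Ext ok (U ⧸ δ.range) :=
    { ι := ι, π := π, inj := hinj, ker := hker, range := hrange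
      act := fun c cs hcs x hx j => by
        obtain ⟨⟨⟨g, g'⟩, hgg⟩, rfl⟩ := QuotientGroup.mk'_surjective δ.range x
        show q _ * q _ * (q _)⁻¹ = q _
        rw [← map_inv, ← map_mul, ← map_mul]
        refine congrArg q (Subtype.ext (Prod.ext ?_ ?_))
        · exact X.act c cs hcs g hx j
        · show g' * X'.emb 0 * g'⁻¹ = X'.emb 0
          rw [X'.emb_zero, mul_one, mul_inv_cancel] }
  let P : ℕ → U := fun k => ⟨(L k, L' k), by rw [hmemU, (hL k).1, (hL' k).1]⟩
  let LY : ℕ → U ⧸ δ.range := fun k => q (P k)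
  have hwd : ∀ w, ∃ hw, wd LY w = q ⟨(wd L w, wd L' w), hw⟩ := by
    intro w
    induction w with
    | nil => exact ⟨U.one_mem, (map_one q).symm⟩
    | cons k w ih =>
      obtain ⟨hw, e⟩ := ih
      refine ⟨by rw [wd_cons, wd_cons]; exact U.mul_mem (P k).2 hw, ?_⟩
      rw [wd_cons, e, ← map_mul]
      rfl
  have hrel : ∀ (u w : List ℕ) (b : ℕ),
      wd L u = X.emb (blk ρ b) * wd L w → wd L' u = X'.emb (blk ρ' b) * wd L' w →
      wd LY u = Y.emb (blk (ρ + ρ') b) * wd LY w := by
    intro u w b h h'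
    obtain ⟨hu, eu⟩ := hwd u
    obtain ⟨hw, ew⟩ := hwd w
    rw [eu, ew]
    show q _ = q (pr (blk (ρ + ρ') b) 0) * q _
    rw [show blk (ρ + ρ') b = blk ρ b + blk ρ' b from rfl, ← hq, ← map_mul]
    exact congrArg q (Subtype.ext (Prod.ext h h'))
  have hLY : Y.IsLift D LY := fun k => ⟨(hL k).1, (hL k).2⟩
  have hrY : Y.RelVal D LY (ρ + ρ') := fun b hb => by
    have h := hrel [(D.rel b).1, (D.rel b).2.1] (D.rel b).2.2 b
      (by simpa [wd] using hr b hb) (by simpa [wd] using hr' b hb)
    simpa [wd] using h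
  have hnY : Y.NqVal D LY (ρ + ρ') := fun a ha => by
    have h := hrel ((D.nq a).1 :: (D.nq a).2.1) ((D.nq a).2.2 ++ [(D.nq a).1])
      (D.rels.length + a)
      (by rw [wd_cons, wd_append]; simpa [wd] using hn a ha)
      (by rw [wd_cons, wd_append]; simpa [wd] using hn' a ha)
    rw [wd_cons, wd_append] at h
    simpa [wd] using h
  obtain ⟨H, hH1, hH2⟩ := exists_complement hg hs hk hf hc hLY hrY hnY (fun f hf' => by
    rw [hF, List.mem_singleton] at hf'
    rw [hf', lf_add, e1, e1', CharTwo.add_self_eq_zero])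
  have hHinf : ∀ v : K, q (pr v 0) ∈ H → v = 0 := fun v hv => by
    have h : Y.emb v ∈ H ⊓ Y.π.ker := ⟨hv, Y.π_emb v⟩
    rw [hH1, Subgroup.mem_bot, ← Y.emb_zero] at h
    exact Y.emb_inj h
  let Hhat : Subgroup U := H.comap q
  have hΔH : ∀ v : K, pr v v ∈ Hhat := fun v => by
    show q (pr v v) ∈ H
    rw [hq, kadd_self, show pr (0 : K) 0 = 1 from
      Subtype.ext (Prod.ext X.emb_zero X'.emb_zero), map_one]
    exact H.one_mem
  have hdec : ∀ p : U, ∃ h ∈ Hhat, ∃ v : K, p = h * pr v 0 := fun p => by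
    obtain ⟨a, ha, b, hb, hab⟩ :=
      Subgroup.mem_sup_of_normal_right.1 (hH2 ▸ Subgroup.mem_top (q p))
    rw [Y.ker] at hb
    obtain ⟨v, rfl⟩ := hb
    refine ⟨p * (pr v.toAdd 0)⁻¹, ?_, v.toAdd, by group⟩
    show q (p * _) ∈ H
    rw [map_mul, map_inv, ← hab]
    show a * ι v * (ι v)⁻¹ ∈ H
    rwa [mul_inv_cancel_right]
  let p1 : Hhat →* E := (MonoidHom.fst E E').comp (U.subtype.comp Hhat.subtype)
  let p2 : Hhat →* E' := (MonoidHom.snd E E').comp (U.subtype.comp Hhat.subtype)
  have hp1 : Function.Bijective p1 := by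
    constructor
    · rw [← MonoidHom.ker_eq_bot_iff, eq_bot_iff]
      rintro ⟨⟨⟨a, b⟩, hab⟩, hmem⟩ h
      obtain rfl : a = 1 := h
      obtain ⟨w, rfl⟩ := X'.exists_emb (show X'.π b = 1 by
        have h1 : X.π 1 = X'.π b := hab
        rw [← h1, map_one])
      have hw : q (pr 0 w) ∈ H := by
        have e : pr 0 w = ⟨(1, X'.emb w), hab⟩ := Subtype.ext (Prod.ext X.emb_zero rfl)
        rw [e]; exact hmem
      rw [hq, zero_add] at hw
      rw [Subgroup.mem_bot]
      refine Subtype.ext (Subtype.ext (Prod.ext rfl ?_))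
      show X'.emb w = 1
      rw [hHinf w hw, X'.emb_zero]
    · intro x
      have hx : X.π x ∈ Spor.M23 := by rw [← X.range]; exact ⟨x, rfl⟩
      obtain ⟨-, y, -, hy⟩ := hlift _ hx
      obtain ⟨h, hh, v, e⟩ := hdec ⟨(x, y), hy.symm⟩
      refine ⟨⟨h * pr v v, Hhat.mul_mem hh (hΔH v)⟩, ?_⟩
      exact (congrArg (fun p : U => p.1.1) e).symm
  have hp2 : Function.Bijective p2 := by
    constructor
    · rw [← MonoidHom.ker_eq_bot_iff, eq_bot_iff]
      rintro ⟨⟨⟨a, b⟩, hab⟩, hmem⟩ h
      obtain rfl : b = 1 := h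
      obtain ⟨v, rfl⟩ := X.exists_emb (show X.π a = 1 by
        have h1 : X.π a = X'.π 1 := hab
        rw [h1, map_one])
      have hv : q (pr v 0) ∈ H := by
        have e : pr v 0 = ⟨(X.emb v, 1), hab⟩ := Subtype.ext (Prod.ext rfl X'.emb_zero)
        rw [e]; exact hmem
      rw [Subgroup.mem_bot]
      refine Subtype.ext (Subtype.ext (Prod.ext ?_ rfl))
      show X.emb v = 1
      rw [hHinf v hv, X.emb_zero]
    · intro y
      have hy : X'.π y ∈ Spor.M23 := by rw [← X'.range]; exact ⟨y, rfl⟩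
      obtain ⟨x, -, hx, -⟩ := hlift _ hy
      obtain ⟨h, hh, v, e⟩ := hdec ⟨(x, y), hx⟩
      refine ⟨⟨h, hh⟩, ?_⟩
      have e2 : y = h.1.2 * X'.emb 0 := congrArg (fun p : U => p.1.2) e
      rw [e2, X'.emb_zero, mul_one]
      rfl
  exact ⟨(MulEquiv.ofBijective p1 hp1).symm.trans (MulEquiv.ofBijective p2 hp2)⟩

end Ext

end CfsgLib.Golay.H2Check
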