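import Cfsg.Agent.Lib.Golay.Steiner22Aut

/-! The point-block graph of an `S(3,6,22)` on the configuration of 100 vectors, and its group. -/

set_option autoImplicit false
set_option maxRecDepth 100000

namespace CfsgLib.Golay

open Cfsg
open scoped Pointwise

theorem dot_oddP (j : GolayPt) (x : GolayPt → ℤ) : dotInt (oddP j) x = (∑ i, x i) - 4 * x j := by
  have e : ∀ i, oddP j i * x i = x i - if i = j then 4 * x i else 0 := fun i => by
    simp only [oddP]; split_ifs <;> ring
  rw [dotInt, Finset.sum_congr rfl fun i _ => e i, Finset.sum_sub_distrib, Finset.sum_ite_eq',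
    if_pos (Finset.mem_univ _)]

theorem dot_octP (o o' : Finset GolayPt) :
    dotInt (octP o) (octP o') = 4 * ((o ∩ o').card : ℤ) := by
  have e : ∀ i, octP o i * octP o' i = if i ∈ o ∩ o' then 4 else 0 := fun i => by
    simp only [octP, Finset.mem_inter]
    by_cases a : i ∈ o <;> by_cases b : i ∈ o' <;> simp [a, b]
  rw [dotInt, Finset.sum_congr rfl fun i _ => e i, Finset.sum_ite_mem, Finset.univ_inter,
    Finset.sum_const]
  simp [mul_comm]

theorem sum_octP (o : Finset GolayPt) : ∑ i, octP o i = 2 * (o.card : ℤ) := by
  simp only [octP]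
  rw [Finset.sum_ite_mem, Finset.univ_inter, Finset.sum_const]
  simp [mul_comm]

theorem sum_oddP (j : GolayPt) : ∑ i, oddP j i = 20 := by
  have e : ∀ i, oddP j i = 1 - if i = j then 4 else 0 := fun i => by
    simp only [oddP]; split_ifs <;> norm_num
  rw [Finset.sum_congr rfl fun i _ => e i, Finset.sum_sub_distrib, Finset.sum_ite_eq',
    if_pos (Finset.mem_univ _), Finset.sum_const, Finset.card_univ]
  simp [-Fintype.sum_option]

theorem oddP_mem (j : GolayPt) : oddP j ∈ leechLattice := by
  rw [odd_mem_iff (fun i => by simp only [oddP]; split_ifs <;> norm_num), sum_oddP]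
  refine ⟨?_, by norm_num⟩
  rw [Finset.filter_eq_empty_iff.2 fun i _ => by simp only [oddP]; split_ifs <;> norm_num]
  exact empty_code

theorem octP_mem {o : Finset GolayPt} (ho : o ∈ octads) : octP o ∈ leechLattice := by
  have e : octP o = fun i => 2 * (if i ∈ o then 1 else 0 : ℤ) := funext fun i => by
    simp only [octP]; split_ifs <;> norm_num
  rw [e, even_mem_iff]
  refine ⟨mem_supports_word.1 ?_, ?_⟩
  · convert ho.1 using 1
    ext i; by_cases h : i ∈ o <;> simp [mem_support_mod2, h]
  · rw [Finset.sum_ite_mem, Finset.univ_inter, Finset.sum_const, ho.2]; norm_num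

section Graph

variable {α : Type*} [Fintype α] [DecidableEq α]

/-- The 100 vectors, joined at inner product 8, realise the graph of any `S(3,6,22)`. -/
theorem hsGraph_embedding (hα : Fintype.card α = 22) {B : Set (Finset α)}
    (hB : IsSteinerSystem 3 6 B) :
    ∃ ι : Option (α ⊕ B) → leechLattice, ι none = min44 ∧ (∀ v, ι v ∈ hsPoints) ∧
      Function.Injective ι ∧ (∀ y ∈ hsPoints, ∃ v, ι v = y) ∧
      ∀ u v, (pointBlockGraph B).Adj u v ↔ dotInt (ι u : GolayPt → ℤ) (ι v) = 8 := by
  obtain ⟨e, e1, e2, he⟩ := steiner22_iso hα hB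
  let G := pointBlockGraph B
  let f : α → GolayPt := fun a => e (some (some a))
  have hf : Function.Injective f := fun a b h => by simpa [f] using h
  let img : Finset α → Finset GolayPt := fun b => (ins22 b).image e
  have hfimg : ∀ a b, f a ∈ img b ↔ a ∈ b := fun a b => by
    simp [f, img, ins22, e.injective.eq_iff]
  have himg1 : ∀ b, pinf ∈ img b := fun b =>
    Finset.mem_image.2 ⟨none, by simp [ins22], e1⟩
  have himg2 : ∀ b, pz ∈ img b := fun b =>
    Finset.mem_image.2 ⟨some none, by simp [ins22], e2⟩
  have hfn : ∀ a, f a ≠ pinf ∧ f a ≠ pz := fun a =>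
    ⟨fun h => by simp [f, show pinf = e none from e1.symm] at h,
      fun h => by simp [f, show pz = e (some none) from e2.symm] at h⟩
  let ι : Option (α ⊕ B) → leechLattice := fun v => match v with
    | none => min44
    | some (Sum.inl a) => ⟨oddP (f a), oddP_mem _⟩
    | some (Sum.inr b) => ⟨octP (img b.1), octP_mem ((he _).2 b.2)⟩
  have h_o : ∀ a, ((ι (some (Sum.inl a)) : leechLattice) : GolayPt → ℤ) = oddP (f a) := fun _ => rfl
  have h_b : ∀ b, ((ι (some (Sum.inr b)) : leechLattice) : GolayPt → ℤ) = octP (img b.1) :=
    fun _ => rfl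
  have h_n : ι none = min44 := rfl
  have hinter : ∀ b c, (img b ∩ img c).card = (b ∩ c).card + 2 := by
    intro b c
    rw [← Finset.image_inter _ _ e.injective, Finset.card_image_of_injective _ e.injective,
      inter_ins22, core22_ins22]
    simp [ins22]; omega
  have hadj : ∀ u v, G.Adj u v ↔ dotInt (ι u : GolayPt → ℤ) (ι v) = 8 := by
    rintro (_ | a | b) (_ | a' | b')
    · simp only [h_n, dotInt_self, min44_norm]
      simp [G, pointBlockGraph]
    · simp only [h_n, h_o, dot_min44, oddP, if_neg (hfn a').1.symm, if_neg (hfn a').2.symm]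
      simp [G, pointBlockGraph, pointBlockRel]
    · simp only [h_n, h_b, dot_min44, octP, if_pos (himg1 _), if_pos (himg2 _)]
      simp [G, pointBlockGraph, pointBlockRel]
    · simp only [h_n, h_o]
      rw [dotInt_comm, dot_min44]
      simp only [oddP, if_neg (hfn a).1.symm, if_neg (hfn a).2.symm]
      simp [G, pointBlockGraph, pointBlockRel]
    · simp only [h_o, dot_oddP, sum_oddP]
      simp only [oddP, hf.eq_iff]
      split_ifs <;> simp [G, pointBlockGraph, pointBlockRel]
    · simp only [h_o, h_b]
      rw [dot_oddP, sum_octP, ((he _).2 b'.2).2]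
      simp only [octP]
      by_cases h : a ∈ (b' : Finset α)
      · rw [if_pos ((hfimg _ _).2 h)]; simp [G, pointBlockGraph, pointBlockRel, h]
      · rw [if_neg (mt (hfimg _ _).1 h)]; simp [G, pointBlockGraph, pointBlockRel, h]
    · simp only [h_n, h_b]
      rw [dotInt_comm, dot_min44]
      simp only [octP, if_pos (himg1 _), if_pos (himg2 _)]
      simp [G, pointBlockGraph, pointBlockRel]
    · simp only [h_o, h_b]
      rw [dotInt_comm, dot_oddP, sum_octP, ((he _).2 b.2).2]
      by_cases h : a' ∈ (b : Finset α)
      · simp only [octP, if_pos ((hfimg _ _).2 h)]; simp [G, pointBlockGraph, pointBlockRel, h]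
      · simp only [octP, if_neg (mt (hfimg _ _).1 h)]; simp [G, pointBlockGraph, pointBlockRel, h]
    · simp only [h_b, dot_octP, hinter]
      simp only [G, pointBlockGraph, SimpleGraph.fromRel_adj, pointBlockRel, ne_eq,
        Option.some.injEq, Sum.inr.injEq, disjoint_comm (a := (b' : Finset α)), or_self]
      constructor
      · rintro ⟨-, h⟩
        rw [Finset.disjoint_iff_inter_eq_empty.1 h]; norm_num
      · intro h
        have h0 : ((b : Finset α) ∩ b').card = 0 := by push_cast at h; omega
        refine ⟨fun hbb => ?_, Finset.disjoint_iff_inter_eq_empty.2 (Finset.card_eq_zero.1 h0)⟩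
        subst hbb
        rw [Finset.inter_self, hB.1 _ b.2] at h0
        norm_num at h0
  have hιmem : ∀ v, ι v ∈ hsPoints := by
    rintro (_ | a | b)
    · exact min44_hs
    · rw [mem_hsPoints, h_o, ← dotInt_self, dot_oddP, sum_oddP]
      simp only [oddP, if_neg (hfn a).1.symm, if_neg (hfn a).2.symm]
      norm_num
    · rw [mem_hsPoints, h_b, ← dotInt_self, dot_octP, Finset.inter_self, sum_octP,
        ((he _).2 b.2).2]
      simp only [octP, if_pos (himg1 _), if_pos (himg2 _)]
      norm_num
  have hιinj : Function.Injective ι := by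
    have hp : ∀ v, ((ι v : leechLattice) : GolayPt → ℤ) pinf = match v with
        | none => 4 | some (Sum.inl _) => 1 | some (Sum.inr _) => 2 := by
      rintro (_ | a | b)
      · simp [h_n, min44_coe, pinf_ne_pz]
      · simp [h_o, oddP, (hfn a).1.symm]
      · simp [h_b, octP, himg1]
    intro u v h
    have h' := congrArg (fun x : leechLattice => (x : GolayPt → ℤ) pinf) h
    simp only [hp] at h'
    have hv := congrArg (fun x : leechLattice => (x : GolayPt → ℤ)) h
    rcases u with _ | a | b <;> rcases v with _ | a' | b' <;> norm_num at h'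
    · rfl
    · simp only [h_o] at hv
      have := congrFun hv (f a)
      simp only [oddP, if_true] at this
      split_ifs at this with q
      · rw [hf q]
    · simp only [h_b] at hv
      have : (b : Finset α) = b' := by
        ext a
        have := congrFun hv (f a)
        simp only [octP, hfimg] at this
        split_ifs at this with p q <;> simp_all
      rw [Subtype.ext this]
  have hιsurj : ∀ y ∈ hsPoints, ∃ v, ι v = y := by
    intro y hy
    rcases shape_hs hy with rfl | ⟨o, ho, o1, o2, h⟩ | ⟨j, j1, j2, h⟩
    · exact ⟨none, h_n⟩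
    · let x := o.image e.symm
      have hx : x.image e = o := by simp [x, Finset.image_image]
      have hx1 : none ∈ x := Finset.mem_image.2 ⟨_, o1, by simp [show pinf = e none from e1.symm]⟩
      have hx2 : some none ∈ x :=
        Finset.mem_image.2 ⟨_, o2, by simp [show pz = e (some none) from e2.symm]⟩
      have hw : core22 x ∈ B := (he _).1 (by rw [ins22_core22 hx1 hx2, hx]; exact ho)
      refine ⟨some (Sum.inr ⟨_, hw⟩), Subtype.ext ?_⟩
      rw [h_b, h]
      simp only [img, ins22_core22 hx1 hx2, hx]
    · obtain ⟨z, rfl⟩ := e.surjective j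
      rcases z with _ | _ | a
      · exact absurd e1 j1
      · exact absurd e2 j2
      · exact ⟨some (Sum.inl a), Subtype.ext h.symm⟩
  exact ⟨ι, h_n, hιmem, hιinj, hιsurj, hadj⟩

theorem hsGraph_facts (hα : Fintype.card α = 22) {B : Set (Finset α)}
    (hB : IsSteinerSystem 3 6 B) :
    Nat.card (pointBlockGraph B ≃g pointBlockGraph B) = 88704000 ∧
      ∃ H : Subgroup (pointBlockGraph B ≃g pointBlockGraph B), Cfsg.IsHS H := by
  classical
  obtain ⟨hautcard, -, -⟩ := steiner22_aut hα hB
  obtain ⟨ι, h_n, hιmem, hιinj, hιsurj, hadj⟩ := hsGraph_embedding hα hB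
  let G := pointBlockGraph B
  have : Finite (G ≃g G) := Finite.of_injective (fun g => g.toEquiv) RelIso.toEquiv_injective
  let Vp : Option (α ⊕ B) ≃ hsPoints := Equiv.ofBijective (fun v => ⟨ι v, hιmem v⟩)
    ⟨fun u v h => hιinj (congrArg Subtype.val h),
      fun ⟨y, hy⟩ => by obtain ⟨v, hv⟩ := hιsurj y hy; exact ⟨v, Subtype.ext hv⟩⟩
  let act : hsGroup → Option (α ⊕ B) → Option (α ⊕ B) := fun g v =>
    Vp.symm ⟨(g : Co0) • ι v, hs_mem_points g (hιmem v)⟩
  have hact : ∀ g v, ι (act g v) = (g : Co0) • ι v := fun g v =>
    congrArg Subtype.val (Vp.apply_symm_apply ⟨(g : Co0) • ι v, hs_mem_points g (hιmem v)⟩)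
  let iso : hsGroup → (G ≃g G) := fun g =>
    { toEquiv :=
        { toFun := act g
          invFun := act g⁻¹
          left_inv := fun v => hιinj (by rw [hact, hact, Subgroup.coe_inv, inv_smul_smul])
          right_inv := fun v => hιinj (by rw [hact, hact, Subgroup.coe_inv, smul_inv_smul]) }
      map_rel_iff' := by
        intro u v
        show G.Adj (act g u) (act g v) ↔ G.Adj u v
        rw [hadj, hadj, hact, hact, co0_dot] }
  let Θ : hsGroup →* (G ≃g G) := MonoidHom.mk' iso fun g h => RelIso.ext fun v => hιinj (by
    show ι (act (g * h) v) = ι (act g (act h v))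
    rw [hact, hact, hact, Subgroup.coe_mul, mul_smul])
  have htrans : ∀ v, ∃ g : hsGroup, Θ g none = v := by
    intro v
    obtain ⟨g, g1, g2, g3⟩ := hs_trans min44_hs (hιmem v)
    exact ⟨⟨g, mem_hsGroup.2 ⟨g1, g2⟩⟩, hιinj (by show ι (act _ none) = ι v; exact (hact _ none).trans (by rw [h_n]; exact g3))⟩
  have hΘ : Function.Injective Θ := by
    rw [← MonoidHom.ker_eq_bot_iff]
    refine (isSimple_hsGroup.eq_bot_or_eq_top_of_normal _ inferInstance).resolve_right fun h => ?_
    obtain ⟨a⟩ : Nonempty α := Fintype.card_pos_iff.1 (by omega)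
    obtain ⟨g, hg⟩ := htrans (some (Sum.inl a))
    rw [show Θ g = 1 from MonoidHom.mem_ker.1 (h ▸ Subgroup.mem_top g)] at hg
    exact absurd hg (by simp)
  refine ⟨?_, Θ.range, ?_⟩
  · -- the stabiliser of the extra vertex
    let mp : setSystemAut B → Option (α ⊕ B) → Option (α ⊕ B) := fun σ v => match v with
      | none => none
      | some (Sum.inl a) => some (Sum.inl ((σ : Equiv.Perm α) a))
      | some (Sum.inr b) => some (Sum.inr ⟨(σ : Equiv.Perm α) • (b : Finset α), by
          have := Set.smul_mem_smul_set (a := (σ : Equiv.Perm α)) b.2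
          rwa [MulAction.mem_stabilizer_iff.1 σ.2] at this⟩)
    have hmp : ∀ σ τ v, mp σ (mp τ v) = mp (σ * τ) v := by
      rintro σ τ (_ | a | b)
      · rfl
      · rfl
      · simp [mp, mul_smul]
    have hmp1 : ∀ v, mp 1 v = v := by
      rintro (_ | a | b)
      · rfl
      · rfl
      · simp [mp]
    have hrel : ∀ σ u v, pointBlockRel B (mp σ u) (mp σ v) ↔ pointBlockRel B u v := by
      intro σ
      have hd : ∀ b c : Finset α, Disjoint ((σ : Equiv.Perm α) • b) ((σ : Equiv.Perm α) • c) ↔
          Disjoint b c := fun b c => by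
        rw [Finset.disjoint_iff_inter_eq_empty, Finset.disjoint_iff_inter_eq_empty,
          ← Finset.smul_finset_inter, Finset.smul_finset_eq_empty]
      have hm : ∀ (a : α) (b : Finset α),
          (σ : Equiv.Perm α) a ∈ (σ : Equiv.Perm α) • b ↔ a ∈ b := fun a b =>
        Finset.smul_mem_smul_finset_iff _
      rintro (_ | a | b) (_ | a' | b') <;> first
        | exact Iff.rfl
        | exact hm _ _
        | exact hd _ _
    let T : setSystemAut B → (G ≃g G) := fun σ =>
      { toEquiv :=
          { toFun := mp σ
            invFun := mp σ⁻¹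
            left_inv := fun v => by rw [hmp, inv_mul_cancel, hmp1]
            right_inv := fun v => by rw [hmp, mul_inv_cancel, hmp1] }
        map_rel_iff' := by
          intro u v
          show G.Adj (mp σ u) (mp σ v) ↔ G.Adj u v
          have hne : mp σ u ≠ mp σ v ↔ u ≠ v := not_congr ⟨fun h => by
            rw [← hmp1 u, ← inv_mul_cancel σ, ← hmp, h, hmp, inv_mul_cancel, hmp1], congrArg _⟩
          simp only [G, pointBlockGraph, SimpleGraph.fromRel_adj, hrel, hne] }
    have hTfix : ∀ σ, T σ ∈ MulAction.stabilizer (G ≃g G) (none : Option (α ⊕ B)) := fun σ => rfl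
    have hbij : Function.Bijective
        (fun σ => (⟨T σ, hTfix σ⟩ : MulAction.stabilizer (G ≃g G) (none : Option (α ⊕ B)))) := by
      constructor
      · intro σ τ h
        refine Subtype.ext (Equiv.ext fun a => ?_)
        have := congrArg (fun g : MulAction.stabilizer (G ≃g G) (none : Option (α ⊕ B)) =>
          (g : G ≃g G) (some (Sum.inl a))) h
        change some (Sum.inl _) = some (Sum.inl _) at this
        exact Sum.inl.inj (Option.some.inj this)
      · rintro ⟨g, hg⟩
        have hg0 : g none = none := hg
        have hpt : ∀ a, ∃ a', g (some (Sum.inl a)) = some (Sum.inl a') := by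
          intro a
          have h1 : G.Adj none (some (Sum.inl a)) := by simp [G, pointBlockGraph, pointBlockRel]
          have h2 : G.Adj none (g (some (Sum.inl a))) := by
            rw [← hg0]; exact g.map_rel_iff.2 h1
          rcases h3 : g (some (Sum.inl a)) with _ | a' | b' <;> rw [h3] at h2
          · exact absurd h2 (by simp)
          · exact ⟨a', rfl⟩
          · simp [G, pointBlockGraph, pointBlockRel] at h2
        choose π hπ using hpt
        have hπb : Function.Bijective π := by
          rw [← Finite.injective_iff_bijective]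
          intro a a' h
          have := g.injective ((hπ a).trans (h ▸ (hπ a').symm))
          simpa using this
        let σ : Equiv.Perm α := Equiv.ofBijective π hπb
        have hblock : ∀ b : B, ∃ b' : B, g (some (Sum.inr b)) = some (Sum.inr b') ∧
            σ • (b : Finset α) = b' := by
          intro b
          rcases h3 : g (some (Sum.inr b)) with _ | a' | b'
          · exact absurd (g.injective (h3.trans hg0.symm)) (by simp)
          · obtain ⟨a, rfl⟩ := hπb.2 a'
            exact absurd (g.injective (h3.trans (hπ a).symm)) (by simp)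
          · refine ⟨b', rfl, ?_⟩
            ext x
            obtain ⟨a, rfl⟩ := σ.surjective x
            rw [show σ a = σ • a from rfl, Finset.smul_mem_smul_finset_iff,
              show σ • a = π a from rfl]
            have := (g.map_rel_iff (a := some (Sum.inl a)) (b := some (Sum.inr b))).symm
            rw [hπ, h3] at this
            simpa [G, pointBlockGraph, pointBlockRel] using this
        have hσ : σ ∈ setSystemAut B := by
          rw [MulAction.mem_stabilizer_iff]
          refine Set.eq_of_subset_of_ncard_le ?_ (le_of_eq ?_) B.toFinite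
          · rintro _ ⟨b, hb, rfl⟩
            obtain ⟨b', -, e'⟩ := hblock ⟨b, hb⟩
            show σ • b ∈ B
            rw [e']; exact b'.2
          · exact (Set.ncard_image_of_injective _ (MulAction.injective σ)).symm
        refine ⟨⟨σ, hσ⟩, Subtype.ext (RelIso.ext fun v => ?_)⟩
        rcases v with _ | a | b
        · exact hg0.symm
        · exact (hπ a).symm
        · obtain ⟨b', e', e''⟩ := hblock b
          rw [show g (some (Sum.inr b)) = _ from e']
          exact congrArg (fun c => some (Sum.inr c)) (Subtype.ext e'')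
    have horb : MulAction.orbit (G ≃g G) (none : Option (α ⊕ B)) = Set.univ :=
      Set.eq_univ_of_forall fun v => by obtain ⟨g, hg⟩ := htrans v; exact ⟨Θ g, hg⟩
    have h := (MulAction.stabilizer (G ≃g G) (none : Option (α ⊕ B))).card_mul_index
    rw [MulAction.index_stabilizer, horb, Set.ncard_univ, ← Nat.card_eq_of_bijective _ hbij,
      hautcard, Nat.card_congr Vp, Nat.card_coe_set_eq, ncard_hsPoints] at h
    exact h.symm
  · have φ := MonoidHom.ofInjective hΘ
    have := isSimple_hsGroup
    exact ⟨φ.symm.isSimpleGroup, by rw [← Nat.card_congr φ.toEquiv, card_hsGroup]⟩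

end Graph

end CfsgLib.Golay
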