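import Cfsg.Agent.Lib.Golay.Steiner22Iso

/-! The strongly regular graph with parameters `(100, 22, 0, 6)` is unique. -/

set_option autoImplicit false

namespace CfsgLib.Golay

open Cfsg Finset

section SRG

variable {V : Type*} [Fintype V] {G : SimpleGraph V} [DecidableRel G.Adj] {n k l m : ℕ}

theorem srg_adj_inter [DecidableEq V] (hG : G.IsSRGWith n k l m) {v w : V} (h : G.Adj v w) :
    (G.neighborFinset v ∩ G.neighborFinset w).card = l := by
  rw [← hG.of_adj v w h, ← Set.toFinset_card]
  congr 1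
  ext x
  rw [Set.mem_toFinset]; simp [SimpleGraph.commonNeighbors]

theorem srg_nonadj_inter [DecidableEq V] (hG : G.IsSRGWith n k l m) {v w : V} (hne : v ≠ w)
    (h : ¬G.Adj v w) : (G.neighborFinset v ∩ G.neighborFinset w).card = m := by
  rw [← hG.of_not_adj hne h, ← Set.toFinset_card]
  congr 1
  ext x
  rw [Set.mem_toFinset]; simp [SimpleGraph.commonNeighbors]

end SRG

section HS

variable {V : Type*} [Fintype V] [DecidableEq V] {G : SimpleGraph V} [DecidableRel G.Adj]

/-- The vertices at distance two. -/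
def farFinset (G : SimpleGraph V) [DecidableRel G.Adj] (o : V) : Finset V :=
  univ \ insert o (G.neighborFinset o)

/-- The block of a vertex: its common neighbours with `o`. -/
def blockOf (G : SimpleGraph V) [DecidableRel G.Adj] (o b : V) : Finset V :=
  G.neighborFinset o ∩ G.neighborFinset b

theorem mem_far {o b : V} : b ∈ farFinset G o ↔ b ≠ o ∧ ¬G.Adj o b := by
  simp [farFinset]

variable (hG : G.IsSRGWith 100 22 0 6) (o : V)
include hG

theorem hs_card_far : (farFinset G o).card = 77 := by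
  rw [farFinset, Finset.card_sdiff_of_subset (subset_univ _), card_univ, hG.card,
    card_insert_of_notMem (by simp), SimpleGraph.card_neighborFinset_eq_degree, hG.regular o]

theorem hs_indep {u v : V} (hu : G.Adj o u) (hv : G.Adj o v) : ¬G.Adj u v := by
  intro h
  have h0 := srg_adj_inter hG hu
  rw [Finset.card_eq_zero] at h0
  have : v ∈ G.neighborFinset o ∩ G.neighborFinset u := by simp [hv, h]
  rw [h0] at this; simp at this

theorem hs_block_card {b : V} (hb : b ∈ farFinset G o) : (blockOf G o b).card = 6 := by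
  obtain ⟨h1, h2⟩ := mem_far.1 hb
  exact srg_nonadj_inter hG (Ne.symm h1) h2

theorem hs_point_far {u : V} (hu : G.Adj o u) :
    G.neighborFinset u ∩ farFinset G o = (G.neighborFinset u).erase o := by
  ext x
  simp only [mem_inter, SimpleGraph.mem_neighborFinset, mem_far, mem_erase]
  constructor
  · rintro ⟨h1, h2, -⟩; exact ⟨h2, h1⟩
  · rintro ⟨h1, h2⟩; exact ⟨h2, h1, fun h => hs_indep hG o hu h h2⟩

theorem hs_replication {u : V} (hu : G.Adj o u) :
    ((farFinset G o).filter fun c => u ∈ blockOf G o c).card = 21 := by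
  have e : ((farFinset G o).filter fun c => u ∈ blockOf G o c) =
      G.neighborFinset u ∩ farFinset G o := by
    ext x
    simp only [blockOf, mem_filter, mem_inter, SimpleGraph.mem_neighborFinset]
    exact ⟨fun h => ⟨h.2.2.symm, h.1⟩, fun h => ⟨h.2, hu, h.1.symm⟩⟩
  rw [e, hs_point_far hG o hu, card_erase_of_mem (by simpa using hu.symm),
    SimpleGraph.card_neighborFinset_eq_degree, hG.regular u]

theorem hs_pairs {u v : V} (hu : G.Adj o u) (hv : G.Adj o v) (hne : u ≠ v) :
    ((farFinset G o).filter fun c => u ∈ blockOf G o c ∧ v ∈ blockOf G o c).card = 5 := by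
  have e : ((farFinset G o).filter fun c => u ∈ blockOf G o c ∧ v ∈ blockOf G o c) =
      (G.neighborFinset u ∩ G.neighborFinset v).erase o := by
    ext x
    simp only [blockOf, mem_filter, mem_inter, SimpleGraph.mem_neighborFinset, mem_erase, mem_far]
    constructor
    · rintro ⟨⟨h1, -⟩, ⟨-, h2⟩, -, h3⟩; exact ⟨h1, h2.symm, h3.symm⟩
    · rintro ⟨h1, h2, h3⟩
      exact ⟨⟨h1, fun h => hs_indep hG o hu h h2⟩, ⟨hu, h2.symm⟩, hv, h3.symm⟩
  rw [e, card_erase_of_mem (by simp [hu.symm, hv.symm]),
    srg_nonadj_inter hG hne (hs_indep hG o hu hv)]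

theorem hs_adj_disjoint {b c : V} (h : G.Adj b c) : Disjoint (blockOf G o b) (blockOf G o c) := by
  rw [Finset.disjoint_left]
  intro x hx hy
  simp only [blockOf, mem_inter, SimpleGraph.mem_neighborFinset] at hx hy
  have h0 := srg_adj_inter hG h
  rw [Finset.card_eq_zero] at h0
  have : x ∈ G.neighborFinset b ∩ G.neighborFinset c := by simp [hx.2, hy.2]
  rw [h0] at this; simp at this

theorem hs_block_inter {b c : V} (hb : b ∈ farFinset G o) (hc : c ∈ farFinset G o) (hne : c ≠ b) :
    (blockOf G o b ∩ blockOf G o c).card = if G.Adj b c then 0 else 2 := by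
  classical
  split_ifs with hadj
  · rw [Finset.card_eq_zero]; exact Finset.disjoint_iff_inter_eq_empty.1 (hs_adj_disjoint hG o hadj)
  set B := blockOf G o b with hB
  let f : V → ℕ := fun x => (B ∩ blockOf G o x).card
  have hB6 : B.card = 6 := hs_block_card hG o hb
  have hsum1 : ∑ x ∈ farFinset G o, f x = 126 := by
    simp only [f, Finset.card_eq_sum_ones, Finset.sum_ite_mem_eq, ← Finset.filter_mem_eq_inter,
      Finset.sum_filter]
    rw [Finset.sum_comm, Finset.sum_congr rfl (fun u hu => ?_) (g := fun _ => 21), Finset.sum_const,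
      hB6, smul_eq_mul]
    rw [← Finset.sum_filter, ← Finset.card_eq_sum_ones]
    exact hs_replication hG o (by simpa [hB, blockOf] using (Finset.mem_inter.1 hu).1)
  have hsum2 : ∑ x ∈ farFinset G o, f x * f x = 126 + 150 := by
    have e : ∀ x, f x * f x = ∑ u ∈ B, ∑ v ∈ B,
        if u ∈ blockOf G o x ∧ v ∈ blockOf G o x then 1 else 0 := by
      intro x
      simp only [f, ← Finset.filter_mem_eq_inter, Finset.card_filter, Finset.sum_mul,
        Finset.mul_sum]
      refine Finset.sum_congr rfl fun u _ => Finset.sum_congr rfl fun v _ => ?_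
      by_cases h1 : u ∈ blockOf G o x <;> by_cases h2 : v ∈ blockOf G o x <;> simp [h1, h2]
    rw [Finset.sum_congr rfl fun x _ => e x, Finset.sum_comm]
    rw [Finset.sum_congr rfl (g := fun _ => 21 + 25) fun u hu => ?_]
    · rw [Finset.sum_const, hB6]; norm_num
    have hu' : G.Adj o u := by simpa [hB, blockOf] using (Finset.mem_inter.1 hu).1
    rw [Finset.sum_comm, ← Finset.add_sum_erase _ _ hu, Finset.sum_congr (s₁ := B.erase u) rfl (g := fun _ => 5)
      fun v hv => ?_, Finset.sum_const, card_erase_of_mem hu, hB6]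
    · simp only [and_self, ← Finset.card_filter, hs_replication hG o hu']
      norm_num
    · obtain ⟨hvu, hvB⟩ := Finset.mem_erase.1 hv
      rw [← Finset.card_filter]
      exact hs_pairs hG o hu' (by simpa [hB, blockOf] using (Finset.mem_inter.1 hvB).1) hvu.symm
  let S := ((farFinset G o).erase b).filter fun x => ¬G.Adj b x
  let A := ((farFinset G o).erase b).filter fun x => G.Adj b x
  have hA : A.card = 16 := by
    have e : A = G.neighborFinset b \ blockOf G o b := by
      ext x
      simp only [A, blockOf, mem_filter, mem_erase, mem_far, mem_sdiff, mem_inter,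
        SimpleGraph.mem_neighborFinset]
      constructor
      · rintro ⟨⟨-, -, h2⟩, h3⟩; exact ⟨h3, fun h => h2 h.1⟩
      · rintro ⟨h1, h2⟩
        refine ⟨⟨fun e => G.loopless.irrefl b (e ▸ h1), fun e => (mem_far.1 hb).2 (e ▸ h1).symm,
          fun h => h2 ⟨h, h1⟩⟩, h1⟩
    rw [e, Finset.card_sdiff_of_subset
      (show blockOf G o b ⊆ G.neighborFinset b from inter_subset_right),
      SimpleGraph.card_neighborFinset_eq_degree,
      hG.regular b, hs_block_card hG o hb]
  have hS : S.card = 60 := by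
    have h := Finset.card_filter_add_card_filter_not (s := (farFinset G o).erase b)
      (fun x => G.Adj b x)
    rw [card_erase_of_mem hb, hs_card_far hG o] at h
    change A.card + S.card = _ at h
    omega
  have hsplit : ∀ g : V → ℤ, (∀ x ∈ A, g x = 0) →
      ∑ x ∈ farFinset G o, g x = g b + ∑ x ∈ S, g x := by
    intro g hg
    rw [← Finset.add_sum_erase _ _ hb,
      ← Finset.sum_filter_add_sum_filter_not ((farFinset G o).erase b) (fun x => G.Adj b x) g]
    rw [Finset.sum_eq_zero hg, zero_add]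
  have hfA : ∀ x ∈ A, f x = 0 := fun x hx => by
    rw [Finset.card_eq_zero]
    exact Finset.disjoint_iff_inter_eq_empty.1 (hs_adj_disjoint hG o (Finset.mem_filter.1 hx).2)
  have hfb : f b = 6 := by show (B ∩ B).card = 6; rw [Finset.inter_self, hB6]
  have e1 := hsplit (fun x => (f x : ℤ)) fun x hx => by simp [hfA x hx]
  have e2 := hsplit (fun x => ((f x * f x : ℕ) : ℤ)) fun x hx => by simp [hfA x hx]
  rw [← Nat.cast_sum, hsum1, hfb] at e1
  rw [← Nat.cast_sum, hsum2, hfb] at e2
  have hvar : ∑ x ∈ S, ((f x : ℤ) - 2) ^ 2 = 0 := by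
    have : ∀ x, ((f x : ℤ) - 2) ^ 2 = ((f x * f x : ℕ) : ℤ) - 4 * (f x : ℤ) + 4 := fun x => by
      push_cast; ring
    rw [Finset.sum_congr rfl fun x _ => this x, Finset.sum_add_distrib, Finset.sum_sub_distrib,
      ← Finset.mul_sum, Finset.sum_const, hS]
    simp only [nsmul_eq_mul]
    push_cast at e1 e2 ⊢
    linarith
  have hz := (Finset.sum_eq_zero_iff_of_nonneg fun x _ => sq_nonneg _).1 hvar c
    (Finset.mem_filter.2 ⟨Finset.mem_erase.2 ⟨hne, hc⟩, hadj⟩)
  have h2 : (f c : ℤ) - 2 = 0 := pow_eq_zero_iff (n := 2) (by norm_num) |>.1 hz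
  show f c = 2
  omega

/-- The blocks as subsets of the neighbourhood. -/
def blockSys : Set (Finset {u // G.Adj o u}) :=
  {s | ∃ b ∈ farFinset G o, s.map (Function.Embedding.subtype _) = blockOf G o b}

omit hG in
theorem block_exists (b : V) : ∃ s : Finset {u // G.Adj o u},
    s.map (Function.Embedding.subtype _) = blockOf G o b :=
  ⟨(blockOf G o b).subtype _, Finset.subtype_map_of_mem fun x hx => by
    simpa [blockOf] using (Finset.mem_inter.1 hx).1⟩

theorem hs_card_points : Fintype.card {u // G.Adj o u} = 22 := by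
  rw [← hG.regular o, ← SimpleGraph.card_neighborFinset_eq_degree,
    ← Fintype.card_coe]
  exact Fintype.card_congr (Equiv.subtypeEquivRight fun u => by simp)

theorem hs_steiner : IsSteinerSystem 3 6 (blockSys (G := G) o) := by
  classical
  refine ⟨fun s ⟨b, hb, e⟩ => by rw [← card_map, e]; exact hs_block_card hG o hb, ?_⟩
  let P : Finset (V × Finset V) := (farFinset G o).biUnion fun b =>
    ((blockOf G o b).powersetCard 3).map ⟨fun t => (b, t), fun s t h => (Prod.ext_iff.1 h).2⟩
  have hP : ∀ x, x ∈ P ↔ x.1 ∈ farFinset G o ∧ x.2 ⊆ blockOf G o x.1 ∧ x.2.card = 3 := by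
    rintro ⟨b, t⟩
    simp only [P, mem_biUnion, mem_map, Finset.mem_powersetCard, Function.Embedding.coeFn_mk,
      Prod.mk.injEq]
    exact ⟨fun ⟨_, h1, _, h2, e⟩ => by cases e; exact ⟨h1, h2⟩,
      fun ⟨h1, h2⟩ => ⟨b, h1, t, h2, rfl⟩⟩
  have huniq : ∀ b ∈ farFinset G o, ∀ c ∈ farFinset G o, ∀ t : Finset V, t.card = 3 →
      t ⊆ blockOf G o b → t ⊆ blockOf G o c → b = c := by
    intro b hb c hc t ht h1 h2
    by_contra hne
    have h3 := Finset.card_le_card (Finset.subset_inter h1 h2)
    rw [hs_block_inter hG o hb hc (Ne.symm hne), ht] at h3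
    split_ifs at h3 <;> omega
  have hPcard : P.card = 1540 := by
    rw [Finset.card_biUnion, Finset.sum_congr rfl (g := fun _ => 20) fun b hb => ?_,
      Finset.sum_const, hs_card_far hG o, smul_eq_mul]
    · rw [card_map, card_powersetCard, hs_block_card hG o hb]; rfl
    · intro b _ c _ hne
      rw [Function.onFun, Finset.disjoint_left]
      intro x hx hy
      simp only [mem_map, Function.Embedding.coeFn_mk] at hx hy
      obtain ⟨_, -, rfl⟩ := hx
      obtain ⟨_, -, e⟩ := hy
      exact hne (Prod.ext_iff.1 e).1.symm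
  have hsurj : P.image Prod.snd = (G.neighborFinset o).powersetCard 3 := by
    refine Finset.eq_of_subset_of_card_le (fun t ht => ?_) ?_
    · obtain ⟨x, hx, rfl⟩ := Finset.mem_image.1 ht
      obtain ⟨-, h2, h3⟩ := (hP x).1 hx
      exact Finset.mem_powersetCard.2 ⟨h2.trans inter_subset_left, h3⟩
    · rw [Finset.card_image_of_injOn, hPcard, card_powersetCard,
        SimpleGraph.card_neighborFinset_eq_degree, hG.regular o]
      · decide
      · intro x hx y hy h
        obtain ⟨a1, a2, a3⟩ := (hP x).1 hx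
        obtain ⟨b1, b2, -⟩ := (hP y).1 hy
        exact Prod.ext (huniq _ a1 _ b1 _ a3 a2 (h ▸ b2)) h
  intro s hs
  have hmem : s.map (Function.Embedding.subtype _) ∈ (G.neighborFinset o).powersetCard 3 := by
    refine Finset.mem_powersetCard.2 ⟨fun x hx => ?_, by rw [card_map, hs]⟩
    obtain ⟨⟨u, hu⟩, -, rfl⟩ := Finset.mem_map.1 hx
    simpa using hu
  rw [← hsurj, Finset.mem_image] at hmem
  obtain ⟨⟨b, t⟩, hbt, rfl⟩ := hmem
  obtain ⟨hb, hsub, ht3⟩ := (hP _).1 hbt
  obtain ⟨w, hw⟩ := block_exists (G := G) o b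
  refine ⟨w, ⟨⟨b, hb, hw⟩, ?_⟩, ?_⟩
  · exact Finset.map_subset_map.1 (hw.symm ▸ hsub)
  · rintro w' ⟨⟨c, hc, hw'⟩, hsw⟩
    have hsub' := (Finset.map_subset_map (f := Function.Embedding.subtype _)).2 hsw
    rw [hw'] at hsub'
    have := huniq b hb c hc _ (by rw [card_map, hs]) hsub hsub'
    subst this
    exact Finset.map_injective _ (hw'.trans hw.symm)

end HS

theorem hsGraph_unique {V W : Type*} [Fintype V] [Fintype W] {G : SimpleGraph V}
    {H : SimpleGraph W} [DecidableRel G.Adj] [DecidableRel H.Adj] (hG : G.IsSRGWith 100 22 0 6)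
    (hH : H.IsSRGWith 100 22 0 6) : Nonempty (G ≃g H) := by
  classical
  obtain ⟨o⟩ : Nonempty V := Fintype.card_pos_iff.1 (by rw [hG.card]; norm_num)
  obtain ⟨o'⟩ : Nonempty W := Fintype.card_pos_iff.1 (by rw [hH.card]; norm_num)
  obtain ⟨e, e1, e2, he⟩ := steiner22_iso (hs_card_points hG o) (hs_steiner hG o)
  obtain ⟨e', e1', e2', he'⟩ := steiner22_iso (hs_card_points hH o') (hs_steiner hH o')
  let σ := e.trans e'.symm
  have hσ0 : σ none = none := by simp [σ, e1, ← e1']
  have hσ1 : σ (some none) = some none := by simp [σ, e2, ← e2']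
  let r := σ.removeNone
  have hr : ∀ a, σ (some a) = some (r a) := fun a => by
    have hne : σ (some a) ≠ none := fun h => by
      have := σ.injective (h.trans hσ0.symm); simp at this
    obtain ⟨y, hy⟩ := Option.ne_none_iff_exists'.1 hne
    exact (Equiv.removeNone_some σ ⟨y, hy⟩).symm
  have hr0 : r none = none := Option.some_injective _ ((hr none).symm.trans hσ1)
  let τ := r.removeNone
  have hτ : ∀ a, σ (some (some a)) = some (some (τ a)) := by
    intro a
    rw [hr]
    congr 1
    have hne : r (some a) ≠ none := fun h => by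
      have := r.injective (h.trans hr0.symm); simp at this
    obtain ⟨y, hy⟩ := Option.ne_none_iff_exists'.1 hne
    exact (Equiv.removeNone_some r ⟨y, hy⟩).symm
  have himg : ∀ w : Finset {u // G.Adj o u},
      (ins22 w).image e = (ins22 (w.map τ.toEmbedding)).image e' := by
    intro w
    have hcomp : ∀ z, e z = e' (σ z) := fun z => by simp [σ]
    ext p
    simp only [Finset.mem_image, ins22, Finset.mem_insertNone, Option.forall]
    constructor
    · rintro ⟨(_ | _ | a), hz, rfl⟩
      · exact ⟨none, by simp, by rw [hcomp, hσ0]⟩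
      · exact ⟨some none, by simp, by rw [hcomp, hσ1]⟩
      · exact ⟨some (some (τ a)), by simpa using hz, by rw [hcomp, hτ]⟩
    · rintro ⟨(_ | _ | a), hz, rfl⟩
      · exact ⟨none, by simp, by rw [hcomp, hσ0]⟩
      · exact ⟨some none, by simp, by rw [hcomp, hσ1]⟩
      · exact ⟨some (some (τ.symm a)), by simpa using hz, by rw [hcomp, hτ]; simp⟩
  have hblk : ∀ b ∈ farFinset G o, ∃ b' ∈ farFinset H o', ∀ u : {u // G.Adj o u},
      ((u : V) ∈ blockOf G o b ↔ ((τ u : {u // H.Adj o' u}) : W) ∈ blockOf H o' b') := by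
    intro b hb
    obtain ⟨w, hw⟩ := block_exists (G := G) o b
    have h1 := (he w).2 ⟨b, hb, hw⟩
    rw [himg] at h1
    obtain ⟨b', hb', hw'⟩ := (he' _).1 h1
    refine ⟨b', hb', fun u => ?_⟩
    rw [← hw, ← hw']
    simp [u.2, (τ u).2]
  choose ψ hψ hψmem using hblk
  let φ : V → W := fun x => if x = o then o' else
    if hu : G.Adj o x then ((τ ⟨x, hu⟩ : {u // H.Adj o' u}) : W) else
      if hx : x ∈ farFinset G o then ψ x hx else o'
  have φo : φ o = o' := if_pos rfl
  have φN : ∀ x (hu : G.Adj o x), φ x = ((τ ⟨x, hu⟩ : {u // H.Adj o' u}) : W) := fun x hu => by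
    simp only [φ, if_neg (Ne.symm (G.ne_of_adj hu)), dif_pos hu]
  have φM : ∀ x (hx : x ∈ farFinset G o), φ x = ψ x hx := fun x hx => by
    simp only [φ, if_neg (mem_far.1 hx).1, dif_neg (mem_far.1 hx).2, dif_pos hx]
  have hcard : ∀ b (hb : b ∈ farFinset G o) c (hc : c ∈ farFinset G o),
      (blockOf H o' (ψ b hb) ∩ blockOf H o' (ψ c hc)).card =
        (blockOf G o b ∩ blockOf G o c).card := by
    intro b hb c hc
    symm
    refine Finset.card_bij (fun x hx => ((τ ⟨x, by
      simpa [blockOf] using (Finset.mem_inter.1 (Finset.mem_inter.1 hx).1).1⟩ :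
        {u // H.Adj o' u}) : W)) (fun x hx => ?_) (fun x hx y hy h => ?_) (fun y hy => ?_)
    · exact Finset.mem_inter.2 ⟨(hψmem b hb _).1 (Finset.mem_inter.1 hx).1,
        (hψmem c hc _).1 (Finset.mem_inter.1 hx).2⟩
    · simpa using τ.injective (Subtype.ext h)
    · have hy' : H.Adj o' y := by
        simpa [blockOf] using (Finset.mem_inter.1 (Finset.mem_inter.1 hy).1).1
      refine ⟨(τ.symm ⟨y, hy'⟩ : {u // G.Adj o u}), Finset.mem_inter.2 ⟨?_, ?_⟩, by simp⟩
      · exact (hψmem b hb _).2 (by simpa using (Finset.mem_inter.1 hy).1)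
      · exact (hψmem c hc _).2 (by simpa using (Finset.mem_inter.1 hy).2)
  have hcases : ∀ x, x = o ∨ G.Adj o x ∨ x ∈ farFinset G o := fun x => by
    rw [mem_far]; tauto
  have hkey : ∀ x y, x ≠ y → φ x ≠ φ y ∧ (H.Adj (φ x) (φ y) ↔ G.Adj x y) := by
    have hoN : ∀ x, G.Adj o x → φ o ≠ φ x ∧ (H.Adj (φ o) (φ x) ↔ G.Adj o x) := by
      intro x hx
      rw [φo, φN x hx]
      have := (τ ⟨x, hx⟩).2
      exact ⟨H.ne_of_adj this, iff_of_true this hx⟩
    have hoM : ∀ x ∈ farFinset G o, φ o ≠ φ x ∧ (H.Adj (φ o) (φ x) ↔ G.Adj o x) := by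
      intro x hx
      rw [φo, φM x hx]
      obtain ⟨a, b⟩ := mem_far.1 (hψ x hx)
      exact ⟨Ne.symm a, iff_of_false b (mem_far.1 hx).2⟩
    have hNM : ∀ x, G.Adj o x → ∀ y ∈ farFinset G o,
        φ x ≠ φ y ∧ (H.Adj (φ x) (φ y) ↔ G.Adj x y) := by
      intro x hx y hy
      rw [φN x hx, φM y hy]
      have h1 := (τ ⟨x, hx⟩).2
      refine ⟨fun e => (mem_far.1 (hψ y hy)).2 (e ▸ h1), ?_⟩
      have := hψmem y hy ⟨x, hx⟩
      simp only [blockOf, Finset.mem_inter, SimpleGraph.mem_neighborFinset, hx, h1, true_and] at this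
      rw [SimpleGraph.adj_comm H, SimpleGraph.adj_comm G]
      exact this.symm
    intro x y hne
    rcases hcases x with rfl | hx | hx <;> rcases hcases y with rfl | hy | hy
    · exact absurd rfl hne
    · exact hoN y hy
    · exact hoM y hy
    · obtain ⟨a, b⟩ := hoN x hx
      exact ⟨a.symm, by rw [H.adj_comm, b, G.adj_comm]⟩
    · rw [φN x hx, φN y hy]
      refine ⟨fun e => hne (by simpa using τ.injective (Subtype.ext e)), iff_of_false
        (hs_indep hH o' (τ ⟨x, hx⟩).2 (τ ⟨y, hy⟩).2) (hs_indep hG o hx hy)⟩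
    · exact hNM x hx y hy
    · obtain ⟨a, b⟩ := hoM x hx
      exact ⟨a.symm, by rw [H.adj_comm, b, G.adj_comm]⟩
    · obtain ⟨a, b⟩ := hNM y hy x hx
      exact ⟨a.symm, by rw [H.adj_comm, b, G.adj_comm]⟩
    · rw [φM x hx, φM y hy]
      have h1 := hcard x hx y hy
      rw [hs_block_inter hG o hx hy hne.symm] at h1
      have hne' : ψ x hx ≠ ψ y hy := by
        intro e
        rw [e, Finset.inter_self, hs_block_card hH o' (hψ y hy)] at h1
        split_ifs at h1 <;> omega
      refine ⟨hne', ?_⟩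
      rw [hs_block_inter hH o' (hψ x hx) (hψ y hy) hne'.symm] at h1
      split_ifs at h1 with a b <;> simp_all
  have hinj : Function.Injective φ := fun x y h => by
    by_contra hne
    exact (hkey x y hne).1 h
  have hbij : Function.Bijective φ :=
    (Fintype.bijective_iff_injective_and_card _).2 ⟨hinj, by rw [hG.card, hH.card]⟩
  refine ⟨⟨Equiv.ofBijective φ hbij, fun {x y} => ?_⟩⟩
  show H.Adj (φ x) (φ y) ↔ G.Adj x y
  by_cases h : x = y
  · subst h; simp
  · exact (hkey x y h).2

end CfsgLib.Golay
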