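import Cfsg.Agent.Lib.Golay.NormalizerCount
import Cfsg.Agent.Lib.Golay.Mathieu
import Cfsg.Agent.Lib.Golay.Stab
import Cfsg.Agent.Lib.Mathieu.M22NormData

/-! The two-point stabiliser of `M24` has no subgroups of index 56 or 210. -/

set_option autoImplicit false
set_option maxRecDepth 100000

namespace CfsgLib.Golay

open Cfsg CfsgLib.Mathieu
open scoped Pointwise

/-- `g` conjugates `t` to its `k`th power. -/
def semiPowB (g t k : ℕ) : Bool :=
  (List.range 24).all fun i => Nat.beq (img g (img t i)) (imgIter t k (img g i))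

theorem semiPowB_sound {g t k : ℕ} (hg : valid g = true) (ht : valid t = true)
    (h : semiPowB g t k = true) : permOf g * permOf t = permOf t ^ k * permOf g := by
  refine Equiv.ext fun p => ?_
  simp only [semiPowB, List.all_eq_true, List.mem_range, Nat.beq_eq] at h
  rw [Equiv.Perm.mul_apply, Equiv.Perm.mul_apply, permOf_apply ht p, permOf_apply hg p,
    permOf_pt hg (valid_lt ht (idx_lt p)), (imgIter_spec ht k (valid_lt hg (idx_lt p))).1,
    h _ (idx_lt p)]

/-- The list consists of powers of `t`. -/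
def powsB (t n : ℕ) (l : List ℕ) : Bool :=
  l.all fun e => valid e && (List.range n).any fun k =>
    (List.range 24).all fun i => Nat.beq (img e i) (imgIter t k i)

theorem powsB_sound {t n : ℕ} (ht : valid t = true) {l : List ℕ} (h : powsB t n l = true) :
    ∀ e ∈ l, ∃ k, permOf e = permOf t ^ k := by
  intro e he
  simp only [powsB, List.all_eq_true, List.any_eq_true, List.mem_range, Bool.and_eq_true,
    Nat.beq_eq] at h
  obtain ⟨hv, k, -, hk⟩ := h e he
  refine ⟨k, Equiv.ext fun p => ?_⟩
  conv_rhs => rw [← pt_idx p]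
  rw [(imgIter_spec ht k (idx_lt p)).1, permOf_apply hv p, hk _ (idx_lt p)]

theorem card_centralizer_of_commFix {X : List ℕ} {t n : ℕ} {l : List ℕ} (ht : inFix X t = true)
    (hl : powsB t n l = true) (htl : t ∈ l) :
    Nat.card (Subgroup.centralizer ({⟨permOf t, inFix_mem ht⟩} : Set (fixMasks X))) =
      Nat.card (commFix X l) := by
  refine Nat.card_congr
    { toFun := fun x => ⟨x.1.1, x.1.2, fun e he => ?_⟩
      invFun := fun x => ⟨⟨x.1, x.2.1⟩, Subgroup.mem_centralizer_singleton_iff.2
        (Subtype.ext (x.2.2 t htl))⟩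
      left_inv := fun _ => rfl
      right_inv := fun _ => rfl }
  obtain ⟨k, hk⟩ := powsB_sound (inFix_valid ht) hl e he
  rw [hk]
  have := congrArg Subtype.val (Subgroup.mem_centralizer_singleton_iff.1 x.2)
  exact (show Commute (x.1.1 : Equiv.Perm GolayPt) (permOf t) from this).pow_right k

theorem mData_ok : inFix X22 mA = true ∧ inFix X22 mB = true ∧ inFix X22 mT = true ∧
    semiPowB mB mA 3 = true ∧ semiPowB mT mB 2 = true ∧ mA ∈ mAPows ∧ mB ∈ mBPows ∧
    powsB mA 11 mAPows = true ∧ powsB mB 5 mBPows = true ∧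
    (List.range 24).all (fun i => Nat.beq (imgIter mA 11 i) i) = true ∧
    (List.range 24).all (fun i => Nat.beq (imgIter mB 5 i) i) = true ∧
    (List.range 24).all (fun i => Nat.beq ((Nat.rec i (fun _ j => img mA (img mT j)) 7 : ℕ)) i) = true ∧
    img mA 1 ≠ 1 ∧ img mA (img mT 1) ≠ 1 ∧ (List.range 24).any (fun i => !Nat.beq (img mB i) i) = true := by
  decide +kernel

theorem mA_levels : cChainOK X22 mAPows mALevels mAFin = true := by decide +kernel

theorem mB_levels : cChainOK X22 mBPows mBLevels mBFin = true := by decide +kernel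

/-- The generator of order 11. -/
noncomputable def gA : fixMasks X22 := ⟨permOf mA, inFix_mem mData_ok.1⟩

/-- The element of order 5. -/
noncomputable def gB : fixMasks X22 := ⟨permOf mB, inFix_mem mData_ok.2.1⟩

/-- The element of order 4. -/
noncomputable def gT : fixMasks X22 := ⟨permOf mT, inFix_mem mData_ok.2.2.1⟩

theorem orderOf_perm_prime {g p : ℕ} [Fact p.Prime] (hg : valid g = true)
    (h : (List.range 24).all (fun i => Nat.beq (imgIter g p i) i) = true) {i : ℕ} (hi : i < 24)
    (hne : img g i ≠ i) : orderOf (permOf g) = p := by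
  simp only [List.all_eq_true, List.mem_range, Nat.beq_eq] at h
  refine orderOf_eq_prime (Equiv.ext fun q => ?_) fun e => hne ?_
  · conv_lhs => rw [← pt_idx q]
    rw [(imgIter_spec hg p (idx_lt q)).1, h _ (idx_lt q), pt_idx]; rfl
  · have := congrArg (fun σ : Equiv.Perm GolayPt => idx (σ (pt i))) e
    simpa [permOf_pt hg hi, idx_pt (valid_lt hg hi), idx_pt hi] using this

theorem gA_order : orderOf gA = 11 := by
  haveI : Fact (Nat.Prime 11) := ⟨by norm_num⟩
  rw [← Subgroup.orderOf_coe]
  exact orderOf_perm_prime (inFix_valid mData_ok.1) mData_ok.2.2.2.2.2.2.2.2.2.1 (by norm_num)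
    mData_ok.2.2.2.2.2.2.2.2.2.2.2.2.1

theorem gB_order : orderOf gB = 5 := by
  haveI : Fact (Nat.Prime 5) := ⟨by norm_num⟩
  rw [← Subgroup.orderOf_coe]
  have h := mData_ok.2.2.2.2.2.2.2.2.2.2.2.2.2.2
  simp only [List.any_eq_true, List.mem_range, Bool.not_eq_true'] at h
  obtain ⟨i, hi, hne⟩ := h
  exact orderOf_perm_prime (inFix_valid mData_ok.2.1) mData_ok.2.2.2.2.2.2.2.2.2.2.1 hi
    fun e => by rw [e, Nat.beq_refl] at hne; exact absurd hne (by decide)

theorem gAT_order : orderOf (gA * gT) = 7 := by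
  haveI : Fact (Nat.Prime 7) := ⟨by norm_num⟩
  rw [← Subgroup.orderOf_coe]
  have ha := inFix_valid mData_ok.1
  have ht := inFix_valid mData_ok.2.2.1
  have key : ∀ (n : ℕ) {i : ℕ}, i < 24 → ((permOf mA * permOf mT) ^ n) (pt i) =
      pt (Nat.rec i (fun _ j => img mA (img mT j)) n : ℕ) ∧
      (Nat.rec i (fun _ j => img mA (img mT j)) n : ℕ) < 24 := by
    intro n
    induction n with
    | zero => exact fun hi => ⟨rfl, hi⟩
    | succ n ih =>
      intro i hi
      obtain ⟨e, hlt⟩ := ih hi
      refine ⟨?_, valid_lt ha (valid_lt ht hlt)⟩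
      rw [pow_succ', Equiv.Perm.mul_apply, e, Equiv.Perm.mul_apply, permOf_pt ht hlt,
        permOf_pt ha (valid_lt ht hlt)]
  have h7 := mData_ok.2.2.2.2.2.2.2.2.2.2.2.1
  simp only [List.all_eq_true, List.mem_range, Nat.beq_eq] at h7
  show orderOf (permOf mA * permOf mT) = 7
  refine orderOf_eq_prime (Equiv.ext fun q => ?_) fun e => ?_
  · conv_lhs => rw [← pt_idx q]
    rw [(key 7 (idx_lt q)).1, h7 _ (idx_lt q), pt_idx]; rfl
  · refine mData_ok.2.2.2.2.2.2.2.2.2.2.2.2.2.1 ?_
    have := congrArg (fun σ : Equiv.Perm GolayPt => idx (σ (pt 1))) e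
    simpa [Equiv.Perm.mul_apply, permOf_pt ht (show 1 < 24 by norm_num),
      permOf_pt ha (valid_lt ht (show 1 < 24 by norm_num)),
      idx_pt (valid_lt ha (valid_lt ht (show 1 < 24 by norm_num))),
      idx_pt (show 1 < 24 by norm_num)] using this

theorem cent_gA : Nat.card (Subgroup.centralizer ({gA} : Set (fixMasks X22))) = 11 := by
  rw [gA, card_centralizer_of_commFix mData_ok.1 mData_ok.2.2.2.2.2.2.2.1 mData_ok.2.2.2.2.2.1,
    card_commFix mA_levels]
  decide +kernel

theorem cent_gB : Nat.card (Subgroup.centralizer ({gB} : Set (fixMasks X22))) = 5 := by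
  rw [gB, card_centralizer_of_commFix mData_ok.2.1 mData_ok.2.2.2.2.2.2.2.2.1
    mData_ok.2.2.2.2.2.2.1, card_commFix mB_levels]
  decide +kernel

theorem mem_normalizer_of_semiPow {G : Type*} [Group G] [Finite G] {g t : G} {k : ℕ}
    (h : g * t = t ^ k * g) : g ∈ Subgroup.normalizer (Subgroup.zpowers t : Set G) := by
  rw [Subgroup.mem_normalizer_iff'']
  have e : g * t * g⁻¹ = t ^ k := by rw [h]; group
  have hle : (Subgroup.zpowers t).map (MulAut.conj g).toMonoidHom ≤ Subgroup.zpowers t := by
    rw [MonoidHom.map_zpowers, Subgroup.zpowers_le]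
    show g * t * g⁻¹ ∈ _
    rw [e]; exact Subgroup.npow_mem_zpowers t k
  have heq : (Subgroup.zpowers t).map (MulAut.conj g).toMonoidHom = Subgroup.zpowers t :=
    Subgroup.eq_of_le_of_card_ge hle (le_of_eq (Nat.card_congr
      ((Subgroup.zpowers t).equivMapOfInjective _ (MulAut.conj g).injective).toEquiv))
  intro x
  constructor
  · intro hx
    rw [← heq] at hx
    obtain ⟨y, hy, rfl⟩ := hx
    simpa [mul_assoc] using hy
  · intro hx
    rw [← heq]
    exact ⟨_, hx, by simp [mul_assoc]⟩

theorem gB_normal : gB ∈ Subgroup.normalizer (Subgroup.zpowers gA : Set (fixMasks X22)) :=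
  mem_normalizer_of_semiPow (k := 3) (Subtype.ext
    (semiPowB_sound (inFix_valid mData_ok.2.1) (inFix_valid mData_ok.1) mData_ok.2.2.2.1))

theorem gT_normal : gT ∈ Subgroup.normalizer (Subgroup.zpowers gB : Set (fixMasks X22)) :=
  mem_normalizer_of_semiPow (k := 2) (Subtype.ext
    (semiPowB_sound (inFix_valid mData_ok.2.2.1) (inFix_valid mData_ok.2.1) mData_ok.2.2.2.2.1))

theorem card_normalizer_gA_dvd :
    Nat.card (Subgroup.normalizer (Subgroup.zpowers gA : Set (fixMasks X22))) ∣ 110 :=
  card_normalizer_dvd (by norm_num) gA_order cent_gA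

theorem no_index_210 (H : Subgroup (fixMasks X22)) : H.index ≠ 210 := by
  intro hi
  have hH : Nat.card H = 2112 := by
    have h := Subgroup.card_mul_index H
    rw [hi, card_fix22] at h; omega
  obtain ⟨g, hg⟩ := exists_conj_mem (by norm_num) gA_order (by rw [card_fix22]; norm_num)
    (H := H) (by rw [hH]; norm_num)
  set H' := H.map (MulAut.conj g).toMonoidHom
  have hH' : Nat.card H' = 2112 := by
    rw [← hH]; exact (Nat.card_congr (H.equivMapOfInjective _ (MulAut.conj g).injective).toEquiv).symm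
  obtain ⟨d, -, h1, h2, h3, h4⟩ := normalizer_meet_count (by norm_num) gA_order cent_gA hg
    (by rw [hH']; norm_num)
  rw [hH'] at h3 h4
  have : d ∈ Nat.divisors 110 := Nat.mem_divisors.2 ⟨h2, by norm_num⟩
  rw [show Nat.divisors 110 = {1, 2, 5, 10, 11, 22, 55, 110} by decide +kernel] at this
  fin_cases this <;> omega

theorem no_index_56 (H : Subgroup (fixMasks X22)) : H.index ≠ 56 := by
  intro hi
  have hH : Nat.card H = 7920 := by
    have h := Subgroup.card_mul_index H
    rw [hi, card_fix22] at h; omega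
  obtain ⟨g, hg⟩ := exists_conj_mem (by norm_num) gA_order (by rw [card_fix22]; norm_num)
    (H := H) (by rw [hH]; norm_num)
  set H' := H.map (MulAut.conj g).toMonoidHom
  have hH' : Nat.card H' = 7920 := by
    rw [← hH]; exact (Nat.card_congr (H.equivMapOfInjective _ (MulAut.conj g).injective).toEquiv).symm
  obtain ⟨d, hd, h1, h2, h3, h4⟩ := normalizer_meet_count (by norm_num) gA_order cent_gA hg
    (by rw [hH']; norm_num)
  rw [hH'] at h3 h4
  have hd55 : d = 55 := by
    have : d ∈ Nat.divisors 110 := Nat.mem_divisors.2 ⟨h2, by norm_num⟩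
    rw [show Nat.divisors 110 = {1, 2, 5, 10, 11, 22, 55, 110} by decide +kernel] at this
    fin_cases this <;> omega
  -- move an element of order five to `gB` inside the normaliser
  set N := Subgroup.normalizer (Subgroup.zpowers gA : Set (fixMasks X22))
  haveI : Fact (Nat.Prime 5) := ⟨by norm_num⟩
  let gB' : N := ⟨gB, gB_normal⟩
  have hgB' : orderOf gB' = 5 := (Subgroup.orderOf_coe gB').symm.trans gB_order
  have hmeet : 5 ∣ Nat.card ((H' ⊓ N).subgroupOf N) := by
    rw [Nat.card_congr (Subgroup.subgroupOfEquivOfLe (inf_le_right : H' ⊓ N ≤ N)).toEquiv, hd, hd55]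
    norm_num
  obtain ⟨u, hu⟩ := exists_conj_mem (G := N) (by norm_num) hgB' (fun hc => by
    have := hc.trans card_normalizer_gA_dvd
    norm_num at this) hmeet
  set H'' := H'.map (MulAut.conj (u : fixMasks X22)).toMonoidHom
  have hH'' : Nat.card H'' = 7920 := by
    rw [← hH']
    exact (Nat.card_congr (H'.equivMapOfInjective _ (MulAut.conj _).injective).toEquiv).symm
  have hB : gB ∈ H'' := by
    obtain ⟨y, hy, e⟩ := hu
    exact ⟨(y : fixMasks X22), hy.1, congrArg Subtype.val e⟩
  have hA : gA ∈ H'' := by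
    have hmem := (Subgroup.mem_normalizer_iff''.1 u.2 gA).1 (Subgroup.mem_zpowers gA)
    obtain ⟨k, hk⟩ := Subgroup.mem_zpowers_iff.1 hmem
    refine ⟨gA ^ k, Subgroup.zpow_mem _ hg k, ?_⟩
    show (u : fixMasks X22) * gA ^ k * (u : fixMasks X22)⁻¹ = gA
    rw [hk]; group
  obtain ⟨e, he, e1, e2, e3, e4⟩ := normalizer_meet_count (by norm_num) gB_order cent_gB hB
    (by rw [hH'']; norm_num)
  rw [hH''] at e3 e4
  have he20 : e = 20 := by
    have : e ∈ Nat.divisors 20 := Nat.mem_divisors.2 ⟨e2, by norm_num⟩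
    rw [show Nat.divisors 20 = {1, 2, 4, 5, 10, 20} by decide +kernel] at this
    fin_cases this <;> omega
  have hT : gT ∈ H'' := by
    have hN : H'' ⊓ Subgroup.normalizer (Subgroup.zpowers gB : Set (fixMasks X22)) =
        Subgroup.normalizer (Subgroup.zpowers gB : Set (fixMasks X22)) :=
      Subgroup.eq_of_le_of_card_ge inf_le_right (by
        rw [he, he20]
        exact Nat.le_of_dvd (by norm_num) (card_normalizer_dvd (by norm_num) gB_order cent_gB))
    exact (inf_eq_right.1 hN) gT_normal
  have h7 : 7 ∣ Nat.card H'' := by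
    have := orderOf_dvd_natCard (⟨gA * gT, Subgroup.mul_mem _ hA hT⟩ : H'')
    rwa [← Subgroup.orderOf_coe, gAT_order] at this
  rw [hH''] at h7
  norm_num at h7

theorem twoPoint_no_index {p q : GolayPt} (hpq : p ≠ q)
    (H : Subgroup ↥(MulAction.stabilizer M24 p ⊓ MulAction.stabilizer M24 q)) :
    H.index ≠ 56 ∧ H.index ≠ 210 := by
  obtain ⟨φ⟩ := stab2_equiv hpq
  have h : (H.map φ.toMonoidHom).index = H.index := Subgroup.index_map_equiv H φ
  rw [← h]
  exact ⟨no_index_56 _, no_index_210 _⟩

end CfsgLib.Golay
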