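import Cfsg.Agent.Lib.Golay.HSGraph
import Cfsg.Agent.Lib.Golay.InvariantSets
import Cfsg.Agent.Lib.Golay.M22Index
import Cfsg.Prelude.Def_KGroupFacts

/-! The automorphism group of the Higman–Sims group is the group of its graph. -/

set_option autoImplicit false
set_option maxRecDepth 100000

namespace CfsgLib.Golay

open Cfsg
open scoped Pointwise

/-- An automorphism that permutes the point stabilisers comes from a permutation of the points. -/
theorem exists_intertwining {G X : Type*} [Group G] [MulAction G X] [Finite X]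
    (hinj : ∀ x y : X, MulAction.stabilizer G x = MulAction.stabilizer G y → x = y)
    (hall : ∀ (x : X) (K : Subgroup G), Nat.card K = Nat.card (MulAction.stabilizer G x) →
      ∃ y : X, K = MulAction.stabilizer G y) (φ : MulAut G) :
    ∃ π : Equiv.Perm X, ∀ (g : G) (x : X), π (g • x) = φ g • π x := by
  have h : ∀ x, ∃ y, (MulAction.stabilizer G x).map φ.toMonoidHom = MulAction.stabilizer G y :=
    fun x => hall x _ (Nat.card_congr
      ((MulAction.stabilizer G x).equivMapOfInjective _ φ.injective).toEquiv).symm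
  choose f hf using h
  have hmem : ∀ x k, φ k • f x = f x ↔ k • x = x := by
    intro x k
    rw [← MulAction.mem_stabilizer_iff, ← hf x, ← MulAction.mem_stabilizer_iff,
      Subgroup.mem_map_equiv]
    simp
  have hfi : Function.Injective f := fun x y e => hinj x y (Subgroup.ext fun k => by
    rw [MulAction.mem_stabilizer_iff, MulAction.mem_stabilizer_iff, ← hmem x k, ← hmem y k, e])
  refine ⟨Equiv.ofBijective f (Finite.injective_iff_bijective.1 hfi), fun g x => ?_⟩
  refine hinj _ _ (Subgroup.ext fun h => ?_)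
  obtain ⟨k, rfl⟩ := φ.surjective h
  rw [MulAction.mem_stabilizer_iff, MulAction.mem_stabilizer_iff, smul_smul, ← map_mul,
    Equiv.ofBijective_apply, Equiv.ofBijective_apply, hmem, smul_smul]
  constructor
  · intro e
    have e' : (g⁻¹ * (k * g)) • x = x := by rw [mul_smul, e, inv_smul_smul]
    have := (hmem x _).2 e'
    rwa [map_mul, map_inv, mul_smul, inv_smul_eq_iff] at this
  · intro e
    have e' : φ (g⁻¹ * (k * g)) • f x = f x := by rw [map_mul, map_inv, mul_smul, e, inv_smul_smul]
    have := (hmem x _).1 e'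
    rwa [mul_smul, inv_smul_eq_iff] at this

/-- The action of the group on the 100 vectors. -/
noncomputable instance hsAction : MulAction hsGroup hsPoints where
  smul g y := ⟨(g : Co0) • (y : leechLattice), hs_mem_points g y.2⟩
  one_smul y := Subtype.ext (one_smul Co0 (y : leechLattice))
  mul_smul g h y := Subtype.ext (mul_smul (g : Co0) (h : Co0) (y : leechLattice))

theorem hs_coe_smul (g : hsGroup) (y : hsPoints) :
    ((g • y : hsPoints) : leechLattice) = (g : Co0) • (y : leechLattice) := rfl

instance : Finite hsPoints := hsPoints_finite.to_subtype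

/-- The base point. -/
def hsBase : hsPoints := ⟨min44, min44_hs⟩

theorem whs_pair : sqNorm (whs : GolayPt → ℤ) = 48 ∧
    dotInt (fiveV : GolayPt → ℤ) whs = -32 := by
  constructor <;> decide +kernel

theorem hs_exists_to_base (y : hsPoints) : ∃ g : hsGroup, g • y = hsBase := by
  obtain ⟨g, g1, g2, g3⟩ := hs_trans y.2 min44_hs
  exact ⟨⟨g, mem_hsGroup.2 ⟨g1, g2⟩⟩, Subtype.ext g3⟩

theorem hs_orbit_univ (y : hsPoints) : MulAction.orbit hsGroup y = Set.univ := by
  refine Set.eq_univ_of_forall fun z => ?_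
  obtain ⟨a, ha⟩ := hs_exists_to_base y
  obtain ⟨b, hb⟩ := hs_exists_to_base z
  exact ⟨b⁻¹ * a, show (b⁻¹ * a) • y = z by rw [mul_smul, ha, ← hb, inv_smul_smul]⟩

theorem card_hs_stab (y : hsPoints) : Nat.card (MulAction.stabilizer hsGroup y) = 443520 := by
  have h := (MulAction.stabilizer hsGroup y).card_mul_index
  rw [MulAction.index_stabilizer, hs_orbit_univ, Set.ncard_univ, Nat.card_coe_set_eq,
    ncard_hsPoints, card_hsGroup] at h
  omega

theorem hsHom_range : hsHom.range = MulAction.stabilizer hsGroup hsBase := by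
  ext g
  rw [MulAction.mem_stabilizer_iff]
  constructor
  · rintro ⟨σ, rfl⟩; exact Subtype.ext (hsHom_fix σ)
  · intro h; exact mem_range_hsHom (congrArg Subtype.val h)

theorem hsHom_injective : Function.Injective hsHom := by
  haveI := isSimple_twoPts
  rw [← MonoidHom.ker_eq_bot_iff]
  refine (isSimple_twoPts.eq_bot_or_eq_top_of_normal _ inferInstance).resolve_right fun h => ?_
  have h1 : Nat.card hsHom.range = 1 := by
    rw [MonoidHom.range_eq_map, ← h, Subgroup.card_eq_one]
    exact (Subgroup.map_eq_bot_iff _).2 le_rfl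
  rw [hsHom_range, card_hs_stab] at h1
  norm_num at h1

/-- The sets of points through `x`. -/
theorem hs_stab_orbit_card (x y : hsPoints) :
    (MulAction.orbit (MulAction.stabilizer hsGroup x) y).ncard = 22 ↔
      dotInt ((x : leechLattice) : GolayPt → ℤ) (y : leechLattice) = 8 := by
  classical
  have hfix : dotInt ((x : leechLattice) : GolayPt → ℤ) (x : leechLattice) ≠ 8 := by
    rw [dotInt_self, x.2.1]; norm_num
  have hd : ∀ k : MulAction.stabilizer hsGroup x, ∀ z : hsPoints,
      dotInt ((x : leechLattice) : GolayPt → ℤ) ((k • z : hsPoints) : leechLattice) =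
        dotInt ((x : leechLattice) : GolayPt → ℤ) (z : leechLattice) := by
    intro k z
    have hk : ((k : hsGroup) : Co0) • (x : leechLattice) = x :=
      congrArg Subtype.val (MulAction.mem_stabilizer_iff.1 k.2)
    conv_lhs => rw [← hk]
    exact co0_dot _ _ _
  rcases eq_or_ne y x with rfl | hyx
  · have : MulAction.orbit (MulAction.stabilizer hsGroup y) y = {y} :=
      Set.eq_singleton_iff_unique_mem.2 ⟨MulAction.mem_orbit_self _,
        by rintro _ ⟨k, rfl⟩; exact k.2⟩
    rw [this, Set.ncard_singleton]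
    exact iff_of_false (by norm_num) hfix
  have hx : (x : leechLattice) ∈ hsAt fiveV whs := x.2
  obtain ⟨c1, c2, c3⟩ := hsAt_rank3 fiveV_norm
    whs_pair.1 whs_pair.2 hx
  have horb : MulAction.orbit (MulAction.stabilizer hsGroup x) y =
      {z : hsPoints | z ≠ x ∧ (dotInt ((x : leechLattice) : GolayPt → ℤ) (y : leechLattice) = 8 ↔
        dotInt ((x : leechLattice) : GolayPt → ℤ) (z : leechLattice) = 8)} := by
    ext z
    constructor
    · rintro ⟨k, rfl⟩
      refine ⟨fun e => hyx ?_, by rw [hd]⟩
      have hk : k • x = x := k.2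
      exact MulAction.injective k (e.trans hk.symm)
    · rintro ⟨hzx, hiff⟩
      obtain ⟨g, g1, g2, g3, g4⟩ := c3 _ y.2 _ z.2 (fun e => hyx (Subtype.ext e))
        (fun e => hzx (Subtype.ext e)) hiff
      exact ⟨⟨⟨g, ⟨g1, g2⟩⟩, Subtype.ext g3⟩, Subtype.ext g4⟩
  rw [horb, ← Set.ncard_image_of_injective _ Subtype.val_injective]
  by_cases h8 : dotInt ((x : leechLattice) : GolayPt → ℤ) (y : leechLattice) = 8
  · refine iff_of_true (Eq.trans (congrArg Set.ncard (Set.ext fun z => ?_)) c1) h8
    simp only [Set.mem_image, Set.mem_setOf_eq, h8, true_iff]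
    constructor
    · rintro ⟨u, ⟨-, hu⟩, rfl⟩; exact ⟨u.2, hu⟩
    · rintro ⟨hz, hu⟩
      exact ⟨⟨z, hz⟩, ⟨fun e => hfix (by have e' := congrArg Subtype.val e; subst e'; exact hu),
        hu⟩, rfl⟩
  · refine iff_of_false (fun h22 => ?_) h8
    rw [show Subtype.val '' {z : hsPoints | z ≠ x ∧ _} = _ from Set.ext fun z => ?_, c2] at h22
    · norm_num at h22
    simp only [Set.mem_image, Set.mem_setOf_eq, h8, false_iff]
    constructor
    · rintro ⟨u, ⟨hu1, hu⟩, rfl⟩; exact ⟨u.2, fun e => hu1 (Subtype.ext e), hu⟩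
    · rintro ⟨hz, hu1, hu⟩
      exact ⟨⟨z, hz⟩, ⟨fun e => hu1 (congrArg Subtype.val e), hu⟩, rfl⟩

theorem hs_stab_fix {x y : hsPoints}
    (h : MulAction.stabilizer hsGroup x ≤ MulAction.stabilizer hsGroup y) : x = y := by
  obtain ⟨a, ha⟩ := hs_exists_to_base x
  suffices hb : ∀ z : hsPoints,
      MulAction.stabilizer hsGroup hsBase ≤ MulAction.stabilizer hsGroup z → z = hsBase by
    refine MulAction.injective a (ha.trans (hb (a • y) ?_).symm)
    intro k hk
    rw [MulAction.mem_stabilizer_iff] at hk ⊢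
    have e : (a⁻¹ * k * a) • x = x := by rw [mul_smul, ha, mul_smul, hk, ← ha, inv_smul_smul]
    have := h (MulAction.mem_stabilizer_iff.2 e)
    rwa [MulAction.mem_stabilizer_iff, mul_smul, mul_smul, inv_smul_eq_iff] at this
  intro z hz
  refine Subtype.ext ?_
  by_contra hne
  have hne : (z : leechLattice) ≠ min44 := hne
  have := (hs_invariant_card (T := {(z : leechLattice)}) (Set.singleton_subset_iff.2 z.2) (by
    rintro σ _ rfl
    have hmem : hsHom σ ∈ MulAction.stabilizer hsGroup hsBase := hsHom_range ▸ ⟨σ, rfl⟩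
    exact congrArg Subtype.val (MulAction.mem_stabilizer_iff.1 (hz hmem)))).2
      (fun e => hne e.symm)
  simp [Set.ncard_singleton] at this

/-- The fixed points of an element fixing a point, moved to the base point. -/
theorem hs_fix_shape {g : hsGroup} {x : hsPoints} (hx : g • x = x) :
    ∃ (a : hsGroup) (σ : twoPts), orderOf (σ : M24) = orderOf g ∧ a • x = hsBase ∧
      ∀ z : hsPoints, g • z = z → a • z = hsBase ∨
        (∃ o ∈ octads, pinf ∈ o ∧ pz ∈ o ∧ (σ : M24) • o = o) ∨
        ∃ j, j ≠ pinf ∧ j ≠ pz ∧ (σ : M24) • j = j ∧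
          (((a • z : hsPoints) : leechLattice) : GolayPt → ℤ) = oddP j := by
  classical
  obtain ⟨a, ha⟩ := hs_exists_to_base x
  have hkfix : a * g * a⁻¹ ∈ hsHom.range := by
    rw [hsHom_range, MulAction.mem_stabilizer_iff, mul_smul, ← ha, inv_smul_smul, mul_smul, hx]
  obtain ⟨σ, hσ⟩ := hkfix
  refine ⟨a, σ, ?_, ha, fun z hz => ?_⟩
  · rw [Subgroup.orderOf_coe, ← orderOf_injective hsHom hsHom_injective, hσ]
    exact MulEquiv.orderOf_eq (MulAut.conj a) g
  have hz' : (hsHom σ : Co0) • ((a • z : hsPoints) : leechLattice) = (a • z : hsPoints) := by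
    rw [← hs_coe_smul, hσ, mul_smul, inv_smul_smul, mul_smul, hz]
  have hap : ∀ i, (((a • z : hsPoints) : leechLattice) : GolayPt → ℤ) ((σ : M24) • i) =
      (((a • z : hsPoints) : leechLattice) : GolayPt → ℤ) i := fun i => by
    conv_lhs => rw [← hz']
    exact perm_apply _ _ _
  rcases shape_hs (a • z : hsPoints).2 with h | ⟨o, ho, o1, o2, e⟩ | ⟨j, j1, j2, e⟩
  · exact Or.inl (Subtype.ext h)
  · refine Or.inr (Or.inl ⟨o, ho, o1, o2, ?_⟩)
    ext i
    rw [← smul_inv_smul (σ : M24) i, Finset.smul_mem_smul_finset_iff]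
    have h := hap ((σ : M24)⁻¹ • i)
    rw [e] at h
    simp only [octP] at h
    split_ifs at h with q1 q2 <;> simp_all
  · refine Or.inr (Or.inr ⟨j, j1, j2, ?_, e⟩)
    have h := hap j
    rw [e] at h
    simp only [oddP, if_true] at h
    split_ifs at h with q
    exact q

/-- An element of order 7 fixes at most two of the 100 points. -/
theorem hs_seven_fix {g : hsGroup} (hg : orderOf g = 7) :
    (MulAction.fixedBy hsPoints g).ncard ≤ 2 := by
  classical
  haveI : Fact (Nat.Prime 7) := ⟨by norm_num⟩
  rcases (MulAction.fixedBy hsPoints g).eq_empty_or_nonempty with h | ⟨x, hx⟩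
  · rw [h, Set.ncard_empty]; norm_num
  obtain ⟨a, σ, hσ, ha, hsh⟩ := hs_fix_shape (MulAction.mem_fixedBy.1 hx)
  rw [hg] at hσ
  have h3 := seven_fix hσ
  have hm : ∀ p, p ∈ fixPts (σ : M24) ↔ (σ : M24) • p = p := fun p => by simp [fixPts]
  have hpair : ({pinf, pz} : Finset GolayPt) ⊆ fixPts (σ : M24) := fun p hp => by
    rcases Finset.mem_insert.1 hp with rfl | hp
    · exact (hm _).2 σ.2.1
    · rw [Finset.mem_singleton.1 hp]; exact (hm _).2 σ.2.2
  obtain ⟨j₀, hj₀⟩ : ∃ j₀, (fixPts (σ : M24) \ {pinf, pz}) = {j₀} := by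
    refine Finset.card_eq_one.1 ?_
    rw [Finset.card_sdiff_of_subset hpair, h3, Finset.card_pair pinf_ne_pz]
  have hinj : Set.InjOn (fun z : hsPoints => (((a • z : hsPoints) : leechLattice) : GolayPt → ℤ))
      (MulAction.fixedBy hsPoints g) := fun u _ v _ h =>
    MulAction.injective a (Subtype.ext (Subtype.ext h))
  rw [← hinj.ncard_image]
  refine (Set.ncard_le_ncard (t := {(min44 : GolayPt → ℤ), oddP j₀}) ?_ (Set.toFinite _)).trans
    ((Set.ncard_insert_le _ _).trans (by rw [Set.ncard_singleton]))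
  rintro _ ⟨z, hz, rfl⟩
  rcases hsh z hz with h | ⟨o, ho, o1, o2, hinv⟩ | ⟨j, j1, j2, hj, e⟩
  · exact Or.inl (congrArg (fun u : hsPoints => ((u : leechLattice) : GolayPt → ℤ)) h)
  · exfalso
    have hmod : o.card % 7 = (o ∩ fixPts (σ : M24)).card % 7 :=
      invariant_modEq (hσ ▸ pow_orderOf_eq_one (σ : M24)) hinv
    have hge : ({pinf, pz} : Finset GolayPt).card ≤ (o ∩ fixPts (σ : M24)).card :=
      Finset.card_le_card (Finset.subset_inter (by simp [Finset.insert_subset_iff, o1, o2]) hpair)
    have hle : (o ∩ fixPts (σ : M24)).card ≤ 3 :=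
      h3 ▸ Finset.card_le_card Finset.inter_subset_right
    rw [Finset.card_pair pinf_ne_pz] at hge
    rw [ho.2] at hmod
    omega
  · refine Or.inr ?_
    have : j ∈ fixPts (σ : M24) \ {pinf, pz} := by simp [hm, hj, j1, j2]
    rw [hj₀, Finset.mem_singleton] at this
    subst this
    exact e

/-- An element of order 11 fixes at most one of the 100 points. -/
theorem hs_eleven_unique {g : hsGroup} (hg : orderOf g = 11) {x z : hsPoints} (hx : g • x = x)
    (hz : g • z = z) : x = z := by
  classical
  haveI : Fact (Nat.Prime 11) := ⟨by norm_num⟩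
  obtain ⟨a, σ, hσ, ha, hsh⟩ := hs_fix_shape hx
  rw [hg] at hσ
  have h1 := fixPts_le_four hσ (by norm_num)
  have h2 : (fixPts (σ : M24)).card % 11 = 24 % 11 :=
    fixPts_card_mod (hσ ▸ pow_orderOf_eq_one (σ : M24))
  have hm : ∀ p, p ∈ fixPts (σ : M24) ↔ (σ : M24) • p = p := fun p => by simp [fixPts]
  have hpair : ({pinf, pz} : Finset GolayPt) = fixPts (σ : M24) := by
    refine Finset.eq_of_subset_of_card_le (fun p hp => ?_) (by rw [Finset.card_pair pinf_ne_pz]; omega)
    rcases Finset.mem_insert.1 hp with rfl | hp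
    · exact (hm _).2 σ.2.1
    · rw [Finset.mem_singleton.1 hp]; exact (hm _).2 σ.2.2
  rcases hsh z hz with h | ⟨o, ho, o1, o2, hinv⟩ | ⟨j, j1, j2, hj, e⟩
  · exact MulAction.injective a (ha.trans h.symm)
  · exfalso
    have hmod : o.card % 11 = (o ∩ fixPts (σ : M24)).card % 11 :=
      invariant_modEq (hσ ▸ pow_orderOf_eq_one (σ : M24)) hinv
    rw [← hpair, Finset.inter_eq_right.2 (by simp [Finset.insert_subset_iff, o1, o2]),
      Finset.card_pair pinf_ne_pz, ho.2] at hmod
    omega
  · have := (hm j).2 hj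
    rw [← hpair] at this
    simp [j1, j2] at this

theorem hs_orbit_sizes_check : ((List.range 101).all fun n => !(443520 % n == 0 && 40320 % n == 0 &&
    decide (n % 11 ≤ 1) && decide (n % 7 ≤ 2)) || n == 1 || n == 56) = true := by decide +kernel

theorem hs_orbit_sizes {n : ℕ} (h : n < 101) (h1 : 443520 % n = 0) (h2 : 40320 % n = 0)
    (h3 : n % 11 ≤ 1) (h4 : n % 7 ≤ 2) : n = 1 ∨ n = 56 := by
  have := List.all_eq_true.1 hs_orbit_sizes_check n (List.mem_range.2 h)
  simpa [h1, h2, h3, h4] using this

/-- Every subgroup of index 100 fixes a point. -/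
theorem hs_index_hundred (K : Subgroup hsGroup) (hK : Nat.card K = 443520) :
    ∃ x : hsPoints, K = MulAction.stabilizer hsGroup x := by
  classical
  haveI : Fact (Nat.Prime 11) := ⟨by norm_num⟩
  haveI : Fact (Nat.Prime 7) := ⟨by norm_num⟩
  haveI : Finite hsGroup := Nat.finite_of_card_ne_zero (by rw [card_hsGroup]; norm_num)
  obtain ⟨g, hg⟩ := exists_prime_orderOf_dvd_card' (G := K) 11 (by rw [hK]; norm_num)
  obtain ⟨h, hh⟩ := exists_prime_orderOf_dvd_card' (G := K) 7 (by rw [hK]; norm_num)
  have hmod : ∀ {p : ℕ} [Fact p.Prime] {k : K}, orderOf k = p → ∀ x : hsPoints,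
      (MulAction.orbit K x).ncard ≡
        {y : hsPoints | y ∈ MulAction.orbit K x ∧ k • y = y}.ncard [MOD p] := by
    intro p _ k hk x
    have hP : IsPGroup p (Subgroup.zpowers k) := IsPGroup.of_card (n := 1) (by
      rw [Nat.card_zpowers, hk, pow_one])
    have h := hP.card_modEq_card_fixedPoints (MulAction.orbit K x)
    rw [Nat.card_coe_set_eq] at h
    refine h.trans (congrArg (· % p) ?_)
    rw [Nat.card_coe_set_eq, ← Set.ncard_image_of_injective _ Subtype.val_injective]
    refine congrArg Set.ncard (Set.ext fun y => ⟨?_, fun hy => ⟨⟨y, hy.1⟩, ?_, rfl⟩⟩)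
    · rintro ⟨u, hu, rfl⟩
      exact ⟨u.2, congrArg Subtype.val (hu ⟨k, Subgroup.mem_zpowers k⟩)⟩
    · rintro ⟨_, n, rfl⟩
      have hs : k ∈ MulAction.stabilizer K (⟨y, hy.1⟩ : MulAction.orbit K x) := Subtype.ext hy.2
      exact MulAction.mem_stabilizer_iff.1 (Subgroup.zpow_mem _ hs n)
  obtain ⟨x, hx⟩ : ∃ x : hsPoints, g • x = x := by
    have hP : IsPGroup 11 (Subgroup.zpowers g) := IsPGroup.of_card (n := 1) (by
      rw [Nat.card_zpowers, hg, pow_one])
    have h := hP.card_modEq_card_fixedPoints hsPoints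
    rw [Nat.card_coe_set_eq, ncard_hsPoints] at h
    obtain ⟨u, hu⟩ : (MulAction.fixedPoints (Subgroup.zpowers g) hsPoints).Nonempty := by
      by_contra he
      rw [Set.not_nonempty_iff_eq_empty] at he
      rw [he] at h
      simp [Nat.ModEq] at h
    exact ⟨u, hu ⟨g, Subgroup.mem_zpowers g⟩⟩
  refine ⟨x, ?_⟩
  by_contra hne
  set O := MulAction.orbit K x with hO
  have hn1 : O.ncard ≠ 1 := by
    intro h1
    obtain ⟨u, hu⟩ := Set.ncard_eq_one.1 h1
    have hxu : x = u := by
      have := MulAction.mem_orbit_self (M := K) x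
      rw [← hO, hu] at this
      exact this
    refine hne (Subgroup.eq_of_le_of_card_ge (fun k hk => ?_) (by rw [hK, card_hs_stab]))
    have : (⟨k, hk⟩ : K) • x ∈ O := ⟨_, rfl⟩
    rw [hu, Set.mem_singleton_iff, ← hxu] at this
    exact this
  set S := MulAction.stabilizer K x with hSdef
  have hnS : Nat.card S * O.ncard = 443520 := by
    rw [← hK, ← S.card_mul_index, hSdef, MulAction.index_stabilizer]
  have h11 : 11 ∣ Nat.card S := by
    have := orderOf_dvd_natCard (⟨g, hx⟩ : S)
    rwa [← Subgroup.orderOf_coe, hg] at this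
  have hle100 : O.ncard ≤ 100 := ncard_hsPoints ▸ by
    rw [← Nat.card_coe_set_eq hsPoints, ← Set.ncard_univ]
    exact Set.ncard_le_ncard (Set.subset_univ _)
  obtain ⟨c, hc1, hc2⟩ : ∃ c, c ≤ 2 ∧ O.ncard % 7 = c % 7 := by
    refine ⟨_, ?_, hmod hh x⟩
    refine (Set.ncard_le_ncard (fun y hy => ?_) (Set.toFinite _)).trans
      (hs_seven_fix (g := (h : hsGroup)) (by rw [Subgroup.orderOf_coe, hh]))
    exact hy.2
  have hOmod : O.ncard % 11 ≤ 1 := by
    by_contra hgt
    have h := hmod hg x
    have hfix11 : {y : hsPoints | y ∈ O ∧ g • y = y}.ncard ≤ 1 :=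
      (Set.ncard_le_one_iff (Set.toFinite _)).2 fun {u v} hu hv => hs_eleven_unique
        (by rw [Subgroup.orderOf_coe, hg]) hu.2 hv.2
    unfold Nat.ModEq at h
    rw [← hO] at h
    omega
  have hS : Nat.card S ≠ 7920 := by
    intro h7920
    obtain ⟨a, ha⟩ := hs_exists_to_base x
    let f : S →* hsGroup :=
      (MulAut.conj a).toMonoidHom.comp (K.subtype.comp S.subtype)
    have hfr : f.range ≤ hsHom.range := by
      rintro _ ⟨s, rfl⟩
      rw [hsHom_range, MulAction.mem_stabilizer_iff]
      show (a * ((s : K) : hsGroup) * a⁻¹) • hsBase = hsBase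
      have hs : ((s : K) : hsGroup) • x = x := s.2
      rw [← ha, mul_smul, inv_smul_smul, mul_smul, hs]
    have hfi : Function.Injective f := fun u v e =>
      Subtype.ext (Subtype.ext ((MulAut.conj a).injective e))
    have hcard : Nat.card (f.range.comap hsHom) = 7920 := by
      rw [← h7920, Nat.card_congr (MonoidHom.ofInjective hfi).toEquiv]
      exact (Nat.card_congr ((f.range.comap hsHom).equivMapOfInjective _
        hsHom_injective).toEquiv).trans (by rw [Subgroup.map_comap_eq_self hfr])
    have htwo : Nat.card twoPts = 443520 := by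
      rw [Nat.card_congr (MonoidHom.ofInjective hsHom_injective).toEquiv, hsHom_range,
        card_hs_stab]
    have hi := (f.range.comap hsHom).card_mul_index
    rw [hcard, htwo] at hi
    exact (twoPoint_no_index pinf_ne_pz (f.range.comap hsHom)).1
      (show (f.range.comap hsHom).index = 56 by omega)
  obtain ⟨d, hd⟩ := h11
  rcases hs_orbit_sizes (n := O.ncard) (by omega) (Nat.mod_eq_zero_of_dvd ⟨Nat.card S, by rw [mul_comm]; omega⟩)
    (Nat.mod_eq_zero_of_dvd ⟨d, by rw [hd] at hnS; linarith⟩) hOmod (by omega) with h | h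
  · exact hn1 h
  · rw [h] at hnS; exact hS (by omega)

/-- The permutations of the 100 vectors preserving the inner product `8`. -/
def hsGraphAut : Subgroup (Equiv.Perm hsPoints) where
  carrier := {π | ∀ u v : hsPoints,
    dotInt (((π u : hsPoints) : leechLattice) : GolayPt → ℤ) ((π v : hsPoints) : leechLattice) = 8 ↔
      dotInt ((u : leechLattice) : GolayPt → ℤ) (v : leechLattice) = 8}
  mul_mem' {a b} ha hb u v := (ha _ _).trans (hb u v)
  one_mem' _ _ := Iff.rfl
  inv_mem' {a} ha u v := by
    have h := ha (a⁻¹ u) (a⁻¹ v)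
    simpa using h.symm

theorem mem_hsGraphAut {π : Equiv.Perm hsPoints} : π ∈ hsGraphAut ↔ ∀ u v : hsPoints,
    (dotInt (((π u : hsPoints) : leechLattice) : GolayPt → ℤ) ((π v : hsPoints) : leechLattice) = 8 ↔
      dotInt ((u : leechLattice) : GolayPt → ℤ) (v : leechLattice) = 8) := Iff.rfl

/-- The points of the standard `S(3,6,22)`. -/
abbrev Pt22 : Type := {p : GolayPt // p ≠ pinf ∧ p ≠ pz}

/-- Its blocks. -/
def blocks22 : Set (Finset Pt22) :=
  {b | insert pinf (insert pz (b.map (Function.Embedding.subtype _))) ∈ octads}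

theorem card_pt22 : Fintype.card Pt22 = 22 := by decide +kernel

theorem blocks22_steiner : IsSteinerSystem 3 6 blocks22 := by
  classical
  have hcard : ∀ b : Finset Pt22,
      (insert pinf (insert pz (b.map (Function.Embedding.subtype _)))).card = b.card + 2 := by
    intro b
    rw [Finset.card_insert_of_notMem, Finset.card_insert_of_notMem, Finset.card_map]
    · intro h
      obtain ⟨⟨u, hu⟩, -, e⟩ := Finset.mem_map.1 h
      exact hu.2 e
    · intro h
      rcases Finset.mem_insert.1 h with h | h
      · exact pinf_ne_pz h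
      obtain ⟨⟨u, hu⟩, -, e⟩ := Finset.mem_map.1 h
      exact hu.1 e
  refine ⟨fun b hb => ?_, fun s hs => ?_⟩
  · have := hcard b; rw [hb.2] at this; omega
  obtain ⟨o, ⟨ho, hso⟩, hu⟩ := octad_exists_unique
    (s := insert pinf (insert pz (s.map (Function.Embedding.subtype _)))) (by rw [hcard, hs])
  have key : insert pinf (insert pz ((Finset.univ.filter fun q : Pt22 => (q : GolayPt) ∈ o).map
      (Function.Embedding.subtype _))) = o := by
    ext p
    simp only [Finset.mem_insert, Finset.mem_map, Finset.mem_filter, Finset.mem_univ, true_and,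
      Function.Embedding.coe_subtype]
    constructor
    · rintro (rfl | rfl | ⟨q, hq, rfl⟩)
      · exact hso (by simp)
      · exact hso (by simp)
      · exact hq
    · intro hp
      by_cases h1 : p = pinf
      · exact Or.inl h1
      by_cases h2 : p = pz
      · exact Or.inr (Or.inl h2)
      exact Or.inr (Or.inr ⟨⟨p, h1, h2⟩, hp, rfl⟩)
  refine ⟨Finset.univ.filter fun q : Pt22 => (q : GolayPt) ∈ o, ⟨?_, fun q hq => ?_⟩, ?_⟩
  · show _ ∈ octads
    rw [key]; exact ho
  · exact Finset.mem_filter.2 ⟨Finset.mem_univ _, hso (by simp [q.2, hq])⟩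
  · rintro b ⟨hb, hsb⟩
    have := hu _ ⟨hb, Finset.insert_subset_insert _ (Finset.insert_subset_insert _
      (Finset.map_subset_map.2 hsb))⟩
    ext q
    rw [Finset.mem_filter, ← this]
    simp [q.2]

theorem card_hsGraphAut : Nat.card hsGraphAut = 88704000 := by
  classical
  obtain ⟨ι, -, hιmem, hιinj, hιsurj, hadj⟩ := hsGraph_embedding card_pt22 blocks22_steiner
  let V : Option (Pt22 ⊕ blocks22) ≃ hsPoints := Equiv.ofBijective (fun v => ⟨ι v, hιmem v⟩)
    ⟨fun u v h => hιinj (congrArg Subtype.val h),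
      fun ⟨y, hy⟩ => by obtain ⟨v, hv⟩ := hιsurj y hy; exact ⟨v, Subtype.ext hv⟩⟩
  have hV : ∀ u v, (pointBlockGraph blocks22).Adj u v ↔
      dotInt (((V u : hsPoints) : leechLattice) : GolayPt → ℤ) ((V v : hsPoints) : leechLattice) = 8 :=
    hadj
  rw [← (hsGraph_facts card_pt22 blocks22_steiner).1]
  refine Nat.card_congr
    { toFun := fun π =>
        { toEquiv := (V.trans π.1).trans V.symm
          map_rel_iff' := fun {u v} => by
            rw [hV, hV]
            simp only [Equiv.trans_apply, Equiv.apply_symm_apply]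
            exact π.2 _ _ }
      invFun := fun f => ⟨(V.symm.trans f.toEquiv).trans V, fun u v => by
        obtain ⟨u, rfl⟩ := V.surjective u
        obtain ⟨v, rfl⟩ := V.surjective v
        simp only [Equiv.trans_apply, Equiv.symm_apply_apply, ← hV]
        exact f.map_rel_iff⟩
      left_inv := fun π => Subtype.ext (Equiv.ext fun u => by simp)
      right_inv := fun f => RelIso.ext fun u => by simp }

/-- The permutation representation. -/
noncomputable def hsPermHom : hsGroup →* hsGraphAut :=
  (MulAction.toPermHom hsGroup hsPoints).codRestrict hsGraphAut fun g u v => by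
    show dotInt ((((g : Co0) • (u : leechLattice)) : leechLattice) : GolayPt → ℤ)
      ((g : Co0) • (v : leechLattice) : leechLattice) = 8 ↔ _
    rw [co0_dot]

theorem hsPermHom_injective : Function.Injective hsPermHom := by
  haveI := isSimple_hsGroup
  rw [← MonoidHom.ker_eq_bot_iff]
  refine (isSimple_hsGroup.eq_bot_or_eq_top_of_normal _ inferInstance).resolve_right fun h => ?_
  have h1 : MulAction.stabilizer hsGroup hsBase = ⊤ := by
    rw [eq_top_iff]
    intro g _
    have hg : hsPermHom g = 1 := MonoidHom.mem_ker.1 (h ▸ Subgroup.mem_top g)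
    exact congrArg (fun π : hsGraphAut => (π : Equiv.Perm hsPoints) hsBase) hg
  have := card_hs_stab hsBase
  rw [h1, Subgroup.card_top, card_hsGroup] at this
  norm_num at this

theorem card_mulAut_hsGroup : Nat.card (MulAut hsGroup) = 88704000 := by
  classical
  haveI : Finite hsGroup := Nat.finite_of_card_ne_zero (by rw [card_hsGroup]; norm_num)
  haveI : Finite (MulAut hsGroup) := Finite.of_injective _ MulEquiv.toEquiv_injective
  have hint := exists_intertwining (G := hsGroup) (X := hsPoints)
    (fun x y h => hs_stab_fix h.le) (fun x K hK => hs_index_hundred K (hK.trans (card_hs_stab x)))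
  choose P hP using hint
  have hPmem : ∀ φ, P φ ∈ hsGraphAut := by
    intro φ u v
    rw [← hs_stab_orbit_card, ← hs_stab_orbit_card]
    have e : MulAction.orbit (MulAction.stabilizer hsGroup (P φ u)) (P φ v) =
        P φ '' MulAction.orbit (MulAction.stabilizer hsGroup u) v := by
      ext z
      constructor
      · rintro ⟨k, rfl⟩
        obtain ⟨g, hg⟩ := φ.surjective (k : hsGroup)
        have hgu : g • u = u := (P φ).injective (by rw [hP, hg]; exact k.2)
        refine ⟨g • v, ⟨⟨g, hgu⟩, rfl⟩, ?_⟩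
        rw [hP, hg]; rfl
      · rintro ⟨_, ⟨g, rfl⟩, rfl⟩
        refine ⟨⟨φ (g : hsGroup), ?_⟩, (hP φ _ v).symm⟩
        rw [MulAction.mem_stabilizer_iff, ← hP]
        exact congrArg _ g.2
    rw [e, Set.ncard_image_of_injective _ (P φ).injective]
  have hA : Function.Injective fun φ => (⟨P φ, hPmem φ⟩ : hsGraphAut) := by
    intro φ ψ h
    have h : P φ = P ψ := congrArg Subtype.val h
    refine MulEquiv.ext fun g => hsPermHom_injective (Subtype.ext (Equiv.ext fun z => ?_))
    obtain ⟨x, rfl⟩ := (P φ).surjective z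
    show φ g • P φ x = ψ g • P φ x
    rw [← hP, h, hP]
  refine le_antisymm ((Nat.card_le_card_of_injective _ hA).trans card_hsGraphAut.le) ?_
  have hidx : hsPermHom.range.index = 2 := by
    have h := hsPermHom.range.card_mul_index
    rw [card_hsGraphAut, ← Nat.card_congr (MonoidHom.ofInjective hsPermHom_injective).toEquiv,
      card_hsGroup] at h
    omega
  haveI : hsPermHom.range.Normal := Subgroup.normal_of_index_eq_two hidx
  let e := MonoidHom.ofInjective hsPermHom_injective
  let B : hsGraphAut → MulAut hsGroup := fun π =>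
    (e.trans (MulAut.conjNormal π)).trans e.symm
  have hB : ∀ π g, hsPermHom (B π g) = π * hsPermHom g * π⁻¹ := fun π g => by
    show hsPermHom (e.symm (MulAut.conjNormal π (e g))) = _
    rw [MonoidHom.apply_ofInjective_symm]
    rfl
  have hBi : Function.Injective B := by
    intro π ρ h
    refine Subtype.ext (Equiv.ext fun x => ?_)
    have hc : ∀ g, hsPermHom g * (π⁻¹ * ρ) = (π⁻¹ * ρ) * hsPermHom g := fun g => by
      have hh := (hB π g).symm.trans ((congrArg (fun f : MulAut hsGroup => hsPermHom (f g)) h).trans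
        (hB ρ g))
      calc hsPermHom g * (π⁻¹ * ρ) = π⁻¹ * (π * hsPermHom g * π⁻¹) * ρ := by group
        _ = π⁻¹ * (ρ * hsPermHom g * ρ⁻¹) * ρ := by rw [hh]
        _ = (π⁻¹ * ρ) * hsPermHom g := by group
    have hfix : MulAction.stabilizer hsGroup x ≤
        MulAction.stabilizer hsGroup (((π⁻¹ * ρ : hsGraphAut) : Equiv.Perm hsPoints) x) := by
      intro g hg
      have h1 : g • (((π⁻¹ * ρ : hsGraphAut) : Equiv.Perm hsPoints) x) =
          ((π⁻¹ * ρ : hsGraphAut) : Equiv.Perm hsPoints) (g • x) :=
        congrArg (fun q : hsGraphAut => (q : Equiv.Perm hsPoints) x) (hc g)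
      rw [MulAction.mem_stabilizer_iff, h1, MulAction.mem_stabilizer_iff.1 hg]
    have := hs_stab_fix hfix
    simp only [Subgroup.coe_mul, Subgroup.coe_inv, Equiv.Perm.mul_apply] at this
    conv_lhs => rw [this, Equiv.Perm.inv_def, Equiv.apply_symm_apply]
  exact card_hsGraphAut.symm.le.trans (Nat.card_le_card_of_injective B hBi)

/-- The outer automorphism group of the stabiliser of the standard pair has order 2. -/
theorem card_out_hsGroup : Nat.card (Cfsg.Out hsGroup) = 2 := by
  haveI := isSimple_hsGroup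
  have hinj : Function.Injective (MulAut.conj : hsGroup →* MulAut hsGroup) := by
    rw [← MonoidHom.ker_eq_bot_iff]
    refine (isSimple_hsGroup.eq_bot_or_eq_top_of_normal _ inferInstance).resolve_right fun h => ?_
    obtain ⟨a, ha⟩ : ∃ a : hsGroup, a • hsBase ≠ hsBase := by
      by_contra! hh
      have h1 : MulAction.stabilizer hsGroup hsBase = ⊤ :=
        eq_top_iff.2 fun g _ => hh g
      have := card_hs_stab hsBase
      rw [h1, Subgroup.card_top, card_hsGroup] at this
      norm_num at this
    refine ha (hs_stab_fix (x := hsBase) (y := a • hsBase) fun k hk => ?_).symm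
    have hcom : a * k = k * a := by
      have := DFunLike.congr_fun (MonoidHom.mem_ker.1 (h ▸ Subgroup.mem_top a)) k
      exact mul_inv_eq_iff_eq_mul.1 this
    rw [MulAction.mem_stabilizer_iff, smul_smul, ← hcom, mul_smul, hk]
  have h := (Cfsg.Inn hsGroup).card_mul_index
  rw [card_mulAut_hsGroup, ← Nat.card_congr (MonoidHom.ofInjective hinj).toEquiv,
    card_hsGroup] at h
  show (Cfsg.Inn hsGroup).index = 2
  omega

end CfsgLib.Golay
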