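import Cfsg.Agent.Lib.Golay.Frame

/-! The lattice of the code as an even lattice without roots. -/

set_option autoImplicit false
set_option maxRecDepth 100000

namespace CfsgLib.Golay

open Cfsg

theorem dotInt_add_left (x y z : GolayPt → ℤ) : dotInt (x + y) z = dotInt x z + dotInt y z := by
  simp [dotInt, add_mul, Finset.sum_add_distrib]

theorem sqNorm_add (x y : GolayPt → ℤ) :
    sqNorm (x + y) = sqNorm x + 2 * dotInt x y + sqNorm y := by
  simp only [sqNorm, dotInt, Finset.mul_sum, ← Finset.sum_add_distrib, Pi.add_apply]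
  exact Finset.sum_congr rfl fun i _ => by ring

theorem leech_dot_dvd {x y : GolayPt → ℤ} (hx : x ∈ leechLattice) (hy : y ∈ leechLattice) :
    (8 : ℤ) ∣ dotInt x y := by
  have h1 := sqNorm_dvd hx
  have h2 := sqNorm_dvd hy
  have h3 := sqNorm_dvd (AddSubgroup.add_mem _ hx hy)
  rw [sqNorm_add] at h3
  omega

/-- The bilinear form of the lattice in its customary normalisation. -/
def leechForm : leechLattice →+ leechLattice →+ ℤ where
  toFun v :=
    { toFun := fun w => dotInt (v : GolayPt → ℤ) (w : GolayPt → ℤ) / 8
      map_zero' := by simp [dotInt]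
      map_add' := fun w w' => by
        simp only [AddSubgroup.coe_add, dotInt_comm (v : GolayPt → ℤ), dotInt_add_left]
        exact Int.add_ediv_of_dvd_left (leech_dot_dvd w.2 v.2) }
  map_zero' := by ext w; simp [dotInt]
  map_add' v v' := by
    ext w
    simp only [AddSubgroup.coe_add, dotInt_add_left, AddMonoidHom.coe_mk, ZeroHom.coe_mk,
      AddMonoidHom.add_apply]
    exact Int.add_ediv_of_dvd_left (leech_dot_dvd v.2 w.2)

theorem leechForm_mul (v w : leechLattice) :
    8 * leechForm v w = dotInt (v : GolayPt → ℤ) (w : GolayPt → ℤ) :=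
  Int.mul_ediv_cancel' (leech_dot_dvd v.2 w.2)

theorem single_eight_mem (i : GolayPt) : Pi.single i (8 : ℤ) ∈ leechLattice := by
  have e : Pi.single i (8 : ℤ) = fun j => 2 * (Pi.single i (4 : ℤ) : GolayPt → ℤ) j := by
    funext j; simp only [Pi.single_apply]; split_ifs <;> norm_num
  rw [e, even_mem_iff]
  refine ⟨?_, ?_⟩
  · have : mod2 (Pi.single i (4 : ℤ) : GolayPt → ℤ) = 0 := by
      funext j
      simp only [mod2, Pi.single_apply, Pi.zero_apply]
      split_ifs <;> rfl
    rw [this]; exact Submodule.zero_mem _
  · simp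

theorem eight_mul_mem (x : GolayPt → ℤ) : (fun i => 8 * x i) ∈ leechLattice := by
  have e : (fun i => 8 * x i) = ∑ i, x i • Pi.single i (8 : ℤ) := by
    funext j; simp [Finset.sum_apply, Pi.single_apply, mul_comm]
  rw [e]
  exact sum_mem fun i _ => AddSubgroup.zsmul_mem _ (single_eight_mem i) _

instance leechLattice_finite : Module.Finite ℤ leechLattice :=
  Module.Finite.of_injective leechLattice.subtype.toIntLinearMap Subtype.val_injective

theorem leech_finrank : Module.finrank ℤ leechLattice = 24 := by
  refine le_antisymm ?_ ?_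
  · have h := LinearMap.finrank_le_finrank_of_injective
      (f := leechLattice.subtype.toIntLinearMap) Subtype.val_injective
    simpa using h
  · let g : (GolayPt → ℤ) →ₗ[ℤ] leechLattice :=
      { toFun := fun x => ⟨fun i => 8 * x i, eight_mul_mem x⟩
        map_add' := fun x y => Subtype.ext (funext fun i => by simp [mul_add])
        map_smul' := fun c x => Subtype.ext (funext fun i => by simp [mul_left_comm]) }
    have h := LinearMap.finrank_le_finrank_of_injective (f := g) fun x y e => funext fun i => by
      have := congrFun (congrArg Subtype.val e) i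
      simp only [g, LinearMap.coe_mk, AddHom.coe_mk] at this
      omega
    simpa using h

/-- Coordinates on the lattice. -/
noncomputable def leechCrd : leechLattice ≃+ (Fin 24 → ℤ) :=
  (Module.finBasisOfFinrankEq ℤ leechLattice leech_finrank).equivFun.toAddEquiv

/-- The lattice of the code as an even lattice without roots. -/
noncomputable def leechR : Rootless leechLattice where
  b := leechForm
  crd := leechCrd
  symm v w := by
    have h1 := leechForm_mul v w
    have h2 := leechForm_mul w v
    rw [dotInt_comm] at h2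
    omega
  pos v hv := by
    have h1 := leechForm_mul v v
    rw [dotInt_self] at h1
    have h2 := sqNorm_min v.2 fun h => hv (Subtype.ext h)
    omega
  even v := by
    have h1 := leechForm_mul v v
    rw [dotInt_self] at h1
    have h2 := sqNorm_dvd v.2
    omega
  noRoot v h := by
    have h1 := leechForm_mul v v
    rw [dotInt_self, h] at h1
    by_cases hv : v = 0
    · subst hv; simp [sqNorm] at h1
    · have h2 := sqNorm_min v.2 fun e => hv (Subtype.ext e)
      omega

theorem leech_q (v : leechLattice) : 8 * leechR.q v = sqNorm (v : GolayPt → ℤ) := by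
  rw [← dotInt_self]; exact leechForm_mul v v

theorem leech_q_iff (v : leechLattice) (n : ℤ) :
    leechR.q v = n ↔ sqNorm (v : GolayPt → ℤ) = 8 * n := by
  rw [← leech_q]; omega

theorem ncard_subtype_leech (P : (GolayPt → ℤ) → Prop) :
    {v : leechLattice | P v}.ncard = {x : GolayPt → ℤ | x ∈ leechLattice ∧ P x}.ncard := by
  rw [← Set.ncard_image_of_injective _ Subtype.val_injective]
  congr 1
  ext x
  simp [and_comm]

theorem leech_shell (n : ℕ) (hn : n ≤ 8) :
    {v : leechLattice | leechR.q v = (n : ℤ)}.ncard =
      cntCode [3, -3, 1, -1] [4, -4, 2, -2, 0] 4 (2 * n) 0 +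
        cntCode [7, -5, 3, -1] [-7, 5, -3, 1] 8 (4 * (2 * n)) 4 := by
  rw [← ncard_norm (2 * n) (by omega)]
  simp only [leech_q_iff]
  rw [ncard_subtype_leech fun x => sqNorm x = 8 * (n : ℤ)]
  congr 1
  ext x
  simp only [Set.mem_setOf_eq]
  push_cast
  rw [show (8 : ℤ) * n = 4 * (2 * n) by ring]

theorem leech_counts : leechR.Counts := by
  refine ⟨?_, ?_, ?_⟩
  · exact (leech_shell 4 (by norm_num)).trans (by decide +kernel)
  · exact (leech_shell 6 (by norm_num)).trans (by decide +kernel)
  · exact (leech_shell 8 (by norm_num)).trans (by decide +kernel)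

theorem exists_two_smul_iff {x y : leechLattice} :
    leechR.cls x = leechR.cls y ↔
      ∃ z ∈ leechLattice, (x : GolayPt → ℤ) - y = 2 • z := by
  rw [leechR.cls_eq_iff]
  constructor
  · rintro ⟨z, rfl⟩
    exact ⟨z, z.2, by simp [two_nsmul, two_mul]⟩
  · rintro ⟨z, hz, e⟩
    refine ⟨⟨z, hz⟩, Subtype.ext ?_⟩
    rw [AddSubgroup.coe_add, AddSubgroup.coe_add, ← two_nsmul, ← e]
    abel

end CfsgLib.Golay
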