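import Cfsg.Agent.Lib.Golay.Co0McL

/-! Index and minimal vectors of `Cfsg.leechLattice`. -/

set_option autoImplicit false

namespace CfsgLib.Golay

open Cfsg

/-- Reduction modulo 2 as an additive map. -/
def mod2Hom : (GolayPt → ℤ) →+ (GolayPt → ZMod 2) where
  toFun := mod2
  map_zero' := funext fun i => by simp [mod2]
  map_add' := mod2_add

theorem mod2Hom_surjective : Function.Surjective mod2Hom := fun w =>
  ⟨fun i => ((w i).val : ℤ), funext fun i => by
    show (((w i).val : ℤ) : ZMod 2) = w i
    rw [Int.cast_natCast, ZMod.natCast_zmod_val]⟩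

/-- Doubling. -/
def dblHom : (GolayPt → ℤ) →+ (GolayPt → ℤ) where
  toFun a := fun i => 2 * a i
  map_zero' := funext fun i => by simp
  map_add' a b := funext fun i => by simp [mul_add]

theorem dblHom_injective : Function.Injective dblHom := fun a b h => funext fun i => by
  have := congrFun h i
  simp only [dblHom, AddMonoidHom.coe_mk, ZeroHom.coe_mk] at this
  omega

theorem range_dblHom_index : dblHom.range.index = 2 ^ 24 := by
  have e : dblHom.range = mod2Hom.ker := by
    ext x
    simp only [AddMonoidHom.mem_range, AddMonoidHom.mem_ker]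
    constructor
    · rintro ⟨a, rfl⟩
      funext i
      show ((2 * a i : ℤ) : ZMod 2) = 0
      rw [ZMod.intCast_zmod_eq_zero_iff_dvd]
      exact dvd_mul_right _ _
    · intro h
      refine ⟨fun i => x i / 2, funext fun i => ?_⟩
      have h' : ((x i : ℤ) : ZMod 2) = 0 := congrFun h i
      rw [ZMod.intCast_zmod_eq_zero_iff_dvd] at h'
      show 2 * (x i / 2) = x i
      omega
  rw [e, AddSubgroup.index_ker, AddMonoidHom.range_eq_top.2 mod2Hom_surjective,
    AddSubgroup.card_top, Nat.card_eq_fintype_card]
  simp [-Fintype.sum_option]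

theorem ncard_supports_code : (supports (golayCode : Set (GolayPt → ZMod 2))).ncard = 4096 := by
  rw [← show codeList.length = 4096 by simp [codeList]]
  exact ncard_mset_list (fun m hm => isCode_lt (mem_codeList.1 hm)) codeList_nodup fun s => by
    simp [mem_supports_iff, mem_codeList]

theorem code_index : golayCode.toAddSubgroup.index = 2 ^ 12 := by
  have h := golayCode.toAddSubgroup.card_mul_index
  have e : Nat.card golayCode.toAddSubgroup = 4096 := by
    rw [← ncard_supports_code]
    show Nat.card ((golayCode : Set (GolayPt → ZMod 2))) = _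
    rw [Nat.card_coe_set_eq, supports, Set.ncard_image_of_injective _ support₂_injective]
  rw [e, Nat.card_eq_fintype_card] at h
  simp [-Fintype.sum_option] at h
  omega

/-- Vectors reducing to code words. -/
def codeLift : AddSubgroup (GolayPt → ℤ) := golayCode.toAddSubgroup.comap mod2Hom

/-- Half of the even part of the lattice. -/
def evenHalf : AddSubgroup (GolayPt → ℤ) := leechLattice.comap dblHom

theorem mem_evenHalf {a : GolayPt → ℤ} :
    a ∈ evenHalf ↔ mod2 a ∈ golayCode ∧ (4 : ℤ) ∣ ∑ i, a i := even_mem_iff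

theorem evenHalf_index : evenHalf.index = 2 ^ 13 := by
  classical
  have hle : evenHalf ≤ codeLift := fun a h => (mem_evenHalf.1 h).1
  have h2 : evenHalf.relIndex codeLift = 2 := by
    rw [AddSubgroup.relIndex, AddSubgroup.index_eq_two_iff]
    refine ⟨⟨Pi.single pinf 2, ?_⟩, fun ⟨b, hb⟩ => ?_⟩
    · show mod2 (Pi.single pinf 2) ∈ golayCode
      rw [show mod2 (Pi.single pinf 2) = 0 from funext fun i => by
        rw [mod2, Pi.zero_apply, ZMod.intCast_zmod_eq_zero_iff_dvd, Pi.single_apply]
        split_ifs <;> norm_num]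
      exact Submodule.zero_mem _
    have hb' : mod2 b ∈ golayCode := hb
    have hs : (2 : ℤ) ∣ ∑ i, b i := by
      have h4 : (4 : ℤ) ∣ ((support₂ (mod2 b)).card : ℤ) := by
        rcases supports_card (mem_supports_word.2 hb') with e | e | e | e | e <;>
          rw [e] <;> norm_num
      have e : (∑ i, b i) - ((support₂ (mod2 b)).card : ℤ) =
          ∑ i, (b i - if i ∈ support₂ (mod2 b) then 1 else 0) := by
        rw [Finset.sum_sub_distrib, Finset.sum_ite_mem, Finset.univ_inter]; simp
      have : (2 : ℤ) ∣ (∑ i, b i) - ((support₂ (mod2 b)).card : ℤ) := by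
        rw [e]
        apply Finset.dvd_sum
        intro i _
        split_ifs with hi <;> rw [mem_support_mod2] at hi <;> omega
      omega
    simp only [AddSubgroup.mem_addSubgroupOf, AddSubgroup.coe_add]
    have e2 : mod2 (b + Pi.single pinf 2) = mod2 b := by
      funext i
      simp only [mod2, Pi.add_apply, Pi.single_apply, Int.cast_add]
      split_ifs <;> simp <;> decide
    have e3 : ∑ i, (b + Pi.single pinf 2 : GolayPt → ℤ) i = (∑ i, b i) + 2 := by
      simp [Finset.sum_add_distrib, -Fintype.sum_option]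
    rw [mem_evenHalf, mem_evenHalf, e2, e3]
    simp only [hb', true_and]
    by_cases h : (4 : ℤ) ∣ ∑ i, b i
    · exact Or.inr ⟨h, by omega⟩
    · exact Or.inl ⟨by omega, h⟩
  rw [← AddSubgroup.relIndex_mul_index hle, h2, codeLift,
    AddSubgroup.index_comap_of_surjective _ mod2Hom_surjective, code_index]
  norm_num

theorem leech_index : leechLattice.index = 2 ^ 36 := by
  classical
  have hle : evenHalf.map dblHom ≤ leechLattice := by
    rintro x ⟨a, ha, rfl⟩; exact ha
  have h2 : (evenHalf.map dblHom).relIndex leechLattice = 2 := by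
    obtain ⟨o, ho⟩ : octads.Nonempty :=
      ⟨_, mem_octads_iff.2 ⟨_, List.head_mem (show octList ≠ [] by decide +kernel), rfl⟩⟩
    obtain ⟨j, hj⟩ : o.Nonempty := Finset.card_pos.1 (by rw [ho.2]; norm_num)
    have hodd : ∀ i, oddW o j i % 2 = 1 := fun i => by
      simp only [oddW]; split_ifs <;> norm_num
    have key : ∀ x ∈ leechLattice, x ∈ evenHalf.map dblHom ↔ x pinf % 2 = 0 := by
      intro x hx
      constructor
      · rintro ⟨a, -, rfl⟩
        show (2 * a pinf) % 2 = 0
        omega
      · intro h
        have hev : ∀ i, x i % 2 = 0 := by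
          rcases parity_cases hx with e | e
          · exact e
          · have := e pinf; omega
        have e : dblHom (fun i => x i / 2) = x := funext fun i => by
          show 2 * (x i / 2) = x i
          have := hev i; omega
        exact ⟨_, by show dblHom _ ∈ leechLattice; rw [e]; exact hx, e⟩
    rw [AddSubgroup.relIndex, AddSubgroup.index_eq_two_iff]
    refine ⟨⟨oddW o j, (oddW_mem ho hj).1⟩, fun ⟨b, hb⟩ => ?_⟩
    simp only [AddSubgroup.mem_addSubgroupOf, AddSubgroup.coe_add]
    rw [key _ (add_mem hb (oddW_mem ho hj).1), key _ hb]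
    have := hodd pinf
    simp only [Pi.add_apply]
    by_cases h : b pinf % 2 = 0
    · exact Or.inr ⟨h, by omega⟩
    · exact Or.inl ⟨by omega, h⟩
  have h1 := AddSubgroup.relIndex_mul_index hle
  rw [h2, AddSubgroup.index_map_of_injective evenHalf dblHom_injective, evenHalf_index,
    range_dblHom_index] at h1
  omega

/-- The subgroup generated by the minimal vectors. -/
def minSpan : AddSubgroup (GolayPt → ℤ) :=
  AddSubgroup.closure {x : GolayPt → ℤ | x ∈ leechLattice ∧ sqNorm x = 32}

theorem code_lift_minSpan : ∀ w ∈ golayCode, ∃ a : GolayPt → ℤ,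
    dblHom a ∈ minSpan ∧ mod2 a = w ∧ (4 : ℤ) ∣ ∑ i, a i := by
  classical
  let P : (GolayPt → ZMod 2) → Prop := fun w => ∃ a : GolayPt → ℤ,
    dblHom a ∈ minSpan ∧ mod2 a = w ∧ (4 : ℤ) ∣ ∑ i, a i
  have hadd : ∀ u v, P u → P v → P (u + v) := by
    rintro _ _ ⟨a, a1, rfl, a3⟩ ⟨b, b1, rfl, b3⟩
    exact ⟨a + b, by rw [map_add]; exact add_mem a1 b1, mod2_add a b, by
      simp only [Pi.add_apply, Finset.sum_add_distrib]; exact dvd_add a3 b3⟩
  have hzero : P 0 := ⟨0, by rw [map_zero]; exact zero_mem _, map_zero mod2Hom, by simp⟩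
  have hoct : ∀ m, isCode m = true → pop m = 8 → P (mword m) := by
    intro m h1 h2
    have ho : mset m ∈ octads := mem_octads_iff.2 ⟨m, mem_octList.2 ⟨h1, h2⟩, rfl⟩
    let a : GolayPt → ℤ := fun i => if i ∈ mset m then 1 else 0
    have hs : ∑ i, a i = 8 := by simp [a, ho.2, -Fintype.sum_option]
    have hmod : mod2 a = mword m := funext fun i => by
      by_cases h : i ∈ mset m
      · simp [mod2, a, h, mword, mem_mset.1 h]
      · simp [mod2, a, h, mword, mt mem_mset.2 h]
    refine ⟨a, AddSubgroup.subset_closure ⟨?_, ?_⟩, hmod, by rw [hs]; norm_num⟩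
    · rw [show dblHom a = fun i => 2 * a i from rfl, even_mem_iff, hmod, hs]
      exact ⟨(mword_mem_iff (isCode_lt h1)).2 h1, by norm_num⟩
    · have : ∀ i, (dblHom a i) ^ 2 = 4 * a i := fun i => by
        show (2 * a i) ^ 2 = _
        simp only [a]; split_ifs <;> norm_num
      rw [sqNorm, Finset.sum_congr rfl fun i _ => this i, ← Finset.mul_sum, hs]; norm_num
  have htab : ∀ g ∈ qrMasks, (octList.any fun o => Nat.beq (pop (g ^^^ o)) 8) = true ∨
      (octList.any fun o => octList.any fun o' => Nat.beq (pop (g ^^^ o ^^^ o')) 8) = true := by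
    decide +kernel
  have hgen : ∀ i < 24, P (mword (qrMasks.getD i 0)) := by
    intro i hi
    have hlen : qrMasks.length = 24 := rfl
    have hc := qrMasks_code i hi
    have hmem : qrMasks.getD i 0 ∈ qrMasks := by
      rw [List.getD_eq_getElem _ _ (by omega)]; exact List.getElem_mem _
    rcases htab _ hmem with h | h
    · simp only [List.any_eq_true, Nat.beq_eq, mem_octList] at h
      obtain ⟨o, ⟨o1, o2⟩, e⟩ := h
      have := hadd _ _ (hoct _ (isCode_xor hc o1) e) (hoct o o1 o2)
      rwa [← mword_xor, Nat.xor_xor_cancel_right] at this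
    · simp only [List.any_eq_true, Nat.beq_eq, mem_octList] at h
      obtain ⟨o, ⟨o1, o2⟩, o', ⟨p1, p2⟩, e⟩ := h
      have := hadd _ _ (hadd _ _ (hoct _ (isCode_xor (isCode_xor hc o1) p1) e) (hoct o' p1 p2))
        (hoct o o1 o2)
      rwa [← mword_xor, ← mword_xor, Nat.xor_xor_cancel_right, Nat.xor_xor_cancel_right] at this
  intro w hw
  change w ∈ Submodule.span (ZMod 2) _ at hw
  induction hw using Submodule.span_induction with
  | mem x hx =>
    rcases hx with ⟨t, rfl⟩ | rfl
    · rw [qrWord_eq]; exact hgen _ (by have := t.val_lt; omega)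
    · rw [one_eq]; exact hgen 23 (by norm_num)
  | zero => exact hzero
  | add x y _ _ hx hy => exact hadd x y hx hy
  | smul c x _ hx =>
    rcases (show ∀ c : ZMod 2, c = 0 ∨ c = 1 by decide) c with rfl | rfl
    · rw [zero_smul]; exact hzero
    · rw [one_smul]; exact hx

theorem minSpan_eq : minSpan = leechLattice := by
  classical
  refine le_antisymm ((AddSubgroup.closure_le _).2 fun x hx => hx.1) fun x hx => ?_
  have hpair : ∀ i, i ≠ pinf → ∀ s : ℤ, (s = 4 ∨ s = -4) →
      (Pi.single pinf 4 + Pi.single i s : GolayPt → ℤ) ∈ minSpan := fun i hi s hs =>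
    AddSubgroup.subset_closure (pair4_mem (Ne.symm hi) (Or.inl rfl) hs)
  have h8 : (Pi.single pinf 8 : GolayPt → ℤ) ∈ minSpan := by
    have := add_mem (hpair pz pinf_ne_pz.symm 4 (Or.inl rfl))
      (hpair pz pinf_ne_pz.symm (-4) (Or.inr rfl))
    convert this using 1
    funext i
    simp only [Pi.add_apply, Pi.single_apply]
    split_ifs <;> norm_num
  have hfour : ∀ b : GolayPt → ℤ, (2 : ℤ) ∣ ∑ i, b i → (fun i => 4 * b i) ∈ minSpan := by
    intro b hb
    obtain ⟨k, hk⟩ := hb
    have e : (fun i => 4 * b i) = (∑ j ∈ Finset.univ.erase pinf,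
        b j • (Pi.single pinf 4 + Pi.single j 4 : GolayPt → ℤ)) +
        (b pinf - k) • (Pi.single pinf 8 : GolayPt → ℤ) := by
      funext i
      simp only [Pi.add_apply, Finset.sum_apply, Pi.smul_apply, smul_eq_mul, mul_add,
        Pi.single_apply, mul_ite, mul_zero, Finset.sum_add_distrib, Finset.sum_ite_eq,
        Finset.mem_erase, Finset.mem_univ, and_true]
      have := Finset.add_sum_erase Finset.univ b (Finset.mem_univ pinf)
      by_cases h : i = pinf
      · subst h
        simp only [ne_eq, not_true_eq_false, if_false, if_true, ← Finset.sum_mul, add_zero]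
        omega
      · simp [h]; ring
    rw [e]
    exact add_mem (sum_mem fun j hj => zsmul_mem (hpair j (Finset.ne_of_mem_erase hj) 4 (Or.inl rfl)) _)
      (zsmul_mem h8 _)
  have heven : ∀ a : GolayPt → ℤ, dblHom a ∈ leechLattice → dblHom a ∈ minSpan := by
    intro a ha
    obtain ⟨hw, hs⟩ := (mem_evenHalf (a := a)).1 ha
    obtain ⟨a₀, h1, h2, h3⟩ := code_lift_minSpan _ hw
    let b : GolayPt → ℤ := fun i => (a i - a₀ i) / 2
    have hb : ∀ i, a i = a₀ i + 2 * b i := fun i => by
      have := congrFun h2 i
      simp only [mod2, ZMod.intCast_eq_intCast_iff', Nat.cast_ofNat] at this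
      simp only [b]; omega
    have hsb : (2 : ℤ) ∣ ∑ i, b i := by
      have : ∑ i, a i = ∑ i, a₀ i + 2 * ∑ i, b i := by
        rw [Finset.sum_congr rfl fun i _ => hb i, Finset.sum_add_distrib, Finset.mul_sum]
      omega
    have e : dblHom a = dblHom a₀ + fun i => 4 * b i := funext fun i => by
      show 2 * a i = 2 * a₀ i + 4 * b i
      rw [hb i]; ring
    rw [e]; exact add_mem h1 (hfour b hsb)
  obtain ⟨o, ho⟩ : octads.Nonempty :=
    ⟨_, mem_octads_iff.2 ⟨_, List.head_mem (show octList ≠ [] by decide +kernel), rfl⟩⟩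
  obtain ⟨j, hj⟩ : o.Nonempty := Finset.card_pos.1 (by rw [ho.2]; norm_num)
  obtain ⟨hw1, hw2, -⟩ := oddW_mem ho hj
  have hwS : oddW o j ∈ minSpan := AddSubgroup.subset_closure ⟨hw1, hw2⟩
  have hev : ∀ y ∈ leechLattice, (∀ i, y i % 2 = 0) → y ∈ minSpan := by
    intro y hy h
    have e : dblHom (fun i => y i / 2) = y := funext fun i => by
      show 2 * (y i / 2) = y i
      have := h i; omega
    rw [← e]; exact heven _ (by rw [e]; exact hy)
  rcases parity_cases hx with h | h
  · exact hev x hx h
  · have := hev (x - oddW o j) (sub_mem hx hw1) fun i => by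
      have := h i
      have : oddW o j i % 2 = 1 := by simp only [oddW]; split_ifs <;> norm_num
      simp only [Pi.sub_apply]; omega
    have := add_mem this hwS
    rwa [sub_add_cancel] at this

end CfsgLib.Golay
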