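import Cfsg.Agent.Lib.Golay.LeechCount

/-! Counting lattice vectors with prescribed entries at marked coordinates. -/

set_option autoImplicit false
set_option maxRecDepth 100000

namespace CfsgLib.Golay

open Cfsg

/-- Base of the marked count. -/
def markBase (n₀ : ℕ) (s₀ M : ℤ) (n : ℕ) (r : ℤ) : ℕ :=
  if Nat.beq n n₀ && decide ((r - s₀) % M = 0) then 1 else 0

/-- Number of words of weight `w` meeting the marked set in the given subset. -/
def markWords (Pm P1 w : ℕ) : ℕ :=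
  (codeList.filter fun c => Nat.beq (Nat.land c Pm) P1 && Nat.beq (pop c) w).length

/-- One weight of the marked count. -/
def markTerm (V1 V0 : List ℤ) (M : ℤ) (Pm P1 n₀ : ℕ) (s₀ : ℤ) (w n : ℕ) (r : ℤ) : ℕ :=
  nVal sqW V1 (w - pop P1) n r fun n r =>
    nVal sqW V0 (24 - pop Pm - (w - pop P1)) n r (markBase n₀ s₀ M)

/-- The marked count summed over the code. -/
def cntMark (V1 V0 : List ℤ) (M : ℤ) (Pm P1 n₀ : ℕ) (s₀ : ℤ) (n : ℕ) (r : ℤ) : ℕ :=
  (([0, 8, 12, 16, 24] : List ℕ).map fun w =>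
    markWords Pm P1 w * markTerm V1 V0 M Pm P1 n₀ s₀ w n r).sum

theorem valSet_single_card (M : ℤ) (f₀ : GolayPt → ℤ) (n₀ : ℕ) (s₀ : ℤ)
    (hn : ∑ i, sqW (f₀ i) = n₀) (hs : ∑ i, f₀ i = s₀) (n : ℕ) (r : ℤ) :
    (valSet sqW M (fun i => {f₀ i}) n r).card = markBase n₀ s₀ M n r := by
  rw [valSet, Fintype.piFinset_singleton, Finset.filter_singleton, hn, hs]
  have e : M ∣ s₀ - r ↔ (r - s₀) % M = 0 := by
    rw [← dvd_neg, neg_sub, Int.dvd_iff_emod_eq_zero]
  simp only [markBase, Bool.and_eq_true, Nat.beq_eq, decide_eq_true_eq, e]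
  by_cases h : n = n₀
  · subst h; by_cases h2 : (r - s₀) % M = 0 <;> simp [h2]
  · simp [h, Ne.symm h]

theorem card_valSet_mark (V1 V0 : List ℤ) (h1 : V1.Nodup) (h0 : V0.Nodup) (M : ℤ) (c Pm P1 : ℕ)
    (hP1 : Nat.land c Pm = P1) (f₀ : GolayPt → ℤ) (hoff : ∀ i, i ∉ mset Pm → f₀ i = 0)
    (n₀ : ℕ) (s₀ : ℤ) (hn : ∑ i, sqW (f₀ i) = n₀) (hs : ∑ i, f₀ i = s₀) (n : ℕ) (r : ℤ) :
    (valSet sqW M (fun i => if i ∈ mset Pm then {f₀ i} else
      if i ∈ mset c then V1.toFinset else V0.toFinset) n r).card =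
      markTerm V1 V0 M Pm P1 n₀ s₀ (pop c) n r := by
  have hi : mset c ∩ mset Pm = mset P1 := by rw [← mset_and]; exact congrArg mset hP1
  have e1 : (mset c \ mset Pm).card = pop c - pop P1 := by
    rw [Finset.card_sdiff, Finset.inter_comm, hi, card_mset, card_mset]
  have e0 : ((mset c)ᶜ \ mset Pm).card = 24 - pop Pm - (pop c - pop P1) := by
    have h : ((mset c)ᶜ \ mset Pm) = (mset Pm)ᶜ \ (mset c \ mset Pm) := by
      refine Finset.ext fun i => ?_
      simp only [Finset.mem_sdiff, Finset.mem_compl]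
      generalize (i ∈ mset c) = A
      generalize (i ∈ mset Pm) = B
      constructor
      · exact fun h => ⟨h.2, fun h' => h.1 h'.1⟩
      · exact fun h => ⟨fun a => h.2 ⟨a, h.1⟩, h.1⟩
    rw [h, Finset.card_sdiff_of_subset (fun i hi => by
      rw [Finset.mem_sdiff] at hi; rw [Finset.mem_compl]; exact hi.2), Finset.card_compl, card_mset, e1]
    rw [show Fintype.card GolayPt = 24 by simp]
  rw [card_valSet (by rfl) V1 h1 _ (mset c \ mset Pm) (fun i hi => by
    rw [Finset.mem_sdiff] at hi; rw [if_neg hi.2, if_pos hi.1]), markTerm, e1]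
  refine congrArg (nVal sqW V1 _ n r) (funext fun n => funext fun r => ?_)
  rw [card_valSet (by rfl) V0 h0 _ ((mset c)ᶜ \ mset Pm) (fun i hi => by
    rw [Finset.mem_sdiff, Finset.mem_compl] at hi
    simp [hi.1, hi.2]), e0]
  refine congrArg (nVal sqW V0 _ n r) (funext fun n => funext fun r => ?_)
  rw [← valSet_single_card M f₀ n₀ s₀ hn hs]
  refine congrArg (fun T => (valSet sqW M T n r).card) (funext fun i => ?_)
  by_cases hp : i ∈ mset Pm <;> by_cases hc : i ∈ mset c <;> simp [hp, hc]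
  · rw [hoff i hp]
  · rw [hoff i hp]

theorem sum_code_mark (Pm P1 : ℕ) (f : ℕ → ℕ) :
    ∑ c ∈ codeList.toFinset.filter (fun c => Nat.land c Pm = P1), f (pop c) =
      (([0, 8, 12, 16, 24] : List ℕ).map fun w => markWords Pm P1 w * f w).sum := by
  have hp : ∀ c ∈ codeList.toFinset.filter (fun c => Nat.land c Pm = P1),
      pop c ∈ ({0, 8, 12, 16, 24} : Finset ℕ) := fun c hc => by
    rw [Finset.mem_filter, List.mem_toFinset, mem_codeList] at hc
    rcases supports_card (mem_supports_iff.2 ⟨c, hc.1, rfl⟩) with e | e | e | e | e <;>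
      rw [card_mset] at e <;> rw [e] <;> decide
  rw [← Finset.sum_fiberwise_of_maps_to' hp f]
  have hl : ∀ k, ((codeList.toFinset.filter fun c => Nat.land c Pm = P1).filter
      fun c => pop c = k).card = markWords Pm P1 k := fun k => by
    rw [markWords, ← List.toFinset_card_of_nodup (codeList_nodup.filter _)]
    refine congrArg Finset.card (Finset.ext fun c => ?_)
    simp only [Finset.mem_filter, List.mem_toFinset, List.mem_filter, Bool.and_eq_true, Nat.beq_eq]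
    tauto
  simp only [Finset.sum_const, smul_eq_mul, hl]
  rw [Finset.sum_insert (by decide), Finset.sum_insert (by decide), Finset.sum_insert (by decide),
    Finset.sum_insert (by decide), Finset.sum_singleton]
  simp [List.sum_cons, add_assoc]

/-- Tuples with prescribed values at the marked coordinates, classed by a word of the code. -/
theorem ncard_word_mark (V1 V0 : List ℤ) (h1 : V1.Nodup) (h0 : V0.Nodup)
    (hd : ∀ a ∈ V1, a ∉ V0) (M : ℤ) (Pm P1 : ℕ) (hPm : Pm < 16777216) (hP1 : P1 < 16777216)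
    (f₀ : GolayPt → ℤ) (hoff : ∀ i, i ∉ mset Pm → f₀ i = 0)
    (hsub : mset P1 ⊆ mset Pm)
    (hin : ∀ i ∈ mset Pm, (i ∈ mset P1 → f₀ i ∈ V1) ∧ (i ∉ mset P1 → f₀ i ∈ V0))
    (n₀ : ℕ) (s₀ : ℤ) (hn : ∑ i, sqW (f₀ i) = n₀) (hs : ∑ i, f₀ i = s₀) (n : ℕ) (r : ℤ) :
    {a : GolayPt → ℤ | (∃ c ∈ supports (golayCode : Set (GolayPt → ZMod 2)),
      ∀ i, (i ∈ c → a i ∈ V1) ∧ (i ∉ c → a i ∈ V0)) ∧
      (∀ i ∈ mset Pm, a i = f₀ i) ∧
      ∑ i, sqW (a i) = n ∧ M ∣ (∑ i, a i) - r}.ncard = cntMark V1 V0 M Pm P1 n₀ s₀ n r := by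
  classical
  let W : Finset ℕ := codeList.toFinset.filter fun c => Nat.land c Pm = P1
  let G : ℕ → Finset (GolayPt → ℤ) := fun c =>
    valSet sqW M (fun i => if i ∈ mset Pm then {f₀ i} else
      if i ∈ mset c then V1.toFinset else V0.toFinset) n r
  have hcompat : ∀ c, Nat.land c Pm = P1 → ∀ i ∈ mset Pm, (i ∈ mset c ↔ i ∈ mset P1) := by
    intro c hc i hi
    rw [← hc, show Nat.land c Pm = c &&& Pm from rfl, mset_and, Finset.mem_inter, and_iff_left hi]
  have hset : {a : GolayPt → ℤ | (∃ c ∈ supports (golayCode : Set (GolayPt → ZMod 2)),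
      ∀ i, (i ∈ c → a i ∈ V1) ∧ (i ∉ c → a i ∈ V0)) ∧
      (∀ i ∈ mset Pm, a i = f₀ i) ∧
      ∑ i, sqW (a i) = n ∧ M ∣ (∑ i, a i) - r} = ↑(W.biUnion G) := by
    ext a
    simp only [Set.mem_setOf_eq, Finset.coe_biUnion, Set.mem_iUnion, exists_prop, Finset.mem_coe,
      W, Finset.mem_filter, List.mem_toFinset, mem_codeList, G, valSet, Fintype.mem_piFinset]
    constructor
    · rintro ⟨⟨_, hs', ha⟩, hm, h⟩
      obtain ⟨c, hc', rfl⟩ := mem_supports_iff.1 hs'
      refine ⟨c, ⟨hc', ?_⟩, fun i => ?_, h⟩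
      · refine mset_inj (Nat.lt_of_le_of_lt Nat.and_le_right hPm) hP1 (Finset.ext fun i => ?_)
        rw [show Nat.land c Pm = c &&& Pm from rfl, mset_and, Finset.mem_inter]
        constructor
        · rintro ⟨hic, hip⟩
          by_contra hi1
          have u := (ha i).1 hic
          rw [hm i hip] at u
          exact hd _ u ((hin i hip).2 hi1)
        · intro hi1
          refine ⟨?_, hsub hi1⟩
          by_contra hic
          have u := (ha i).2 hic
          rw [hm i (hsub hi1)] at u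
          exact hd _ ((hin i (hsub hi1)).1 hi1) u
      · by_cases hp : i ∈ mset Pm
        · rw [if_pos hp, Finset.mem_singleton]; exact hm i hp
        · rw [if_neg hp]
          by_cases hi : i ∈ mset c
          · rw [if_pos hi, List.mem_toFinset]; exact (ha i).1 hi
          · rw [if_neg hi, List.mem_toFinset]; exact (ha i).2 hi
    · rintro ⟨c, ⟨hc, hcP⟩, ha, h⟩
      refine ⟨⟨mset c, mem_supports_iff.2 ⟨c, hc, rfl⟩, fun i => ?_⟩, fun i hi => ?_, h⟩
      · have := ha i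
        by_cases hp : i ∈ mset Pm
        · rw [if_pos hp, Finset.mem_singleton] at this
          rw [this]
          exact ⟨fun h' => (hin i hp).1 ((hcompat c hcP i hp).1 h'),
            fun h' => (hin i hp).2 fun h'' => h' ((hcompat c hcP i hp).2 h'')⟩
        · rw [if_neg hp] at this
          constructor <;> intro hi
          · rw [if_pos hi] at this; exact List.mem_toFinset.1 this
          · rw [if_neg hi] at this; exact List.mem_toFinset.1 this
      · have := ha i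
        rw [if_pos hi, Finset.mem_singleton] at this
        exact this
  rw [hset, Set.ncard_coe_finset, Finset.card_biUnion]
  · rw [Finset.sum_congr rfl fun c hc => card_valSet_mark V1 V0 h1 h0 M c Pm P1
      (Finset.mem_filter.1 hc).2 f₀ hoff n₀ s₀ hn hs n r]
    exact sum_code_mark Pm P1 fun w => markTerm V1 V0 M Pm P1 n₀ s₀ w n r
  · intro c hc c' hc' hne
    rw [Function.onFun, Finset.disjoint_left]
    intro a ha ha'
    simp only [G, valSet, Finset.mem_filter, Fintype.mem_piFinset] at ha ha'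
    simp only [W, Finset.coe_filter, Set.mem_setOf_eq, List.mem_toFinset, mem_codeList] at hc hc'
    refine hne (mset_inj (isCode_lt hc.1) (isCode_lt hc'.1) (Finset.ext fun i => ?_))
    by_cases hp : i ∈ mset Pm
    · rw [hcompat c hc.2 i hp, hcompat c' hc'.2 i hp]
    have u := ha.1 i
    have u' := ha'.1 i
    rw [if_neg hp] at u u'
    by_cases hi : i ∈ mset c <;> by_cases hi' : i ∈ mset c' <;>
      simp only [hi, hi', if_true, if_false, List.mem_toFinset] at u u' ⊢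
    · exact absurd u' (hd _ u)
    · exact absurd u (hd _ u')

theorem even_classes : ∀ v ∈ Finset.Icc (-4 : ℤ) 4,
    (v % 2 = 1 → v ∈ ([3, -3, 1, -1] : List ℤ)) ∧
      (¬ v % 2 = 1 → v ∈ ([4, -4, 2, -2, 0] : List ℤ)) := by decide

theorem odd_classes : ∀ v ∈ Finset.Icc (-8 : ℤ) 8, v % 2 = 1 →
    (v % 4 = 3 → v ∈ ([7, -5, 3, -1] : List ℤ)) ∧
      (¬ v % 4 = 3 → v ∈ ([-7, 5, -3, 1] : List ℤ)) := by decide

/-- Even vectors with marked entries. -/
theorem ncard_even_mark (n : ℕ) (hn : n ≤ 16) (M r : ℤ) (hM : ∀ s, M ∣ s - r → (4 : ℤ) ∣ s)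
    (Pm P1 : ℕ) (hPm : Pm < 16777216) (hP1 : P1 < 16777216) (f₀ : GolayPt → ℤ)
    (hoff : ∀ i, i ∉ mset Pm → f₀ i = 0) (hsub : mset P1 ⊆ mset Pm)
    (hin : ∀ i ∈ mset Pm, (i ∈ mset P1 → f₀ i ∈ ([3, -3, 1, -1] : List ℤ)) ∧
      (i ∉ mset P1 → f₀ i ∈ ([4, -4, 2, -2, 0] : List ℤ)))
    (n₀ : ℕ) (s₀ : ℤ) (hn₀ : ∑ i, sqW (f₀ i) = n₀) (hs₀ : ∑ i, f₀ i = s₀) :
    {x : GolayPt → ℤ | x ∈ leechLattice ∧ sqNorm x = 4 * (n : ℤ) ∧ (∀ i, x i % 2 = 0) ∧
      (∀ i ∈ mset Pm, x i = 2 * f₀ i) ∧ M ∣ (∑ i, x i / 2) - r}.ncard =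
      cntMark [3, -3, 1, -1] [4, -4, 2, -2, 0] M Pm P1 n₀ s₀ n r := by
  rw [← ncard_word_mark _ _ (by decide) (by decide) (by decide) M Pm P1 hPm hP1 f₀ hoff hsub hin
    n₀ s₀ hn₀ hs₀]
  refine Set.ncard_congr (fun x _ i => x i / 2) ?_ ?_ ?_
  · rintro x ⟨hx, hxn, hev, hm, hsum⟩
    have hx2 : ∀ i, x i = 2 * (x i / 2) := fun i => by have := hev i; omega
    obtain ⟨hw, -⟩ := even_mem_iff.1 (show (fun i => 2 * (x i / 2)) ∈ leechLattice by
      convert hx using 1; funext i; exact (hx2 i).symm)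
    refine ⟨⟨_, mem_supports_word.2 hw, fun i => ?_⟩, fun i hi => ?_, ?_, hsum⟩
    · have e : x i / 2 ∈ Finset.Icc (-4 : ℤ) 4 := by
        obtain ⟨a, b⟩ := abs_entry_le (B := 8) (by norm_num) (by omega) hxn i
        rw [Finset.mem_Icc]; omega
      rw [mem_support_mod2]
      exact even_classes _ e
    · show x i / 2 = f₀ i
      rw [hm i hi]; omega
    · have e : sqNorm x = 4 * ((∑ i, sqW (x i / 2) : ℕ) : ℤ) := by
        rw [sqNorm, Nat.cast_sum, Finset.mul_sum]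
        refine Finset.sum_congr rfl fun i _ => ?_
        rw [sqW_cast]; conv_lhs => rw [hx2 i]
        ring
      simp only
      omega
  · intro x y hx hy h
    funext i
    have := congrFun h i
    have := hx.2.2.1 i
    have := hy.2.2.1 i
    omega
  · rintro a ⟨⟨c, hc, ha⟩, hm, hsq, hsum⟩
    refine ⟨fun i => 2 * a i, ⟨even_mem_iff.2 ⟨?_, hM _ hsum⟩, ?_, fun i => by simp,
      fun i hi => by simp [hm i hi], ?_⟩, ?_⟩
    · rw [← mem_supports_word]
      convert hc using 1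
      ext i
      rw [mem_support_mod2]
      have hpar : ∀ v ∈ ([3, -3, 1, -1] : List ℤ), v % 2 = 1 := by decide
      have hpar0 : ∀ v ∈ ([4, -4, 2, -2, 0] : List ℤ), v % 2 = 0 := by decide
      by_cases hi : i ∈ c
      · simp [hi, hpar _ ((ha i).1 hi)]
      · simp [hi, hpar0 _ ((ha i).2 hi)]
    · rw [sqNorm, ← hsq, Nat.cast_sum, Finset.mul_sum]
      refine Finset.sum_congr rfl fun i _ => ?_
      rw [sqW_cast]; ring
    · simpa using hsum
    · funext i; simp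

/-- Odd vectors with marked entries. -/
theorem ncard_odd_mark (n : ℕ) (hn : n ≤ 64) (M r : ℤ) (hM : ∀ s, M ∣ s - r → (8 : ℤ) ∣ s - 4)
    (Pm P1 : ℕ) (hPm : Pm < 16777216) (hP1 : P1 < 16777216) (f₀ : GolayPt → ℤ)
    (hoff : ∀ i, i ∉ mset Pm → f₀ i = 0) (hsub : mset P1 ⊆ mset Pm)
    (hin : ∀ i ∈ mset Pm, (i ∈ mset P1 → f₀ i ∈ ([7, -5, 3, -1] : List ℤ)) ∧
      (i ∉ mset P1 → f₀ i ∈ ([-7, 5, -3, 1] : List ℤ)))
    (n₀ : ℕ) (s₀ : ℤ) (hn₀ : ∑ i, sqW (f₀ i) = n₀) (hs₀ : ∑ i, f₀ i = s₀) :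
    {x : GolayPt → ℤ | x ∈ leechLattice ∧ sqNorm x = (n : ℤ) ∧ (∀ i, x i % 2 = 1) ∧
      (∀ i ∈ mset Pm, x i = f₀ i) ∧ M ∣ (∑ i, x i) - r}.ncard =
      cntMark [7, -5, 3, -1] [-7, 5, -3, 1] M Pm P1 n₀ s₀ n r := by
  rw [← ncard_word_mark _ _ (by decide) (by decide) (by decide) M Pm P1 hPm hP1 f₀ hoff hsub hin
    n₀ s₀ hn₀ hs₀]
  refine congrArg Set.ncard (Set.ext fun x => ?_)
  simp only [Set.mem_setOf_eq]
  have hnx : sqNorm x = ((∑ i, sqW (x i) : ℕ) : ℤ) := by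
    rw [sqNorm, Nat.cast_sum]; exact Finset.sum_congr rfl fun i _ => (sqW_cast _).symm
  have hpar : ∀ v ∈ ([7, -5, 3, -1] : List ℤ), v % 4 = 3 := by decide
  have hpar0 : ∀ v ∈ ([-7, 5, -3, 1] : List ℤ), v % 4 = 1 := by decide
  constructor
  · rintro ⟨hx, he, hodd, hm, hsum⟩
    obtain ⟨hc, -⟩ := (odd_mem_iff hodd).1 hx
    refine ⟨⟨_, hc, fun i => ?_⟩, hm, by omega, hsum⟩
    simp only [Finset.mem_filter, Finset.mem_univ, true_and]
    obtain ⟨a, b⟩ := abs_entry_le (B := 8) (by norm_num) (by omega) he i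
    exact odd_classes _ (Finset.mem_Icc.2 ⟨a, b⟩) (hodd i)
  · rintro ⟨⟨c, hc, ha⟩, hm, hsq, hsum⟩
    have hodd : ∀ i, x i % 2 = 1 := fun i => by
      by_cases hi : i ∈ c
      · have := hpar _ ((ha i).1 hi); omega
      · have := hpar0 _ ((ha i).2 hi); omega
    refine ⟨(odd_mem_iff hodd).2 ⟨?_, hM _ hsum⟩, by omega, hodd, hm, hsum⟩
    convert hc using 1
    ext i
    simp only [Finset.mem_filter, Finset.mem_univ, true_and]
    by_cases hi : i ∈ c
    · simp [hi, hpar _ ((ha i).1 hi)]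
    · simp [hi, hpar0 _ ((ha i).2 hi)]

end CfsgLib.Golay
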