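import Cfsg.Agent.Lib.Golay.Count

/-! The `k`-element sets of points as lists of masks. -/

set_option autoImplicit false
set_option maxRecDepth 100000

namespace CfsgLib.Golay

open Cfsg
open scoped Pointwise

/-- Masks below `2 ^ n` with exactly `k` bits. -/
def ksub : ℕ → ℕ → List ℕ := fun n =>
  Nat.rec (fun k => Nat.rec [0] (fun _ _ => []) k)
    (fun n ih k => Nat.rec [0]
      (fun k' _ => ih (k' + 1) ++ (ih k').map (Nat.add (Nat.shiftLeft 1 n))) k) n

theorem ksub_zero_right (n : ℕ) : ksub n 0 = [0] := by cases n <;> rfl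

theorem ksub_zero_succ (k : ℕ) : ksub 0 (k + 1) = [] := rfl

theorem ksub_succ_succ (n k : ℕ) :
    ksub (n + 1) (k + 1) = ksub n (k + 1) ++ (ksub n k).map (Nat.add (Nat.shiftLeft 1 n)) := rfl

theorem popAux_top {n s : ℕ} (h : s < 2 ^ n) : popAux (n + 1) (2 ^ n + s) = popAux n s + 1 := by
  rw [popAux_eq, popAux_eq, Finset.sum_range_succ]
  congr 1
  · refine Finset.sum_congr rfl fun i hi => ?_
    rw [Nat.testBit_two_pow_add_gt (Finset.mem_range.1 hi)]
  · rw [Nat.testBit_two_pow_add_eq, Nat.testBit_lt_two_pow h]; simp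

theorem popAux_low {n s : ℕ} (h : s < 2 ^ n) : popAux (n + 1) s = popAux n s := by
  rw [popAux_eq, popAux_eq, Finset.sum_range_succ, Nat.testBit_lt_two_pow h]; simp

theorem popAux_eq_zero {n s : ℕ} (h : s < 2 ^ n) (hp : popAux n s = 0) : s = 0 := by
  induction n generalizing s with
  | zero => simpa using h
  | succ n ih =>
    rw [popAux] at hp
    have := ih (s := s / 2) (by rw [pow_succ] at h; omega) (by omega)
    omega

theorem mem_ksub_of : ∀ {n k s : ℕ}, s < 2 ^ n → popAux n s = k → s ∈ ksub n k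
  | n, 0, s, h, hp => by
    rw [popAux_eq_zero h hp]; simp [ksub_zero_right]
  | 0, k + 1, s, h, hp => by simp [popAux] at hp
  | n + 1, k + 1, s, h, hp => by
    rw [ksub_succ_succ, List.mem_append, List.mem_map]
    by_cases hs : s < 2 ^ n
    · exact Or.inl (mem_ksub_of hs (by rwa [popAux_low hs] at hp))
    · have hlt : s - 2 ^ n < 2 ^ n := by rw [pow_succ] at h; omega
      refine Or.inr ⟨s - 2 ^ n, mem_ksub_of hlt ?_, ?_⟩
      · rw [show s = 2 ^ n + (s - 2 ^ n) by omega, popAux_top hlt] at hp; omega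
      · show (1 <<< n) + (s - 2 ^ n) = s
        rw [Nat.one_shiftLeft]; omega

theorem ksub_spec : ∀ {n k s : ℕ}, s ∈ ksub n k → s < 2 ^ n ∧ popAux n s = k
  | n, 0, s, h => by
    simp [ksub_zero_right] at h
    subst h
    exact ⟨by positivity, by rw [popAux_eq]; simp⟩
  | 0, k + 1, s, h => by simp [ksub_zero_succ] at h
  | n + 1, k + 1, s, h => by
    rw [ksub_succ_succ, List.mem_append, List.mem_map] at h
    rcases h with h | ⟨t, ht, rfl⟩
    · obtain ⟨h1, h2⟩ := ksub_spec h
      exact ⟨lt_trans h1 (Nat.pow_lt_pow_right (by norm_num) (by omega)), by rw [popAux_low h1, h2]⟩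
    · obtain ⟨h1, h2⟩ := ksub_spec ht
      show (1 <<< n) + t < _ ∧ _
      rw [Nat.one_shiftLeft]
      refine ⟨by rw [pow_succ]; omega, ?_⟩
      show popAux (n + 1) ((1 <<< n) + t) = _
      rw [Nat.one_shiftLeft, popAux_top h1, h2]

theorem mem_ksub_iff {k : ℕ} {s : Finset GolayPt} :
    s.card = k ↔ ∃ m ∈ ksub 24 k, mset m = s := by
  constructor
  · intro h
    obtain ⟨m, hm, rfl⟩ := exists_mset s
    exact ⟨m, mem_ksub_of (by simpa using hm) (by rw [← pop_eq, ← card_mset, h]), rfl⟩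
  · rintro ⟨m, hm, rfl⟩
    rw [card_mset, pop_eq, (ksub_spec hm).2]

theorem ksub_nodup : ∀ n k, (ksub n k).Nodup
  | n, 0 => by simp [ksub_zero_right]
  | 0, k + 1 => by simp [ksub_zero_succ]
  | n + 1, k + 1 => by
    rw [ksub_succ_succ]
    refine List.Nodup.append (ksub_nodup n (k + 1)) ((ksub_nodup n k).map fun a b h => ?_) ?_
    · exact Nat.add_left_cancel h
    · intro s hs hs'
      rw [List.mem_map] at hs'
      obtain ⟨t, -, rfl⟩ := hs'
      have := (ksub_spec hs).1
      have e : Nat.add (Nat.shiftLeft 1 n) t = 2 ^ n + t := by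
        show (1 <<< n) + t = _
        rw [Nat.one_shiftLeft]
      omega

/-- Counting `k`-sets with a property. -/
theorem ncard_ksub_filter {k : ℕ} {P : Finset GolayPt → Prop} {pb : ℕ → Bool}
    (hP : ∀ m, P (mset m) ↔ pb m = true) :
    {s : Finset GolayPt | s.card = k ∧ P s}.ncard = ((ksub 24 k).filter pb).length := by
  refine ncard_mset_list (fun m hm => ?_) ((ksub_nodup 24 k).filter _) fun s => ?_
  · simpa using (ksub_spec (List.mem_filter.1 hm).1).1
  · simp only [Set.mem_setOf_eq, mem_ksub_iff, List.mem_filter]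
    constructor
    · rintro ⟨⟨m, hm, rfl⟩, h⟩; exact ⟨m, ⟨hm, (hP m).1 h⟩, rfl⟩
    · rintro ⟨m, ⟨hm, h⟩, rfl⟩; exact ⟨⟨m, hm, rfl⟩, (hP m).2 h⟩

theorem subset_iff_land {a m : ℕ} (ha : a < 16777216) :
    mset a ⊆ mset m ↔ Nat.beq (Nat.land a m) a = true := by
  rw [Nat.beq_eq, ← Finset.inter_eq_left, ← mset_and]
  exact ⟨fun h => mset_inj (lt_of_le_of_lt Nat.and_le_left ha) ha h, fun h => congrArg mset h⟩

end CfsgLib.Golay
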