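import Cfsg.Agent.Lib.Golay.Code
import Cfsg.Prelude.Def_SporadicCombinatorics

/-! The 3795 trios. -/

set_option autoImplicit false
set_option maxRecDepth 100000

namespace CfsgLib.Golay

open Cfsg

/-- Third member of a trio. -/
def third (a b : ℕ) : ℕ := Nat.xor 16777215 (Nat.xor a b)

/-- Trios as increasing triples of masks, given by their first two members. -/
def trioPairs : List (ℕ × ℕ) :=
  octList.flatMap fun a =>
    (octList.filter fun b => Nat.beq (Nat.land a b) 0 && Nat.ble (Nat.add a 1) b &&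
      Nat.ble (Nat.add b 1) (third a b)).map fun b => (a, b)

/-- The trio of a pair. -/
def trioSet (p : ℕ × ℕ) : Finset (Finset GolayPt) := {mset p.1, mset p.2, mset (third p.1 p.2)}

theorem mem_trioPairs {a b : ℕ} :
    (a, b) ∈ trioPairs ↔ a ∈ octList ∧ b ∈ octList ∧ a &&& b = 0 ∧ a < b ∧ b < third a b := by
  simp only [trioPairs, List.mem_flatMap, List.mem_map, List.mem_filter, Bool.and_eq_true,
    Nat.beq_eq, Nat.ble_eq, Prod.mk.injEq]
  constructor
  · rintro ⟨x, hx, y, ⟨hy, ⟨h1, h2⟩, h3⟩, rfl, rfl⟩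
    exact ⟨hx, hy, h1, h2, h3⟩
  · rintro ⟨hx, hy, h1, h2, h3⟩
    exact ⟨a, hx, b, ⟨hy, ⟨h1, h2⟩, h3⟩, rfl, rfl⟩

theorem disjoint_iff_land {a b : ℕ} (ha : a < 16777216) :
    Disjoint (mset a) (mset b) ↔ a &&& b = 0 := by
  rw [Finset.disjoint_iff_inter_eq_empty, ← mset_and, ← mset_zero]
  exact ⟨fun h => mset_inj (lt_of_le_of_lt Nat.and_le_left ha) (by norm_num) h,
    fun h => congrArg mset h⟩

theorem third_props {a b : ℕ} (ha : a ∈ octList) (hb : b ∈ octList) (hd : a &&& b = 0) :
    third a b ∈ octList ∧ a &&& third a b = 0 ∧ b &&& third a b = 0 := by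
  rw [mem_octList] at ha hb
  have hc : isCode (third a b) = true := isCode_xor isCode_full (isCode_xor ha.1 hb.1)
  have hdis := (disjoint_iff_land (isCode_lt ha.1)).2 hd
  have hm : mset (third a b) = (mset a ∪ mset b)ᶜ := by
    show mset (16777215 ^^^ (a ^^^ b)) = _
    rw [mset_xor, mset_xor, mset_full, hdis.symmDiff_eq_sup]
    ext x; simp [Finset.mem_symmDiff]
  refine ⟨mem_octList.2 ⟨hc, ?_⟩, ?_, ?_⟩
  · rw [← card_mset, hm, Finset.card_compl, Finset.card_union_of_disjoint hdis, card_mset,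
      card_mset, ha.2, hb.2]
    simp
  · rw [← disjoint_iff_land (isCode_lt ha.1), hm, Finset.disjoint_left]
    intro x hx; simp [hx]
  · rw [← disjoint_iff_land (isCode_lt hb.1), hm, Finset.disjoint_left]
    intro x hx; simp [hx]

theorem trioSet_mem {p : ℕ × ℕ} (hp : p ∈ trioPairs) : trioSet p ∈ trios := by
  obtain ⟨a, b⟩ := p
  obtain ⟨ha, hb, hd, hab, hbc⟩ := mem_trioPairs.1 hp
  obtain ⟨hc, hac, hbc'⟩ := third_props ha hb hd
  have la := isCode_lt (mem_octList.1 ha).1
  have lb := isCode_lt (mem_octList.1 hb).1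
  have lc := isCode_lt (mem_octList.1 hc).1
  refine ⟨?_, ?_, ?_⟩
  · refine Finset.card_eq_three.2 ⟨_, _, _, ?_, ?_, ?_, rfl⟩
    · exact fun h => absurd (mset_inj la lb h) (by omega)
    · exact fun h => absurd (mset_inj la lc h) (by omega)
    · exact fun h => absurd (mset_inj lb lc h) (by omega)
  · intro o ho
    simp only [trioSet, Finset.mem_insert, Finset.mem_singleton] at ho
    rcases ho with rfl | rfl | rfl
    exacts [mem_octads_iff.2 ⟨a, ha, rfl⟩, mem_octads_iff.2 ⟨b, hb, rfl⟩,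
      mem_octads_iff.2 ⟨_, hc, rfl⟩]
  · have d1 := (disjoint_iff_land la).2 hd
    have d2 := (disjoint_iff_land la).2 hac
    have d3 := (disjoint_iff_land lb).2 hbc'
    intro o ho o' ho' hne
    simp only [trioSet, Finset.mem_insert, Finset.mem_singleton] at ho ho'
    rcases ho with rfl | rfl | rfl <;> rcases ho' with rfl | rfl | rfl <;>
      first
        | exact absurd rfl hne
        | exact d1 | exact d1.symm | exact d2 | exact d2.symm | exact d3 | exact d3.symm

theorem trio_exists {T : Finset (Finset GolayPt)} (hT : T ∈ trios) :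
    ∃ p ∈ trioPairs, trioSet p = T := by
  classical
  obtain ⟨h3, ho, hd⟩ := hT
  let S : Finset ℕ := octList.toFinset.filter fun m => mset m ∈ T
  have hS : S.card = 3 := by
    rw [← h3]
    refine Finset.card_bij (fun m _ => mset m) (fun m hm => (Finset.mem_filter.1 hm).2) ?_ ?_
    · intro m hm n hn h
      simp only [S, Finset.mem_filter, List.mem_toFinset] at hm hn
      exact mset_inj (isCode_lt (mem_octList.1 hm.1).1) (isCode_lt (mem_octList.1 hn.1).1) h
    · intro o hoT
      obtain ⟨m, hm, rfl⟩ := mem_octads_iff.1 (ho o hoT)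
      exact ⟨m, Finset.mem_filter.2 ⟨List.mem_toFinset.2 hm, hoT⟩, rfl⟩
  have hne : S.Nonempty := Finset.card_pos.1 (by omega)
  set a := S.min' hne
  have ha : a ∈ S := Finset.min'_mem _ _
  have hne' : (S.erase a).Nonempty :=
    Finset.card_pos.1 (by rw [Finset.card_erase_of_mem ha]; omega)
  set b := (S.erase a).min' hne'
  have hb : b ∈ S.erase a := Finset.min'_mem _ _
  obtain ⟨c, hc⟩ : ∃ c, c ∈ (S.erase a).erase b := Finset.card_pos.1 (by
    rw [Finset.card_erase_of_mem hb, Finset.card_erase_of_mem ha]; omega)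
  have hab : a < b := lt_of_le_of_ne (Finset.min'_le _ _ (Finset.mem_of_mem_erase hb))
    (Finset.ne_of_mem_erase hb).symm
  have hbc : b < c := lt_of_le_of_ne (Finset.min'_le _ _ (Finset.mem_of_mem_erase hc))
    (Finset.ne_of_mem_erase hc).symm
  have info : ∀ m ∈ S, m ∈ octList ∧ mset m ∈ T := fun m hm => by
    simpa [S] using hm
  obtain ⟨haO, haT⟩ := info a ha
  obtain ⟨hbO, hbT⟩ := info b (Finset.mem_of_mem_erase hb)
  obtain ⟨hcO, hcT⟩ := info c (Finset.mem_of_mem_erase (Finset.mem_of_mem_erase hc))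
  have lt' : ∀ m ∈ octList, m < 16777216 := fun m hm => isCode_lt (mem_octList.1 hm).1
  have dj : ∀ {x y : ℕ}, x ∈ octList → y ∈ octList → mset x ∈ T → mset y ∈ T → x ≠ y →
      Disjoint (mset x) (mset y) := fun hx hy hx' hy' hxy =>
    hd _ hx' _ hy' fun h => hxy (mset_inj (lt' _ hx) (lt' _ hy) h)
  have hd1 := (disjoint_iff_land (lt' a haO)).1 (dj haO hbO haT hbT hab.ne)
  have hthird : third a b = c := by
    obtain ⟨h3O, h3a, h3b⟩ := third_props haO hbO hd1
    refine mset_inj (lt' _ h3O) (lt' _ hcO) (Finset.eq_of_subset_of_card_le ?_ ?_).symm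
    · intro x hx
      have d1 := Finset.disjoint_right.1 (dj haO hcO haT hcT (hab.trans hbc).ne) hx
      have d2 := Finset.disjoint_right.1 (dj hbO hcO hbT hcT hbc.ne) hx
      show x ∈ mset (16777215 ^^^ (a ^^^ b))
      rw [mset_xor, mset_xor, mset_full]
      simp [Finset.mem_symmDiff, d1, d2]
    · rw [card_mset, card_mset, (mem_octList.1 h3O).2, (mem_octList.1 hcO).2]
  refine ⟨(a, b), mem_trioPairs.2 ⟨haO, hbO, hd1, hab, hthird.symm ▸ hbc⟩, ?_⟩
  have hmem : trioSet (a, b) ∈ trios :=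
    trioSet_mem (mem_trioPairs.2 ⟨haO, hbO, hd1, hab, hthird.symm ▸ hbc⟩)
  refine Finset.eq_of_subset_of_card_le ?_ (by rw [h3, hmem.1])
  intro o h
  simp only [trioSet, hthird, Finset.mem_insert, Finset.mem_singleton] at h
  rcases h with rfl | rfl | rfl
  exacts [haT, hbT, hcT]

theorem trioSet_injOn : Set.InjOn trioSet {p | p ∈ trioPairs} := by
  rintro ⟨a, b⟩ hp ⟨a', b'⟩ hq h
  obtain ⟨ha, hb, hd, hab, hbc⟩ := mem_trioPairs.1 hp
  obtain ⟨ha', hb', hd', hab', hbc'⟩ := mem_trioPairs.1 hq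
  have hc := (third_props ha hb hd).1
  have hc' := (third_props ha' hb' hd').1
  have lt' : ∀ m ∈ octList, m < 16777216 := fun m hm => isCode_lt (mem_octList.1 hm).1
  have key : ∀ {x : ℕ} {u v : ℕ}, x ∈ octList → u ∈ octList → v ∈ octList → third u v ∈ octList →
      mset x ∈ trioSet (u, v) → x = u ∨ x = v ∨ x = third u v := by
    intro x u v hx hu hv hw hm
    simp only [trioSet, Finset.mem_insert, Finset.mem_singleton] at hm
    rcases hm with h | h | h
    · exact Or.inl (mset_inj (lt' _ hx) (lt' _ hu) h)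
    · exact Or.inr (Or.inl (mset_inj (lt' _ hx) (lt' _ hv) h))
    · exact Or.inr (Or.inr (mset_inj (lt' _ hx) (lt' _ hw) h))
  have e1 := key ha ha' hb' hc' (by rw [← h]; simp [trioSet])
  have e2 := key hb ha' hb' hc' (by rw [← h]; simp [trioSet])
  have e3 := key ha' ha hb hc (by rw [h]; simp [trioSet])
  have e4 := key hb' ha hb hc (by rw [h]; simp [trioSet])
  simp only [Prod.mk.injEq]
  omega

theorem trioPairs_length : trioPairs.length = 3795 := by decide +kernel

theorem trioPairs_nodup : trioPairs.Nodup := by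
  refine List.nodup_flatMap.2 ⟨fun a _ => ((codeList_nodup.filter _).filter _).map
    (fun x y h => (Prod.mk.injEq _ _ _ _ ▸ h).2), ?_⟩
  refine (codeList_nodup.filter _).imp fun hne => ?_
  intro p hp hq
  simp only [List.mem_map] at hp hq
  obtain ⟨_, -, rfl⟩ := hp
  obtain ⟨_, -, h⟩ := hq
  exact hne (congrArg Prod.fst h).symm

theorem trios_ncard : trios.ncard = 3795 := by
  classical
  have e : trios = trioSet '' {p | p ∈ trioPairs} := by
    ext T
    exact ⟨fun h => trio_exists h, fun ⟨p, hp, h⟩ => h ▸ trioSet_mem hp⟩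
  rw [e, trioSet_injOn.ncard_image,
    show {p : ℕ × ℕ | p ∈ trioPairs} = ↑trioPairs.toFinset by ext; simp,
    Set.ncard_coe_finset, List.toFinset_card_of_nodup trioPairs_nodup, trioPairs_length]

end CfsgLib.Golay
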