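import Cfsg.Agent.Lib.Golay.M23Index
import Cfsg.Agent.Lib.Golay.Mathieu
import Cfsg.Agent.Lib.Golay.CosetLeaders
import Cfsg.Agent.Lib.Mathieu.Sextets
import Cfsg.Agent.Lib.Invol.Simple

/-!
Subgroups of index 759, 276, 1771 and 253 in `M24`.

A subgroup containing a Sylow 2-subgroup has orbits of sizes divisible by eight; an orbit of size
eight under an element of order five is an octad.  In the transitive case the point stabiliser
contains the pointwise stabiliser of an octad, and the invariant sets found in it form blocks,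
which an element of order five fixing four points only forbids, except for the tetrads of a sextet.
-/

set_option autoImplicit false

namespace CfsgLib.Golay

open Cfsg CfsgLib.Mathieu
open scoped Pointwise

/-- The pointwise stabiliser of a set of points, inside `M24`. -/
def kerO (o : Finset GolayPt) : Subgroup M24 := (octPtw o).subgroupOf M24

theorem mem_kerO {o : Finset GolayPt} {g : M24} : g ∈ kerO o ↔ ∀ q ∈ o, g • q = q := by
  rw [kerO, Subgroup.mem_subgroupOf, octPtw_fix]
  exact ⟨fun h => h.2, fun h => ⟨g.2, h⟩⟩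

theorem card_kerO {o : Finset GolayPt} (ho : o ∈ octads) : Nat.card (kerO o) = 16 := by
  rw [kerO, Nat.card_congr (Subgroup.subgroupOfEquivOfLe
    (show octPtw o ≤ M24 from inf_le_left)).toEquiv, card_octPtw ho]

theorem smul_eq_of_subset {g : M24} {U : Finset GolayPt} (h : ∀ q ∈ U, g • q ∈ U) : g • U = U :=
  Finset.eq_of_subset_of_card_le (fun q hq => by
    obtain ⟨r, hr, rfl⟩ := Finset.mem_smul_finset.1 hq
    exact h r hr) (by rw [Finset.card_smul_finset])

theorem kerO_le_stab (o : Finset GolayPt) : kerO o ≤ MulAction.stabilizer M24 o := fun g hg =>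
  MulAction.mem_stabilizer_iff.2 (smul_eq_of_subset fun q hq => by rwa [mem_kerO.1 hg q hq])

theorem kerO_le_point {o : Finset GolayPt} {q : GolayPt} (hq : q ∈ o) :
    kerO o ≤ MulAction.stabilizer M24 q := fun _ hg =>
  MulAction.mem_stabilizer_iff.2 (mem_kerO.1 hg q hq)

/-- A set invariant under the pointwise stabiliser of an octad and smaller than sixteen lies in
the octad. -/
theorem subset_of_kerO {o U : Finset GolayPt} (ho : o ∈ octads)
    (hU : kerO o ≤ MulAction.stabilizer M24 U) (hc : U.card < 16) : U ⊆ o := by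
  intro r hr
  by_contra hro
  have hsub : Finset.univ \ o ⊆ U := fun q hq => by
    obtain ⟨g, hg, e⟩ := octad_out ho hro (Finset.mem_sdiff.1 hq).2
    have h := Finset.smul_mem_smul_finset (a := g) hr
    rwa [MulAction.mem_stabilizer_iff.1 (hU (mem_kerO.2 hg)), e] at h
  have h := Finset.card_le_card hsub
  rw [Finset.card_sdiff_of_subset (Finset.subset_univ _), Finset.card_univ, ho.2,
    show Fintype.card GolayPt = 24 by simp] at h
  omega

theorem octads_orbit_card (o : Finset GolayPt) (ho : o ∈ octads) :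
    (MulAction.orbit M24 o).ncard = 759 := by
  have h := Nat.card_congr (MulAction.orbitProdStabilizerEquivGroup M24 o)
  rw [Nat.card_prod, Nat.card_coe_set_eq, card_stab_octad ho, card_M24] at h
  omega

/-- A subgroup fixing a point, with a full Sylow 2-subgroup, contains the pointwise stabiliser of
an octad through the point. -/
theorem exists_kerO_le {Hp : Subgroup M24} {p : GolayPt} (hp : Hp ≤ MulAction.stabilizer M24 p)
    (h2 : 128 ∣ Nat.card Hp) : ∃ o ∈ octads, p ∈ o ∧ kerO o ≤ Hp := by
  classical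
  haveI : Fact (Nat.Prime 2) := ⟨Nat.prime_two⟩
  obtain ⟨Q, hQ⟩ := Sylow.exists_subgroup_card_pow_prime 2 (G := Hp) (n := 7)
    (show 2 ^ 7 ∣ Nat.card Hp from h2)
  obtain ⟨P, hPdef⟩ : ∃ P, P = Q.map Hp.subtype := ⟨_, rfl⟩
  have hPc : Nat.card P = 128 := by
    rw [hPdef, Subgroup.card_map_of_injective (Subgroup.subtype_injective _), hQ]; rfl
  have hPH : P ≤ Hp := hPdef ▸ Subgroup.map_subtype_le Q
  have hPp : IsPGroup 2 P := IsPGroup.of_card (n := 7) (by rw [hPc]; rfl)
  let S : Set (Finset GolayPt) := MulAction.orbit M24 (mset octMask)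
  obtain ⟨o, ho⟩ := hPp.nonempty_fixed_point_of_prime_not_dvd_card S (by
    rw [Nat.card_coe_set_eq, octads_orbit_card _ octMask_mem]; norm_num)
  have hoct : (o : Finset GolayPt) ∈ octads := by
    obtain ⟨g, hg⟩ := o.2
    exact hg ▸ M24_smul_octad g.2 octMask_mem
  have hPo : P ≤ MulAction.stabilizer M24 (o : Finset GolayPt) := fun g hg =>
    MulAction.mem_stabilizer_iff.2 (congrArg Subtype.val (ho ⟨g, hg⟩))
  have hpo : p ∈ (o : Finset GolayPt) := by
    by_contra h
    have := Subgroup.card_dvd_of_le (le_inf hPo (hPH.trans hp))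
    rw [hPc, card_stab_octad_out hoct h] at this
    exact absurd this (by norm_num)
  refine ⟨o, hoct, hpo, le_trans ?_ hPH⟩
  have hnorm : P ≤ Subgroup.normalizer (kerO (o : Finset GolayPt) : Set M24) := by
    intro g hg
    have hgo : g • (o : Finset GolayPt) = o := MulAction.mem_stabilizer_iff.1 (hPo hg)
    rw [Subgroup.mem_normalizer_iff]
    intro k
    rw [mem_kerO, mem_kerO]
    constructor
    · intro hk q hq
      have hq' : g⁻¹ • q ∈ (o : Finset GolayPt) := by
        rw [← hgo] at hq
        exact Finset.inv_smul_mem_iff.2 hq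
      rw [mul_smul, mul_smul, hk _ hq', smul_inv_smul]
    · intro hk q hq
      have hq' : g • q ∈ (o : Finset GolayPt) := hgo ▸ Finset.smul_mem_smul_finset hq
      have := hk _ hq'
      rw [mul_smul, mul_smul, inv_smul_smul] at this
      exact MulAction.injective g this
  have hsup : IsPGroup 2 ↥(P ⊔ kerO (o : Finset GolayPt)) :=
    hPp.to_sup_of_normal_right' (IsPGroup.of_card (n := 4) (by rw [card_kerO hoct]; rfl)) hnorm
  obtain ⟨n, hn⟩ := IsPGroup.iff_card.1 hsup
  have hd : Nat.card ↥(P ⊔ kerO (o : Finset GolayPt)) ∣ 40320 :=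
    card_stab_octad_in hoct hpo ▸ Subgroup.card_dvd_of_le (sup_le (le_inf hPo (hPH.trans hp))
      (le_inf (kerO_le_stab _) (kerO_le_point hpo)))
  rw [hn] at hd
  have h7 : n ≤ 7 := by
    by_contra h
    exact absurd ((pow_dvd_pow 2 (by omega : 8 ≤ n)).trans hd) (by norm_num)
  have e := Subgroup.eq_of_le_of_card_ge (le_sup_left : P ≤ P ⊔ kerO (o : Finset GolayPt))
    (by rw [hn, hPc]; exact (Nat.pow_le_pow_right (by norm_num) h7).trans_eq rfl)
  exact e ▸ le_sup_right

/-- A family of blocks defined by a relation between points and sets. -/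
theorem block_family (H : Subgroup M24) (b : ℕ) (P : GolayPt → Finset GolayPt → Prop)
    (hex : ∀ p, ∃ T, P p T) (hmem : ∀ p T, P p T → p ∈ T ∧ T.card = b)
    (huniq : ∀ p q T T', P p T → q ∈ T → P q T' → T' = T)
    (hequiv : ∀ h ∈ H, ∀ p T, P p T → P (h • p) (h • T)) :
    ∃ F : Finset (Finset GolayPt), (∀ T, T ∈ F ↔ ∃ p, P p T) ∧ (∀ h ∈ H, h • F = F) ∧
      F.card * b = 24 ∧ (F : Set (Finset GolayPt)).PairwiseDisjoint id := by
  classical
  refine ⟨Finset.univ.filter fun T => ∃ p, P p T, fun T => by simp, fun h hh => ?_, ?_, ?_⟩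
  · refine Finset.eq_of_subset_of_card_le (fun T hT => ?_) (by rw [Finset.card_smul_finset])
    obtain ⟨U, hU, rfl⟩ := Finset.mem_smul_finset.1 hT
    simp only [Finset.mem_filter, Finset.mem_univ, true_and] at hU ⊢
    obtain ⟨p, hp⟩ := hU
    exact ⟨_, hequiv h hh p U hp⟩
  rotate_left
  · intro T hT U hU hne
    simp only [Finset.coe_filter, Finset.mem_univ, true_and] at hT hU
    obtain ⟨p, hp⟩ := hT
    obtain ⟨q, hq⟩ := hU
    rw [Function.onFun, id, id, Finset.disjoint_left]
    intro r hr hr'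
    obtain ⟨W, hW⟩ := hex r
    exact hne ((huniq p r T W hp hr hW).symm.trans (huniq q r U W hq hr' hW))
  · have hd : ((Finset.univ.filter fun T => ∃ p, P p T : Finset (Finset GolayPt)) :
        Set (Finset GolayPt)).PairwiseDisjoint id := by
      intro T hT U hU hne
      simp only [Finset.coe_filter, Finset.mem_univ, true_and] at hT hU
      obtain ⟨p, hp⟩ := hT
      obtain ⟨q, hq⟩ := hU
      rw [Function.onFun, id, id, Finset.disjoint_left]
      intro r hr hr'
      obtain ⟨W, hW⟩ := hex r
      exact hne ((huniq p r T W hp hr hW).symm.trans (huniq q r U W hq hr' hW))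
    have hu : (Finset.univ.filter fun T => ∃ p, P p T).biUnion id = Finset.univ := by
      refine Finset.eq_univ_of_forall fun p => Finset.mem_biUnion.2 ?_
      obtain ⟨T, hT⟩ := hex p
      exact ⟨T, by simpa using ⟨p, hT⟩, (hmem p T hT).1⟩
    have h := Finset.card_biUnion hd
    rw [hu, Finset.card_univ, show Fintype.card GolayPt = 24 by simp,
      Finset.sum_const_nat (m := b)] at h
    · exact h.symm
    · intro T hT
      obtain ⟨p, hp⟩ := (Finset.mem_filter.1 hT).2
      exact (hmem p T hp).2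

/-- An element of order `p` fixes at least the residue of the number of blocks times the residue
of the block size. -/
theorem block_fix {g : M24} {p : ℕ} [Fact p.Prime] (hg : g ^ p = 1) {b : ℕ}
    {F : Finset (Finset GolayPt)} (hF : g • F = F) (hb : ∀ T ∈ F, T.card = b)
    (hd : (F : Set (Finset GolayPt)).PairwiseDisjoint id) :
    F.card % p * (b % p) ≤ (fixPts g).card := by
  classical
  have hmem : ∀ T, (MulAction.toPerm g : Equiv.Perm (Finset GolayPt)) T ∈ F ↔ T ∈ F := fun T => by
    rw [MulAction.toPerm_apply]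
    conv_lhs => rw [← hF]
    exact Finset.smul_mem_smul_finset_iff g
  let σ : Equiv.Perm {T // T ∈ F} :=
    (MulAction.toPerm g : Equiv.Perm (Finset GolayPt)).subtypePerm hmem
  have hσ : σ ^ p ^ 1 = 1 := by
    refine Equiv.ext fun T => Subtype.ext ?_
    simp only [σ, pow_one, Equiv.Perm.subtypePerm_pow]
    show ((MulAction.toPermHom M24 (Finset GolayPt) g) ^ p) T.1 = T.1
    rw [← map_pow, hg, map_one]
    rfl
  have h := Equiv.Perm.card_compl_support_modEq hσ
  rw [Fintype.card_coe] at h
  obtain ⟨G, hG⟩ : ∃ G, G = σ.supportᶜ.map (Function.Embedding.subtype _) := ⟨_, rfl⟩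
  have hG1 : F.card % p ≤ G.card := by
    rw [hG, Finset.card_map, ← (show _ % p = F.card % p from h)]
    exact Nat.mod_le _ _
  have hG2 : ∀ T ∈ G, T ∈ F ∧ g • T = T := fun T hT => by
    rw [hG, Finset.mem_map] at hT
    obtain ⟨⟨U, hU⟩, hfix, rfl⟩ := hT
    rw [Finset.mem_compl, Equiv.Perm.mem_support, not_not] at hfix
    exact ⟨hU, congrArg Subtype.val hfix⟩
  calc F.card % p * (b % p) ≤ G.card * (b % p) := Nat.mul_le_mul_right _ hG1
    _ = ∑ _T ∈ G, b % p := by rw [Finset.sum_const, smul_eq_mul]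
    _ ≤ ∑ T ∈ G, (T ∩ fixPts g).card := Finset.sum_le_sum fun T hT => by
      rw [← hb T (hG2 T hT).1, invariant_modEq hg (hG2 T hT).2]
      exact Nat.mod_le _ _
    _ = (G.biUnion fun T => T ∩ fixPts g).card := (Finset.card_biUnion fun T hT U hU hne =>
      (hd (hG2 T hT).1 (hG2 U hU).1 hne).mono Finset.inter_subset_left
        Finset.inter_subset_left).symm
    _ ≤ _ := Finset.card_le_card (Finset.biUnion_subset.2 fun _ _ => Finset.inter_subset_right)

theorem conj_fix {g h : M24} {p : GolayPt} (hg : g • (h • p) = h • p) : (h⁻¹ * g * h) • p = p := by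
  rw [mul_smul, mul_smul, hg, inv_smul_smul]

theorem stab_conj {H : Subgroup M24} {h : M24} (hh : h ∈ H) {p : GolayPt} {U : Finset GolayPt}
    (hU : H ⊓ MulAction.stabilizer M24 p ≤ MulAction.stabilizer M24 U) :
    H ⊓ MulAction.stabilizer M24 (h • p) ≤ MulAction.stabilizer M24 (h • U) := by
  intro g hg
  have := MulAction.mem_stabilizer_iff.1 (hU (x := h⁻¹ * g * h)
    ⟨H.mul_mem (H.mul_mem (H.inv_mem hh) hg.1) hh, MulAction.mem_stabilizer_iff.2 (conj_fix hg.2)⟩)
  rw [mul_smul, mul_smul, inv_smul_eq_iff] at this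
  exact MulAction.mem_stabilizer_iff.2 this

theorem kerO_conj {H : Subgroup M24} {h : M24} (hh : h ∈ H) {o : Finset GolayPt}
    (ho : kerO o ≤ H) : kerO (h • o) ≤ H := by
  intro g hg
  have h1 : h⁻¹ * g * h ∈ H := ho (mem_kerO.2 fun q hq =>
    conj_fix (mem_kerO.1 hg _ (Finset.smul_mem_smul_finset hq)))
  have := mul_mem (mul_mem hh h1) (inv_mem hh)
  rwa [show h * (h⁻¹ * g * h) * h⁻¹ = g by group] at this

/-- Octads attached to the points, each with its pointwise stabiliser, do not occur. -/
theorem octad_block_false {H : Subgroup M24} {g : M24} (hgH : g ∈ H) (hg : orderOf g = 5)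
    (hP : ∀ p, ∃ o ∈ octads, p ∈ o ∧
      H ⊓ MulAction.stabilizer M24 p ≤ MulAction.stabilizer M24 o ∧ kerO o ≤ H) : False := by
  classical
  haveI : Fact (Nat.Prime 5) := ⟨by norm_num⟩
  obtain ⟨F, hF, hinv, hcard, hd⟩ := block_family H 8
    (fun p o => o ∈ octads ∧ p ∈ o ∧
      H ⊓ MulAction.stabilizer M24 p ≤ MulAction.stabilizer M24 o ∧ kerO o ≤ H)
    (fun p => by obtain ⟨o, ho⟩ := hP p; exact ⟨o, ho⟩) (fun p o h => ⟨h.2.1, h.1.2⟩)
    (fun p q o o' h hq h' =>
      (Finset.eq_of_subset_of_card_le (subset_of_kerO h.1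
        ((le_inf h.2.2.2 (kerO_le_point hq)).trans h'.2.2.1) (by rw [h'.1.2]; norm_num))
        (by rw [h.1.2, h'.1.2])))
    (fun k hk p o h => ⟨M24_smul_octad k.2 h.1, Finset.smul_mem_smul_finset h.2.1,
      stab_conj hk h.2.2.1, kerO_conj hk h.2.2.2⟩)
  have := block_fix (hg ▸ pow_orderOf_eq_one g : g ^ 5 = 1) (hinv g hgH) (b := 8)
    (fun T hT => by obtain ⟨p, hp⟩ := (hF T).1 hT; exact hp.1.2) hd
  rw [five_fix hg, show F.card = 3 by omega] at this
  omega

theorem eight_dvd_orbit {H : Subgroup M24} (h : 1024 ∣ Nat.card H) (p : GolayPt) :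
    8 ∣ (orbF H p).card := by
  have h1 := card_orbF_mul H p
  obtain ⟨k, hk⟩ := card_stab_one p ▸
    Subgroup.card_dvd_of_le (inf_le_right : H ⊓ MulAction.stabilizer M24 p ≤ _)
  obtain ⟨c, hc⟩ := h
  have h2 : (orbF H p).card * 10200960 = 1024 * (c * k) := by
    rw [hk, ← mul_assoc, h1, hc]; ring
  omega

theorem card_orbF_le (H : Subgroup M24) (p : GolayPt) : (orbF H p).card ≤ 24 :=
  (Finset.card_le_univ _).trans (le_of_eq (by simp))

theorem orbF_disjoint {H : Subgroup M24} {p q : GolayPt} (hp : p ∉ orbF H q) :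
    Disjoint (orbF H p) (orbF H q) := Finset.disjoint_left.2 fun r h1 h2 => by
  obtain ⟨h, hh, e⟩ := orbF_trans h1 (self_mem_orbF H p)
  exact hp (e ▸ (smul_orbF hh ▸ Finset.smul_mem_smul_finset h2 : h • r ∈ orbF H q))

theorem small_orbit {H : Subgroup M24} (h : 1024 ∣ Nat.card H) {p : GolayPt}
    (hp : (orbF H p).card ≠ 24) : ∃ q, (orbF H q).card = 8 := by
  have h1 := eight_dvd_orbit h p
  have h2 := card_orbF_le H p
  have h3 : 0 < (orbF H p).card := Finset.card_pos.2 ⟨p, self_mem_orbF H p⟩
  by_cases h8 : (orbF H p).card = 8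
  · exact ⟨p, h8⟩
  obtain ⟨q, -, hq⟩ := Finset.exists_mem_notMem_of_card_lt_card
    (show (orbF H p).card < (Finset.univ : Finset GolayPt).card by simp; omega)
  refine ⟨q, ?_⟩
  have h4 := eight_dvd_orbit h q
  have h5 : 0 < (orbF H q).card := Finset.card_pos.2 ⟨q, self_mem_orbF H q⟩
  have h6 := Finset.card_le_univ (orbF H q ∪ orbF H p)
  rw [Finset.card_union_of_disjoint (orbF_disjoint hq),
    show Fintype.card GolayPt = 24 by simp] at h6
  omega

/-- An orbit of size eight under a subgroup with an element of order five is an octad. -/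
theorem orbit8_octad {H : Subgroup M24} {g : M24} (hgH : g ∈ H) (hg : orderOf g = 5) {p : GolayPt}
    (h8 : (orbF H p).card = 8) : orbF H p ∈ octads := by
  classical
  haveI : Fact (Nat.Prime 5) := ⟨by norm_num⟩
  obtain ⟨U, rfl⟩ : ∃ U, U = orbF H p := ⟨_, rfl⟩
  have hU : ∀ h ∈ H, h • orbF H p = orbF H p := fun h hh => smul_orbF hh
  have hmod : (orbF H p).card % 5 = (orbF H p ∩ fixPts g).card % 5 :=
    invariant_modEq (hg ▸ pow_orderOf_eq_one g) (hU g hgH)
  have hF := five_fix hg
  have hle : (orbF H p ∩ fixPts g).card ≤ 4 :=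
    hF ▸ Finset.card_le_card Finset.inter_subset_right
  have hC : (orbF H p \ fixPts g).card = 5 := by
    have := Finset.card_inter_add_card_sdiff (orbF H p) (fixPts g)
    omega
  obtain ⟨o, ⟨ho, hCo⟩, -⟩ := octad_exists_unique hC
  have hCinv : g • (orbF H p \ fixPts g) = orbF H p \ fixPts g := by
    rw [Finset.smul_finset_sdiff, hU g hgH,
      smul_eq_of_subset (U := fixPts g) fun q hq => by rwa [(Finset.mem_filter.1 hq).2]]
  have hgo : g • o = o := octads_eq_of_five (M24_smul_octad g.2 ho) ho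
    (hC.symm.le.trans (Finset.card_le_card (Finset.subset_inter
      (hCinv.symm.subset.trans (Finset.smul_finset_subset_smul_finset hCo)) hCo)))
  have hmo : o.card % 5 = (o ∩ fixPts g).card % 5 :=
    invariant_modEq (hg ▸ pow_orderOf_eq_one g) hgo
  rw [ho.2] at hmo
  have h7 : 7 ≤ (o ∩ orbF H p).card := by
    have h1 : 2 ≤ (o ∩ fixPts g ∩ (orbF H p ∩ fixPts g)).card := by
      have h := Finset.card_union_add_card_inter (o ∩ fixPts g) (orbF H p ∩ fixPts g)
      have h' : ((o ∩ fixPts g) ∪ (orbF H p ∩ fixPts g)).card ≤ 4 := hF ▸ Finset.card_le_card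
        (Finset.union_subset Finset.inter_subset_right Finset.inter_subset_right)
      omega
    have h2 := Finset.card_union_of_disjoint
      (show Disjoint (orbF H p \ fixPts g) (o ∩ fixPts g ∩ (orbF H p ∩ fixPts g)) from
        Finset.disjoint_left.2 fun x hx hx' => (Finset.mem_sdiff.1 hx).2
          (Finset.mem_inter.1 (Finset.mem_inter.1 hx').1).2)
    have h3 : (orbF H p \ fixPts g) ∪ (o ∩ fixPts g ∩ (orbF H p ∩ fixPts g)) ⊆ o ∩ orbF H p :=
      Finset.union_subset (Finset.subset_inter hCo Finset.sdiff_subset)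
        (Finset.inter_subset_inter Finset.inter_subset_left Finset.inter_subset_left)
    have := Finset.card_le_card h3
    omega
  have hHo : ∀ h ∈ H, h • o = o := fun h hh => by
    refine octads_eq_of_five (M24_smul_octad h.2 ho) ho ?_
    have h1 : h • (o ∩ orbF H p) ∪ (o ∩ orbF H p) ⊆ orbF H p := by
      refine Finset.union_subset ?_ Finset.inter_subset_right
      exact (Finset.smul_finset_subset_smul_finset Finset.inter_subset_right).trans
        (hU h hh).subset
    have h2 := Finset.card_le_card h1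
    have h3 := Finset.card_union_add_card_inter (h • (o ∩ orbF H p)) (o ∩ orbF H p)
    rw [Finset.card_smul_finset] at h3
    have h4 : (h • (o ∩ orbF H p) ∩ (o ∩ orbF H p)).card ≤ (h • o ∩ o).card :=
      Finset.card_le_card (Finset.inter_subset_inter
        (Finset.smul_finset_subset_smul_finset Finset.inter_subset_left) Finset.inter_subset_left)
    omega
  obtain ⟨x, hx⟩ := Finset.card_pos.1 (show 0 < (o ∩ orbF H p).card by omega)
  have hsub : orbF H p ⊆ o := fun y hy => by
    obtain ⟨h, hh, rfl⟩ := orbF_trans (Finset.mem_inter.1 hx).2 hy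
    exact hHo h hh ▸ Finset.smul_mem_smul_finset (Finset.mem_inter.1 hx).1
  rw [Finset.eq_of_subset_of_card_le hsub (by rw [h8, ho.2])]
  exact ho

theorem card_point_stab {H : Subgroup M24} {p : GolayPt} (h : (orbF H p).card = 24) :
    24 * Nat.card ↥(H ⊓ MulAction.stabilizer M24 p) = Nat.card H := by
  rw [← h, card_orbF_mul]

/-- The big orbit of a point stabiliser containing the pointwise stabiliser of an octad. -/
theorem big_orbit {Hp : Subgroup M24} {p : GolayPt} {o : Finset GolayPt} (ho : o ∈ octads)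
    (hpo : p ∈ o) (hp : Hp ≤ MulAction.stabilizer M24 p) (hK : kerO o ≤ Hp) :
    ∃ R ⊆ o.erase p, Hp ≤ MulAction.stabilizer M24 R ∧
      ∃ n, n ∣ Nat.card Hp ∧ R.card + n = 23 ∧ 16 ≤ n := by
  classical
  obtain ⟨r, -, hr⟩ := Finset.exists_mem_notMem_of_card_lt_card
    (show o.card < (Finset.univ : Finset GolayPt).card by simp [ho.2])
  have hsub : Finset.univ \ o ⊆ orbF Hp r := fun q hq => by
    obtain ⟨g, hg, e⟩ := octad_out ho hr (Finset.mem_sdiff.1 hq).2
    exact mem_orbF.2 ⟨g, hK (mem_kerO.2 hg), e⟩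
  have hpn : p ∉ orbF Hp r := fun h => by
    obtain ⟨g, hg, e⟩ := orbF_trans h (self_mem_orbF Hp r)
    exact hr (((MulAction.mem_stabilizer_iff.1 (hp hg)).symm.trans e) ▸ hpo)
  have hinv : ∀ g ∈ Hp, g • (Finset.univ \ insert p (orbF Hp r)) =
      Finset.univ \ insert p (orbF Hp r) := smul_compl_of_invariant fun g hg => by
    rw [Finset.smul_finset_insert, smul_orbF hg, MulAction.mem_stabilizer_iff.1 (hp hg)]
  have hc : (Finset.univ \ insert p (orbF Hp r)).card + (orbF Hp r).card = 23 := by
    have h := Finset.card_sdiff_add_card_eq_card (Finset.subset_univ (insert p (orbF Hp r)))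
    rw [Finset.card_insert_of_notMem hpn, Finset.card_univ,
      show Fintype.card GolayPt = 24 by simp] at h
    omega
  refine ⟨_, fun q hq => ?_, le_stab_of_invariant hinv, _, card_orbF_dvd Hp r, hc, ?_⟩
  · rw [Finset.mem_sdiff, Finset.mem_insert, not_or] at hq
    refine Finset.mem_erase.2 ⟨hq.2.1, ?_⟩
    by_contra h
    exact hq.2.2 (hsub (Finset.mem_sdiff.2 ⟨Finset.mem_univ _, h⟩))
  · refine le_trans ?_ (Finset.card_le_card hsub)
    rw [Finset.card_sdiff_of_subset (Finset.subset_univ _), Finset.card_univ, ho.2]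
    simp

theorem stab_octad_of_seven {K : Subgroup M24} {o R : Finset GolayPt} (ho : o ∈ octads)
    (hR : R ⊆ o) (h5 : 5 ≤ R.card) (hK : K ≤ MulAction.stabilizer M24 R) :
    K ≤ MulAction.stabilizer M24 o := fun g hg => by
  refine MulAction.mem_stabilizer_iff.2 (octads_eq_of_five (M24_smul_octad g.2 ho) ho ?_)
  exact h5.trans (Finset.card_le_card (Finset.subset_inter
    ((MulAction.mem_stabilizer_iff.1 (hK hg)).symm.subset.trans
      (Finset.smul_finset_subset_smul_finset hR)) hR))

theorem card_le_mul {K : Subgroup M24} {U : Finset GolayPt} {a : GolayPt}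
    (hK : K ≤ MulAction.stabilizer M24 U) (ha : a ∈ U) :
    Nat.card K ≤ U.card * Nat.card ↥(K ⊓ MulAction.stabilizer M24 a) := by
  rw [← card_orbF_mul K a]
  refine Nat.mul_le_mul_right _ (Finset.card_le_card fun q hq => ?_)
  obtain ⟨g, hg, rfl⟩ := mem_orbF.1 hq
  exact MulAction.mem_stabilizer_iff.1 (hK hg) ▸ Finset.smul_mem_smul_finset ha

theorem fix_other {K : Subgroup M24} {a b : GolayPt} (hab : a ≠ b)
    (hK : K ≤ MulAction.stabilizer M24 ({a, b} : Finset GolayPt))
    (ha : K ≤ MulAction.stabilizer M24 a) : K ≤ MulAction.stabilizer M24 b := fun g hg => by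
  have h := Finset.smul_mem_smul_finset (a := g) (show b ∈ ({a, b} : Finset GolayPt) by simp)
  rw [MulAction.mem_stabilizer_iff.1 (hK hg), Finset.mem_insert, Finset.mem_singleton] at h
  rcases h with h | h
  · exact absurd (MulAction.injective g (h.trans (MulAction.mem_stabilizer_iff.1 (ha hg)).symm))
      (Ne.symm hab)
  · exact MulAction.mem_stabilizer_iff.2 h

/-- A three-point stabiliser has no subgroup of order 6720. -/
theorem no_6720 {x a b : GolayPt} (h1 : x ≠ a) (h2 : x ≠ b) (h3 : a ≠ b) (L : Subgroup M24)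
    (hL : L ≤ MulAction.stabilizer M24 x ⊓ MulAction.stabilizer M24 a ⊓
      MulAction.stabilizer M24 b) : Nat.card L ≠ 6720 := by
  intro hc
  obtain ⟨S, hS⟩ : ∃ S, S = MulAction.stabilizer M24 x ⊓ MulAction.stabilizer M24 a ⊓
      MulAction.stabilizer M24 b := ⟨_, rfl⟩
  rw [← hS] at hL
  obtain ⟨e⟩ : Nonempty (S ≃* fixMasks X21) := hS ▸ stab3_equiv h1 h2 h3
  haveI := isSimple_fix21
  haveI : Nontrivial S := e.toEquiv.nontrivial
  haveI : IsSimpleGroup S := e.isSimpleGroup
  have hcS : Nat.card S = 20160 := by rw [hS, card_stab_three h1 h2 h3]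
  have hna : ¬ IsMulCommutative S := fun hcomm => by
    haveI : Fact (Nat.Prime 7) := ⟨by norm_num⟩
    obtain ⟨g, hg⟩ := exists_prime_orderOf_dvd_card' (G := S) 7 (by rw [hcS]; norm_num)
    have hn : (Subgroup.zpowers g).Normal := ⟨fun n hn k => by
      rw [hcomm.is_comm.comm k n, mul_inv_cancel_right]; exact hn⟩
    have hz := Nat.card_zpowers g
    rcases hn.eq_bot_or_eq_top with h | h
    · rw [h, Subgroup.card_bot, hg] at hz; omega
    · rw [h, Subgroup.card_top, hcS, hg] at hz; omega
  have hi : (L.subgroupOf S).index = 3 := by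
    have h := (L.subgroupOf S).card_mul_index
    rw [Nat.card_congr (Subgroup.subgroupOfEquivOfLe hL).toEquiv, hc, hcS] at h
    omega
  have := CfsgLib.Invol.five_le_index hna (H := L.subgroupOf S) fun h => by
    rw [h, Subgroup.index_top] at hi; omega
  omega

/-- A subgroup of order 322560 is the stabiliser of an octad. -/
theorem sub322560 {H : Subgroup M24} (hc : Nat.card H = 322560) :
    ∃ o ∈ octads, H = MulAction.stabilizer M24 o := by
  classical
  haveI : Fact (Nat.Prime 7) := ⟨by norm_num⟩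
  haveI : Fact (Nat.Prime 5) := ⟨by norm_num⟩
  obtain ⟨g5, h5H, h5⟩ := exists_orderOf_of_dvd (H := H) (p := 5) (by rw [hc]; norm_num)
  by_cases htr : ∀ p, (orbF H p).card = 24
  · refine (octad_block_false h5H h5 fun p => ?_).elim
    have hcp : Nat.card ↥(H ⊓ MulAction.stabilizer M24 p) = 13440 := by
      have := card_point_stab (htr p)
      omega
    obtain ⟨o, ho, hpo, hK⟩ := exists_kerO_le
      (inf_le_right : H ⊓ MulAction.stabilizer M24 p ≤ _) (by rw [hcp]; norm_num)
    obtain ⟨R, hR, hRinv, n, hn, hRn, hn16⟩ := big_orbit ho hpo inf_le_right hK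
    refine ⟨o, ho, hpo, ?_, hK.trans inf_le_left⟩
    rw [hcp] at hn
    have hn' : n = 16 ∨ n = 20 ∨ n = 21 := by
      have : n ≤ 23 := by omega
      interval_cases n <;> omega
    rcases hn' with rfl | rfl | rfl
    · exact stab_octad_of_seven ho (hR.trans (Finset.erase_subset _ _)) (by omega) hRinv
    · exfalso
      obtain ⟨g7, h7H, h7⟩ := exists_orderOf_of_dvd (H := H ⊓ MulAction.stabilizer M24 p) (p := 7)
        (by rw [hcp]; norm_num)
      have := invariant_bound h7H h7 (F := {p}) (U := R)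
        (fun y hy h hh => by rw [Finset.mem_singleton.1 hy]; exact hh.2)
        (fun h hh => MulAction.mem_stabilizer_iff.1 (hRinv hh))
        (Finset.disjoint_singleton_right.2 fun h => (Finset.mem_erase.1 (hR h)).1 rfl)
      rw [seven_fix h7, Finset.card_singleton] at this
      omega
    · exfalso
      obtain ⟨a, b, hab, rfl⟩ := Finset.card_eq_two.1 (show R.card = 2 by omega)
      have hpa : p ≠ a := fun h => (Finset.mem_erase.1 (hR (by simp : a ∈ _))).1 h.symm
      have hpb : p ≠ b := fun h => (Finset.mem_erase.1 (hR (by simp : b ∈ _))).1 h.symm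
      have hle : H ⊓ MulAction.stabilizer M24 p ⊓ MulAction.stabilizer M24 a ≤
          MulAction.stabilizer M24 p ⊓ MulAction.stabilizer M24 a ⊓ MulAction.stabilizer M24 b :=
        le_inf (le_inf (inf_le_left.trans inf_le_right) inf_le_right)
          (fix_other hab (inf_le_left.trans hRinv) inf_le_right)
      have hb := card_le_mul hRinv (show a ∈ _ from Finset.mem_insert_self a {b})
      rw [Finset.card_pair hab, hcp] at hb
      have hne := no_6720 hpa hpb hab _ hle
      have hd := Subgroup.card_dvd_of_le (inf_le_left :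
        H ⊓ MulAction.stabilizer M24 p ⊓ MulAction.stabilizer M24 a ≤ _)
      rw [hcp] at hd
      have hd' := Subgroup.card_dvd_of_le hle
      rw [card_stab_three hpa hpb hab] at hd'
      have hg := Nat.dvd_gcd hd hd'
      rw [show Nat.gcd 13440 20160 = 6720 by decide +kernel] at hg
      have := Nat.le_of_dvd (by omega) hg
      omega
  · push Not at htr
    obtain ⟨p, hp⟩ := htr
    obtain ⟨q, hq⟩ := small_orbit (by rw [hc]; norm_num) hp
    have ho := orbit8_octad h5H h5 hq
    exact ⟨_, ho, Subgroup.eq_of_le_of_card_ge (le_stab_of_invariant fun h hh => smul_orbF hh)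
      (by rw [hc, card_stab_octad ho])⟩

/-- There is no subgroup of order 967680. -/
theorem no_967680 (H : Subgroup M24) : Nat.card H ≠ 967680 := by
  classical
  intro hc
  haveI : Fact (Nat.Prime 7) := ⟨by norm_num⟩
  haveI : Fact (Nat.Prime 5) := ⟨by norm_num⟩
  obtain ⟨g5, h5H, h5⟩ := exists_orderOf_of_dvd (H := H) (p := 5) (by rw [hc]; norm_num)
  by_cases htr : ∀ p, (orbF H p).card = 24
  · have hsub : ∀ p, _ := fun p => sub40320
      (inf_le_right : H ⊓ MulAction.stabilizer M24 p ≤ MulAction.stabilizer M24 p)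
      (by have := card_point_stab (htr p); omega)
    by_cases hd : ∀ p, ∃ o ∈ octads, p ∈ o ∧ H ⊓ MulAction.stabilizer M24 p =
        MulAction.stabilizer M24 o ⊓ MulAction.stabilizer M24 p
    · refine octad_block_false h5H h5 fun p => ?_
      obtain ⟨o, ho, hpo, he⟩ := hd p
      exact ⟨o, ho, hpo, he ▸ inf_le_left,
        ((le_inf (kerO_le_stab o) (kerO_le_point hpo)).trans he.ge).trans inf_le_left⟩
    push Not at hd
    obtain ⟨p0, hp0⟩ := hd
    obtain ⟨s, hs, hps, he⟩ := (hsub p0).resolve_right fun ⟨o, h1, h2, h3⟩ => hp0 o h1 h2 h3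
    -- seven-elements fixing a triad
    obtain ⟨a, b, hab, rfl⟩ := Finset.card_eq_two.1 hs
    simp only [Finset.mem_insert, Finset.mem_singleton, not_or] at hps
    let P : GolayPt → Finset GolayPt → Prop := fun p T => p ∈ T ∧ T.card = 3 ∧
      H ⊓ MulAction.stabilizer M24 p ≤ MulAction.stabilizer M24 (T.erase p) ∧
      ∃ g ∈ H, orderOf g = 7 ∧ fixPts g = T
    have hbase : P p0 ({p0, a, b} : Finset GolayPt) := by
      have h3 : ({p0, a, b} : Finset GolayPt).card = 3 :=
        Finset.card_eq_three.2 ⟨p0, a, b, hps.1, hps.2, hab, rfl⟩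
      refine ⟨by simp, h3, ?_, ?_⟩
      · rw [Finset.erase_insert (by simp [hps]), he]
        exact inf_le_left
      · obtain ⟨g, hg, h7⟩ := exists_orderOf_of_dvd (p := 7) (H := MulAction.stabilizer M24 p0 ⊓
          MulAction.stabilizer M24 a ⊓ MulAction.stabilizer M24 b)
          (by rw [card_stab_three hps.1 hps.2 hab]; norm_num)
        refine ⟨g, (he.ge ⟨MulAction.mem_stabilizer_iff.2 ?_, hg.1.1⟩ :
          g ∈ H ⊓ MulAction.stabilizer M24 p0).1, h7, ?_⟩
        · rw [Finset.smul_finset_insert, Finset.smul_finset_singleton,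
            MulAction.mem_stabilizer_iff.1 hg.1.2, MulAction.mem_stabilizer_iff.1 hg.2]
        · refine (Finset.eq_of_subset_of_card_le ?_ (by rw [seven_fix h7, h3])).symm
          simp only [Finset.insert_subset_iff, Finset.singleton_subset_iff]
          exact ⟨fix_of_mem_inf hg.1.1, fix_of_mem_inf hg.1.2, fix_of_mem_inf hg.2⟩
    have hequiv : ∀ h ∈ H, ∀ p T, P p T → P (h • p) (h • T) := by
      rintro h hh p T ⟨hp, hT, hst, g, hgH, hg, hfix⟩
      refine ⟨Finset.smul_mem_smul_finset hp, by rw [Finset.card_smul_finset, hT], ?_,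
        h * g * h⁻¹, mul_mem (mul_mem hh hgH) (inv_mem hh), ?_, ?_⟩
      · rw [Finset.erase_eq, ← Finset.smul_finset_singleton, ← Finset.smul_finset_sdiff,
          ← Finset.erase_eq]
        exact stab_conj hh hst
      · rw [← MulAut.conj_apply, MulEquiv.orderOf_eq, hg]
      · rw [← hfix]
        ext q
        simp only [fixPts, Finset.mem_filter, Finset.mem_univ, true_and,
          ← Finset.inv_smul_mem_iff, mul_smul, ← eq_inv_smul_iff]
    obtain ⟨F, hF, hinv, hcard, hdis⟩ := block_family H 3 P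
      (fun p => by
        have : p ∈ orbF H p0 := by
          rw [Finset.eq_univ_of_card (orbF H p0) (by rw [htr p0]; simp)]; exact Finset.mem_univ _
        obtain ⟨h, hh, rfl⟩ := mem_orbF.1 this
        exact ⟨_, hequiv h hh _ _ hbase⟩)
      (fun p T h => ⟨h.1, h.2.1⟩)
      (by
        rintro p q T T' ⟨-, hT, -, g, hgH, hg, hfix⟩ hq ⟨hq', hT', hst', -⟩
        have hgq : g • q = q := (Finset.mem_filter.1 (hfix ▸ hq : q ∈ fixPts g)).2
        have hgE : g • T'.erase q = T'.erase q :=
          MulAction.mem_stabilizer_iff.1 (hst' ⟨hgH, MulAction.mem_stabilizer_iff.2 hgq⟩)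
        have hmod : (T'.erase q).card % 7 = (T'.erase q ∩ fixPts g).card % 7 :=
          invariant_modEq (hg ▸ pow_orderOf_eq_one g) hgE
        have hle := Finset.card_le_card
          (Finset.inter_subset_left : T'.erase q ∩ fixPts g ⊆ T'.erase q)
        rw [Finset.card_erase_of_mem hq', hT'] at hmod hle
        have hsub : T'.erase q ⊆ fixPts g := Finset.inter_eq_left.1
          (Finset.eq_of_subset_of_card_le Finset.inter_subset_left
            (by rw [Finset.card_erase_of_mem hq', hT']; omega))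
        refine Finset.eq_of_subset_of_card_le (fun y hy => hfix ▸ ?_) (by rw [hT, hT'])
        by_cases hyq : y = q
        · rw [hyq]; exact fix_of_mem_inf hgq
        · exact hsub (Finset.mem_erase.2 ⟨hyq, hy⟩))
      hequiv
    have := block_fix (h5 ▸ pow_orderOf_eq_one g5 : g5 ^ 5 = 1) (hinv g5 h5H) (b := 3)
      (fun T hT => by obtain ⟨p, hp⟩ := (hF T).1 hT; exact hp.2.1) hdis
    rw [five_fix h5, show F.card = 8 by omega] at this
    omega
  · push Not at htr
    obtain ⟨p, hp⟩ := htr
    obtain ⟨q, hq⟩ := small_orbit (by rw [hc]; norm_num) hp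
    have := Subgroup.card_le_of_le (le_stab_of_invariant fun h hh => smul_orbF (H := H) (p := q) hh)
    rw [card_stab_octad (orbit8_octad h5H h5 hq)] at this
    omega

end CfsgLib.Golay
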