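import Cfsg.Agent.Lib.Golay.M24Index
import Cfsg.Agent.Lib.Mathieu.StabOrbits

/-!
Subgroups of orders 887040 (duad stabilisers) and 138240 (sextet stabilisers) of `M24`.
-/

set_option autoImplicit false

namespace CfsgLib.Golay

open Cfsg CfsgLib.Mathieu
open scoped Pointwise

theorem eleven_fix {g : M24} (hg : orderOf g = 11) : (fixPts g).card = 2 := by
  haveI : Fact (Nat.Prime 11) := ⟨by norm_num⟩
  have h1 := fixPts_le_four hg (by norm_num)
  have h2 : (fixPts g).card % 11 = 24 % 11 := fixPts_card_mod (hg ▸ pow_orderOf_eq_one g)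
  omega

theorem card_stab_duad_le {a b : GolayPt} (h : a ≠ b) :
    Nat.card (MulAction.stabilizer M24 ({a, b} : Finset GolayPt)) ≤ 887040 := by
  classical
  have h1 := card_le_mul (le_refl (MulAction.stabilizer M24 ({a, b} : Finset GolayPt)))
    (show a ∈ _ from Finset.mem_insert_self a {b})
  rw [Finset.card_pair h] at h1
  have h2 := Subgroup.card_le_of_le (show MulAction.stabilizer M24 ({a, b} : Finset GolayPt) ⊓
      MulAction.stabilizer M24 a ≤ MulAction.stabilizer M24 a ⊓ MulAction.stabilizer M24 b from
    le_inf inf_le_right (fix_other h inf_le_left inf_le_right))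
  rw [card_stab_two h] at h2
  omega

theorem eq_stab_of_card_one {H : Subgroup M24} {p : GolayPt} (h : (orbF H p).card = 1) :
    H ≤ MulAction.stabilizer M24 p := fun g hg => by
  obtain ⟨r, hr⟩ := Finset.card_eq_one.1 h
  have e1 : g • p ∈ orbF H p := mem_orbF.2 ⟨g, hg, rfl⟩
  have e2 := self_mem_orbF H p
  rw [hr, Finset.mem_singleton] at e1 e2
  exact MulAction.mem_stabilizer_iff.2 (e1.trans e2.symm)

/-- A subgroup of order 887040 is the stabiliser of a duad. -/
theorem sub887040 {H : Subgroup M24} (hc : Nat.card H = 887040) :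
    ∃ s : Finset GolayPt, s.card = 2 ∧ H = MulAction.stabilizer M24 s := by
  classical
  haveI : Fact (Nat.Prime 7) := ⟨by norm_num⟩
  haveI : Fact (Nat.Prime 11) := ⟨by norm_num⟩
  obtain ⟨g7, h7H, h7⟩ := exists_orderOf_of_dvd (H := H) (p := 7) (by rw [hc]; norm_num)
  obtain ⟨g11, h11H, h11⟩ := exists_orderOf_of_dvd (H := H) (p := 11) (by rw [hc]; norm_num)
  by_cases htr : ∀ p, (orbF H p).card = 24
  · exfalso
    have hcp : ∀ p, Nat.card ↥(H ⊓ MulAction.stabilizer M24 p) = 36960 := fun p => by
      have := card_point_stab (htr p)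
      omega
    have hsize : ∀ p q, q ≠ p →
        ((orbF (H ⊓ MulAction.stabilizer M24 p) q).card = 1 ∨
          (orbF (H ⊓ MulAction.stabilizer M24 p) q).card = 22) ∧
          p ∉ orbF (H ⊓ MulAction.stabilizer M24 p) q := by
      intro p q hq
      obtain ⟨K, hK⟩ : ∃ K, K = H ⊓ MulAction.stabilizer M24 p := ⟨_, rfl⟩
      have hcK : Nat.card K = 36960 := hK ▸ hcp p
      obtain ⟨k7, k7K, k7'⟩ := exists_orderOf_of_dvd (H := K) (p := 7) (by rw [hcK]; norm_num)
      obtain ⟨k11, k11K, k11'⟩ := exists_orderOf_of_dvd (H := K) (p := 11) (by rw [hcK]; norm_num)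
      rw [← hK]
      have hfix : ∀ h ∈ K, h • p = p := fun h hh => by rw [hK] at hh; exact hh.2
      have hF : ∀ y ∈ ({p} : Finset GolayPt), ∀ h ∈ K, h • y = y := fun y hy h hh => by
        rw [Finset.mem_singleton.1 hy]; exact hfix h hh
      have hpn : p ∉ orbF K q := fun hmem => by
        obtain ⟨h, hh, e⟩ := mem_orbF.1 hmem
        exact hq (MulAction.injective h (e.trans (hfix h hh).symm))
      have hU : ∀ h ∈ K, h • orbF K q = orbF K q := fun h hh => smul_orbF hh
      have hU' : ∀ h ∈ K, h • insert p (orbF K q) = insert p (orbF K q) := fun h hh => by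
        rw [Finset.smul_finset_insert, hU h hh, hfix h hh]
      have hd1 : Disjoint (orbF K q) {p} := Finset.disjoint_singleton_right.2 hpn
      have hd2 : Disjoint (Finset.univ \ insert p (orbF K q)) {p} :=
        Finset.disjoint_singleton_right.2 (by simp)
      have hn : (Finset.univ \ insert p (orbF K q)).card + ((orbF K q).card + 1) = 24 := by
        rw [← Finset.card_insert_of_notMem hpn,
          Finset.card_sdiff_add_card_eq_card (Finset.subset_univ _), Finset.card_univ]
        simp
      have a1 := invariant_bound k7K k7' hF hU hd1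
      have a2 := invariant_bound k7K k7' hF (smul_compl_of_invariant hU') hd2
      have a3 := invariant_bound k11K k11' hF hU hd1
      have a4 := invariant_bound k11K k11' hF (smul_compl_of_invariant hU') hd2
      rw [seven_fix k7', Finset.card_singleton] at a1 a2
      rw [eleven_fix k11', Finset.card_singleton] at a3 a4
      have hd := hcK ▸ card_orbF_dvd K q
      have hpos : 0 < (orbF K q).card := Finset.card_pos.2 ⟨q, self_mem_orbF K q⟩
      refine ⟨?_, hpn⟩
      generalize (Finset.univ \ insert p (orbF K q)).card = m at hn a2 a4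
      generalize (orbF K q).card = n at hn a1 a3 hd hpos ⊢
      obtain rfl : m = 23 - n := by omega
      have hn23 : n ≤ 23 := by omega
      interval_cases n <;> omega
    have hfun : ∀ p : GolayPt, ∃! q : GolayPt, q ≠ p ∧ H ⊓ MulAction.stabilizer M24 p ≤
        MulAction.stabilizer M24 q := by
      intro p
      obtain ⟨r, hr⟩ := exists_ne p
      have hex : ∃ q, q ≠ p ∧ (orbF (H ⊓ MulAction.stabilizer M24 p) q).card = 1 := by
        rcases (hsize p r hr).1 with h | h
        · exact ⟨r, hr, h⟩
        obtain ⟨q, -, hq⟩ := Finset.exists_mem_notMem_of_card_lt_card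
          (show (insert p (orbF (H ⊓ MulAction.stabilizer M24 p) r)).card <
              (Finset.univ : Finset GolayPt).card by
            rw [Finset.card_insert_of_notMem (hsize p r hr).2, h]; simp)
        rw [Finset.mem_insert, not_or] at hq
        refine ⟨q, hq.1, (hsize p q hq.1).1.resolve_right fun h2 => ?_⟩
        have h3 := Finset.card_le_univ (orbF (H ⊓ MulAction.stabilizer M24 p) q ∪
          orbF (H ⊓ MulAction.stabilizer M24 p) r)
        rw [Finset.card_union_of_disjoint (orbF_disjoint hq.2), h, h2,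
          show Fintype.card GolayPt = 24 by simp] at h3
        omega
      obtain ⟨q, hq, h1⟩ := hex
      refine ⟨q, ⟨hq, eq_stab_of_card_one h1⟩, fun q' ⟨hq', h'⟩ => ?_⟩
      by_contra hne
      obtain ⟨k, hk, hk'⟩ := exists_orderOf_of_dvd (H := H ⊓ MulAction.stabilizer M24 p) (p := 11)
        (by rw [hcp p]; norm_num)
      have h3 : ({p, q, q'} : Finset GolayPt).card ≤ (fixPts k).card := Finset.card_le_card (by
        simp only [Finset.insert_subset_iff, Finset.singleton_subset_iff]
        exact ⟨fix_of_mem_inf hk.2, fix_of_mem_inf (eq_stab_of_card_one h1 hk),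
          fix_of_mem_inf (h' hk)⟩)
      rw [eleven_fix hk',
        Finset.card_eq_three.2 ⟨p, q, q', hq.symm, hq'.symm, fun e => hne e.symm, rfl⟩] at h3
      omega
    choose f hf hf' using hfun
    have hequiv : ∀ h ∈ H, ∀ p, f (h • p) = h • f p := fun h hh p => by
      refine (hf' (h • p) (h • f p) ⟨fun e => (hf p).1 (MulAction.injective h e), fun g hg => ?_⟩).symm
      have h1 := MulAction.mem_stabilizer_iff.1 ((hf p).2 (x := h⁻¹ * g * h)
        ⟨H.mul_mem (H.mul_mem (H.inv_mem hh) hg.1) hh,
          MulAction.mem_stabilizer_iff.2 (conj_fix hg.2)⟩)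
      rw [mul_smul, mul_smul, inv_smul_eq_iff] at h1
      exact MulAction.mem_stabilizer_iff.2 h1
    have hinv : ∀ p, f (f p) = p := fun p => by
      refine (hf' (f p) p ⟨(hf p).1.symm, ?_⟩).symm
      rw [← Subgroup.eq_of_le_of_card_ge (le_inf inf_le_left (hf p).2 :
        H ⊓ MulAction.stabilizer M24 p ≤ H ⊓ MulAction.stabilizer M24 (f p))
        (by rw [hcp, hcp])]
      exact inf_le_right
    have hmem : ∀ x ∈ fixPts g7, f x ∈ fixPts g7 := fun x hx => by
      refine fix_of_mem_inf ?_
      rw [← hequiv g7 h7H, (Finset.mem_filter.1 hx).2]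
    obtain ⟨a, b, c, hab, hac, hbc, he⟩ := Finset.card_eq_three.1 (seven_fix h7)
    have h1 := hmem a (by rw [he]; simp)
    have h2 := hmem b (by rw [he]; simp)
    have h3 := hmem c (by rw [he]; simp)
    rw [he] at h1 h2 h3
    simp only [Finset.mem_insert, Finset.mem_singleton] at h1 h2 h3
    rcases h1 with h1 | h1 | h1
    · exact (hf a).1 h1
    · have e : f b = a := h1 ▸ hinv a
      rcases h3 with h3 | h3 | h3
      · exact hbc ((h1.symm.trans ((congrArg f h3.symm).trans (hinv c))))
      · exact hac (e.symm.trans ((congrArg f h3.symm).trans (hinv c)))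
      · exact (hf c).1 h3
    · have e : f c = a := h1 ▸ hinv a
      rcases h2 with h2 | h2 | h2
      · exact hbc ((h1.symm.trans ((congrArg f h2.symm).trans (hinv b))).symm)
      · exact (hf b).1 h2
      · exact hab (e.symm.trans ((congrArg f h2.symm).trans (hinv b)))
  · push Not at htr
    obtain ⟨p, hp⟩ := htr
    have hsize : ∀ q, (orbF H q).card ∈ [1, 2, 22, 23, 24] := by
      intro q
      have hU : ∀ h ∈ H, h • orbF H q = orbF H q := fun h hh => smul_orbF hh
      have hF : ∀ y ∈ (∅ : Finset GolayPt), ∀ h ∈ H, h • y = y := fun y hy => by simp at hy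
      have a1 := invariant_bound h7H h7 hF hU (Finset.disjoint_empty_right _)
      have a2 := invariant_bound h7H h7 hF (smul_compl_of_invariant hU)
        (Finset.disjoint_empty_right _)
      have a3 := invariant_bound h11H h11 hF hU (Finset.disjoint_empty_right _)
      have a4 := invariant_bound h11H h11 hF (smul_compl_of_invariant hU)
        (Finset.disjoint_empty_right _)
      rw [seven_fix h7, Finset.card_empty] at a1 a2
      rw [eleven_fix h11, Finset.card_empty] at a3 a4
      have hn : (Finset.univ \ orbF H q).card + (orbF H q).card = 24 := by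
        rw [Finset.card_sdiff_add_card_eq_card (Finset.subset_univ _), Finset.card_univ]
        simp
      have hpos : 0 < (orbF H q).card := Finset.card_pos.2 ⟨q, self_mem_orbF H q⟩
      generalize (Finset.univ \ orbF H q).card = m at hn a2 a4
      generalize (orbF H q).card = n at hn a1 a3 hpos ⊢
      obtain rfl : m = 24 - n := by omega
      have hn24 : n ≤ 24 := by omega
      interval_cases n <;> first
        | (simp; done)
        | omega
    obtain ⟨q, hq⟩ : ∃ q, (orbF H q).card = 1 ∨ (orbF H q).card = 2 := by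
      have hp' := hsize p
      simp only [List.mem_cons, List.not_mem_nil, or_false] at hp'
      by_cases h : (orbF H p).card ≤ 2
      · exact ⟨p, by omega⟩
      obtain ⟨q, -, hq⟩ := Finset.exists_mem_notMem_of_card_lt_card
        (show (orbF H p).card < (Finset.univ : Finset GolayPt).card by
          have := card_orbF_le H p; simp; omega)
      have h6 := Finset.card_le_univ (orbF H q ∪ orbF H p)
      rw [Finset.card_union_of_disjoint (orbF_disjoint hq),
        show Fintype.card GolayPt = 24 by simp] at h6
      have hq' := hsize q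
      simp only [List.mem_cons, List.not_mem_nil, or_false] at hq'
      exact ⟨q, by omega⟩
    rcases hq with hq | hq
    · have h := Subgroup.card_dvd_of_le (eq_stab_of_card_one hq)
      rw [hc, card_stab_one] at h
      norm_num at h
    · refine ⟨_, hq, Subgroup.eq_of_le_of_card_ge (le_stab_of_invariant fun h hh => smul_orbF hh) ?_⟩
      obtain ⟨a, b, hab, he⟩ := Finset.card_eq_two.1 hq
      rw [hc, he]
      exact card_stab_duad_le hab

theorem card_kerO_five {s : Finset GolayPt} (hs : s.card = 5) : Nat.card (kerO s) = 48 := by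
  classical
  let e := (finCongr hs.symm).trans s.equivFin.symm
  let x : Fin 5 ↪ GolayPt := e.toEmbedding.trans (Function.Embedding.subtype _)
  have h : kerO s = MulAction.stabilizer M24 x := by
    ext g
    rw [mem_kerO]
    refine ⟨fun h => MulAction.mem_stabilizer_iff.2 (DFunLike.ext _ _ fun i => h _ (e i).2),
      fun h q hq => ?_⟩
    have h' := DFunLike.congr_fun (MulAction.mem_stabilizer_iff.1 h) (e.symm ⟨q, hq⟩)
    have e' : x (e.symm ⟨q, hq⟩) = q := by simp [x]
    rw [e'] at h'
    exact (congrArg (g • ·) e'.symm).trans h'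
  rw [h, card_five_stab]

theorem card_stab_sextet_le {S : Finset (Finset GolayPt)} (hS : S ∈ sextets) :
    Nat.card (MulAction.stabilizer M24 S) ≤ 138240 := by
  have h := Nat.card_congr (MulAction.orbitProdStabilizerEquivGroup M24 S)
  rw [Nat.card_prod, Nat.card_coe_set_eq, card_M24] at h
  have h1 : 1771 ≤ (MulAction.orbit M24 S).ncard := by
    rw [← sextets_ncard]
    exact Set.ncard_le_ncard fun X hX => sextet_move hS hX
  nlinarith [Nat.mul_le_mul_right (Nat.card (MulAction.stabilizer M24 S)) h1]

/-- A subgroup of order 138240 is the stabiliser of a sextet. -/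
theorem sub138240 {H : Subgroup M24} (hc : Nat.card H = 138240) :
    ∃ S ∈ sextets, H = MulAction.stabilizer M24 S := by
  classical
  haveI : Fact (Nat.Prime 5) := ⟨by norm_num⟩
  obtain ⟨g5, h5H, h5⟩ := exists_orderOf_of_dvd (H := H) (p := 5) (by rw [hc]; norm_num)
  by_cases htr : ∀ p, (orbF H p).card = 24
  · have hcp : ∀ p, Nat.card ↥(H ⊓ MulAction.stabilizer M24 p) = 5760 := fun p => by
      have := card_point_stab (htr p)
      omega
    have hcase : ∀ p, (∃ o ∈ octads, p ∈ o ∧
        H ⊓ MulAction.stabilizer M24 p ≤ MulAction.stabilizer M24 o ∧ kerO o ≤ H) ∨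
        ∃ R : Finset GolayPt, R.card = 3 ∧ p ∉ R ∧
          H ⊓ MulAction.stabilizer M24 p ≤ MulAction.stabilizer M24 R := by
      intro p
      obtain ⟨o, ho, hpo, hK⟩ := exists_kerO_le
        (inf_le_right : H ⊓ MulAction.stabilizer M24 p ≤ _) (by rw [hcp]; norm_num)
      obtain ⟨R, hR, hRinv, n, hn, hRn, hn16⟩ := big_orbit ho hpo inf_le_right hK
      rw [hcp] at hn
      by_cases h5R : 5 ≤ R.card
      · exact Or.inl ⟨o, ho, hpo,
          stab_octad_of_seven ho (hR.trans (Finset.erase_subset _ _)) h5R hRinv,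
          hK.trans inf_le_left⟩
      · refine Or.inr ⟨R, ?_, fun h => (Finset.mem_erase.1 (hR h)).1 rfl, hRinv⟩
        have : n ≤ 23 := by omega
        interval_cases n <;> omega
    by_cases hall : ∀ p, ∃ o ∈ octads, p ∈ o ∧
        H ⊓ MulAction.stabilizer M24 p ≤ MulAction.stabilizer M24 o ∧ kerO o ≤ H
    · exact (octad_block_false h5H h5 hall).elim
    obtain ⟨p0, hp0⟩ := not_forall.1 hall
    obtain ⟨R, hR3, hpR, hRinv⟩ := (hcase p0).resolve_left hp0
    let P : GolayPt → Finset GolayPt → Prop := fun p T => p ∈ T ∧ T.card = 4 ∧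
      H ⊓ MulAction.stabilizer M24 p ≤ MulAction.stabilizer M24 (T.erase p) ∧
      ∀ g ∈ H, g • p = p → orderOf g = 5 → fixPts g = T
    have hbase : P p0 (insert p0 R) := by
      refine ⟨Finset.mem_insert_self _ _, by rw [Finset.card_insert_of_notMem hpR, hR3], ?_, ?_⟩
      · rw [Finset.erase_insert hpR]; exact hRinv
      intro g hgH hgp hg
      have hgR : g • R = R :=
        MulAction.mem_stabilizer_iff.1 (hRinv ⟨hgH, MulAction.mem_stabilizer_iff.2 hgp⟩)
      have hmod : R.card % 5 = (R ∩ fixPts g).card % 5 :=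
        invariant_modEq (hg ▸ pow_orderOf_eq_one g) hgR
      have hle : (R ∩ fixPts g).card ≤ R.card := Finset.card_le_card Finset.inter_subset_left
      have hsub : R ⊆ fixPts g := Finset.inter_eq_left.1
        (Finset.eq_of_subset_of_card_le Finset.inter_subset_left (by omega))
      exact (Finset.eq_of_subset_of_card_le (Finset.insert_subset (fix_of_mem_inf hgp) hsub)
        (by rw [five_fix hg, Finset.card_insert_of_notMem hpR, hR3])).symm
    have hequiv : ∀ h ∈ H, ∀ p T, P p T → P (h • p) (h • T) := by
      rintro h hh p T ⟨hp, hT, hst, hfix⟩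
      refine ⟨Finset.smul_mem_smul_finset hp, by rw [Finset.card_smul_finset, hT], ?_, ?_⟩
      · rw [Finset.erase_eq, ← Finset.smul_finset_singleton, ← Finset.smul_finset_sdiff,
          ← Finset.erase_eq]
        exact stab_conj hh hst
      intro g hgH hgp hg
      rw [← hfix (h⁻¹ * g * h) (H.mul_mem (H.mul_mem (H.inv_mem hh) hgH) hh) (conj_fix hgp)]
      · ext q
        simp only [fixPts, Finset.mem_filter, Finset.mem_univ, true_and,
          ← Finset.inv_smul_mem_iff, mul_smul, smul_inv_smul, smul_left_cancel_iff]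
      · rw [← hg, show h⁻¹ * g * h = MulAut.conj h⁻¹ g by simp, MulEquiv.orderOf_eq]
    have hexP : ∀ p, ∃ T, P p T := fun p => by
      have : p ∈ orbF H p0 := by
        rw [Finset.eq_univ_of_card (orbF H p0) (by rw [htr p0]; simp)]; exact Finset.mem_univ _
      obtain ⟨h, hh, rfl⟩ := mem_orbF.1 this
      exact ⟨_, hequiv h hh _ _ hbase⟩
    have huniq : ∀ p q T T', P p T → q ∈ T → P q T' → T' = T := by
      rintro p q T T' ⟨-, -, -, hfix⟩ hq ⟨-, -, -, hfix'⟩
      obtain ⟨g, hg, h5g⟩ := exists_orderOf_of_dvd (H := H ⊓ MulAction.stabilizer M24 p) (p := 5)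
        (by rw [hcp]; norm_num)
      have hT := hfix g hg.1 hg.2 h5g
      exact (hfix' g hg.1 (Finset.mem_filter.1 (hT ▸ hq : q ∈ fixPts g)).2 h5g).symm.trans hT
    obtain ⟨F, hF, hinv, hcard, hdis⟩ := block_family H 4 P hexP (fun p T h => ⟨h.1, h.2.1⟩)
      huniq hequiv
    have hb : ∀ T ∈ F, T.card = 4 := fun T hT => by obtain ⟨p, hp⟩ := (hF T).1 hT; exact hp.2.1
    have hoct : ∀ T ∈ F, ∀ U ∈ F, T ≠ U → T ∪ U ∈ octads := by
      intro T hT U hU hne
      obtain ⟨p, hp, hpT, hst, -⟩ := (hF T).1 hT
      obtain ⟨r, hr⟩ := Finset.card_pos.1 (show 0 < U.card by rw [hb U hU]; norm_num)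
      have hdTU : Disjoint T U := hdis hT hU hne
      have hrT : r ∉ T := Finset.disjoint_right.1 hdTU hr
      obtain ⟨a, b, c, hab, hac, hbc, he⟩ := Finset.card_eq_three.1
        (show (T.erase p).card = 3 by rw [Finset.card_erase_of_mem hp, hpT])
      rw [he] at hst
      obtain ⟨A, hA⟩ : ∃ A, A = H ⊓ MulAction.stabilizer M24 p := ⟨_, rfl⟩
      rw [← hA] at hst
      have h1 := card_le_mul hst (show a ∈ _ from Finset.mem_insert_self a {b, c})
      have hbcinv : A ⊓ MulAction.stabilizer M24 a ≤
          MulAction.stabilizer M24 ({b, c} : Finset GolayPt) := fun g hg => by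
        refine MulAction.mem_stabilizer_iff.2 ?_
        have e : ({b, c} : Finset GolayPt) = ({a, b, c} : Finset GolayPt).erase a :=
          (Finset.erase_insert (by simp [hab, hac])).symm
        rw [e, Finset.erase_eq, Finset.smul_finset_sdiff,
          MulAction.mem_stabilizer_iff.1 (hst hg.1), Finset.smul_finset_singleton,
          MulAction.mem_stabilizer_iff.1 hg.2]
      have h2 := card_le_mul hbcinv (show b ∈ _ from Finset.mem_insert_self b {c})
      obtain ⟨L, hL⟩ : ∃ L, L = A ⊓ MulAction.stabilizer M24 a ⊓ MulAction.stabilizer M24 b :=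
        ⟨_, rfl⟩
      rw [← hL] at h2
      have hLc : L ≤ MulAction.stabilizer M24 c :=
        hL ▸ fix_other hbc (inf_le_left.trans hbcinv) inf_le_right
      have hLT : ∀ g ∈ L, ∀ q ∈ T, g • q = q := fun g hg q hq => by
        have hgc := MulAction.mem_stabilizer_iff.1 (hLc hg)
        rw [hL, hA] at hg
        by_cases hqp : q = p
        · rw [hqp]; exact hg.1.1.2
        · have hq' : q ∈ T.erase p := Finset.mem_erase.2 ⟨hqp, hq⟩
          rw [he, Finset.mem_insert, Finset.mem_insert, Finset.mem_singleton] at hq'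
          rcases hq' with rfl | rfl | rfl
          · exact hg.1.2
          · exact hg.2
          · exact hgc
      have h3 := card_le_mul (U := Finset.univ \ T) (a := r) (K := L)
        (le_stab_of_invariant (smul_compl_of_invariant fun g hg =>
          smul_eq_of_subset fun q hq => by rwa [hLT g hg q hq]))
        (Finset.mem_sdiff.2 ⟨Finset.mem_univ _, hrT⟩)
      have h5s : (insert r T).card = 5 := by rw [Finset.card_insert_of_notMem hrT, hpT]
      have hker : L ⊓ MulAction.stabilizer M24 r ≤ kerO (insert r T) := fun g hg =>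
        mem_kerO.2 fun q hq => by
          rcases Finset.mem_insert.1 hq with rfl | hq
          · exact hg.2
          · exact hLT g hg.1 q hq
      rw [show Nat.card A = 5760 from hA ▸ hcp p,
        Finset.card_eq_three.2 ⟨a, b, c, hab, hac, hbc, rfl⟩] at h1
      rw [Finset.card_pair hbc] at h2
      rw [Finset.card_sdiff_of_subset (Finset.subset_univ _), Finset.card_univ, hpT,
        show Fintype.card GolayPt = 24 by simp] at h3
      have e5 := Subgroup.eq_of_le_of_card_ge hker (by rw [card_kerO_five h5s]; omega)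
      obtain ⟨o, ⟨ho, hso⟩, -⟩ := octad_exists_unique h5s
      have hKH : kerO o ≤ H := fun g hg => by
        have hg' : g ∈ L ⊓ MulAction.stabilizer M24 r :=
          e5.ge (mem_kerO.2 fun q hq => mem_kerO.1 hg q (hso hq))
        rw [hL, hA] at hg'
        exact hg'.1.1.1.1
      obtain ⟨W, hW⟩ := hexP r
      obtain ⟨p', hp'⟩ := (hF U).1 hU
      obtain rfl : W = U := huniq p' r U W hp' hr hW
      have hUo : W.erase r ⊆ o := subset_of_kerO ho
        ((le_inf hKH (kerO_le_point (hso (Finset.mem_insert_self r T)))).trans hW.2.2.1)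
        (by rw [Finset.card_erase_of_mem hr, hW.2.1]; norm_num)
      have hsub : T ∪ W ⊆ o := Finset.union_subset ((Finset.subset_insert _ _).trans hso)
        fun y hy => if h : y = r then h ▸ hso (Finset.mem_insert_self r T)
          else hUo (Finset.mem_erase.2 ⟨h, hy⟩)
      rw [Finset.eq_of_subset_of_card_le hsub
        (by rw [Finset.card_union_of_disjoint hdTU, hpT, hW.2.1, ho.2])]
      exact ho
    exact ⟨F, ⟨by omega, hb, hoct⟩, Subgroup.eq_of_le_of_card_ge
      (fun h hh => MulAction.mem_stabilizer_iff.2 (hinv h hh))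
      (hc.symm ▸ card_stab_sextet_le ⟨by omega, hb, hoct⟩)⟩
  · push Not at htr
    obtain ⟨p, hp⟩ := htr
    obtain ⟨q, hq⟩ := small_orbit (by rw [hc]; norm_num) hp
    have := Subgroup.card_dvd_of_le (le_stab_of_invariant fun h hh => smul_orbF (H := H) (p := q) hh)
    rw [hc, card_stab_octad (orbit8_octad h5H h5 hq)] at this
    norm_num at this

end CfsgLib.Golay
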