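import Cfsg.Agent.Lib.Golay.Co0Mono

/-!
# Elements of `Co0` given by integer matrices

A decidable membership test for the lattice, a finite generating set, and the element of `Co0`
given by an integer matrix `M` with `M x / 8` in the lattice for each lattice vector `x`.
-/

set_option autoImplicit false
set_option maxRecDepth 100000

namespace CfsgLib.Golay

open Cfsg

/-- Halved vector after removing the parity. -/
def latHalf (x : GolayPt → ℤ) : GolayPt → ℤ := fun i => (x i - x (pt 0) % 2) / 2

/-- The systematic coordinates of the parity word of `latHalf x`. -/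
def latKey (x : GolayPt → ℤ) : ℕ :=
  (List.range 12).foldl (fun k i => if latHalf x (pt i) % 2 = 1 then k + 2 ^ i else k) 0

/-- Membership test for the lattice. -/
def inLat (x : GolayPt → ℤ) : Bool :=
  let a := latHalf x
  let w := enc (latKey x)
  (List.range 24).all (fun i => decide ((x (pt i) - x (pt 0) % 2) % 2 = 0) &&
      (w.testBit i == decide (a (pt i) % 2 = 1))) &&
    decide (latKey x < 4096) &&
    decide ((((List.range 24).map fun i => a (pt i)).sum - 2 * (x (pt 0) % 2)) % 4 = 0)

theorem sum_pt_list (a : GolayPt → ℤ) : ((List.range 24).map fun i => a (pt i)).sum = ∑ p, a p := by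
  have h : ((List.range 24).map pt).Nodup ∧ ((List.range 24).map pt).toFinset = Finset.univ := by
    decide +kernel
  rw [← h.2, List.sum_toFinset a h.1, List.map_map]
  rfl

theorem inLat_mem {x : GolayPt → ℤ} (h : inLat x = true) : x ∈ leechLattice := by
  simp only [inLat, Bool.and_eq_true, List.all_eq_true, List.mem_range, decide_eq_true_iff,
    beq_iff_eq] at h
  obtain ⟨⟨h1, hk⟩, h3⟩ := h
  refine mem_leechLattice_iff.2 ⟨x (pt 0) % 2, latHalf x, fun p => ?_, ?_, ?_⟩
  · have := (h1 _ (idx_lt p)).1
    rw [pt_idx] at this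
    simp only [latHalf]
    omega
  · have e : mod2 (latHalf x) = mword (enc (latKey x)) := by
      funext p
      have := (h1 _ (idx_lt p)).2
      rw [pt_idx] at this
      simp only [mword, mod2, this, decide_eq_true_iff]
      rcases Int.emod_two_eq_zero_or_one (latHalf x p) with h2 | h2 <;> simp only [h2, if_true,
        zero_ne_one, if_false]
      · exact (ZMod.intCast_zmod_eq_zero_iff_dvd _ 2).2 (Int.dvd_of_emod_eq_zero h2)
      · rw [show latHalf x p = 2 * (latHalf x p / 2) + 1 by omega]
        push_cast
        rw [show (2 : ZMod 2) = 0 from rfl, zero_mul, zero_add]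
    rw [e]
    exact mword_enc_mem_submodule golayCode (fun g hg => gens_mem hg) _
  · rw [← sum_pt_list]
    exact Int.dvd_of_emod_eq_zero h3

/-- The odd generator. -/
def oddGen : GolayPt → ℤ := fun i => if i = pinf then -3 else 1

/-- A generating list of the lattice. -/
def latGens : List (GolayPt → ℤ) :=
  oddGen :: (gens.map fun g => fun i => if g.testBit (idx i) then 2 else 0) ++
    ((List.range 24).map fun j => Pi.single pinf 4 + Pi.single (pt j) 4)

/-- A subgroup containing the generating list contains the lattice. -/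
theorem leech_le_of_gens {S : AddSubgroup (GolayPt → ℤ)} (h : ∀ v ∈ latGens, v ∈ S) :
    leechLattice ≤ S := by
  classical
  intro x hx
  obtain ⟨m, a, h1, h2, h3⟩ := mem_leechLattice_iff.1 hx
  let W : Submodule (ZMod 2) (GolayPt → ZMod 2) :=
    { carrier := {w | ∃ c : GolayPt → ℤ, mod2 c = w ∧ (4 : ℤ) ∣ ∑ i, c i ∧ (2 : ℤ) • c ∈ S}
      zero_mem' := ⟨0, by funext i; simp [mod2], by simp, by simp⟩
      add_mem' := by
        rintro _ _ ⟨c, rfl, hc, hcS⟩ ⟨d, rfl, hd, hdS⟩
        refine ⟨c + d, mod2_add c d, ?_, by rw [smul_add]; exact S.add_mem hcS hdS⟩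
        simp only [Pi.add_apply, Finset.sum_add_distrib]
        exact dvd_add hc hd
      smul_mem' := by
        intro t w hw
        rcases (show ∀ c : ZMod 2, c = 0 ∨ c = 1 by decide) t with rfl | rfl
        · rw [zero_smul]; exact ⟨0, by funext i; simp [mod2], by simp, by simp⟩
        · rwa [one_smul] }
  have hW : ∀ g ∈ gens, mword g ∈ W := by
    intro g hg
    refine ⟨fun i => if g.testBit (idx i) then 1 else 0, ?_, ?_, ?_⟩
    · funext i; simp only [mod2, mword]; split_ifs <;> simp
    · have key : ∀ g ∈ gens, (∑ i : GolayPt, if g.testBit (idx i) then (1 : ℤ) else 0) = 8 ∨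
          (∑ i : GolayPt, if g.testBit (idx i) then (1 : ℤ) else 0) = 12 := by decide +kernel
      rcases key g hg with e | e <;> rw [e] <;> norm_num
    · convert h _ (List.mem_append.2 (Or.inl (List.mem_cons_of_mem _ (List.mem_map.2 ⟨g, hg, rfl⟩)))) using 1
      funext i
      simp only [Pi.smul_apply, smul_eq_mul]
      split_ifs <;> simp
  -- remove the odd part
  set a' : GolayPt → ℤ := fun i => a i + if i = pinf then 2 * m else 0 with ha'
  have hx' : x = m • oddGen + (2 : ℤ) • a' := by
    funext i
    simp only [Pi.add_apply, Pi.smul_apply, smul_eq_mul, oddGen, ha', h1 i]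
    split_ifs <;> ring
  have hma : mod2 a' = mod2 a := mod2_eq_iff.2 fun i => by
    simp only [ha']; split_ifs <;> omega
  have hsum : ∑ i, a' i = ∑ i, a i + 2 * m := by
    simp only [ha', Finset.sum_add_distrib, Finset.sum_ite_eq', Finset.mem_univ, if_true]
  obtain ⟨c, hc, hc4, hcS⟩ : mod2 a' ∈ W := by
    obtain ⟨mk, hmk, e⟩ := mem_supports_iff.1 (mem_supports_word.2 h2)
    rw [← support_mword] at e
    rw [hma, ← support₂_injective e, ← isCode_iff.1 hmk]
    exact mword_enc_mem_submodule W hW _
  set b : GolayPt → ℤ := fun i => (a' i - c i) / 2 with hb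
  have hb2 : ∀ i, a' i = c i + 2 * b i := fun i => by
    have := mod2_eq_iff.1 hc.symm i
    simp only [hb]; omega
  have hbs : (2 : ℤ) ∣ ∑ i, b i := by
    have : ∑ i, a' i = ∑ i, c i + 2 * ∑ i, b i := by
      rw [Finset.mul_sum, ← Finset.sum_add_distrib]; exact Finset.sum_congr rfl fun i _ => hb2 i
    omega
  have hpair : ∀ p : GolayPt, (Pi.single pinf 4 + Pi.single p 4 : GolayPt → ℤ) ∈ S := fun p => by
    refine h _ (List.mem_append.2 (Or.inr (List.mem_map.2 ⟨idx p, List.mem_range.2 (idx_lt p), ?_⟩)))
    rw [pt_idx]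
  obtain ⟨k, hk⟩ := hbs
  have h4b : (4 : ℤ) • b = ∑ p, b p • (Pi.single pinf 4 + Pi.single p 4 : GolayPt → ℤ) -
      k • (Pi.single pinf 4 + Pi.single pinf 4) := by
    funext i
    simp only [Pi.smul_apply, smul_eq_mul, Pi.sub_apply, Finset.sum_apply, Pi.add_apply, mul_add,
      Finset.sum_add_distrib, Pi.single_apply]
    by_cases hi : i = pinf
    · subst hi
      simp only [if_true, mul_ite, mul_zero, Finset.sum_ite_eq, Finset.mem_univ]
      rw [← Finset.sum_mul, hk]; ring
    · simp only [hi, if_false, mul_zero, Finset.sum_const_zero, zero_add, mul_ite, Finset.sum_ite_eq,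
        Finset.mem_univ, if_true, sub_zero]
      ring
  rw [hx', show (2 : ℤ) • a' = (2 : ℤ) • c + (4 : ℤ) • b from funext fun i => by
    simp only [Pi.add_apply, Pi.smul_apply, smul_eq_mul, hb2 i]; ring]
  refine S.add_mem (S.zsmul_mem (h _ List.mem_cons_self) m) (S.add_mem hcS ?_)
  rw [h4b]
  exact S.sub_mem (sum_mem fun p _ => S.zsmul_mem (hpair p) _) (S.zsmul_mem (hpair pinf) k)

/-- `M x / 8`. -/
def matFun (M : GolayPt → GolayPt → ℤ) (x : GolayPt → ℤ) : GolayPt → ℤ := fun i => dotInt (M i) x / 8

/-- The matrix maps the lattice to itself, checked on the generators. -/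
def matKeeps (M : GolayPt → GolayPt → ℤ) : Bool :=
  latGens.all fun v => (List.range 24).all (fun i => decide (dotInt (M (pt i)) v % 8 = 0)) &&
    inLat (matFun M v)

theorem matKeeps_spec {M : GolayPt → GolayPt → ℤ} (h : matKeeps M = true) {x : GolayPt → ℤ}
    (hx : x ∈ leechLattice) :
    (∀ i, 8 * matFun M x i = dotInt (M i) x) ∧ matFun M x ∈ leechLattice := by
  have hl : ∀ (i : GolayPt) (u w : GolayPt → ℤ), dotInt (M i) (u + w) = dotInt (M i) u + dotInt (M i) w :=
    fun i u w => by simp only [dotInt, Pi.add_apply, mul_add, Finset.sum_add_distrib]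
  have hn : ∀ (i : GolayPt) (u : GolayPt → ℤ), dotInt (M i) (-u) = -dotInt (M i) u :=
    fun i u => by simp only [dotInt, Pi.neg_apply, mul_neg, Finset.sum_neg_distrib]
  let S : AddSubgroup (GolayPt → ℤ) :=
    { carrier := {u | (∀ i, 8 * matFun M u i = dotInt (M i) u) ∧ matFun M u ∈ leechLattice}
      zero_mem' := by
        refine ⟨fun i => by simp [matFun, dotInt], ?_⟩
        rw [show matFun M 0 = 0 from funext fun i => by simp [matFun, dotInt]]
        exact leechLattice.zero_mem
      add_mem' := by
        rintro u w ⟨hu, hu'⟩ ⟨hw, hw'⟩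
        have e : matFun M (u + w) = matFun M u + matFun M w := funext fun i => by
          show _ / 8 = _
          rw [hl, ← hu i, ← hw i, ← mul_add, Int.mul_ediv_cancel_left _ (by norm_num : (8 : ℤ) ≠ 0)]
          rfl
        refine ⟨fun i => ?_, e ▸ leechLattice.add_mem hu' hw'⟩
        rw [e, hl, ← hu i, ← hw i, Pi.add_apply, mul_add]
      neg_mem' := by
        rintro u ⟨hu, hu'⟩
        have e : matFun M (-u) = -matFun M u := funext fun i => by
          show _ / 8 = _
          rw [hn, ← hu i, ← mul_neg, Int.mul_ediv_cancel_left _ (by norm_num : (8 : ℤ) ≠ 0)]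
          rfl
        refine ⟨fun i => ?_, e ▸ leechLattice.neg_mem hu'⟩
        rw [e, hn, ← hu i, Pi.neg_apply, mul_neg] }
  refine leech_le_of_gens (S := S) (fun v hv => ?_) hx
  simp only [matKeeps, List.all_eq_true, Bool.and_eq_true, decide_eq_true_iff, List.mem_range] at h
  obtain ⟨h1, h2⟩ := h v hv
  refine ⟨fun i => ?_, inLat_mem h2⟩
  have := h1 _ (idx_lt i)
  rw [pt_idx] at this
  simp only [matFun]
  omega

/-- `M` is `8` times an orthogonal matrix. -/
def matOrth (M : GolayPt → GolayPt → ℤ) : Bool :=
  (List.range 24).all fun a => (List.range 24).all fun b =>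
    decide (((List.range 24).map fun i => M (pt i) (pt a) * M (pt i) (pt b)).sum = if a = b then 64 else 0)

theorem matOrth_spec {M : GolayPt → GolayPt → ℤ} (h : matOrth M = true) (p q : GolayPt) :
    ∑ i, M i p * M i q = if p = q then 64 else 0 := by
  simp only [matOrth, List.all_eq_true, List.mem_range, decide_eq_true_iff] at h
  have := h _ (idx_lt p) _ (idx_lt q)
  rw [pt_idx, pt_idx, sum_pt_list (fun i => M i p * M i q)] at this
  rw [this]
  by_cases e : p = q
  · simp [e]
  · rw [if_neg e, if_neg fun h' : idx p = idx q => e (idx_injective h')]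

theorem matOrth_dot {M : GolayPt → GolayPt → ℤ} (h : matOrth M = true) (x y : GolayPt → ℤ) :
    ∑ i, dotInt (M i) x * dotInt (M i) y = 64 * dotInt x y := by
  simp only [dotInt, Finset.sum_mul, Finset.mul_sum]
  rw [Finset.sum_comm]
  refine Finset.sum_congr rfl fun p _ => ?_
  rw [Finset.sum_comm]
  show ∑ q, ∑ i, _ = _
  have : ∀ q, ∑ i, M i q * x q * (M i p * y p) = (∑ i, M i q * M i p) * (x q * y p) := fun q => by
    rw [Finset.sum_mul]; exact Finset.sum_congr rfl fun i _ => by ring
  refine (Finset.sum_congr rfl fun q _ => this q).trans ?_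
  simp only [matOrth_spec h, ite_mul, zero_mul, Finset.sum_ite_eq', Finset.mem_univ, if_true]

theorem matFun_sqNorm {M : GolayPt → GolayPt → ℤ} (hk : matKeeps M = true) (ho : matOrth M = true)
    {x : GolayPt → ℤ} (hx : x ∈ leechLattice) : sqNorm (matFun M x) = sqNorm x := by
  have h8 := (matKeeps_spec hk hx).1
  have h := matOrth_dot ho x x
  simp only [← h8, dotInt_self] at h
  have : ∑ i, 8 * matFun M x i * (8 * matFun M x i) = 64 * sqNorm (matFun M x) := by
    rw [sqNorm, Finset.mul_sum]; exact Finset.sum_congr rfl fun i _ => by ring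
  rw [this] at h
  omega

/-- The transposed matrix. -/
def matT (M : GolayPt → GolayPt → ℤ) : GolayPt → GolayPt → ℤ := fun i j => M j i

theorem matFun_inv {M : GolayPt → GolayPt → ℤ} (hk : matKeeps M = true) (ho : matOrth M = true)
    {x : GolayPt → ℤ} (hx : x ∈ leechLattice) : matFun (matT M) (matFun M x) = x := by
  have h8 := (matKeeps_spec hk hx).1
  funext p
  have : 8 * dotInt (matT M p) (matFun M x) = 64 * x p := by
    rw [dotInt, Finset.mul_sum]
    simp only [mul_left_comm (8 : ℤ), h8, matT]
    simp only [dotInt, Finset.mul_sum]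
    rw [Finset.sum_comm]
    have : ∀ q, ∑ i, M i p * (M i q * x q) = (∑ i, M i p * M i q) * x q := fun q => by
      rw [Finset.sum_mul]; exact Finset.sum_congr rfl fun i _ => by ring
    simp only [this, matOrth_spec ho, ite_mul, zero_mul, Finset.sum_ite_eq, Finset.mem_univ, if_true]
  simp only [matFun]
  omega

/-- All checks on a matrix. -/
def matOK (M : GolayPt → GolayPt → ℤ) : Bool :=
  matKeeps M && matKeeps (matT M) && matOrth M && matOrth (matT M)

/-- The element of `Co0` given by a checked matrix. -/
noncomputable def matCo0 (M : GolayPt → GolayPt → ℤ) (h : matOK M = true) : Co0 :=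
  have hk : matKeeps M = true := by simp only [matOK, Bool.and_eq_true] at h; exact h.1.1.1
  have hk' : matKeeps (matT M) = true := by simp only [matOK, Bool.and_eq_true] at h; exact h.1.1.2
  have ho : matOrth M = true := by simp only [matOK, Bool.and_eq_true] at h; exact h.1.2
  have ho' : matOrth (matT M) = true := by simp only [matOK, Bool.and_eq_true] at h; exact h.2
  mkCo0
    { toFun := fun v => ⟨matFun M v, (matKeeps_spec hk v.2).2⟩
      invFun := fun v => ⟨matFun (matT M) v, (matKeeps_spec hk' v.2).2⟩
      left_inv := fun v => Subtype.ext (matFun_inv hk ho v.2)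
      right_inv := fun v => Subtype.ext (matFun_inv (M := matT M) hk' ho' v.2)
      map_add' := fun v w => Subtype.ext (funext fun i => by
        have e1 := (matKeeps_spec hk v.2).1 i
        have e2 := (matKeeps_spec hk w.2).1 i
        have e3 := (matKeeps_spec hk (v + w).2).1 i
        have e4 : dotInt (M i) ((v + w : leechLattice) : GolayPt → ℤ) =
            dotInt (M i) (v : GolayPt → ℤ) + dotInt (M i) (w : GolayPt → ℤ) := by
          simp only [dotInt, AddSubgroup.coe_add, Pi.add_apply, mul_add, Finset.sum_add_distrib]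
        show matFun M ((v + w : leechLattice) : GolayPt → ℤ) i =
          matFun M (v : GolayPt → ℤ) i + matFun M (w : GolayPt → ℤ) i
        omega) }
    (fun v => matFun_sqNorm hk ho v.2)

theorem matCo0_smul (M : GolayPt → GolayPt → ℤ) (h : matOK M = true) (v : leechLattice) :
    ((matCo0 M h • v : leechLattice) : GolayPt → ℤ) = matFun M v := rfl

end CfsgLib.Golay
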