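import Cfsg.Agent.Lib.Golay.MatrixElement

/-!
A faster form of the checks on an integer matrix giving an element of `Co0`, computed on lists.
-/

set_option autoImplicit false

namespace CfsgLib.Golay

open Cfsg

/-- The matrix of a list of rows. -/
def listMat (L : List (List ℤ)) : GolayPt → GolayPt → ℤ := fun i j => (L.getD (idx i) []).getD (idx j) 0

/-- The product of two rows. -/
def dotL : List ℤ → List ℤ → ℤ
  | a :: r, b :: v => a * b + dotL r v
  | _, _ => 0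

/-- The vector of a function on the points. -/
def vecL (v : GolayPt → ℤ) : List ℤ := (List.range 24).map fun i => v (pt i)

/-- The function of a list of coordinates. -/
def funL (w : List ℤ) : GolayPt → ℤ := fun p => w.getD (idx p) 0

/-- All rows have length 24. -/
def shapeL (L : List (List ℤ)) : Bool := Nat.beq L.length 24 && L.all fun r => Nat.beq r.length 24

/-- The bits of the parities of a list. -/
def parBits : List ℤ → ℕ
  | [] => 0
  | a :: r => (cond (Int.emod a 2 == 1) 1 0) + 2 * parBits r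

/-- Membership test on a list of 24 coordinates. -/
def inLatL (w : List ℤ) : Bool :=
  let m := w.headD 0 % 2
  let a := w.map fun x => (x - m) / 2
  let b := parBits a
  Nat.beq w.length 24 && (w.all fun x => decide ((x - m) % 2 = 0)) &&
    Nat.beq (enc (b % 4096)) b && decide ((a.sum - 2 * m) % 4 = 0)

/-- The coordinates of the generating list of the lattice. -/
def latGensL : List (List ℤ) := [
  [1, 1, 1, 1, 1, 1, 1, 1, 1, 1, 1, 1, 1, 1, 1, 1, 1, 1, 1, 1, 1, 1, 1, -3],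
  [2, 0, 0, 0, 0, 0, 0, 0, 0, 0, 0, 0, 2, 0, 2, 0, 2, 2, 2, 0, 0, 0, 2, 2],
  [0, 2, 0, 0, 0, 0, 0, 0, 0, 0, 0, 0, 2, 2, 2, 2, 2, 0, 0, 2, 0, 0, 2, 0],
  [0, 0, 2, 0, 0, 0, 0, 0, 0, 0, 0, 0, 2, 2, 0, 2, 0, 0, 2, 0, 2, 0, 2, 2],
  [0, 0, 0, 2, 0, 0, 0, 0, 0, 0, 0, 0, 2, 2, 0, 0, 0, 2, 2, 2, 0, 2, 2, 0],
  [0, 0, 0, 0, 2, 0, 0, 0, 0, 0, 0, 0, 2, 2, 0, 0, 2, 2, 0, 2, 2, 0, 0, 2],
  [0, 0, 0, 0, 0, 2, 0, 0, 0, 0, 0, 0, 0, 2, 2, 0, 0, 2, 2, 0, 2, 2, 0, 2],
  [0, 0, 0, 0, 0, 0, 2, 0, 0, 0, 0, 0, 0, 0, 2, 2, 0, 0, 2, 2, 0, 2, 2, 2],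
  [0, 0, 0, 0, 0, 0, 0, 2, 0, 0, 0, 0, 2, 0, 2, 2, 0, 2, 2, 2, 2, 0, 0, 0],
  [0, 0, 0, 0, 0, 0, 0, 0, 2, 0, 0, 0, 0, 2, 0, 2, 2, 0, 2, 2, 2, 2, 0, 0],
  [0, 0, 0, 0, 0, 0, 0, 0, 0, 2, 0, 0, 0, 0, 2, 0, 2, 2, 0, 2, 2, 2, 2, 0],
  [0, 0, 0, 0, 0, 0, 0, 0, 0, 0, 2, 0, 2, 0, 2, 2, 2, 0, 0, 0, 2, 2, 0, 2],
  [0, 0, 0, 0, 0, 0, 0, 0, 0, 0, 0, 2, 0, 2, 0, 2, 2, 2, 0, 0, 0, 2, 2, 2],
  [4, 0, 0, 0, 0, 0, 0, 0, 0, 0, 0, 0, 0, 0, 0, 0, 0, 0, 0, 0, 0, 0, 0, 4],
  [0, 4, 0, 0, 0, 0, 0, 0, 0, 0, 0, 0, 0, 0, 0, 0, 0, 0, 0, 0, 0, 0, 0, 4],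
  [0, 0, 4, 0, 0, 0, 0, 0, 0, 0, 0, 0, 0, 0, 0, 0, 0, 0, 0, 0, 0, 0, 0, 4],
  [0, 0, 0, 4, 0, 0, 0, 0, 0, 0, 0, 0, 0, 0, 0, 0, 0, 0, 0, 0, 0, 0, 0, 4],
  [0, 0, 0, 0, 4, 0, 0, 0, 0, 0, 0, 0, 0, 0, 0, 0, 0, 0, 0, 0, 0, 0, 0, 4],
  [0, 0, 0, 0, 0, 4, 0, 0, 0, 0, 0, 0, 0, 0, 0, 0, 0, 0, 0, 0, 0, 0, 0, 4],
  [0, 0, 0, 0, 0, 0, 4, 0, 0, 0, 0, 0, 0, 0, 0, 0, 0, 0, 0, 0, 0, 0, 0, 4],
  [0, 0, 0, 0, 0, 0, 0, 4, 0, 0, 0, 0, 0, 0, 0, 0, 0, 0, 0, 0, 0, 0, 0, 4],
  [0, 0, 0, 0, 0, 0, 0, 0, 4, 0, 0, 0, 0, 0, 0, 0, 0, 0, 0, 0, 0, 0, 0, 4],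
  [0, 0, 0, 0, 0, 0, 0, 0, 0, 4, 0, 0, 0, 0, 0, 0, 0, 0, 0, 0, 0, 0, 0, 4],
  [0, 0, 0, 0, 0, 0, 0, 0, 0, 0, 4, 0, 0, 0, 0, 0, 0, 0, 0, 0, 0, 0, 0, 4],
  [0, 0, 0, 0, 0, 0, 0, 0, 0, 0, 0, 4, 0, 0, 0, 0, 0, 0, 0, 0, 0, 0, 0, 4],
  [0, 0, 0, 0, 0, 0, 0, 0, 0, 0, 0, 0, 4, 0, 0, 0, 0, 0, 0, 0, 0, 0, 0, 4],
  [0, 0, 0, 0, 0, 0, 0, 0, 0, 0, 0, 0, 0, 4, 0, 0, 0, 0, 0, 0, 0, 0, 0, 4],
  [0, 0, 0, 0, 0, 0, 0, 0, 0, 0, 0, 0, 0, 0, 4, 0, 0, 0, 0, 0, 0, 0, 0, 4],
  [0, 0, 0, 0, 0, 0, 0, 0, 0, 0, 0, 0, 0, 0, 0, 4, 0, 0, 0, 0, 0, 0, 0, 4],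
  [0, 0, 0, 0, 0, 0, 0, 0, 0, 0, 0, 0, 0, 0, 0, 0, 4, 0, 0, 0, 0, 0, 0, 4],
  [0, 0, 0, 0, 0, 0, 0, 0, 0, 0, 0, 0, 0, 0, 0, 0, 0, 4, 0, 0, 0, 0, 0, 4],
  [0, 0, 0, 0, 0, 0, 0, 0, 0, 0, 0, 0, 0, 0, 0, 0, 0, 0, 4, 0, 0, 0, 0, 4],
  [0, 0, 0, 0, 0, 0, 0, 0, 0, 0, 0, 0, 0, 0, 0, 0, 0, 0, 0, 4, 0, 0, 0, 4],
  [0, 0, 0, 0, 0, 0, 0, 0, 0, 0, 0, 0, 0, 0, 0, 0, 0, 0, 0, 0, 4, 0, 0, 4],
  [0, 0, 0, 0, 0, 0, 0, 0, 0, 0, 0, 0, 0, 0, 0, 0, 0, 0, 0, 0, 0, 4, 0, 4],
  [0, 0, 0, 0, 0, 0, 0, 0, 0, 0, 0, 0, 0, 0, 0, 0, 0, 0, 0, 0, 0, 0, 4, 4],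
  [0, 0, 0, 0, 0, 0, 0, 0, 0, 0, 0, 0, 0, 0, 0, 0, 0, 0, 0, 0, 0, 0, 0, 8]]

theorem latGensL_eq : latGens.map vecL = latGensL := by decide +kernel

/-- The lattice is mapped to itself, on lists. -/
def keepsL (L : List (List ℤ)) : Bool :=
  latGensL.all fun v =>
    let w := L.map fun r => dotL r v
    (w.all fun a => decide (a % 8 = 0)) && inLatL (w.map fun a => a / 8)

/-- Orthogonality, on lists. -/
def orthL (T : List (List ℤ)) : Bool :=
  (List.range 24).all fun a => (List.range 24).all fun b =>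
    decide (dotL (T.getD a []) (T.getD b []) = if a = b then 64 else 0)

/-- The second list is the transpose of the first. -/
def transL (L T : List (List ℤ)) : Bool :=
  (List.range 24).all fun i => (List.range 24).all fun j =>
    decide ((L.getD i []).getD j 0 = (T.getD j []).getD i 0)

/-- All the checks, on lists. -/
def fastOK (L T : List (List ℤ)) : Bool :=
  shapeL L && shapeL T && transL L T && keepsL L && keepsL T && orthL T && orthL L

theorem dotL_eq_range : ∀ (r v : List ℤ), r.length = v.length →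
    dotL r v = ((List.range r.length).map fun i => r.getD i 0 * v.getD i 0).sum
  | [], _, _ => by simp [dotL]
  | a :: r, [], h => by simp at h
  | a :: r, b :: v, h => by
    rw [dotL, dotL_eq_range r v (by simpa using h), List.length_cons, List.range_succ_eq_map,
      List.map_cons, List.sum_cons, List.map_map]
    rfl

theorem dotL_eq_dotInt {r v : List ℤ} (hr : r.length = 24) (hv : v.length = 24) :
    dotL r v = dotInt (funL r) (funL v) := by
  rw [dotL_eq_range r v (hr.trans hv.symm), hr, dotInt, ← sum_pt_list fun p => funL r p * funL v p]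
  refine congrArg List.sum (List.map_congr_left fun i hi => ?_)
  simp only [funL, idx_pt (List.mem_range.1 hi)]

theorem funL_vecL (v : GolayPt → ℤ) : funL (vecL v) = v := funext fun p => by
  simp only [funL, vecL]
  rw [List.getD_eq_getElem _ _ (by simpa using idx_lt p), List.getElem_map, List.getElem_range, pt_idx]

theorem funL_row {L : List (List ℤ)} (i : GolayPt) : funL (L.getD (idx i) []) = listMat L i := rfl

theorem shapeL_spec {L : List (List ℤ)} (h : shapeL L = true) :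
    L.length = 24 ∧ ∀ i < 24, (L.getD i []).length = 24 := by
  simp only [shapeL, Bool.and_eq_true, List.all_eq_true] at h
  have hl := Nat.eq_of_beq_eq_true h.1
  refine ⟨hl, fun i hi => ?_⟩
  rw [List.getD_eq_getElem _ _ (hl ▸ hi)]
  exact Nat.eq_of_beq_eq_true (h.2 _ (List.getElem_mem _))

theorem testBit_parBits : ∀ (l : List ℤ) (i : ℕ),
    (parBits l).testBit i = decide (l.getD i 0 % 2 = 1)
  | [], i => by simp [parBits]
  | a :: l, 0 => by
    rw [parBits, Nat.testBit_zero, List.getD_cons_zero]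
    rcases Int.emod_two_eq_zero_or_one a with h | h
    · have : Int.emod a 2 = 0 := h
      simp [this, h]
    · have : Int.emod a 2 = 1 := h
      simp [this, h]
  | a :: l, i + 1 => by
    rw [parBits, Nat.testBit_add_one, List.getD_cons_succ, ← testBit_parBits l i]
    congr 1
    have hc : ∀ c : Bool, cond c 1 0 < 2 := by decide
    have := hc (Int.emod a 2 == 1)
    omega

theorem inLat_of_inLatL {w : List ℤ} (h : inLatL w = true) : inLat (funL w) = true := by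
  simp only [inLatL, Bool.and_eq_true, List.all_eq_true, decide_eq_true_iff] at h
  obtain ⟨⟨⟨hl, hpar⟩, hb⟩, hs⟩ := h
  have hl := Nat.eq_of_beq_eq_true hl
  have hb := Nat.eq_of_beq_eq_true hb
  set a := w.map fun x => (x - w.headD 0 % 2) / 2 with ha
  have hget : ∀ i, i < 24 → funL w (pt i) = w.getD i 0 := fun i hi => by simp only [funL, idx_pt hi]
  have h0 : funL w (pt 0) = w.headD 0 := by
    rw [hget 0 (by norm_num)]; cases w <;> rfl
  have hhalf : ∀ i < 24, latHalf (funL w) (pt i) = a.getD i 0 := fun i hi => by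
    rw [ha, List.getD_eq_getElem _ _ (by simpa [hl] using hi), List.getElem_map]
    simp only [latHalf]
    rw [h0, hget i hi, List.getD_eq_getElem _ _ (hl ▸ hi)]
  have hfold : ∀ (n : ℕ), n ≤ 24 →
      (List.range n).foldl (fun k i => if latHalf (funL w) (pt i) % 2 = 1 then k + 2 ^ i else k) 0 =
        parBits a % 2 ^ n := by
    intro n
    induction n with
    | zero => intro _; simp [Nat.mod_one]
    | succ n ih =>
      intro hn
      rw [List.range_succ, List.foldl_append, List.foldl_cons, List.foldl_nil, ih (by omega),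
        pow_succ, Nat.mod_mul, ← Nat.toNat_testBit, testBit_parBits, hhalf n (by omega)]
      by_cases h : a.getD n 0 % 2 = 1
      · rw [if_pos h, decide_eq_true h, Bool.toNat_true, mul_one]
      · rw [if_neg h, decide_eq_false h, Bool.toNat_false, mul_zero, add_zero]
  have hk : latKey (funL w) = parBits a % 4096 := hfold 12 (by norm_num)
  simp only [inLat, Bool.and_eq_true, List.all_eq_true, List.mem_range, decide_eq_true_iff, beq_iff_eq]
  refine ⟨⟨fun i hi => ⟨?_, ?_⟩, ?_⟩, ?_⟩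
  · rw [h0, hget i hi, List.getD_eq_getElem _ _ (hl ▸ hi)]
    exact hpar _ (List.getElem_mem _)
  · rw [hk, hb, testBit_parBits, hhalf i hi]
  · rw [hk]; exact Nat.mod_lt _ (by norm_num)
  · have e : ((List.range 24).map fun i => latHalf (funL w) (pt i)) = a := by
      refine List.ext_getElem (by simp [ha, hl]) fun i h5 h6 => ?_
      rw [List.getElem_map, List.getElem_range, hhalf i (by simpa using h5), List.getD_eq_getElem _ _ h6]
    rw [e, h0]; exact hs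

theorem matKeeps_of_keepsL {L : List (List ℤ)} (hs : shapeL L = true) (h : keepsL L = true) :
    matKeeps (listMat L) = true := by
  obtain ⟨hl, hrow⟩ := shapeL_spec hs
  simp only [keepsL, ← latGensL_eq, List.all_eq_true, Bool.and_eq_true, decide_eq_true_iff,
    List.forall_mem_map] at h
  simp only [matKeeps, List.all_eq_true, Bool.and_eq_true, decide_eq_true_iff, List.mem_range]
  intro v hv
  obtain ⟨h1, h2⟩ := h v hv
  have hd : ∀ p : GolayPt, dotInt (listMat L p) v =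
      (L.map fun r => dotL r (vecL v)).getD (idx p) 0 := fun p => by
    rw [List.getD_eq_getElem _ _ (by simpa [hl] using idx_lt p), List.getElem_map,
      dotL_eq_dotInt (by rw [← List.getD_eq_getElem _ [] (hl ▸ idx_lt p)]; exact hrow _ (idx_lt p))
        (by simp [vecL]), funL_vecL, ← List.getD_eq_getElem _ [] (hl ▸ idx_lt p), funL_row]
  refine ⟨fun i hi => ?_, ?_⟩
  · rw [hd, List.getD_eq_getElem _ _ (by simpa [hl] using idx_lt (pt i))]
    rw [List.getElem_map]; exact h1 _ (List.getElem_mem _)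
  · have e : matFun (listMat L) v = funL ((L.map fun r => dotL r (vecL v)).map fun a => a / 8) :=
      funext fun p => by
        simp only [matFun, funL]
        rw [hd, List.getD_eq_getElem _ _ (by simpa [hl] using idx_lt p),
          List.getD_eq_getElem _ _ (by simpa [hl] using idx_lt p)]
        simp only [List.getElem_map]
    rw [e]; exact inLat_of_inLatL h2

theorem transL_spec {L T : List (List ℤ)} (h : transL L T = true) : listMat T = matT (listMat L) := by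
  simp only [transL, List.all_eq_true, List.mem_range, decide_eq_true_iff] at h
  funext i j
  exact (h _ (idx_lt j) _ (idx_lt i)).symm

theorem matOrth_of_orthL {T : List (List ℤ)} (hs : shapeL T = true) (h : orthL T = true) :
    matOrth (matT (listMat T)) = true := by
  obtain ⟨-, hrow⟩ := shapeL_spec hs
  simp only [orthL, List.all_eq_true, List.mem_range, decide_eq_true_iff] at h
  simp only [matOrth, List.all_eq_true, List.mem_range, decide_eq_true_iff]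
  intro a ha b hb
  rw [← h a ha b hb, dotL_eq_dotInt (hrow a ha) (hrow b hb), dotInt, ← sum_pt_list]
  refine congrArg List.sum (List.map_congr_left fun i _ => ?_)
  simp only [matT, funL, listMat, idx_pt ha, idx_pt hb]

theorem matOK_of_fast {L T : List (List ℤ)} (h : fastOK L T = true) : matOK (listMat L) = true := by
  simp only [fastOK, Bool.and_eq_true] at h
  obtain ⟨⟨⟨⟨⟨⟨h1, h2⟩, h3⟩, h4⟩, h5⟩, h6⟩, h7⟩ := h
  have e := transL_spec h3
  simp only [matOK, Bool.and_eq_true]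
  refine ⟨⟨⟨matKeeps_of_keepsL h1 h4, ?_⟩, ?_⟩, matOrth_of_orthL h1 h7⟩
  · rw [← e]; exact matKeeps_of_keepsL h2 h5
  · have h' := matOrth_of_orthL h2 h6
    rw [e] at h'
    exact h'

end CfsgLib.Golay
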