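import Cfsg.Agent.Lib.Golay.RootlessLattice

/-! Gram matrices as even lattices. -/

set_option autoImplicit false

namespace CfsgLib.Golay

open Matrix

/-- An even lattice without roots given by a Gram matrix. -/
def matRootless (B : Matrix (Fin 24) (Fin 24) ℤ) (hsymm : B.IsSymm)
    (hpos : ∀ x : Fin 24 → ℤ, x ≠ 0 → 0 < x ⬝ᵥ (B *ᵥ x))
    (heven : ∀ x : Fin 24 → ℤ, (2 : ℤ) ∣ x ⬝ᵥ (B *ᵥ x))
    (h2 : ∀ x : Fin 24 → ℤ, x ⬝ᵥ (B *ᵥ x) ≠ 2) : Rootless (Fin 24 → ℤ) where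
  b :=
    { toFun := fun x =>
        { toFun := fun y => x ⬝ᵥ (B *ᵥ y)
          map_zero' := by simp
          map_add' := fun y y' => by simp [Matrix.mulVec_add, dotProduct_add] }
      map_zero' := by ext y; simp
      map_add' := fun x x' => by ext y; simp [add_dotProduct] }
  crd := AddEquiv.refl _
  symm x y := by
    show x ⬝ᵥ (B *ᵥ y) = y ⬝ᵥ (B *ᵥ x)
    rw [Matrix.dotProduct_mulVec, ← Matrix.mulVec_transpose, hsymm, dotProduct_comm]
  pos := hpos
  even := heven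
  noRoot := h2

end CfsgLib.Golay
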