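import Cfsg.Agent.Lib.Golay.McLOutData
import Cfsg.Agent.Lib.Golay.Co0McLSimple
import Cfsg.Agent.Lib.Golay.Co0McLGroup
import Cfsg.Agent.Lib.Golay.Gen
import Cfsg.Agent.Lib.Golay.GenData
import Cfsg.Prelude.Def_KGroupFacts

/-! The automorphism group of the McLaughlin group: index 2 over the inner automorphisms. -/

set_option autoImplicit false
set_option maxRecDepth 100000
set_option maxHeartbeats 1000000

namespace CfsgLib.Golay.McLOut

open Cfsg CfsgLib.Mathieu CfsgLib.Golay CfsgLib.Golay.FixSearch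
open CfsgLib.KnownA.Mathieu (actW eqW eqW_sound neW_sound actW_spec)

/-- The vectors with the three prescribed products. -/
def InY (d : ℤ) (y : leechLattice) : Prop :=
  sqNorm (y : GolayPt → ℤ) = 32 ∧ dotInt (fiveV : GolayPt → ℤ) y = -8 ∧
    dotInt (min44 : GolayPt → ℤ) y = d

theorem smul_five (g : mclGroup) : (g : Co0) • fiveV = fiveV := g.2.1

theorem smul_min44 (g : mclGroup) : (g : Co0) • min44 = min44 := g.2.2

theorem inY_smul (g : mclGroup) {d : ℤ} {y : leechLattice} (hy : InY d y) : InY d (g • y) := by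
  refine ⟨(co0_sq (g : Co0) y).trans hy.1, ?_, ?_⟩
  · have h := co0_dot (g : Co0) fiveV y
    rw [smul_five] at h
    exact h.trans hy.2.1
  · have h := co0_dot (g : Co0) min44 y
    rw [smul_min44] at h
    exact h.trans hy.2.2

theorem dot_smul (g : mclGroup) (x y : leechLattice) :
    dotInt ((g • x : leechLattice) : GolayPt → ℤ) (g • y : leechLattice) =
      dotInt (x : GolayPt → ℤ) y := co0_dot (g : Co0) x y

theorem inY_w11 : InY 8 w11 := w11_facts

theorem ypL_mem : valL ypL ∈ leechLattice := by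
  rw [odd_mem_iff (by decide +kernel)]
  refine ⟨?_, by decide +kernel⟩
  rw [show (Finset.univ.filter fun i => valL ypL i % 4 = 3) =
    mset (FixSearch.maskOf (fun i => ypL.getD i 0 % 4 == 3) 24) by decide +kernel]
  exact mem_supports_iff.2 ⟨_, by decide +kernel, rfl⟩

/-- The vector fixed by the element of order 11 with product `-16`. -/
def yP : leechLattice := ⟨valL ypL, ypL_mem⟩

theorem inY_yP : InY (-16) yP := by
  refine ⟨?_, ?_, ?_⟩ <;> decide +kernel

theorem w11_val : (w11 : GolayPt → ℤ) = valL zL :=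
  funext (by decide +kernel : ∀ i, (w11 : GolayPt → ℤ) i = valL zL i)

theorem g4_ne : valL g4L ≠ valL zL := fun h =>
  absurd (congrFun h pinf) (by decide +kernel)

/-! ### The monomial subgroup -/

theorem mem_fix22 {σ : Equiv.Perm GolayPt} :
    σ ∈ fixMasks X22 ↔ σ ∈ M24 ∧ σ pinf = pinf ∧ σ pz = pz := by
  rw [show X22 = Nat.shiftLeft 1 0 :: [Nat.shiftLeft 1 23] from rfl,
    mem_fixMasks_bit (by norm_num : 0 < 24), mem_fixMasks_bit (by norm_num : 23 < 24), fixMasks_nil,
    and_assoc]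
  rfl

/-- An element of the two point stabiliser given by its code. -/
noncomputable def elem (c : ℕ) (h : inFix X22 c = true) : mclPts :=
  ⟨⟨permOf c, (mem_fix22.1 (inFix_mem h)).1⟩, (mem_fix22.1 (inFix_mem h)).2.1,
    (mem_fix22.1 (inFix_mem h)).2.2⟩

/-- The identification with the chain model. -/
noncomputable def e22 : mclPts ≃* fixMasks X22 where
  toFun s := ⟨s.1.1, mem_fix22.2 ⟨s.1.2, s.2.1, s.2.2⟩⟩
  invFun s := ⟨⟨s.1, (mem_fix22.1 s.2).1⟩, (mem_fix22.1 s.2).2.1, (mem_fix22.1 s.2).2.2⟩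
  left_inv _ := rfl
  right_inv _ := rfl
  map_mul' _ _ := rfl

theorem card_mclPts : Nat.card mclPts = 443520 :=
  (Nat.card_congr e22.toEquiv).trans card_fix22

/-- The element of order 11. -/
noncomputable def eA : mclPts := elem mA mData_ok.1
/-- The element of order 5. -/
noncomputable def eB : mclPts := elem mB mData_ok.2.1
/-- The element of order 4. -/
noncomputable def eT : mclPts := elem mT mData_ok.2.2.1

/-- The underlying permutation. -/
def jP : mclPts →* Equiv.Perm GolayPt := M24.subtype.comp (Subgroup.subtype _)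

theorem jP_injective : Function.Injective jP := fun _ _ h => Subtype.ext (Subtype.ext h)

theorem jP_eA : jP eA = permOf mA := rfl
theorem jP_eB : jP eB = permOf mB := rfl
theorem jP_eT : jP eT = permOf mT := rfl

theorem valid3 : valid mA = true ∧ valid mB = true ∧ valid mT = true :=
  ⟨inFix_valid mData_ok.1, inFix_valid mData_ok.2.1, inFix_valid mData_ok.2.2.1⟩

/-- The words in three letters. -/
def Letters (L : List ℕ) : Prop := ∀ g ∈ L, g = mA ∨ g = mB ∨ g = mT

theorem letters_valid {L : List ℕ} (h : Letters L) : ∀ g ∈ L, valid g = true := fun g hg => by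
  rcases h g hg with rfl | rfl | rfl
  exacts [valid3.1, valid3.2.1, valid3.2.2]

theorem eq_of_eqW {u v : mclPts} {L L' : List ℕ} (hu : jP u = (L.map permOf).prod)
    (hv : jP v = (L'.map permOf).prod) (hL : Letters L) (hL' : Letters L') (h : eqW L L' = true) :
    u = v := jP_injective (by
  rw [hu, hv]
  refine eqW_sound (List.all_eq_true.2 fun g hg => ?_) h
  rcases List.mem_append.1 hg with hg | hg
  exacts [letters_valid hL g hg, letters_valid hL' g hg])

theorem ne_of_eqW {u v : mclPts} {L L' : List ℕ} (hu : jP u = (L.map permOf).prod)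
    (hv : jP v = (L'.map permOf).prod) (hL : Letters L) (hL' : Letters L') (h : eqW L L' = false) :
    u ≠ v := fun e => by
  refine neW_sound (List.all_eq_true.2 fun g hg => ?_) h (by rw [← hu, ← hv, e])
  rcases List.mem_append.1 hg with hg | hg
  exacts [letters_valid hL g hg, letters_valid hL' g hg]

/-- A word. -/
def xaM {K : Type*} [Monoid K] (i b c : K) : K := c * c * b * i * c
/-- A word. -/
def xbM {K : Type*} [Monoid K] (i b c : K) : K := c * c * i * b * c
/-- A word. -/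
def lM {K : Type*} [Monoid K] (i b c : K) : K := b * i * c * b * i * c
/-- A word. -/
def mM {K : Type*} [Monoid K] (i b c : K) : K := c * c * c * c * i * c
/-- A word. -/
def badM {K : Type*} [Monoid K] (t b c : K) : K :=
  t * t * t * (c * c * c * c * c * c * c * c * c * c) * b * b * b * b * t * t * c * t

theorem jP_words (e : ℕ) :
    jP (xaM (eT * eT) eB (eA ^ e)) = ((xaW (List.replicate e mA)).map permOf).prod ∧
    jP (xbM (eT * eT) eB (eA ^ e)) = ((xbW (List.replicate e mA)).map permOf).prod ∧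
    jP (badM eT eB (eA ^ e)) = ((badW (List.replicate e mA)).map permOf).prod := by
  refine ⟨?_, ?_, ?_⟩ <;>
    simp [xaM, xbM, badM, xaW, xbW, badW, map_mul, map_pow, jP_eA, jP_eB, jP_eT,
      List.prod_append, List.prod_replicate, pow_add, mul_assoc]

theorem letters_words (e : ℕ) : Letters (xaW (List.replicate e mA)) ∧
    Letters (xbW (List.replicate e mA)) ∧ Letters (badW (List.replicate e mA)) := by
  refine ⟨?_, ?_, ?_⟩ <;> intro g hg <;>
    simp [xaW, xbW, badW, List.mem_replicate] at hg <;> tauto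

theorem prod_word (n : ℕ) (W : List ℕ) :
    ((List.replicate n W).flatten.map permOf).prod = (W.map permOf).prod ^ n := by
  rw [List.map_flatten, List.prod_flatten, List.map_replicate, List.map_replicate,
    List.prod_replicate]

theorem rels_pts : eA ^ 11 = 1 ∧ eA ≠ 1 ∧ eB ^ 5 = 1 ∧ eB ≠ 1 ∧ eT ^ 4 = 1 ∧
    eB * eA = eA ^ 3 * eB ∧ eT * eB = eB ^ 2 * eT ∧ (eA * (eT * eT)) ^ 11 = 1 ∧
    eT * xaM (eT * eT) eB eA * eT =
      lM (eT * eT) eB eA * (eT * xbM (eT * eT) eB eA * eT) * mM (eT * eT) eB eA := by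
  obtain ⟨r1, r2, r3, r4, r5, r6, r7⟩ := perm_rels
  refine ⟨?_, ?_, ?_, ?_, ?_, ?_, ?_, ?_, ?_⟩
  · refine eq_of_eqW (L := List.replicate 11 mA) (L' := []) ?_ (map_one _) ?_ ?_ r4
    · rw [map_pow, jP_eA, List.map_replicate, List.prod_replicate]
    all_goals intro g hg; simp at hg
    exact Or.inl hg
  · refine ne_of_eqW (L := [mA]) (L' := []) ?_ (map_one _) ?_ ?_ r6
    · simp [jP_eA]
    all_goals intro g hg; simp at hg
    exact Or.inl hg
  · refine eq_of_eqW (L := List.replicate 5 mB) (L' := []) ?_ (map_one _) ?_ ?_ r5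
    · rw [map_pow, jP_eB, List.map_replicate, List.prod_replicate]
    all_goals intro g hg; simp at hg
    exact Or.inr (Or.inl hg)
  · refine ne_of_eqW (L := [mB]) (L' := []) ?_ (map_one _) ?_ ?_ r7
    · simp [jP_eB]
    all_goals intro g hg; simp at hg
    exact Or.inr (Or.inl hg)
  · refine eq_of_eqW (L := List.replicate 4 mT) (L' := []) ?_ (map_one _) ?_ ?_ r3
    · rw [map_pow, jP_eT, List.map_replicate, List.prod_replicate]
    all_goals intro g hg; simp at hg
    exact Or.inr (Or.inr hg)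
  · refine eq_of_eqW (L := [mB, mA]) (L' := [mA, mA, mA, mB]) ?_ ?_ ?_ ?_ r1
    · simp [jP_eA, jP_eB]
    · simp [jP_eA, jP_eB, pow_succ, mul_assoc]
    all_goals intro g hg; simp at hg; tauto
  · refine eq_of_eqW (L := [mT, mB]) (L' := [mB, mB, mT]) ?_ ?_ ?_ ?_ r2
    · simp [jP_eT, jP_eB]
    · simp [jP_eT, jP_eB, pow_succ, mul_assoc]
    all_goals intro g hg; simp at hg; tauto
  · refine eq_of_eqW (L := (List.replicate 11 [mA, mT, mT]).flatten) (L' := []) ?_ (map_one _) ?_ ?_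
      pin_rel
    · rw [map_pow, map_mul, map_mul, jP_eA, jP_eT, prod_word]
      simp [mul_assoc]
    all_goals intro g hg; simp at hg
    tauto
  · refine eq_of_eqW (L := [mT] ++ xaW [mA] ++ [mT])
      (L' := lW [mA] ++ [mT] ++ xbW [mA] ++ [mT] ++ mW [mA]) ?_ ?_ ?_ ?_ rel_check
    · simp [xaM, xaW, jP_eA, jP_eB, jP_eT, mul_assoc]
    · simp [xbM, lM, mM, xbW, lW, mW, jP_eA, jP_eB, jP_eT, mul_assoc]
    all_goals intro g hg; simp [xaW, xbW, lW, mW] at hg; tauto

theorem pin_e {e : ℕ} (he : e < 11) (h : (eA ^ e * (eT * eT)) ^ 11 = 1) : e = 1 ∨ e = 10 := by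
  have hw : eqW (List.replicate 11 (List.replicate e mA ++ [mT, mT])).flatten [] = true := by
    by_contra hne
    refine ne_of_eqW (L' := []) ?_ (map_one _) ?_ ?_ (Bool.eq_false_iff.2 hne) h
    · rw [map_pow, map_mul, map_mul, map_pow, jP_eA, jP_eT, prod_word, List.map_append,
        List.prod_append, List.map_replicate, List.prod_replicate]
      simp
    · intro x hx
      obtain ⟨W, hW, hx⟩ := List.mem_flatten.1 hx
      rw [List.eq_of_mem_replicate hW] at hx
      rcases List.mem_append.1 hx with hx | hx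
      · exact Or.inl (List.eq_of_mem_replicate hx)
      · simp at hx; exact Or.inr (Or.inr hx)
    · intro x hx; simp at hx
  have hp := List.all_eq_true.1 pin_check e (List.mem_range.2 he)
  rw [hw] at hp
  simpa using hp

/-- The monomial subgroup. -/
abbrev M : Subgroup mclGroup := MulAction.stabilizer mclGroup w11

theorem mclHom_apply (s : mclPts) (y : leechLattice) :
    mclHom s • y = monoCo0 s.1 s.1.2 ∅ empty_code • y := rfl

theorem smul_apply (s : mclPts) (y : leechLattice) (i : GolayPt) :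
    ((mclHom s • y : leechLattice) : GolayPt → ℤ) (jP s i) = (y : GolayPt → ℤ) i :=
  perm_apply s.1 y i

theorem fix_iff (s : mclPts) (y : leechLattice) :
    mclHom s • y = y ↔ ∀ i, (y : GolayPt → ℤ) (jP s i) = (y : GolayPt → ℤ) i := by
  constructor
  · intro h i
    conv_lhs => rw [← h]
    exact smul_apply s y i
  · intro h
    refine Subtype.ext (funext fun i => ?_)
    obtain ⟨i, rfl⟩ := (jP s).surjective i
    exact (smul_apply s y i).trans (h i).symm

theorem w11_fix (s : mclPts) : mclHom s • w11 = w11 := (fix_iff s w11).2 fun i => by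
  have e : ∀ p, (w11 : GolayPt → ℤ) p = if p = pinf then 3 else -1 := by decide +kernel
  have : jP s i = pinf ↔ i = pinf :=
    ⟨fun h => (jP s).injective (h.trans s.2.1.symm), fun h => h ▸ s.2.1⟩
  simp only [e, this]

theorem range_eq : mclHom.range = M := by
  ext g
  exact ⟨fun ⟨s, hs⟩ => hs ▸ w11_fix s, fun h => mem_range_mclHom h⟩

theorem card_M : Nat.card M = 443520 := by
  rw [← range_eq, ← Nat.card_congr (MonoidHom.ofInjective mclHom_injective).toEquiv, card_mclPts]

theorem index_M : M.index = 2025 := by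
  have h := M.card_mul_index
  rw [card_M, card_mclGroup] at h
  omega

/-- The element of order 11. -/
noncomputable def aG : mclGroup := mclHom eA
/-- The element of order 5. -/
noncomputable def bG : mclGroup := mclHom eB
/-- The element of order 4. -/
noncomputable def tG : mclGroup := mclHom eT
/-- The involution. -/
noncomputable def iG : mclGroup := mclHom (eT * eT)

theorem rels_G : aG ^ 11 = 1 ∧ aG ≠ 1 ∧ bG ^ 5 = 1 ∧ bG ≠ 1 ∧
    bG * aG * bG⁻¹ = aG ^ 3 ∧ tG * bG * tG⁻¹ = bG ^ 2 ∧ tG * tG = iG ∧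
    iG * bG * iG⁻¹ = bG ^ 4 ∧ (aG * iG) ^ 11 = 1 ∧
    tG * xaM iG bG aG * tG = lM iG bG aG * (tG * xbM iG bG aG * tG) * mM iG bG aG := by
  obtain ⟨r1, r2, r3, r4, r5, r6, r7, r8, r9⟩ := rels_pts
  have h6 : tG * bG * tG⁻¹ = bG ^ 2 := by
    rw [mul_inv_eq_iff_eq_mul, tG, bG, ← map_mul, r7, map_mul, map_pow]
  have h7 : tG * tG = iG := (map_mul _ _ _).symm
  refine ⟨?_, ?_, ?_, ?_, ?_, h6, h7, ?_, ?_, ?_⟩
  · rw [aG, ← map_pow, r1, map_one]
  · exact fun h => r2 (mclHom_injective (h.trans (map_one _).symm))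
  · rw [bG, ← map_pow, r3, map_one]
  · exact fun h => r4 (mclHom_injective (h.trans (map_one _).symm))
  · rw [mul_inv_eq_iff_eq_mul, aG, bG, ← map_mul, r6, map_mul, map_pow]
  · calc iG * bG * iG⁻¹ = tG * (tG * bG * tG⁻¹) * tG⁻¹ := by rw [← h7]; group
      _ = (tG * bG * tG⁻¹) ^ 2 := by rw [conj_pow, h6]
      _ = bG ^ 4 := by rw [h6, ← pow_mul]
  · rw [aG, iG, ← map_mul, ← map_pow, r8, map_one]
  · have := congrArg mclHom r9
    simpa [xaM, xbM, lM, mM, aG, bG, tG, iG, map_mul] using this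

theorem gens_M : aG ∈ M ∧ bG ∈ M ∧ tG ∈ M ∧ iG ∈ M :=
  ⟨w11_fix eA, w11_fix eB, w11_fix eT, w11_fix (eT * eT)⟩

theorem closure_pts : Subgroup.closure ({eA, eB, eT} : Set mclPts) = ⊤ := by
  rw [eq_top_iff]
  intro u _
  have hu : jP u ∈ fixMasks X22 := mem_fix22.2 ⟨u.1.2, u.2.1, u.2.2⟩
  let K := (Subgroup.closure ({eA, eB, eT} : Set mclPts)).map jP
  have hlet : ∀ c, (c = mA ∨ c = mB ∨ c = mT) → permOf c ∈ K := by
    rintro c (rfl | rfl | rfl)
    · exact ⟨eA, Subgroup.subset_closure (by simp), rfl⟩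
    · exact ⟨eB, Subgroup.subset_closure (by simp), rfl⟩
    · exact ⟨eT, Subgroup.subset_closure (by simp), rfl⟩
  have hw : ∀ (t : ℕ) (L : List ℕ), Letters L → valid t = true → eqW [t] L = true → permOf t ∈ K := by
    intro t L hL ht h
    have e := eqW_sound (L := [t]) (L' := L) (List.all_eq_true.2 fun g hg => by
      rcases List.mem_append.1 hg with hg | hg
      · rw [List.mem_singleton.1 hg]; exact ht
      · exact letters_valid hL g hg) h
    rw [List.map_singleton, List.prod_singleton] at e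
    rw [e]
    exact list_prod_mem fun σ hσ => by
      obtain ⟨c, hc, rfl⟩ := List.mem_map.1 hσ
      exact hlet c (hL c hc)
  have hle : fixMasks X22 ≤ K := by
    refine fixMasks_le_of_gens chain22 (slpOK_sound (fun g hg => ?_) M22gen_ok)
    simp only [M22genInit, List.mem_cons, List.not_mem_nil, or_false] at hg
    rcases hg with rfl | rfl
    · exact hw _ [mA, mT, mT, mA, mB, mT, mA, mT, mA, mA, mB, mB]
        (by intro g hg; simp at hg; tauto) (by decide +kernel) gen_words.1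
    · exact hw _ [mA, mA, mA, mT, mA, mB, mT, mT, mA, mT, mA, mA, mA]
        (by intro g hg; simp at hg; tauto) (by decide +kernel) gen_words.2
  obtain ⟨v, hv, e⟩ := hle hu
  rwa [← jP_injective e]

theorem closure_M : Subgroup.closure ({aG, bG, tG} : Set mclGroup) = M := by
  rw [← range_eq, MonoidHom.range_eq_map, ← closure_pts, MonoidHom.map_closure]
  congr 1
  simp [Set.image_insert_eq, aG, bG, tG]

theorem map_le_of_gens {φ : MulAut mclGroup} {K : Subgroup mclGroup}
    (h1 : φ aG ∈ K) (h2 : φ bG ∈ K) (h3 : φ tG ∈ K) : M.map φ.toMonoidHom ≤ K := by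
  rw [← closure_M, MonoidHom.map_closure, Subgroup.closure_le]
  rintro _ ⟨x, hx, rfl⟩
  simp only [Set.mem_insert_iff, Set.mem_singleton_iff] at hx
  rcases hx with rfl | rfl | rfl
  exacts [h1, h2, h3]

theorem commute_a {u : mclGroup} (hu : u ∈ M) (h : u * aG = aG * u) : u ∈ Subgroup.zpowers aG := by
  obtain ⟨s, rfl⟩ : u ∈ mclHom.range := range_eq ▸ hu
  have hs : e22 s * gA = gA * e22 s := by
    have : s * eA = eA * s := mclHom_injective (by rw [map_mul, map_mul]; exact h)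
    have := congrArg e22 this
    rwa [map_mul, map_mul] at this
  have hle : Subgroup.zpowers gA ≤ Subgroup.centralizer ({gA} : Set (fixMasks X22)) :=
    Subgroup.zpowers_le.2 (Subgroup.mem_centralizer_singleton_iff.2 rfl)
  have heq := Subgroup.eq_of_le_of_card_ge hle (by rw [cent_gA, Nat.card_zpowers, gA_order])
  have : e22 s ∈ Subgroup.zpowers gA := heq ▸ Subgroup.mem_centralizer_singleton_iff.2 hs
  obtain ⟨n, hn⟩ := Subgroup.mem_zpowers_iff.1 this
  have he : e22 eA = gA := rfl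
  rw [← he, ← map_zpow] at hn
  rw [← e22.injective hn, map_zpow]
  exact Subgroup.zpow_mem_zpowers _ _

theorem commute_b {u : mclGroup} (hu : u ∈ M) (h : u * bG = bG * u) : u ∈ Subgroup.zpowers bG := by
  obtain ⟨s, rfl⟩ : u ∈ mclHom.range := range_eq ▸ hu
  have hs : e22 s * gB = gB * e22 s := by
    have : s * eB = eB * s := mclHom_injective (by rw [map_mul, map_mul]; exact h)
    have := congrArg e22 this
    rwa [map_mul, map_mul] at this
  have hle : Subgroup.zpowers gB ≤ Subgroup.centralizer ({gB} : Set (fixMasks X22)) :=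
    Subgroup.zpowers_le.2 (Subgroup.mem_centralizer_singleton_iff.2 rfl)
  have heq := Subgroup.eq_of_le_of_card_ge hle (by rw [cent_gB, Nat.card_zpowers, gB_order])
  have : e22 s ∈ Subgroup.zpowers gB := heq ▸ Subgroup.mem_centralizer_singleton_iff.2 hs
  obtain ⟨n, hn⟩ := Subgroup.mem_zpowers_iff.1 this
  have he : e22 eB = gB := rfl
  rw [← he, ← map_zpow] at hn
  rw [← e22.injective hn, map_zpow]
  exact Subgroup.zpow_mem_zpowers _ _

/-! ### Fixed vectors -/

theorem fixA8 {y : leechLattice} (hy : InY 8 y) (h : aG • y = y) : y = w11 := by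
  obtain ⟨l, hl, e⟩ := fixed_mem_list valid3.1 cyc_ok.1 cyc_ok.2.2.1 cyc_ok.2.2.2.2.1
    hy.1 hy.2.1 hy.2.2 ((fix_iff eA y).1 h) search_C.1
  rw [List.mem_singleton] at hl
  subst hl
  exact Subtype.ext (e.trans w11_val.symm)

theorem fixA16 {y : leechLattice} (hy : InY (-16) y) (h : aG • y = y) : y = yP := by
  obtain ⟨l, hl, e⟩ := fixed_mem_list valid3.1 cyc_ok.1 cyc_ok.2.2.1 cyc_ok.2.2.2.2.1
    hy.1 hy.2.1 hy.2.2 ((fix_iff eA y).1 h) search_C.2
  rw [List.mem_singleton] at hl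
  subst hl
  exact Subtype.ext e

theorem fixB8 {y : leechLattice} (hy : InY 8 y) (h : bG • y = y) :
    ∃ l ∈ FV, (y : GolayPt → ℤ) = valL l := by
  obtain ⟨l, hl, e⟩ := fixed_mem_list valid3.2.1 cyc_ok.2.1 cyc_ok.2.2.2.1 cyc_ok.2.2.2.2.2
    hy.1 hy.2.1 hy.2.2 ((fix_iff eB y).1 h) rfl
  exact ⟨l, List.contains_iff_mem.1 (List.all_eq_true.1 search_B l hl), e⟩

theorem fixB16 {y : leechLattice} (hy : InY (-16) y) (h : bG • y = y) :
    ∃ l ∈ GV, (y : GolayPt → ℤ) = valL l := by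
  obtain ⟨l, hl, e⟩ := fixed_mem_list valid3.2.1 cyc_ok.2.1 cyc_ok.2.2.2.1 cyc_ok.2.2.2.2.2
    hy.1 hy.2.1 hy.2.2 ((fix_iff eB y).1 h) rfl
  exact ⟨l, List.contains_iff_mem.1 (List.all_eq_true.1 search_B' l hl), e⟩

theorem yP_fix : aG • yP = yP ∧ bG • yP = yP ∧ iG • yP = yP := by
  refine ⟨(fix_iff eA yP).2 ?_, (fix_iff eB yP).2 ?_, (fix_iff (eT * eT) yP).2 fun i => ?_⟩
  · intro i
    rw [jP_eA, permOf_apply valid3.1]
    exact (by decide +kernel : ∀ i, valL ypL (pt (img mA (idx i))) = valL ypL i) i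
  · intro i
    rw [jP_eB, permOf_apply valid3.2.1]
    exact (by decide +kernel : ∀ i, valL ypL (pt (img mB (idx i))) = valL ypL i) i
  · rw [map_mul, jP_eT, Equiv.Perm.mul_apply, permOf_apply valid3.2.2 i,
      permOf_pt valid3.2.2 (valid_lt valid3.2.2 (idx_lt i))]
    exact (by decide +kernel :
      ∀ i, valL ypL (pt (img mT (img mT (idx i)))) = valL ypL i) i

theorem tG_moves : tG • yP ≠ yP := fun h => by
  obtain ⟨i, hi⟩ := T_moves
  refine hi ?_
  have := (fix_iff eT yP).1 h i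
  rwa [jP_eT, permOf_apply valid3.2.2] at this

theorem normalizer_fix {n : mclGroup} (h : n⁻¹ * aG * n ∈ Subgroup.zpowers aG) :
    n • w11 = w11 ∧ n • yP = yP := by
  have key : ∀ y : leechLattice, aG • y = y → aG • (n • y) = n • y := by
    intro y hy
    have hk : (n⁻¹ * aG * n) • y = y :=
      (Subgroup.zpowers_le.2 (show aG ∈ MulAction.stabilizer mclGroup y from hy)) h
    calc aG • n • y = n • ((n⁻¹ * aG * n) • y) := by
          simp only [← mul_smul, mul_assoc, mul_inv_cancel_left]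
      _ = n • y := by rw [hk]
  exact ⟨fixA8 (inY_smul n inY_w11) (key _ gens_M.1),
    fixA16 (inY_smul n inY_yP) (key _ yP_fix.1)⟩

/-! ### Elements like `tG` -/

/-- The relations satisfied by images of `tG`. -/
def Good (h c : mclGroup) : Prop :=
  h * bG * h⁻¹ = bG ^ 2 ∧ h * h = iG ∧
    h * xaM iG bG c * h = lM iG bG c * (h * xbM iG bG c * h) * mM iG bG c

theorem good_fix_b {h : mclGroup} (hh : h * bG * h⁻¹ = bG ^ 2) {y : leechLattice} (hy : bG • y = y) :
    bG • (h • y) = h • y := by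
  obtain ⟨-, -, r3, -⟩ := rels_G
  have e : bG * h = h * bG ^ 3 := by
    calc bG * h = (bG ^ 2) ^ 3 * h := by
          rw [← pow_mul, show 2 * 3 = 5 + 1 by norm_num, pow_succ, r3, one_mul]
      _ = h * bG ^ 3 := by rw [← hh, conj_pow]; group
  rw [← mul_smul, e, mul_smul]
  exact congrArg _ (pow_mem (show bG ∈ MulAction.stabilizer mclGroup y from hy) 3)

/-- The elements of order 4 normalising `⟨bG⟩` act with square fixing the two base vectors. -/
theorem sq_fix {h : mclGroup} (hh : h * bG * h⁻¹ = bG ^ 2) (h4 : h ^ 4 = 1) {d : ℤ} {y : leechLattice}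
    {L : List (List ℤ)} (hL : noSquareB L = true) (hy : InY d y) (hby : bG • y = y)
    (hy0 : (y : GolayPt → ℤ) = valL (L.getD 0 [])) (hlen : L.length = 5)
    (hF : ∀ u, InY d u → bG • u = u → ∃ l ∈ L, (u : GolayPt → ℤ) = valL l) :
    (h * h) • y = y := by
  have hidx : ∀ u, InY d u → bG • u = u → ∃ a < 5, (u : GolayPt → ℤ) = valL (L.getD a []) := by
    intro u hu hbu
    obtain ⟨l, hl, e⟩ := hF u hu hbu
    obtain ⟨a, ha, rfl⟩ := List.getElem_of_mem hl
    exact ⟨a, hlen ▸ ha, by rw [e, List.getD_eq_getElem _ _ ha]⟩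
  set y1 := h • y with hy1
  set y2 := h • y1 with hy2
  set y3 := h • y2 with hy3
  have h1 := inY_smul h hy
  have f1 := good_fix_b hh hby
  have h2 := inY_smul h h1
  have f2 := good_fix_b hh f1
  have h3 := inY_smul h h2
  have f3 := good_fix_b hh f2
  have h40 : h • y3 = y := by
    rw [hy3, hy2, hy1, smul_smul, smul_smul, smul_smul]
    have : h * h * h * h = 1 := by rw [← h4]; simp [pow_succ]
    rw [this, one_smul]
  obtain ⟨a, ha, ea⟩ := hidx y1 h1 f1
  obtain ⟨b, hb, eb⟩ := hidx y2 h2 f2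
  obtain ⟨c, hc, ec⟩ := hidx y3 h3 f3
  rw [mul_smul]
  by_contra hne
  have inj : ∀ u v : leechLattice, (u : GolayPt → ℤ) = (v : GolayPt → ℤ) → u = v :=
    fun _ _ e => Subtype.ext e
  have hinj : ∀ u v : leechLattice, h • u = h • v → u = v := fun _ _ e => MulAction.injective h e
  have n02 : y2 ≠ y := hne
  have n01 : y1 ≠ y := fun e => hne (by show h • y1 = y; rw [e]; exact e)
  have n03 : y3 ≠ y := fun e => hne (by
    show y2 = y
    have := h40; rw [e] at this
    show h • y1 = y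
    rw [show y1 = h • y from hy1, this, this])
  have n12 : y1 ≠ y2 := fun e => n01 (hinj _ _ e).symm
  have n23 : y2 ≠ y3 := fun e => n12 (hinj _ _ e)
  have n13 : y1 ≠ y3 := fun e => n02 (hinj _ _ e).symm
  simp only [noSquareB, List.all_eq_true, List.mem_range] at hL
  have := hL a ha b hb c hc
  have d01 := dot_smul h y y1
  have d12 := dot_smul h y1 y2
  have d23 := dot_smul h y2 y3
  rw [h40, ← hy3] at d23
  rw [← hy1, ← hy2] at d01
  rw [← hy2, ← hy3] at d12
  rw [hy0, ea, eb] at d01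
  rw [ea, eb, ec] at d12
  rw [hy0, eb, ec] at d23
  simp only [Bool.not_eq_true', Bool.and_eq_false_iff, bne_eq_false_iff_eq, beq_eq_false_iff_ne,
    ne_eq] at this
  rcases this with ((((((((rfl | rfl) | rfl) | rfl) | rfl) | rfl) | e) | e) | e)
  · exact n01 (inj _ _ (ea.trans hy0.symm))
  · exact n02 (inj _ _ (eb.trans hy0.symm))
  · exact n03 (inj _ _ (ec.trans hy0.symm))
  · exact n12 (inj _ _ (ea.trans eb.symm))
  · exact n23 (inj _ _ (eb.trans ec.symm))
  · exact n13 (inj _ _ (ea.trans ec.symm))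
  · exact e d01.symm
  · exact e d12.symm
  · exact e d23.symm

theorem dot_word {s : mclPts} {L : List ℕ} (hs : jP s = (L.map permOf).prod) (hL : Letters L)
    {y : leechLattice} {g : List ℤ} (hy : (y : GolayPt → ℤ) = valL g) :
    dotInt ((mclHom s • y : leechLattice) : GolayPt → ℤ) y = dotW L g := by
  rw [dotW, dotInt, dotInt, ← Equiv.sum_comp (jP s)]
  refine Finset.sum_congr rfl fun i _ => ?_
  rw [smul_apply, hy]
  congr 2
  have := (actW_spec (letters_valid hL) (idx_lt i)).1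
  rwa [pt_idx, ← hs] at this

theorem c_words {c : mclGroup} {e : ℕ} (hc : c = aG ^ e) :
    mclHom (xaM (eT * eT) eB (eA ^ e)) = xaM iG bG c ∧
    mclHom (xbM (eT * eT) eB (eA ^ e)) = xbM iG bG c := by
  subst hc
  constructor <;> simp [xaM, xbM, iG, bG, aG, map_mul, map_pow]

theorem good_move {h c : mclGroup} (hg : Good h c) {e : ℕ} (hc : c = aG ^ e)
    {d : ℤ} {y : leechLattice} (hy : InY d y) (hby : bG • y = y) (hay : aG • y = y)
    (hiy : iG • y = y) {L : List (List ℤ)}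
    (hF : ∀ u, InY d u → bG • u = u → ∃ l ∈ L, (u : GolayPt → ℤ) = valL l) :
    ∃ g ∈ L, ((h • y : leechLattice) : GolayPt → ℤ) = valL g ∧
      dotW (xaW (List.replicate e mA)) g = dotW (xbW (List.replicate e mA)) g := by
  obtain ⟨g1, g2, g3⟩ := hg
  obtain ⟨g, hgL, eg⟩ := hF _ (inY_smul h hy) (good_fix_b g1 hby)
  refine ⟨g, hgL, eg, ?_⟩
  have hhy : h • h • y = y := by rw [← mul_smul, g2, hiy]
  have hcy : c ∈ MulAction.stabilizer mclGroup y := hc ▸ pow_mem (show aG ∈ _ from hay) e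
  have hb' : bG ∈ MulAction.stabilizer mclGroup y := hby
  have hi' : iG ∈ MulAction.stabilizer mclGroup y := hiy
  have hl : lM iG bG c ∈ MulAction.stabilizer mclGroup y :=
    mul_mem (mul_mem (mul_mem (mul_mem (mul_mem hb' hi') hcy) hb') hi') hcy
  have hm : mM iG bG c ∈ MulAction.stabilizer mclGroup y :=
    mul_mem (mul_mem (mul_mem (mul_mem (mul_mem hcy hcy) hcy) hcy) hi') hcy
  have key : ∀ x : mclGroup, dotInt ((((h * x * h) • y : leechLattice)) : GolayPt → ℤ) y =
      dotInt ((x • (h • y) : leechLattice) : GolayPt → ℤ) (h • y : leechLattice) := by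
    intro x
    conv_lhs => arg 2; rw [← hhy]
    rw [mul_smul, mul_smul, dot_smul]
  have hlr : dotInt (((h * xaM iG bG c * h) • y : leechLattice) : GolayPt → ℤ) y =
      dotInt (((h * xbM iG bG c * h) • y : leechLattice) : GolayPt → ℤ) y := by
    rw [g3, mul_smul, mul_smul, MulAction.mem_stabilizer_iff.1 hm]
    conv_lhs => arg 2; rw [← MulAction.mem_stabilizer_iff.1 hl]
    rw [dot_smul]
  rw [key, key] at hlr
  obtain ⟨j1, j2, -⟩ := jP_words e
  obtain ⟨l1, l2, -⟩ := letters_words e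
  rw [← (c_words hc).1, ← (c_words hc).2, dot_word j1 l1 eg, dot_word j2 l2 eg] at hlr
  exact hlr

theorem dich {h c : mclGroup} (hg : Good h c) {e : ℕ} (hc : c = aG ^ e) (he : e = 1 ∨ e = 10) :
    h • w11 = w11 ∨ (((h • w11 : leechLattice) : GolayPt → ℤ) = valL g4L ∧ h • yP = yP) := by
  obtain ⟨gF, hgF, eF, dF⟩ := good_move hg hc inY_w11 gens_M.2.1 gens_M.1 gens_M.2.2.2
    (fun u => fixB8)
  obtain ⟨gG, hgG, eG, dG⟩ := good_move hg hc inY_yP yP_fix.2.1 yP_fix.1 yP_fix.2.2
    (fun u => fixB16)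
  have hm := List.all_eq_true.1 move_checks e (by rcases he with rfl | rfl <;> simp)
  simp only [Bool.and_eq_true, List.all_eq_true, Bool.or_eq_true, Bool.not_eq_true', beq_iff_eq,
    beq_eq_false_iff_ne, ne_eq] at hm
  rcases (hm.1 gF hgF) with (h1 | h1) | h1
  · exact absurd dF h1
  · left; exact Subtype.ext (by rw [eF, h1, w11_val])
  · refine Or.inr ⟨by rw [eF, h1], ?_⟩
    rcases (hm.2 gG hgG) with (h2 | h2) | h2
    · exact absurd dG h2
    · exact Subtype.ext (by rw [eG, h2]; rfl)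
    · exfalso
      have := dot_smul h w11 yP
      rw [eF, eG, h1, h2, w11_val] at this
      have e2 := dot_checks
      simp only [dotV] at e2
      rw [e2.2] at this
      exact absurd (this.trans e2.1) (by norm_num)

theorem good_unique {h h' c c' : mclGroup} (hg : Good h c) (hg' : Good h' c')
    (e1 : ((h • w11 : leechLattice) : GolayPt → ℤ) = valL g4L)
    (e2 : ((h' • w11 : leechLattice) : GolayPt → ℤ) = valL g4L) : h' = h := by
  obtain ⟨-, -, r3, r4, -⟩ := rels_G
  set d := h⁻¹ * h' with hd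
  have hz : d ∈ M := by
    show d • w11 = w11
    rw [hd, mul_smul, inv_smul_eq_iff]
    exact Subtype.ext (e2.trans e1.symm)
  have hcomm : d * bG = bG * d := by
    have e : h' * bG * h'⁻¹ = h * bG * h⁻¹ := hg'.1.trans hg.1.symm
    calc d * bG = h⁻¹ * (h' * bG * h'⁻¹) * h' := by rw [hd]; group
      _ = bG * d := by rw [e, hd]; group
  obtain ⟨k, hk⟩ := Subgroup.mem_zpowers_iff.1 (commute_b hz hcomm)
  have hh' : h' = h * bG ^ k := by rw [hk, hd]; group
  have hb3 : h⁻¹ * bG ^ k * h = bG ^ (3 * k) := by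
    have e3 : h⁻¹ * bG * h = bG ^ 3 := by
      calc h⁻¹ * bG * h = h⁻¹ * (bG ^ 2) ^ 3 * h := by
            rw [← pow_mul, show 2 * 3 = 5 + 1 by norm_num, pow_succ, r3, one_mul]
        _ = bG ^ 3 := by rw [← hg.1, conj_pow]; group
    calc h⁻¹ * bG ^ k * h = (h⁻¹ * bG * h⁻¹⁻¹) ^ k := by rw [conj_zpow]; group
      _ = bG ^ (3 * k) := by
        rw [inv_inv, e3, ← zpow_natCast, ← zpow_mul]; rfl
  have h1 : bG ^ (4 * k) = 1 := by
    have e : h' * h' = h * h * (h⁻¹ * bG ^ k * h) * bG ^ k := by rw [hh']; group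
    rw [hg'.2.1, hg.2.1, hb3, mul_assoc, ← zpow_add] at e
    rw [show (4 : ℤ) * k = 3 * k + k by ring]
    exact left_eq_mul.1 e
  haveI : Fact (Nat.Prime 5) := ⟨by norm_num⟩
  have ho : orderOf bG = 5 := orderOf_eq_prime r3 r4
  rw [← orderOf_dvd_iff_zpow_eq_one, ho] at h1
  rw [hh', zpow_eq_one_of_dvd k h1, mul_one]
where
  zpow_eq_one_of_dvd (k : ℤ) (h1 : ((5 : ℕ) : ℤ) ∣ 4 * k) : bG ^ k = 1 := by
    obtain ⟨j, hj⟩ : (5 : ℤ) ∣ k := by omega
    rw [hj, zpow_mul, show (5 : ℤ) = ((5 : ℕ) : ℤ) from rfl, zpow_natCast, rels_G.2.2.1, one_zpow]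

/-! ### Normalisation -/

theorem inv_conj_mem {n : mclGroup} {l : ℕ} (h : n * aG * n⁻¹ = aG ^ l) (hl : ¬ 11 ∣ l) :
    n⁻¹ * aG * n ∈ Subgroup.zpowers aG := by
  obtain ⟨r1, r2, -⟩ := rels_G
  haveI : Fact (Nat.Prime 11) := ⟨by norm_num⟩
  obtain ⟨k, hk⟩ : ∃ k, (aG ^ l) ^ k = aG := exists_pow_eq_self_of_coprime (by
    rw [orderOf_eq_prime r1 r2, Nat.coprime_comm, (by norm_num : Nat.Prime 11).coprime_iff_not_dvd]
    exact hl)
  have : n⁻¹ * aG * n = aG ^ k := by
    calc n⁻¹ * aG * n = n⁻¹ * (aG ^ l) ^ k * n := by rw [hk]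
      _ = aG ^ k := by rw [← h, conj_pow]; group
  rw [this]
  exact Subgroup.npow_mem_zpowers _ _

theorem exists_normal (φ : MulAut mclGroup) : ∃ (g : mclGroup) (e : ℕ), (e = 1 ∨ e = 10) ∧
    (MulAut.conj g * φ) aG = aG ^ e ∧ (MulAut.conj g * φ) bG = bG ∧
    (MulAut.conj g * φ) iG = iG := by
  classical
  haveI : Finite mclGroup := Nat.finite_of_card_ne_zero (by rw [card_mclGroup]; norm_num)
  haveI : Fact (Nat.Prime 11) := ⟨by norm_num⟩
  obtain ⟨r1, r2, r3, r4, r5, r6, r7, r8, r9, -⟩ := rels_G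
  have hoA : orderOf aG = 11 := orderOf_eq_prime r1 r2
  have hpow : ∀ k : ℕ, aG ^ k = aG ^ (k % 11) := fun k => pow_eq_pow_mod k r1
  obtain ⟨S₁, hS₁⟩ := exists_sylow11 ((MulEquiv.orderOf_eq φ aG).trans hoA)
  obtain ⟨S₀, hS₀⟩ := exists_sylow11 hoA
  obtain ⟨g, hg⟩ := MulAction.exists_smul_eq mclGroup S₁ S₀
  have hmem : g * φ aG * g⁻¹ ∈ Subgroup.zpowers aG := by
    have h' : g * φ aG * g⁻¹ ∈ ((g • S₁ : Sylow 11 mclGroup) : Subgroup mclGroup) :=
      ⟨φ aG, by rw [hS₁]; exact Subgroup.mem_zpowers _, rfl⟩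
    rwa [hg, hS₀] at h'
  obtain ⟨e₁, he₁⟩ := (Submonoid.mem_powers_iff _ _).1 (mem_powers_iff_mem_zpowers.2 hmem)
  have he0 : ¬ 11 ∣ e₁ := fun h => by
    obtain ⟨q, rfl⟩ := h
    rw [pow_mul, r1, one_pow, eq_comm, conj_eq_one_iff] at he₁
    rw [φ.map_eq_one_iff] at he₁
    exact r2 he₁
  set ψ := MulAut.conj g * φ with hψ
  have ha : ψ aG = aG ^ e₁ := he₁.symm
  -- the image of `bG`
  set u := ψ bG with hu
  have hu3 : u * aG * u⁻¹ = aG ^ 3 := by
    obtain ⟨k, hk⟩ : ∃ k, (aG ^ e₁) ^ k = aG := exists_pow_eq_self_of_coprime (by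
      rw [hoA, Nat.coprime_comm, (by norm_num : Nat.Prime 11).coprime_iff_not_dvd]; exact he0)
    have h1 : u * aG ^ e₁ * u⁻¹ = (aG ^ e₁) ^ 3 := by
      rw [← ha, ← map_inv, ← map_mul, ← map_mul, r5, map_pow]
    calc u * aG * u⁻¹ = (u * aG ^ e₁ * u⁻¹) ^ k := by rw [conj_pow, hk]
      _ = ((aG ^ e₁) ^ k) ^ 3 := by rw [h1, pow_right_comm]
      _ = aG ^ 3 := by rw [hk]
  have huM : u ∈ M := (normalizer_fix (inv_conj_mem hu3 (by norm_num))).1
  have hv : (bG⁻¹ * u) * aG = aG * (bG⁻¹ * u) := by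
    have : bG⁻¹ * (u * aG * u⁻¹) * bG = aG := by rw [hu3, ← r5]; group
    calc (bG⁻¹ * u) * aG = (bG⁻¹ * (u * aG * u⁻¹) * bG) * (bG⁻¹ * u) := by group
      _ = aG * (bG⁻¹ * u) := by rw [this]
  obtain ⟨a, haa⟩ := (Submonoid.mem_powers_iff _ _).1 (mem_powers_iff_mem_zpowers.2
    (commute_a (mul_mem (inv_mem gens_M.2.1) huM) hv))
  have hu' : u = bG * aG ^ a := by rw [haa]; group
  -- remove the power of `aG`
  have hba : ∀ n : ℕ, bG * aG ^ n = aG ^ (3 * n) * bG := fun n => by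
    rw [← mul_inv_eq_iff_eq_mul, ← conj_pow, r5, ← pow_mul]
  have hstep : aG ^ (7 * a) * u * (aG ^ (7 * a))⁻¹ = bG := by
    rw [mul_inv_eq_iff_eq_mul, hu', hba, hba, ← mul_assoc, ← pow_add]
    congr 1
    rw [hpow (7 * a + 3 * a), hpow (3 * (7 * a))]
    congr 1; omega
  set χ := MulAut.conj (aG ^ (7 * a)) * ψ with hχ
  have hχb : χ bG = bG := hstep
  have hχa : χ aG = aG ^ e₁ := by
    show aG ^ (7 * a) * ψ aG * (aG ^ (7 * a))⁻¹ = _
    rw [ha, ← pow_add, add_comm, pow_add, mul_inv_cancel_right]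
  -- the image of `iG`
  set h := χ tG with hh
  have hhb : h * bG * h⁻¹ = bG ^ 2 := by
    conv_lhs => rw [← hχb]
    rw [← map_inv, ← map_mul, ← map_mul, r6, map_pow, hχb]
  have h4 : h ^ 4 = 1 := by
    have : tG ^ 4 = 1 := by rw [tG, ← map_pow, rels_pts.2.2.2.2.1, map_one]
    rw [hh, ← map_pow, this, map_one]
  have hvi : χ iG = h * h := by rw [← r7, map_mul]
  have hz := sq_fix hhb h4 noSquare.1 inY_w11 gens_M.2.1 w11_val rfl (fun u => fixB8)
  have hvM : χ iG ∈ M := by rw [hvi]; exact hz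
  have hvb : χ iG * bG * (χ iG)⁻¹ = bG ^ 4 := by
    conv_lhs => rw [← hχb]
    rw [← map_inv, ← map_mul, ← map_mul, r8, map_pow, hχb]
  have hcomm : (iG⁻¹ * χ iG) * bG = bG * (iG⁻¹ * χ iG) := by
    have : iG⁻¹ * (χ iG * bG * (χ iG)⁻¹) * iG = bG := by rw [hvb, ← r8]; group
    calc (iG⁻¹ * χ iG) * bG =
          (iG⁻¹ * (χ iG * bG * (χ iG)⁻¹) * iG) * (iG⁻¹ * χ iG) := by group
      _ = bG * (iG⁻¹ * χ iG) := by rw [this]
  obtain ⟨b, hb⟩ := (Submonoid.mem_powers_iff _ _).1 (mem_powers_iff_mem_zpowers.2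
    (commute_b (mul_mem (inv_mem gens_M.2.2.2) hvM) hcomm))
  have hib : ∀ n : ℕ, iG * bG ^ n = bG ^ (4 * n) * iG := fun n => by
    rw [← mul_inv_eq_iff_eq_mul, ← conj_pow, r8, ← pow_mul]
  have hi' : bG ^ (3 * b) * χ iG * (bG ^ (3 * b))⁻¹ = iG := by
    rw [show χ iG = iG * bG ^ b by rw [hb]; group, mul_inv_eq_iff_eq_mul, hib, hib, ← mul_assoc,
      ← pow_add]
    congr 1
    rw [pow_eq_pow_mod (3 * b + 4 * b) r3, pow_eq_pow_mod (4 * (3 * b)) r3]
    congr 1; omega
  set ω := MulAut.conj (bG ^ (3 * b)) * χ with hω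
  have hωi : ω iG = iG := hi'
  have hωb : ω bG = bG := by
    show bG ^ (3 * b) * χ bG * (bG ^ (3 * b))⁻¹ = bG
    rw [hχb, ← pow_succ, pow_succ', mul_inv_cancel_right]
  obtain ⟨e, he⟩ : ∃ e, ω aG = aG ^ e := by
    have hba' : ∀ n m : ℕ, bG ^ n * aG ^ m * (bG ^ n)⁻¹ = aG ^ (3 ^ n * m) := by
      intro n
      induction n with
      | zero => intro m; simp
      | succ n ih =>
        intro m
        calc bG ^ (n + 1) * aG ^ m * (bG ^ (n + 1))⁻¹
            = bG * (bG ^ n * aG ^ m * (bG ^ n)⁻¹) * bG⁻¹ := by rw [pow_succ']; group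
          _ = aG ^ (3 ^ (n + 1) * m) := by
            rw [ih, mul_inv_eq_iff_eq_mul, hba, pow_succ', mul_assoc 3]
    exact ⟨3 ^ (3 * b) * e₁, by
      show bG ^ (3 * b) * χ aG * (bG ^ (3 * b))⁻¹ = _
      rw [hχa, hba']⟩
  refine ⟨bG ^ (3 * b) * (aG ^ (7 * a) * g), e % 11, ?_, ?_, ?_, ?_⟩
  · have h11 : (aG ^ (e % 11) * iG) ^ 11 = 1 := by
      rw [← hpow, ← he, ← hωi, ← map_mul, ← map_pow, r9, map_one]
    exact pin_e (Nat.mod_lt _ (by norm_num)) (mclHom_injective (by
      rw [map_pow, map_mul, map_pow, map_one]; exact h11))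
  all_goals simp only [map_mul, mul_assoc]
  · rw [← hpow]; exact he
  · exact hωb
  · exact hωi

theorem good_image {χ : MulAut mclGroup} {h c c' : mclGroup} (hb : χ bG = bG) (hi : χ iG = iG)
    (hg : Good h c) (hc : χ c = c') : Good (χ h) c' := by
  obtain ⟨g1, g2, g3⟩ := hg
  refine ⟨?_, ?_, ?_⟩
  · have := congrArg χ g1
    rwa [map_mul, map_mul, map_inv, map_pow, hb] at this
  · have := congrArg χ g2
    rwa [map_mul, hi] at this
  · have := congrArg χ g3
    simpa only [xaM, xbM, lM, mM, map_mul, hb, hi, hc] using this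

theorem good_tG : Good tG aG := ⟨rels_G.2.2.2.2.2.1, rels_G.2.2.2.2.2.2.1, rels_G.2.2.2.2.2.2.2.2.2⟩

/-! ### Rigidity -/

theorem rigid {h c : mclGroup} (hg : Good h c) {e₀ : ℕ} (hc : c = aG ^ e₀) (he₀ : e₀ = 1 ∨ e₀ = 10)
    (hhz : ((h • w11 : leechLattice) : GolayPt → ℤ) = valL g4L)
    {ψ : MulAut mclGroup} {e : ℕ} (he : e = 1 ∨ e = 10) (ha : ψ aG = aG ^ e) (hb : ψ bG = bG)
    (hi : ψ iG = iG) (ht : ψ tG = tG) : ψ = 1 := by
  classical
  haveI : Finite mclGroup := Nat.finite_of_card_ne_zero (by rw [card_mclGroup]; norm_num)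
  obtain ⟨r1, r2, -⟩ := rels_G
  obtain ⟨m1, m2, m3, -⟩ := gens_M
  have hMle : M.map ψ.toMonoidHom ≤ M :=
    map_le_of_gens (ha ▸ pow_mem m1 e) (hb.symm ▸ m2) (ht.symm ▸ m3)
  have hMeq : M.map ψ.toMonoidHom = M := Subgroup.eq_of_le_of_card_ge hMle
    (le_of_eq (Nat.card_congr (M.equivMapOfInjective _ ψ.injective).toEquiv))
  have hmem : ∀ x, ψ x ∈ M ↔ x ∈ M := fun x => by
    constructor
    · intro hx
      rw [← hMeq] at hx
      obtain ⟨y, hy, e'⟩ := hx
      rwa [← ψ.injective e']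
    · exact fun hx => hMle ⟨x, hx, rfl⟩
  obtain ⟨e', he', hc'⟩ : ∃ e', (e' = 1 ∨ e' = 10) ∧ ψ c = aG ^ e' := by
    rw [hc, map_pow, ha, ← pow_mul, pow_eq_pow_mod (e * e₀) r1]
    refine ⟨_, ?_, rfl⟩
    rcases he with rfl | rfl <;> rcases he₀ with rfl | rfl <;> norm_num
  have hh : ψ h = h := by
    have hg' := good_image hb hi hg hc'
    rcases dich hg' rfl he' with h1 | ⟨h1, -⟩
    · exfalso
      have : h • w11 = w11 := (hmem h).1 h1
      exact g4_ne (by rw [← hhz, this, w11_val])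
    · exact good_unique hg hg' hhz h1
  -- `ψ` cannot invert `aG`
  have he1 : e = 1 := by
    rcases he with rfl | rfl
    · rfl
    exfalso
    obtain ⟨-, -, l1⟩ := letters_words 1
    obtain ⟨-, -, l10⟩ := letters_words 10
    obtain ⟨-, -, j1⟩ := jP_words 1
    obtain ⟨-, -, j10⟩ := jP_words 10
    set m := mclHom (badM eT eB (eA ^ 1)) with hm
    have hmh : m • (h • w11) = h • w11 := (fix_iff _ _).2 fun i => by
      rw [hhz]
      have := (actW_spec (letters_valid l1) (idx_lt i)).1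
      rw [pt_idx, ← j1] at this
      rw [this]
      exact bad_fix i
    have hmM : h⁻¹ * m * h ∈ M := by
      show (h⁻¹ * m * h) • w11 = w11
      rw [mul_smul, mul_smul, hmh, inv_smul_smul]
    have hψm : ψ m = mclHom (badM eT eB (eA ^ 10)) := by
      have hA : ψ (mclHom eA) = mclHom eA ^ 10 := ha
      have hB : ψ (mclHom eB) = mclHom eB := hb
      have hT : ψ (mclHom eT) = mclHom eT := ht
      simp only [hm, badM, map_mul, map_pow, hA, hB, hT, pow_one]
    have h2 : h⁻¹ * ψ m * h ∈ M := by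
      have := (hmem _).2 hmM
      rwa [map_mul, map_mul, map_inv, hh] at this
    obtain ⟨i, hi'⟩ := bad_move
    refine hi' ?_
    have h3 : (h⁻¹ * ψ m * h) • w11 = w11 := h2
    rw [mul_smul, mul_smul, inv_smul_eq_iff, hψm] at h3
    have h4 := (fix_iff _ _).1 h3 i
    rw [hhz] at h4
    have := (actW_spec (letters_valid l10) (idx_lt i)).1
    rw [pt_idx, ← j10] at this
    rwa [this] at h4
  subst he1
  rw [pow_one] at ha
  let H : Subgroup mclGroup := ψ.toMonoidHom.eqLocus (MonoidHom.id mclGroup)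
  have hMH : M ≤ H := by
    rw [← closure_M, Subgroup.closure_le]
    rintro x hx
    simp only [Set.mem_insert_iff, Set.mem_singleton_iff] at hx
    rcases hx with rfl | rfl | rfl
    exacts [ha, hb, ht]
  have hhH : h ∈ H := hh
  let T : Set leechLattice := MulAction.orbit H w11
  haveI : Finite T := (Set.finite_range _).to_subtype
  have hbig : 46 ≤ T.ncard := by
    obtain ⟨o1, o2, o3⟩ := orb_ok
    have hel : ∀ k : Fin orbCodes.length, inFix X22 (orbCodes.get k) = true := fun k =>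
      List.all_eq_true.1 o1 _ (List.get_mem _ _)
    let f : Fin orbCodes.length → T := fun k =>
      ⟨(mclHom (elem _ (hel k)))⁻¹ • (h • w11),
        ⟨⟨(mclHom (elem _ (hel k)))⁻¹ * h,
          H.mul_mem (H.inv_mem (hMH (w11_fix _))) hhH⟩,
          mul_smul (mclHom (elem _ (hel k)))⁻¹ h w11⟩⟩
    have hfi : Function.Injective f := by
      intro k k' e'
      have hval : ∀ (k : Fin orbCodes.length) (i : ℕ), i < 24 →
          (((f k : leechLattice)) : GolayPt → ℤ) (pt i) = g4L.getD (img (orbCodes.get k) i) 0 := by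
        intro k i hi
        have := smul_apply (elem _ (hel k)) ((f k : leechLattice)) (pt i)
        rw [show mclHom (elem _ (hel k)) • (f k : leechLattice) = h • w11 from
          smul_inv_smul _ _, hhz] at this
        rw [← this, show jP (elem _ (hel k)) = permOf (orbCodes.get k) from rfl,
          permOf_pt (inFix_valid (hel k)) hi, valL, idx_pt (valid_lt (inFix_valid (hel k)) hi)]
      have hlist : (List.range 24).map (fun i => g4L.getD (img (orbCodes.get k) i) 0) =
          (List.range 24).map fun i => g4L.getD (img (orbCodes.get k') i) 0 :=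
        List.map_congr_left fun i hi => by
          rw [← hval k i (List.mem_range.1 hi), ← hval k' i (List.mem_range.1 hi), e']
      have := List.inj_on_of_nodup_map o2 (List.get_mem _ k) (List.get_mem _ k') hlist
      exact (List.Nodup.of_map _ o2).injective_get this
    have := Nat.card_le_card_of_injective f hfi
    rw [Nat.card_coe_set_eq, Nat.card_fin, o3] at this
    exact this
  haveI : Fact (Nat.Prime 11) := ⟨by norm_num⟩
  have hTY : ∀ y ∈ T, InY 8 y := by rintro _ ⟨u, rfl⟩; exact inY_smul u.1 inY_w11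
  have hA : aG ∈ H := hMH m1
  have hmod : T.ncard % 11 = 1 := by
    have hP : IsPGroup 11 (Subgroup.zpowers (⟨aG, hA⟩ : H)) := IsPGroup.of_card (n := 1) (by
      rw [Nat.card_zpowers, ← Subgroup.orderOf_coe, orderOf_eq_prime r1 r2, pow_one])
    have hc1 := hP.card_modEq_card_fixedPoints T
    rw [Nat.card_coe_set_eq] at hc1
    have e1 : MulAction.fixedPoints (Subgroup.zpowers (⟨aG, hA⟩ : H)) T =
        {⟨w11, MulAction.mem_orbit_self w11⟩} := by
      ext ⟨y, hy⟩
      constructor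
      · intro hf
        exact Subtype.ext (fixA8 (hTY y hy)
          (congrArg Subtype.val (hf ⟨_, Subgroup.mem_zpowers _⟩)))
      · intro e2
        rw [Set.mem_singleton_iff] at e2
        rw [e2]
        rintro ⟨_, n, rfl⟩
        have hs : (⟨aG, hA⟩ : H) ∈
            MulAction.stabilizer H (⟨w11, MulAction.mem_orbit_self w11⟩ : T) := Subtype.ext m1
        exact MulAction.mem_stabilizer_iff.1 (Subgroup.zpow_mem _ hs n)
    rw [e1, Nat.card_coe_set_eq, Set.ncard_singleton] at hc1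
    exact hc1
  have hidx : T.ncard * H.index = 2025 := by
    rw [← index_M, ← Subgroup.relIndex_mul_index hMH, Subgroup.relIndex]
    congr 1
    rw [show M.subgroupOf H = MulAction.stabilizer H w11 from rfl, MulAction.index_stabilizer]
  have hkey : T.ncard = 2025 := by
    have hall : ((List.range 2025).all fun d => !(Nat.ble 46 d && (2025 % d == 0) &&
        (d % 11 == 1))) = true := by decide +kernel
    by_contra hne
    have hd : T.ncard ∣ 2025 := ⟨_, hidx.symm⟩
    have hlt : T.ncard < 2025 := lt_of_le_of_ne (Nat.le_of_dvd (by norm_num) hd) hne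
    have := List.all_eq_true.1 hall _ (List.mem_range.2 hlt)
    simp [show Nat.ble 46 T.ncard = true from Nat.ble_eq ▸ hbig, Nat.dvd_iff_mod_eq_zero.1 hd,
      hmod] at this
  rw [hkey] at hidx
  have htop : H = ⊤ := Subgroup.index_eq_one.1 (by omega)
  exact MulEquiv.ext fun x => (show x ∈ H by rw [htop]; trivial)

/-! ### The outer automorphism -/

theorem exists_swap : ∃ τ : Co0, τ • fiveV = fiveV ∧ τ • min44 = fiveV - min44 := by
  obtain ⟨τ, t1, t2⟩ := normal_mcl (u := fiveV) (v := fiveV - min44) fiveV_norm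
    (by decide +kernel) (by decide +kernel)
  refine ⟨τ, t1, ?_⟩
  conv_lhs => rw [← sub_sub_cancel fiveV min44]
  rw [co0_sub, t1, t2]

theorem exists_outer : ∃ χ₀ : MulAut mclGroup, ∃ e₀ : ℕ, (e₀ = 1 ∨ e₀ = 10) ∧
    χ₀ aG = aG ^ e₀ ∧ χ₀ bG = bG ∧ χ₀ iG = iG ∧
    ((χ₀ tG • w11 : leechLattice) : GolayPt → ℤ) = valL g4L := by
  obtain ⟨τ, t1, t2⟩ := exists_swap
  have t1' : τ⁻¹ • fiveV = fiveV := inv_smul_eq_iff.2 t1.symm
  have t2' : τ⁻¹ • min44 = fiveV - min44 := by
    rw [inv_smul_eq_iff, co0_sub, t1, t2, sub_sub_cancel]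
  have hsub : ∀ g : mclGroup, (g : Co0) • (fiveV - min44) = fiveV - min44 := fun g => by
    rw [co0_sub, smul_five, smul_min44]
  let Φ : MulAut mclGroup :=
    { toFun := fun g => ⟨τ * g.1 * τ⁻¹,
        (by show (τ * g.1 * τ⁻¹) • fiveV = fiveV; rw [mul_smul, mul_smul, t1', smul_five, t1]),
        (by show (τ * g.1 * τ⁻¹) • min44 = min44
            rw [mul_smul, mul_smul, t2', hsub, co0_sub, t1, t2, sub_sub_cancel])⟩
      invFun := fun g => ⟨τ⁻¹ * g.1 * τ,
        (by show (τ⁻¹ * g.1 * τ) • fiveV = fiveV; rw [mul_smul, mul_smul, t1, smul_five, t1']),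
        (by show (τ⁻¹ * g.1 * τ) • min44 = min44
            rw [mul_smul, mul_smul, t2, hsub, co0_sub, t1', t2', sub_sub_cancel])⟩
      left_inv := fun g => Subtype.ext (by
        show τ⁻¹ * (τ * g.1 * τ⁻¹) * τ = g.1; group)
      right_inv := fun g => Subtype.ext (by
        show τ * (τ⁻¹ * g.1 * τ) * τ⁻¹ = g.1; group)
      map_mul' := fun g k => Subtype.ext (by
        show τ * (g.1 * k.1) * τ⁻¹ = (τ * g.1 * τ⁻¹) * (τ * k.1 * τ⁻¹); group) }
  obtain ⟨a, e₀, he, h1, h2, h3⟩ := exists_normal Φ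
  refine ⟨MulAut.conj a * Φ, e₀, he, h1, h2, h3, ?_⟩
  rcases dich (good_image h2 h3 good_tG h1) rfl he with hz | ⟨hz, -⟩
  · exfalso
    set n : Co0 := (a : Co0) * τ with hn
    have hform : ∀ g : mclGroup, (((MulAut.conj a * Φ) g : mclGroup) : Co0) = n * g.1 * n⁻¹ := fun g => by
      show (a : Co0) * (τ * g.1 * τ⁻¹) * (a : Co0)⁻¹ = _
      rw [hn]; group
    set u := n⁻¹ • w11 with hu
    have hfix : ∀ g : mclGroup, (MulAut.conj a * Φ) g • w11 = w11 → g • u = u := fun g hg => by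
      have : (n * g.1 * n⁻¹) • w11 = w11 := by rw [← hform]; exact hg
      rw [mul_smul, mul_smul] at this
      show (g : Co0) • u = u
      rw [hu]
      exact eq_inv_smul_iff.2 this
    have n5 : n • fiveV = fiveV := by rw [hn, mul_smul, t1, smul_five]
    have n4 : n • min44 = fiveV - min44 := by rw [hn, mul_smul, t2, hsub]
    have huY : InY (-16) u := by
      refine ⟨(co0_sq _ _).trans inY_w11.1, ?_, ?_⟩
      · rw [← co0_dot n fiveV u, n5, hu, smul_inv_smul]; exact inY_w11.2.1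
      · rw [← co0_dot n min44 u, n4, hu, smul_inv_smul]
        decide +kernel
    have ha : aG • u = u := hfix aG (by rw [h1]; exact pow_mem gens_M.1 e₀)
    have huP := fixA16 huY ha
    exact tG_moves (huP ▸ hfix tG hz)
  · exact hz

theorem card_out_mclGroup : Nat.card (Cfsg.Out mclGroup) = 2 := by
  classical
  haveI : Finite mclGroup := Nat.finite_of_card_ne_zero (by rw [card_mclGroup]; norm_num)
  obtain ⟨χ₀, e₀, he₀, a0, b0, i0, z0⟩ := exists_outer
  have good0 : Good (χ₀ tG) (aG ^ e₀) := good_image b0 i0 good_tG a0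
  obtain ⟨r1, r2, -⟩ := rels_G
  have key : ∀ φ : MulAut mclGroup, φ ∈ Cfsg.Inn mclGroup ∨ χ₀⁻¹ * φ ∈ Cfsg.Inn mclGroup := by
    intro φ
    obtain ⟨g, e, he, h1, h2, h3⟩ := exists_normal φ
    set χ := MulAut.conj g * φ with hχ
    have hgood := good_image h2 h3 good_tG h1
    rcases dich hgood rfl he with hz | ⟨hz, -⟩
    · left
      have ht : χ tG = tG := by
        have hcomm : (tG⁻¹ * χ tG) * bG = bG * (tG⁻¹ * χ tG) := by
          have e' : χ tG * bG * (χ tG)⁻¹ = tG * bG * tG⁻¹ := hgood.1.trans good_tG.1.symm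
          calc (tG⁻¹ * χ tG) * bG = tG⁻¹ * (χ tG * bG * (χ tG)⁻¹) * χ tG := by group
            _ = bG * (tG⁻¹ * χ tG) := by rw [e']; group
        exact t_unique (mul_mem (inv_mem gens_M.2.2.1) hz) hcomm hgood.2.1
      have := rigid good0 rfl he₀ z0 he h1 h2 h3 ht
      refine ⟨g⁻¹, ?_⟩
      rw [hχ, mul_eq_one_iff_inv_eq'] at this
      rw [map_inv]
      exact (inv_eq_of_mul_eq_one_right (by rw [← this]; group)).trans rfl
    · right
      have hT : χ tG = χ₀ tG := good_unique good0 hgood z0 hz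
      have b0' : χ₀⁻¹ bG = bG := (MulEquiv.symm_apply_eq χ₀).2 b0.symm
      have i0' : χ₀⁻¹ iG = iG := (MulEquiv.symm_apply_eq χ₀).2 i0.symm
      have a0' : χ₀⁻¹ aG = aG ^ e₀ := by
        refine (MulEquiv.symm_apply_eq χ₀).2 ?_
        rw [map_pow, a0, ← pow_mul, pow_eq_pow_mod (e₀ * e₀) r1]
        rcases he₀ with rfl | rfl <;> norm_num
      obtain ⟨e', he', hψa⟩ : ∃ e', (e' = 1 ∨ e' = 10) ∧ (χ₀⁻¹ * χ) aG = aG ^ e' := by
        show ∃ e', (e' = 1 ∨ e' = 10) ∧ χ₀⁻¹ (χ aG) = aG ^ e'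
        rw [h1, map_pow, a0', ← pow_mul, pow_eq_pow_mod (e₀ * e) r1]
        refine ⟨_, ?_, rfl⟩
        rcases he₀ with rfl | rfl <;> rcases he with rfl | rfl <;> norm_num
      have := rigid good0 rfl he₀ z0 he' hψa
        (show χ₀⁻¹ (χ bG) = bG by rw [h2, b0'])
        (show χ₀⁻¹ (χ iG) = iG by rw [h3, i0'])
        (show χ₀⁻¹ (χ tG) = tG by rw [hT]; exact MulEquiv.symm_apply_apply χ₀ tG)
      rw [inv_mul_eq_one] at this
      refine ⟨χ₀⁻¹ (g⁻¹), ?_⟩
      rw [show φ = MulAut.conj g⁻¹ * χ by rw [hχ, map_inv, inv_mul_cancel_left], ← this]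
      refine MulEquiv.ext fun x => ?_
      show χ₀⁻¹ g⁻¹ * x * (χ₀⁻¹ g⁻¹)⁻¹ = χ₀⁻¹ (g⁻¹ * χ₀ x * g⁻¹⁻¹)
      simp only [map_mul, map_inv, inv_inv,
        show χ₀⁻¹ (χ₀ x) = x from MulEquiv.symm_apply_apply χ₀ x]
  have hout : χ₀ ∉ Cfsg.Inn mclGroup := by
    rintro ⟨a, ha⟩
    have e1 : a * aG * a⁻¹ = aG ^ e₀ := by rw [← a0, ← ha]; rfl
    have ha' := (normalizer_fix (inv_conj_mem e1 (by rcases he₀ with rfl | rfl <;> norm_num))).1
    have e2 : χ₀ tG = a * tG * a⁻¹ := by rw [← ha]; rfl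
    have hz : χ₀ tG • w11 = w11 := by
      rw [e2]
      exact mul_mem (mul_mem (show a ∈ M from ha') gens_M.2.2.1) (inv_mem (show a ∈ M from ha'))
    exact g4_ne (by rw [← z0, hz, w11_val])
  rw [Nat.card_eq_two_iff]
  refine ⟨(1 : Cfsg.Out mclGroup), (χ₀ : Cfsg.Out mclGroup), fun h => hout ?_, ?_⟩
  · exact (QuotientGroup.eq_one_iff χ₀).1 h.symm
  · refine Set.eq_univ_of_forall fun x => ?_
    induction x using QuotientGroup.induction_on with | H φ =>
    rcases key φ with h | h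
    · exact Or.inl ((QuotientGroup.eq_one_iff φ).2 h)
    · exact Or.inr (QuotientGroup.eq.2 h).symm
where
  t_unique {χt : mclGroup} (hz : tG⁻¹ * χt ∈ M)
      (hcomm : (tG⁻¹ * χt) * bG = bG * (tG⁻¹ * χt)) (hsq : χt * χt = iG) : χt = tG := by
    obtain ⟨-, -, r3, r4, -, r6, r7, -⟩ := rels_G
    haveI : Fact (Nat.Prime 5) := ⟨by norm_num⟩
    obtain ⟨k, hk⟩ := (Submonoid.mem_powers_iff _ _).1 (mem_powers_iff_mem_zpowers.2
      (isOfFinOrder_iff_pow_eq_one.2 ⟨5, by norm_num, r3⟩ |>.mem_powers_iff_mem_zpowers.2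
        (commute_b hz hcomm) |> fun h => mem_powers_iff_mem_zpowers.1 h))
    have hx : χt = tG * bG ^ k := by rw [hk]; group
    have hbt : ∀ n : ℕ, tG * bG ^ n = bG ^ (2 * n) * tG := fun n => by
      rw [← mul_inv_eq_iff_eq_mul, ← conj_pow, r6, ← pow_mul]
    have h1 : bG ^ (2 * (2 * k) + 2 * k) = 1 := by
      have : χt * χt = bG ^ (2 * (2 * k) + 2 * k) * iG := by
        rw [hx, ← r7]
        calc tG * bG ^ k * (tG * bG ^ k) = bG ^ (2 * k) * (tG * bG ^ (2 * k)) * tG := by
              rw [hbt k]; group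
          _ = bG ^ (2 * (2 * k) + 2 * k) * (tG * tG) := by rw [hbt, pow_add]; group
      rw [hsq] at this
      exact right_eq_mul.1 this
    rw [← orderOf_dvd_iff_pow_eq_one, orderOf_eq_prime r3 r4] at h1
    obtain ⟨q, hq⟩ : 5 ∣ k := by omega
    rw [hx, hq, pow_mul, r3, one_pow, mul_one]

end CfsgLib.Golay.McLOut
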