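import Cfsg.Agent.Lib.Golay.FixSearch
import Cfsg.Agent.Lib.Golay.M22Index
import Cfsg.Agent.Lib.KnownA.MathieuOut

/-! Finite checks for the automorphisms of the McLaughlin group. -/

set_option autoImplicit false
set_option maxRecDepth 100000

namespace CfsgLib.Golay.McLOut

open Cfsg CfsgLib.Mathieu CfsgLib.Golay CfsgLib.Golay.FixSearch
open CfsgLib.KnownA.Mathieu (actW eqW)

/-- The five vectors fixed by the element of order 5. -/
def FV : List (List ℤ) := [[-1, -1, -1, -1, -1, -1, -1, -1, -1, -1, -1, -1, -1, -1, -1, -1, -1, -1, -1, -1, -1, -1, -1, 3], [1, -3, -1, 1, 1, -1, -1, -1, -1, -1, -1, 1, -1, -1, -1, -1, -1, -1, -1, 1, 1, -1, -1, 1], [1, -1, -3, -1, -1, -1, -1, 1, 1, -1, 1, -1, -1, -1, 1, -1, 1, -1, -1, -1, -1, -1, -1, 1], [2, -2, 2, 0, 0, -2, -2, 0, 0, 0, 0, 0, -2, -2, 0, -2, 0, 0, 0, 0, 0, 0, 0, 0], [2, 2, -2, 0, 0, -2, -2, 0, 0, 0, 0, 0, -2, -2, 0, -2, 0, 0, 0, 0, 0, 0, 0, 0]]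

/-- Their counterparts. -/
def GV : List (List ℤ) := [[-3, -1, 1, 1, 1, -1, -1, -1, -1, 1, -1, 1, -1, -1, -1, -1, -1, 1, 1, 1, 1, 1, 1, -1], [-4, -4, 0, 0, 0, 0, 0, 0, 0, 0, 0, 0, 0, 0, 0, 0, 0, 0, 0, 0, 0, 0, 0, 0], [-4, 0, -4, 0, 0, 0, 0, 0, 0, 0, 0, 0, 0, 0, 0, 0, 0, 0, 0, 0, 0, 0, 0, 0], [-3, 1, -1, -1, -1, -1, -1, 1, 1, 1, 1, -1, -1, -1, 1, -1, 1, 1, 1, -1, -1, 1, 1, -1], [-1, -1, -1, 1, 1, -1, -1, 1, 1, 1, 1, 1, -1, -1, 1, -1, 1, 1, 1, 1, 1, 1, 1, -3]]

/-- Elements moving `g4` to distinct vectors. -/
def orbCodes : List ℕ := [984818244535754528103549039458486304, 967173503929442592026093613450072256, 967976119978084896378655799278535744, 981509031258073797721231075552478528, 984319979964631232960081941648543936, 981719397792888739219907518242396288, 977518665427672042737705873521060256, 967881156341967823629098391653401920, 983462599399213818890778030726720032, 958153179485498616474264440580705664, 980960151819760340582288530853957824, 958890512362649744681727684431091840, 980301131920480701412255868950101376, 984753416153323868059910651090573440, 980872132077806175346102749555626176,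 973962875487162739113767900213990496, 967765885282739091694591097590983072, 974259297494077308602257223898576192, 961290757166146547225337853551954368, 960956694125174161373835795873606176, 970092663855744161593918787969922496, 967925277391740629567172808285596192, 970517193638904801908713893936088384, 969789038474442949675690323210883232, 969752974259672973536474047837548640, 967256293032646117596996835092351424, 967842702263519698500265929147127936, 981615703156096135298905893726950848, 981447246107135257588545786066604224, 966383515756311769106287765394950720, 982123792179061426261988928843464064, 966541933663139405695057655054545376, 967334257720109558622790660777909664, 967980655729144354223118916083421376, 958166525871878944269808670728735136, 984738331201147667086467244678811840, 958751114550034844028063641478076544, 978027309229649917787648653896242272, 984513769179839471597633534347054752, 957108619461087602892420117439192448, 976543808122192463903884703655274912, 957052296742193181855890528972911936, 976700877991968165228100215341618560, 967635932608468476877687355590686016,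 960028646468221504868683929034741248, 959448385409662480533056962564602432]

/-- `w11`. -/
def zL : List ℤ := FV.getD 0 []

/-- The fixed vector of the second kind. -/
def ypL : List ℤ := GV.getD 0 []

/-- The vector to which an element of the second subgroup moves `zL`. -/
def g4L : List ℤ := FV.getD 4 []

/-- Its counterpart. -/
def g4L' : List ℤ := GV.getD 3 []

/-- The inner product of two listed vectors. -/
def dotV (a b : List ℤ) : ℤ := dotInt (valL a) (valL b)

/-- The inner product of a listed vector with its translate by a word. -/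
def dotW (L : List ℕ) (g : List ℤ) : ℤ :=
  dotInt (valL g) fun i => valL g (pt (actW L (idx i)))

/-- A word. -/
def xaW (c : List ℕ) : List ℕ := c ++ c ++ [mB, mT, mT] ++ c
/-- A word. -/
def xbW (c : List ℕ) : List ℕ := c ++ c ++ [mT, mT, mB] ++ c
/-- A word. -/
def lW (c : List ℕ) : List ℕ := [mB, mT, mT] ++ c ++ [mB, mT, mT] ++ c
/-- A word. -/
def mW (c : List ℕ) : List ℕ := c ++ c ++ c ++ c ++ [mT, mT] ++ c
/-- A word fixing `g4L`, whose twist does not. -/
def badW (c : List ℕ) : List ℕ := [mT, mT, mT] ++ c ++ c ++ c ++ c ++ c ++ c ++ c ++ c ++ c ++ c ++ [mB, mB, mB, mB, mT, mT] ++ c ++ [mT]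

theorem search_C : search 8 [128482, 8260124] [11, 11] = [zL] ∧
    search (-16) [128482, 8260124] [11, 11] = [ypL] := by
  constructor <;> decide +kernel

theorem search_B : ((search 8 [1574936, 45152, 83328, 6685184, 2, 4] [5, 5, 5, 5, 1, 1]).all
    fun l => FV.contains l) = true := by decide +kernel

theorem search_B' : ((search (-16) [1574936, 45152, 83328, 6685184, 2, 4] [5, 5, 5, 5, 1, 1]).all
    fun l => GV.contains l) = true := by decide +kernel

theorem cyc_ok : ([128482, 8260124].all fun m => cycB mA m) = true ∧
    ([1574936, 45152, 83328, 6685184, 2, 4].all fun m => cycB mB m) = true ∧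
    partB ([128482, 8260124] ++ tailSets) = true ∧
    partB ([1574936, 45152, 83328, 6685184, 2, 4] ++ tailSets) = true ∧
    ([11, 11] : List ℤ) = [128482, 8260124].map cnt ∧
    ([5, 5, 5, 5, 1, 1] : List ℤ) = [1574936, 45152, 83328, 6685184, 2, 4].map cnt := by
  refine ⟨?_, ?_, ?_, ?_, ?_, ?_⟩ <;> decide +kernel

theorem dot_checks : dotV zL ypL = 0 ∧ dotV g4L g4L' = 8 := by constructor <;> decide +kernel

/-- No four cycle preserves the inner products of the five vectors. -/
def noSquareB (L : List (List ℤ)) : Bool :=
  let D := fun a b => dotV (L.getD a []) (L.getD b [])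
  (List.range 5).all fun a => (List.range 5).all fun b => (List.range 5).all fun c =>
    !(a != 0 && b != 0 && c != 0 && a != b && b != c && a != c &&
      D 0 a == D a b && D a b == D b c && D b c == D c 0)

theorem noSquare : noSquareB FV = true ∧ noSquareB GV = true := by
  constructor <;> decide +kernel

theorem move_checks : ([1, 10].all fun e =>
    (FV.all fun g => !(dotW (xaW (List.replicate e mA)) g == dotW (xbW (List.replicate e mA)) g) ||
      g == zL || g == g4L) &&
    (GV.all fun g => !(dotW (xaW (List.replicate e mA)) g == dotW (xbW (List.replicate e mA)) g) ||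
      g == ypL || g == g4L')) = true := by decide +kernel

theorem rel_check : eqW ([mT] ++ xaW [mA] ++ [mT]) (lW [mA] ++ [mT] ++ xbW [mA] ++ [mT] ++ mW [mA]) =
    true := by decide +kernel

theorem pin_check : ((List.range 11).all fun e =>
    !eqW (List.replicate 11 (List.replicate e mA ++ [mT, mT])).flatten [] || e == 1 || e == 10) =
      true := by decide +kernel

theorem pin_rel : eqW (List.replicate 11 [mA, mT, mT]).flatten [] = true := by decide +kernel

theorem bad_fix : ∀ i, valL g4L (pt (actW (badW [mA]) (idx i))) = valL g4L i := by decide +kernel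

theorem bad_move : ∃ i, valL g4L (pt (actW (badW (List.replicate 10 mA)) (idx i))) ≠ valL g4L i := by
  decide +kernel

theorem T_moves : ∃ i, valL ypL (pt (img mT (idx i))) ≠ valL ypL i := by decide +kernel

theorem orb_ok : orbCodes.all (fun c => inFix X22 c) = true ∧
    (orbCodes.map fun c => (List.range 24).map fun i => g4L.getD (img c i) 0).Nodup ∧
    orbCodes.length = 46 := by
  refine ⟨?_, ?_, ?_⟩ <;> decide +kernel

theorem perm_rels : eqW [mB, mA] [mA, mA, mA, mB] = true ∧ eqW [mT, mB] [mB, mB, mT] = true ∧
    eqW (List.replicate 4 mT) [] = true ∧ eqW (List.replicate 11 mA) [] = true ∧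
    eqW (List.replicate 5 mB) [] = true ∧ eqW [mA] [] = false ∧ eqW [mB] [] = false := by
  refine ⟨?_, ?_, ?_, ?_, ?_, ?_, ?_⟩ <;> decide +kernel

theorem gen_words : eqW [M22genInit.getD 0 0] [mA, mT, mT, mA, mB, mT, mA, mT, mA, mA, mB, mB] = true ∧
    eqW [M22genInit.getD 1 0] [mA, mA, mA, mT, mA, mB, mT, mT, mA, mT, mA, mA, mA] = true := by
  constructor <;> decide +kernel

end CfsgLib.Golay.McLOut
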