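import Mathlib

/-! Orders of normalisers of subgroups of prime order inside subgroups of a finite group. -/

set_option autoImplicit false

namespace CfsgLib.Golay

variable {G : Type*} [Group G] [Finite G]

theorem card_normalizer_dvd {a : G} {p c : ℕ} (hp : p.Prime) (ha : orderOf a = p)
    (hc : Nat.card (Subgroup.centralizer ({a} : Set G)) = c) :
    Nat.card (Subgroup.normalizer (Subgroup.zpowers a : Set G)) ∣ c * (p - 1) := by
  haveI : Fact p.Prime := ⟨hp⟩
  set A := Subgroup.zpowers a
  let f := Subgroup.normalizerMonoidHom A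
  have hker : Nat.card f.ker = c := by
    have e : Subgroup.centralizer (A : Set G) = Subgroup.centralizer ({a} : Set G) := by
      rw [← Subgroup.centralizer_closure ({a} : Set G), ← Subgroup.zpowers_eq_closure]
    rw [Subgroup.normalizerMonoidHom_ker, ← hc, ← e]
    exact Nat.card_congr (Subgroup.subgroupOfEquivOfLe (Subgroup.centralizer_le_normalizer _)).toEquiv
  have h1 := Subgroup.card_mul_index f.ker
  rw [hker, Subgroup.index_ker] at h1
  rw [← h1]
  refine mul_dvd_mul_left c ?_
  have h2 : Nat.card (MulAut A) = p - 1 := by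
    rw [IsCyclic.card_mulAut, Nat.card_zpowers, ha, Nat.totient_prime hp]
  exact h2 ▸ Subgroup.card_subgroup_dvd_card _

/-- Sylow counting in a subgroup. -/
theorem normalizer_meet_count {a : G} {p c : ℕ} (hp : p.Prime) (ha : orderOf a = p)
    (hc : Nat.card (Subgroup.centralizer ({a} : Set G)) = c) {H : Subgroup G} (haH : a ∈ H)
    (hsq : ¬ p ^ 2 ∣ Nat.card H) :
    ∃ d : ℕ, Nat.card ↥(H ⊓ Subgroup.normalizer (Subgroup.zpowers a : Set G)) = d ∧ p ∣ d ∧
      d ∣ c * (p - 1) ∧ d ∣ Nat.card H ∧ (Nat.card H / d) % p = 1 := by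
  haveI : Fact p.Prime := ⟨hp⟩
  set N := Subgroup.normalizer (Subgroup.zpowers a : Set G)
  have hle : Subgroup.zpowers a ≤ H ⊓ N :=
    le_inf (Subgroup.zpowers_le.2 haH) Subgroup.le_normalizer
  refine ⟨_, rfl, ?_, ?_, Subgroup.card_dvd_of_le inf_le_left, ?_⟩
  · have := Subgroup.card_dvd_of_le hle
    rwa [Nat.card_zpowers, ha] at this
  · exact (Subgroup.card_dvd_of_le inf_le_right).trans (card_normalizer_dvd hp ha hc)
  · have hA : Nat.card ((Subgroup.zpowers a).subgroupOf H) = p := by
      rw [Nat.card_congr (Subgroup.subgroupOfEquivOfLe (Subgroup.zpowers_le.2 haH)).toEquiv,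
        Nat.card_zpowers, ha]
    have hfac : (Nat.card H).factorization p = 1 := by
      have h1 : 1 ≤ (Nat.card H).factorization p := by
        rw [← Nat.Prime.pow_dvd_iff_le_factorization hp Nat.card_pos.ne', pow_one]
        exact hA ▸ Subgroup.card_subgroup_dvd_card _
      have h2 : ¬ 2 ≤ (Nat.card H).factorization p := by
        rwa [← Nat.Prime.pow_dvd_iff_le_factorization hp Nat.card_pos.ne']
      omega
    let P : Sylow p H := Sylow.ofCard ((Subgroup.zpowers a).subgroupOf H) (by rw [hA, hfac, pow_one])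
    have hmod := card_sylow_modEq_one p H
    rw [Sylow.card_eq_index_normalizer P, Nat.ModEq] at hmod
    rw [Nat.one_mod_eq_one.2 hp.ne_one] at hmod
    rw [← hmod]
    congr 1
    have e : Subgroup.normalizer (P : Set H) = (H ⊓ N).subgroupOf H := by
      show Subgroup.normalizer (((Subgroup.zpowers a).subgroupOf H : Subgroup H) : Set H) = _
      rw [← Subgroup.subgroupOf_normalizer_eq (Subgroup.zpowers_le.2 haH),
        Subgroup.inf_subgroupOf_left]
    rw [e]
    have h3 := Subgroup.card_mul_index ((H ⊓ N).subgroupOf H)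
    rw [Nat.card_congr (Subgroup.subgroupOfEquivOfLe (inf_le_left : H ⊓ N ≤ H)).toEquiv] at h3
    rw [← h3, Nat.mul_div_cancel_left _ Nat.card_pos]

/-- A conjugate of a subgroup contains a given element of prime order `p`. -/
theorem exists_conj_mem {a : G} {p : ℕ} (hp : p.Prime) (ha : orderOf a = p)
    (hsq : ¬ p ^ 2 ∣ Nat.card G) {H : Subgroup G} (h : p ∣ Nat.card H) :
    ∃ g : G, a ∈ H.map (MulAut.conj g).toMonoidHom := by
  haveI : Fact p.Prime := ⟨hp⟩
  obtain ⟨x, hx⟩ := exists_prime_orderOf_dvd_card' p h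
  have hx' : orderOf (x : G) = p := (Subgroup.orderOf_coe x).trans hx
  have hfac : (Nat.card G).factorization p = 1 := by
    have h1 : 1 ≤ (Nat.card G).factorization p := by
      rw [← Nat.Prime.pow_dvd_iff_le_factorization hp Nat.card_pos.ne', pow_one]
      exact ha ▸ orderOf_dvd_natCard a
    have h2 : ¬ 2 ≤ (Nat.card G).factorization p := by
      rwa [← Nat.Prime.pow_dvd_iff_le_factorization hp Nat.card_pos.ne']
    omega
  have hcard : ∀ y : G, orderOf y = p → Nat.card (Subgroup.zpowers y) =
      p ^ (Nat.card G).factorization p := fun y hy => by rw [Nat.card_zpowers, hy, hfac, pow_one]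
  obtain ⟨g, hg⟩ := MulAction.exists_smul_eq G (Sylow.ofCard _ (hcard _ hx'))
    (Sylow.ofCard _ (hcard _ ha))
  have hmem : a ∈ ((g • Sylow.ofCard _ (hcard _ hx') : Sylow p G) : Subgroup G) := by
    rw [hg]; exact Subgroup.mem_zpowers a
  obtain ⟨y, hy, e⟩ := hmem
  exact ⟨g, y, (Subgroup.zpowers_le.2 x.2) hy, e⟩

end CfsgLib.Golay
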