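import Cfsg.Agent.Lib.Golay.Chain

/-! Generated certificates: stabilisers for orbit computation C. -/

set_option autoImplicit false
set_option maxRecDepth 100000

namespace CfsgLib.Golay

/-- Transversals and refutations: C_base. -/
def orbC_baseLevels : List Level := [
  (1,
    [984818244535754528103549039458486304,
     976990105829392847739289005721748544,
     980950706932289206909372855713072224,
     965374508242841933242173352489059488,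
     969028219063631606277012225244857792,
     971496451907968610877962465629505056],
    [(0, [(1, 2, 0)]),
     (4, [(2, 4, 3), (2, 0, 3), (1, 0, 3), (1, 0, 3)]),
     (6, [(2, 4, 3), (2, 0, 3), (1, 0, 3), (1, 0, 3)]),
     (7, [(2, 4, 3), (2, 0, 3), (1, 0, 3), (1, 0, 3)]),
     (8, [(2, 4, 3), (2, 0, 3), (1, 0, 3), (1, 0, 3)]),
     (9, [(2, 4, 3), (2, 0, 3), (1, 0, 3), (1, 0, 3)]),
     (10, [(2, 4, 3), (2, 0, 3), (1, 0, 3), (1, 0, 3)]),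
     (11, [(2, 4, 3), (2, 0, 3), (1, 0, 3), (1, 0, 3)]),
     (12, [(2, 4, 3), (2, 0, 3), (1, 0, 3), (1, 0, 3)]),
     (13, [(2, 4, 3), (2, 0, 3), (1, 0, 3), (1, 0, 3)]),
     (15, [(2, 4, 3), (2, 0, 3), (1, 0, 3), (1, 0, 3)]),
     (16, [(2, 4, 3), (2, 0, 3), (1, 0, 3), (1, 0, 3)]),
     (18, [(2, 4, 3), (2, 0, 3), (1, 0, 3), (1, 0, 3)]),
     (19, [(2, 4, 3), (2, 0, 3), (1, 0, 3), (1, 0, 3)]),
     (20, [(2, 4, 3), (2, 0, 3), (1, 0, 3), (1, 0, 3)]),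
     (21, [(2, 4, 3), (2, 0, 3), (1, 0, 3), (1, 0, 3)]),
     (22, [(2, 4, 3), (2, 0, 3), (1, 0, 3), (1, 0, 3)]),
     (23, [(1, 3, 0)])]),
  (2,
    [984818244535754528103549039458486304,
     981737719767249052369456315699891232,
     975287932184123420360272088865510432,
     979255544404376808454307173571311648,
     963472382420602523184296581551703072],
    [(0, [(1, 3, 0)]),
     (1, [(1, 1, 0)]),
     (4, [(2, 5, 4), (2, 0, 4), (2, 0, 4), (1, 0, 3)]),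
     (6, [(2, 5, 4), (2, 0, 4), (2, 0, 4), (1, 0, 3)]),
     (7, [(2, 5, 4), (2, 0, 4), (2, 0, 4), (1, 0, 3)]),
     (8, [(2, 5, 4), (2, 0, 4), (2, 0, 4), (1, 0, 3)]),
     (9, [(2, 5, 4), (2, 0, 4), (2, 0, 4), (1, 0, 3)]),
     (10, [(2, 5, 4), (2, 0, 4), (2, 0, 4), (1, 0, 3)]),
     (11, [(2, 5, 4), (2, 0, 4), (2, 0, 4), (1, 0, 3)]),
     (12, [(2, 5, 4), (2, 0, 4), (2, 0, 4), (1, 0, 3)]),
     (13, [(2, 5, 4), (2, 0, 4), (2, 0, 4), (1, 0, 3)]),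
     (15, [(2, 5, 4), (2, 0, 4), (2, 0, 4), (1, 0, 3)]),
     (16, [(2, 5, 4), (2, 0, 4), (2, 0, 4), (1, 0, 3)]),
     (18, [(2, 5, 4), (2, 0, 4), (2, 0, 4), (1, 0, 3)]),
     (19, [(2, 5, 4), (2, 0, 4), (2, 0, 4), (1, 0, 3)]),
     (20, [(2, 5, 4), (2, 0, 4), (2, 0, 4), (1, 0, 3)]),
     (21, [(2, 5, 4), (2, 0, 4), (2, 0, 4), (1, 0, 3)]),
     (22, [(2, 5, 4), (2, 0, 4), (2, 0, 4), (1, 0, 3)]),
     (23, [(1, 4, 0)])]),
  (3,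
    [984818244535754528103549039458486304,
     984202951082164080105044112956360736,
     976783504883648070799297133914032160,
     972995847379114216489588235306567712],
    [(0, [(1, 4, 0)]),
     (1, [(1, 2, 0)]),
     (2, [(1, 1, 0)]),
     (4, [(2, 6, 5), (2, 0, 5), (2, 0, 5), (1, 0, 3)]),
     (6, [(2, 6, 5), (2, 0, 5), (2, 0, 5), (1, 0, 3)]),
     (7, [(2, 6, 5), (2, 0, 5), (2, 0, 5), (1, 0, 3)]),
     (8, [(2, 6, 5), (2, 0, 5), (2, 0, 5), (1, 0, 3)]),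
     (9, [(2, 6, 5), (2, 0, 5), (2, 0, 5), (1, 0, 3)]),
     (10, [(2, 6, 5), (2, 0, 5), (2, 0, 5), (1, 0, 3)]),
     (11, [(2, 6, 5), (2, 0, 5), (2, 0, 5), (1, 0, 3)]),
     (12, [(2, 6, 5), (2, 0, 5), (2, 0, 5), (1, 0, 3)]),
     (13, [(2, 6, 5), (2, 0, 5), (2, 0, 5), (1, 0, 3)]),
     (15, [(2, 6, 5), (2, 0, 5), (2, 0, 5), (1, 0, 3)]),
     (16, [(2, 6, 5), (2, 0, 5), (2, 0, 5), (1, 0, 3)]),
     (18, [(2, 6, 5), (2, 0, 5), (2, 0, 5), (1, 0, 3)]),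
     (19, [(2, 6, 5), (2, 0, 5), (2, 0, 5), (1, 0, 3)]),
     (20, [(2, 6, 5), (2, 0, 5), (2, 0, 5), (1, 0, 3)]),
     (21, [(2, 6, 5), (2, 0, 5), (2, 0, 5), (1, 0, 3)]),
     (22, [(2, 6, 5), (2, 0, 5), (2, 0, 5), (1, 0, 3)]),
     (23, [(1, 5, 0)])]),
  (4,
    [984818244535754528103549039458486304,
     980874226864350081512017426024335392,
     963721886883755259286232606933354528,
     979121071158219704299181131031480352,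
     975728708050008715525885598301784096,
     975754295934893126319599781779965984,
     979037747421335847153138073498388512,
     979416905286026856737440949975746592,
     961029066359601346093702817927759904,
     981818691054096003685363657089320992,
     984436632068016323118584907140532256,
     971863989228759034920585190470420512,
     965225113279737155758354497310656544,
     967738580936480664927891663448279072,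
     980224387687010295957922729495201824,
     961365507626256404119956257276790816],
    [(0, [(1, 5, 0)]),
     (1, [(2, 7, 6), (2, 0, 6), (2, 0, 6), (1, 0, 3)]),
     (2, [(2, 7, 6), (2, 0, 6), (2, 0, 6), (1, 0, 3)]),
     (3, [(2, 7, 6), (2, 0, 6), (2, 0, 6), (1, 0, 3)]),
     (5, [(2, 7, 6), (2, 0, 6), (2, 0, 6), (1, 0, 3)]),
     (14, [(2, 7, 6), (2, 0, 6), (2, 0, 6), (1, 0, 3)]),
     (17, [(2, 7, 6), (2, 0, 6), (2, 0, 6), (1, 0, 3)]),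
     (23, [(1, 6, 0)])]),
  (5,
    [984818244535754528103549039458486304,
     976531636853126291160407323722221600,
     972606645568131968584696805283956768],
    [(0, [(1, 6, 0)]),
     (1, [(1, 4, 0)]),
     (2, [(1, 3, 0)]),
     (3, [(1, 2, 0)]),
     (4, [(2, 8, 7), (2, 0, 7), (1, 0, 7), (2, 0, 7), (2, 0, 7), (2, 0, 7), (1, 0, 6)]),
     (6, [(2, 8, 7), (2, 0, 7), (1, 0, 7), (2, 0, 7), (2, 0, 7), (2, 0, 7), (1, 0, 6)]),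
     (7, [(2, 8, 7), (2, 0, 7), (1, 0, 7), (2, 0, 7), (2, 0, 7), (2, 0, 7), (1, 0, 6)]),
     (8, [(2, 8, 7), (2, 0, 7), (1, 0, 7), (2, 0, 7), (2, 0, 7), (2, 0, 7), (1, 0, 6)]),
     (9, [(2, 8, 7), (2, 0, 7), (1, 0, 7), (2, 0, 7), (2, 0, 7), (2, 0, 7), (1, 0, 6)]),
     (10, [(2, 8, 7), (2, 0, 7), (1, 0, 7), (2, 0, 7), (2, 0, 7), (2, 0, 7), (1, 0, 6)]),
     (11, [(2, 8, 7), (2, 0, 7), (1, 0, 7), (2, 0, 7), (2, 0, 7), (2, 0, 7), (1, 0, 6)]),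
     (12, [(2, 8, 7), (2, 0, 7), (1, 0, 7), (2, 0, 7), (2, 0, 7), (2, 0, 7), (1, 0, 6)]),
     (13, [(2, 8, 7), (2, 0, 7), (1, 0, 7), (2, 0, 7), (2, 0, 7), (2, 0, 7), (1, 0, 6)]),
     (15, [(2, 8, 7), (2, 0, 7), (1, 0, 7), (2, 0, 7), (2, 0, 7), (2, 0, 7), (1, 0, 6)]),
     (16, [(2, 8, 7), (2, 0, 7), (1, 0, 7), (2, 0, 7), (2, 0, 7), (2, 0, 7), (1, 0, 6)]),
     (18, [(2, 8, 7), (2, 0, 7), (1, 0, 7), (2, 0, 7), (2, 0, 7), (2, 0, 7), (1, 0, 6)]),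
     (19, [(2, 8, 7), (2, 0, 7), (1, 0, 7), (2, 0, 7), (2, 0, 7), (2, 0, 7), (1, 0, 6)]),
     (20, [(2, 8, 7), (2, 0, 7), (1, 0, 7), (2, 0, 7), (2, 0, 7), (2, 0, 7), (1, 0, 6)]),
     (21, [(2, 8, 7), (2, 0, 7), (1, 0, 7), (2, 0, 7), (2, 0, 7), (2, 0, 7), (1, 0, 6)]),
     (22, [(2, 8, 7), (2, 0, 7), (1, 0, 7), (2, 0, 7), (2, 0, 7), (2, 0, 7), (1, 0, 6)]),
     (23, [(1, 7, 0)])])]

/-- Final derivation: C_base. -/
def orbC_baseFin : List (ℕ × ℕ × ℕ) := [(2, 8, 7), (2, 0, 7), (1, 0, 7), (2, 1, 8), (2, 1, 8), (2, 0, 8), (2, 0, 8), (2, 3, 8), (2, 1, 8), (0, 0, 16), (0, 0, 14), (0, 0, 12), (3, 13811730, 13811730), (1, 5, 0), (2, 6, 1), (0, 6, 19), (0, 0, 19), (0, 0, 18), (3, 421910, 421910), (1, 4, 0), (2, 5, 1), (0, 28, 27), (0, 0, 26), (0, 0, 26), (0, 0, 25), (3, 12656663, 12656663), (1, 12, 0), (2, 13, 1), (1, 8, 2), (2, 9, 3), (1, 9, 4), (2, 10,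 5), (0, 39, 34), (0, 0, 34), (0, 0, 7), (0, 0, 4), (3, 16056344, 16056344), (1, 9, 0), (2, 10, 1), (1, 9, 2), (2, 10, 3), (1, 9, 4), (2, 10, 5), (0, 47, 46), (0, 0, 46), (0, 0, 46), (0, 0, 19), (3, 6832158, 6832158), (1, 39, 0), (2, 40, 1), (1, 7, 2), (2, 8, 3), (0, 59, 25), (0, 0, 14), (0, 0, 14), (0, 0, 13), (3, 15515712, 15515712), (1, 5, 0), (2, 6, 1), (0, 31, 19), (0, 0, 19), (0, 0, 12), (3, 2019456, 2019456), (1, 4, 0), (2, 5, 1), (0, 36, 34), (0, 0, 28), (0, 0, 28), (0, 0, 28), (3, 4038912, 4038912), (1, 5, 0), (2, 6, 1), (0, 45, 41), (0, 0, 35), (0, 0, 32), (0, 0, 26), (3, 8077824, 8077824), (1, 5, 0), (2, 6, 1), (0, 86, 48), (0, 0, 42), (0, 0, 42), (0, 0, 41), (3, 11654144, 11654144), (1, 5, 0), (2, 6, 1)]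

theorem card_orbC_base : Nat.card (fixMasks [8536111, 1, 8388608]) = 5760 := by
  rw [card_fixMasks (L := orbC_baseLevels) (fin := orbC_baseFin) (by decide +kernel)]; decide +kernel

/-- Transversals and refutations: C_0. -/
def orbC_0Levels : List Level := [
  (1,
    [984818244535754528103549039458486304,
     969958826742993894265839954570609728,
     982817878269780531521743892940653664,
     965374508242841933242173352489059488,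
     963929963555778622509336120345560512,
     983070931310410102263645860324771360],
    [(0, [(1, 3, 0)]),
     (4, [(2, 5, 4), (2, 0, 4), (1, 0, 4), (1, 0, 3)]),
     (6, [(2, 5, 4), (2, 0, 4), (1, 0, 4), (1, 0, 3)]),
     (7, [(2, 5, 4), (2, 0, 4), (1, 0, 4), (1, 0, 3)]),
     (8, [(2, 5, 4), (2, 0, 4), (1, 0, 4), (1, 0, 3)]),
     (9, [(2, 5, 4), (2, 0, 4), (1, 0, 4), (1, 0, 3)]),
     (10, [(2, 5, 4), (2, 0, 4), (1, 0, 4), (1, 0, 3)]),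
     (11, [(2, 5, 4), (2, 0, 4), (1, 0, 4), (1, 0, 3)]),
     (12, [(2, 5, 4), (2, 0, 4), (1, 0, 4), (1, 0, 3)]),
     (13, [(2, 5, 4), (2, 0, 4), (1, 0, 4), (1, 0, 3)]),
     (15, [(2, 5, 4), (2, 0, 4), (1, 0, 4), (1, 0, 3)]),
     (16, [(2, 5, 4), (2, 0, 4), (1, 0, 4), (1, 0, 3)]),
     (18, [(2, 5, 4), (2, 0, 4), (1, 0, 4), (1, 0, 3)]),
     (19, [(2, 5, 4), (2, 0, 4), (1, 0, 4), (1, 0, 3)]),
     (20, [(2, 5, 4), (2, 0, 4), (1, 0, 4), (1, 0, 3)]),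
     (21, [(2, 5, 4), (2, 0, 4), (1, 0, 4), (1, 0, 3)]),
     (22, [(2, 5, 4), (2, 0, 4), (1, 0, 4), (1, 0, 3)]),
     (23, [(1, 4, 0)])]),
  (2,
    [984818244535754528103549039458486304,
     979202557212185692351740521724578848,
     970415933748604454575694750095053856,
     981774685537902442042544728864536608,
     961491732823254297350428271359116320],
    [(0, [(1, 4, 0)]),
     (1, [(1, 1, 0)]),
     (4, [(2, 6, 5), (2, 0, 5), (2, 0, 5), (2, 0, 5), (1, 0, 4)]),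
     (6, [(2, 6, 5), (2, 0, 5), (2, 0, 5), (2, 0, 5), (1, 0, 4)]),
     (7, [(2, 6, 5), (2, 0, 5), (2, 0, 5), (2, 0, 5), (1, 0, 4)]),
     (8, [(2, 6, 5), (2, 0, 5), (2, 0, 5), (1, 0, 5), (1, 0, 4)]),
     (9, [(2, 6, 5), (2, 0, 5), (2, 0, 5), (1, 0, 5), (1, 0, 4)]),
     (10, [(2, 6, 5), (2, 0, 5), (2, 0, 5), (2, 0, 5), (1, 0, 4)]),
     (11, [(2, 6, 5), (2, 0, 5), (2, 0, 5), (2, 0, 5), (1, 0, 4)]),
     (12, [(2, 6, 5), (2, 0, 5), (2, 0, 5), (1, 0, 5), (1, 0, 4)]),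
     (13, [(2, 6, 5), (2, 0, 5), (2, 0, 5), (1, 0, 5), (1, 0, 4)]),
     (15, [(2, 6, 5), (2, 0, 5), (2, 0, 5), (1, 0, 5), (1, 0, 4)]),
     (16, [(2, 6, 5), (2, 0, 5), (2, 0, 5), (1, 0, 5), (1, 0, 4)]),
     (18, [(2, 6, 5), (2, 0, 5), (2, 0, 5), (2, 0, 5), (1, 0, 4)]),
     (19, [(2, 6, 5), (2, 0, 5), (2, 0, 5), (2, 0, 5), (1, 0, 4)]),
     (20, [(2, 6, 5), (2, 0, 5), (2, 0, 5), (2, 0, 5), (1, 0, 4)]),
     (21, [(2, 6, 5), (2, 0, 5), (2, 0, 5), (2, 0, 5), (1, 0, 4)]),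
     (22, [(2, 6, 5), (2, 0, 5), (2, 0, 5), (2, 0, 5), (1, 0, 4)]),
     (23, [(1, 5, 0)])]),
  (3,
    [984818244535754528103549039458486304,
     960884477435128931241433760505432096,
     969910755176304412474811566361348128,
     982210194077995055455057513613396000],
    [(0, [(1, 5, 0)]),
     (1, [(1, 2, 0)]),
     (2, [(1, 1, 0)]),
     (4, [(2, 7, 6), (2, 0, 6), (2, 0, 6), (2, 0, 6), (1, 0, 4)]),
     (6, [(2, 7, 6), (2, 0, 6), (2, 0, 6), (2, 0, 6), (1, 0, 4)]),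
     (7, [(2, 7, 6), (2, 0, 6), (2, 0, 6), (2, 0, 6), (1, 0, 4)]),
     (8, [(2, 7, 6), (2, 0, 6), (2, 0, 6), (1, 0, 6), (1, 0, 4)]),
     (9, [(2, 7, 6), (2, 0, 6), (2, 0, 6), (1, 0, 6), (1, 0, 4)]),
     (10, [(2, 7, 6), (2, 0, 6), (2, 0, 6), (2, 0, 6), (1, 0, 4)]),
     (11, [(2, 7, 6), (2, 0, 6), (2, 0, 6), (2, 0, 6), (1, 0, 4)]),
     (12, [(2, 7, 6), (2, 0, 6), (2, 0, 6), (1, 0, 6), (1, 0, 4)]),
     (13, [(2, 7, 6), (2, 0, 6), (2, 0, 6), (1, 0, 6), (1, 0, 4)]),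
     (15, [(2, 7, 6), (2, 0, 6), (2, 0, 6), (1, 0, 6), (1, 0, 4)]),
     (16, [(2, 7, 6), (2, 0, 6), (2, 0, 6), (1, 0, 6), (1, 0, 4)]),
     (18, [(2, 7, 6), (2, 0, 6), (2, 0, 6), (2, 0, 6), (1, 0, 4)]),
     (19, [(2, 7, 6), (2, 0, 6), (2, 0, 6), (2, 0, 6), (1, 0, 4)]),
     (20, [(2, 7, 6), (2, 0, 6), (2, 0, 6), (2, 0, 6), (1, 0, 4)]),
     (21, [(2, 7, 6), (2, 0, 6), (2, 0, 6), (2, 0, 6), (1, 0, 4)]),
     (22, [(2, 7, 6), (2, 0, 6), (2, 0, 6), (2, 0, 6), (1, 0, 4)]),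
     (23, [(1, 6, 0)])]),
  (4,
    [984818244535754528103549039458486304,
     979037747421335847153138073498388512,
     968621477650857569167789942210922528],
    [(0, [(1, 6, 0)]),
     (1, [(2, 8, 7), (2, 0, 7), (2, 0, 7), (2, 0, 7), (1, 0, 4)]),
     (2, [(2, 8, 7), (2, 0, 7), (2, 0, 7), (2, 0, 7), (1, 0, 4)]),
     (3, [(2, 8, 7), (2, 0, 7), (2, 0, 7), (2, 0, 7), (1, 0, 4)]),
     (5, [(2, 8, 7), (2, 0, 7), (2, 0, 7), (2, 0, 7), (1, 0, 4)]),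
     (6, [(2, 8, 7), (2, 0, 7), (2, 0, 7), (1, 0, 7), (0, 11, 10), (0, 0, 8), (0, 0, 8), (0, 0, 7), (3, 12656663, 11010247), (1, 5, 0)]),
     (7, [(2, 8, 7), (2, 0, 7), (2, 0, 7), (1, 0, 7), (0, 11, 10), (0, 0, 8), (0, 0, 8), (0, 0, 7), (3, 12656663, 11010247), (1, 5, 0)]),
     (8, [(2, 8, 7), (2, 0, 7), (2, 0, 7), (1, 0, 7), (1, 0, 4)]),
     (9, [(2, 8, 7), (2, 0, 7), (2, 0, 7), (1, 0, 7), (1, 0, 4)]),
     (10, [(2, 8, 7), (2, 0, 7), (2, 0, 7), (1, 0, 7), (0, 11, 10), (0, 0, 8), (0, 0, 8), (0, 0, 7), (3, 12656663, 9471495), (1, 5, 0), (2, 6, 1), (0, 1, 13), (0, 0, 13), (0, 0, 13), (3, 2207772, 560668), (1, 4, 0)]),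
     (12, [(2, 8, 7), (2, 0, 7), (2, 0, 7), (1, 0, 7), (1, 0, 4)]),
     (13, [(2, 8, 7), (2, 0, 7), (2, 0, 7), (1, 0, 7), (1, 0, 4)]),
     (14, [(2, 8, 7), (2, 0, 7), (2, 0, 7), (2, 0, 7), (1, 0, 4)]),
     (15, [(2, 8, 7), (2, 0, 7), (2, 0, 7), (1, 0, 7), (1, 0, 4)]),
     (16, [(2, 8, 7), (2, 0, 7), (2, 0, 7), (1, 0, 7), (1, 0, 4)]),
     (17, [(2, 8, 7), (2, 0, 7), (2, 0, 7), (2, 0, 7), (1, 0, 4)]),
     (18, [(2, 8, 7), (2, 0, 7), (2, 0, 7), (1, 0, 7), (0, 11, 10), (0, 0, 8), (0, 0, 8), (0, 0, 7), (3, 12656663, 8657159), (1, 5, 0), (2, 6, 1), (0, 1, 13), (0, 0, 13), (0, 0, 13), (3, 2207772, 1839388), (1, 4, 0)]),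
     (19, [(2, 8, 7), (2, 0, 7), (2, 0, 7), (1, 0, 7), (0, 11, 10), (0, 0, 8), (0, 0, 8), (0, 0, 7), (3, 12656663, 11010247), (1, 5, 0)]),
     (21, [(2, 8, 7), (2, 0, 7), (2, 0, 7), (1, 0, 7), (0, 11, 10), (0, 0, 8), (0, 0, 8), (0, 0, 7), (3, 12656663, 11010247), (1, 5, 0)]),
     (22, [(2, 8, 7), (2, 0, 7), (2, 0, 7), (1, 0, 7), (0, 11, 10), (0, 0, 8), (0, 0, 8), (0, 0, 7), (3, 12656663, 12656663), (1, 5, 0), (2, 6, 1), (0, 1, 13), (0, 0, 13), (0, 0, 13), (3, 2207772, 5842956), (1, 4, 0)]),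
     (23, [(1, 7, 0)])])]

/-- Final derivation: C_0. -/
def orbC_0Fin : List (ℕ × ℕ × ℕ) := [(2, 8, 7), (2, 0, 7), (1, 0, 7), (2, 1, 8), (1, 0, 8), (2, 1, 9), (2, 3, 9), (2, 0, 9), (2, 0, 9), (2, 3, 9), (0, 17, 16), (0, 0, 14), (0, 0, 14), (0, 0, 13), (3, 12656663, 12656663), (1, 10, 0), (2, 11, 1), (1, 7, 2), (2, 8, 3), (0, 3, 21), (0, 0, 21), (0, 0, 21), (3, 2207772, 2207772), (1, 6, 0), (2, 7, 1), (1, 6, 2), (2, 7, 3), (0, 30, 29), (0, 0, 29), (0, 0, 29), (0, 0, 12), (3, 6832158, 6832158), (1, 23, 0), (2, 24, 1), (1, 7, 2), (2, 8, 3), (0, 2, 43), (0, 0, 11), (0, 0, 5), (3, 11952160, 11952160), (1, 24, 0), (2, 25, 1), (1, 6, 2), (2, 7, 3), (0, 50, 26), (0, 0, 19), (0, 0, 5), (0, 0, 5), (3, 7417889, 7417889), (1, 25, 0), (2, 26, 1), (1, 17, 2), (2, 18, 3), (1, 10, 4), (2, 11, 5), (0, 62, 37), (0, 0, 30), (0, 0, 24), (0, 0, 23), (3, 15515712, 15515712),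 (1, 16, 0), (2, 17, 1), (0, 29, 27), (0, 0, 13), (0, 0, 13), (0, 0, 12), (3, 2019456, 2019456), (1, 5, 0), (2, 6, 1), (0, 76, 43), (0, 44, 35), (0, 0, 30), (0, 0, 30), (0, 0, 22), (3, 4038912, 4038912), (1, 50, 0), (2, 51, 1), (0, 7, 44), (0, 0, 36), (0, 0, 29), (3, 11654144, 11654144), (1, 12, 0), (2, 13, 1)]

theorem card_orbC_0 : Nat.card (fixMasks [8499969, 8536111, 1, 8388608]) = 360 := by
  rw [card_fixMasks (L := orbC_0Levels) (fin := orbC_0Fin) (by decide +kernel)]; decide +kernel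

/-- Transversals and refutations: C_1. -/
def orbC_1Levels : List Level := [
  (1,
    [984818244535754528103549039458486304,
     967739223789245171407146504132003936,
     980962117015607042146794352159001024,
     979287194752377404183470785272252960],
    [(0, [(1, 3, 0)]),
     (2, [(2, 5, 4), (2, 0, 4), (1, 0, 4), (1, 0, 4), (1, 0, 4)]),
     (4, [(2, 5, 4), (2, 0, 4), (1, 0, 4), (2, 0, 4), (1, 0, 4)]),
     (5, [(2, 5, 4), (2, 0, 4), (1, 0, 4), (1, 0, 4), (1, 0, 4)]),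
     (6, [(2, 5, 4), (2, 0, 4), (1, 0, 4), (2, 0, 4), (1, 0, 4)]),
     (7, [(2, 5, 4), (2, 0, 4), (1, 0, 4), (2, 0, 4), (1, 0, 4)]),
     (8, [(2, 5, 4), (2, 0, 4), (1, 0, 4), (2, 0, 4), (1, 0, 4)]),
     (9, [(2, 5, 4), (2, 0, 4), (1, 0, 4), (2, 0, 4), (1, 0, 4)]),
     (10, [(2, 5, 4), (2, 0, 4), (1, 0, 4), (2, 0, 4), (1, 0, 4)]),
     (11, [(2, 5, 4), (2, 0, 4), (1, 0, 4), (2, 0, 4), (1, 0, 4)]),
     (12, [(2, 5, 4), (2, 0, 4), (1, 0, 4), (2, 0, 4), (1, 0, 4)]),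
     (13, [(2, 5, 4), (2, 0, 4), (1, 0, 4), (2, 0, 4), (1, 0, 4)]),
     (15, [(2, 5, 4), (2, 0, 4), (1, 0, 4), (2, 0, 4), (1, 0, 4)]),
     (16, [(2, 5, 4), (2, 0, 4), (1, 0, 4), (2, 0, 4), (1, 0, 4)]),
     (18, [(2, 5, 4), (2, 0, 4), (1, 0, 4), (2, 0, 4), (1, 0, 4)]),
     (19, [(2, 5, 4), (2, 0, 4), (1, 0, 4), (2, 0, 4), (1, 0, 4)]),
     (20, [(2, 5, 4), (2, 0, 4), (1, 0, 4), (2, 0, 4), (1, 0, 4)]),
     (21, [(2, 5, 4), (2, 0, 4), (1, 0, 4), (2, 0, 4), (1, 0, 4)]),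
     (22, [(2, 5, 4), (2, 0, 4), (1, 0, 4), (2, 0, 4), (1, 0, 4)]),
     (23, [(1, 4, 0)])]),
  (2,
    [984818244535754528103549039458486304,
     975366630392323105260605610366440480],
    [(0, [(1, 4, 0)]),
     (1, [(2, 6, 5), (2, 0, 5), (1, 0, 5), (1, 0, 5), (1, 0, 4)]),
     (3, [(2, 6, 5), (2, 0, 5), (1, 0, 5), (1, 0, 5), (1, 0, 4)]),
     (4, [(2, 6, 5), (2, 0, 5), (1, 0, 5), (1, 0, 5), (1, 0, 4)]),
     (6, [(2, 6, 5), (2, 0, 5), (1, 0, 5), (1, 0, 5), (1, 0, 4)]),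
     (7, [(2, 6, 5), (2, 0, 5), (1, 0, 5), (1, 0, 5), (1, 0, 4)]),
     (8, [(2, 6, 5), (2, 0, 5), (1, 0, 5), (1, 0, 5), (1, 0, 4)]),
     (9, [(2, 6, 5), (2, 0, 5), (1, 0, 5), (1, 0, 5), (1, 0, 4)]),
     (10, [(2, 6, 5), (2, 0, 5), (1, 0, 5), (1, 0, 5), (1, 0, 4)]),
     (11, [(2, 6, 5), (2, 0, 5), (1, 0, 5), (1, 0, 5), (1, 0, 4)]),
     (12, [(2, 6, 5), (2, 0, 5), (1, 0, 5), (1, 0, 5), (1, 0, 4)]),
     (13, [(2, 6, 5), (2, 0, 5), (1, 0, 5), (1, 0, 5), (1, 0, 4)]),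
     (14, [(2, 6, 5), (2, 0, 5), (1, 0, 5), (1, 0, 5), (1, 0, 4)]),
     (15, [(2, 6, 5), (2, 0, 5), (1, 0, 5), (1, 0, 5), (1, 0, 4)]),
     (16, [(2, 6, 5), (2, 0, 5), (1, 0, 5), (1, 0, 5), (1, 0, 4)]),
     (17, [(2, 6, 5), (2, 0, 5), (1, 0, 5), (1, 0, 5), (1, 0, 4)]),
     (18, [(2, 6, 5), (2, 0, 5), (1, 0, 5), (1, 0, 5), (1, 0, 4)]),
     (19, [(2, 6, 5), (2, 0, 5), (1, 0, 5), (1, 0, 5), (1, 0, 4)]),
     (20, [(2, 6, 5), (2, 0, 5), (1, 0, 5), (1, 0, 5), (1, 0, 4)]),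
     (21, [(2, 6, 5), (2, 0, 5), (1, 0, 5), (1, 0, 5), (1, 0, 4)]),
     (22, [(2, 6, 5), (2, 0, 5), (1, 0, 5), (1, 0, 5), (1, 0, 4)]),
     (23, [(1, 5, 0)])]),
  (3,
    [984818244535754528103549039458486304,
     972771709591600271314490660250650656,
     976978698201109872514653476119676960],
    [(0, [(1, 5, 0)]),
     (1, [(1, 2, 0)]),
     (2, [(2, 7, 6), (2, 0, 6), (1, 0, 6), (2, 0, 6), (2, 0, 6), (1, 0, 5)]),
     (4, [(2, 7, 6), (2, 0, 6), (2, 0, 6), (1, 0, 6), (1, 0, 4)]),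
     (5, [(2, 7, 6), (2, 0, 6), (1, 0, 6), (2, 0, 6), (2, 0, 6), (1, 0, 5)]),
     (6, [(2, 7, 6), (2, 0, 6), (2, 0, 6), (1, 0, 6), (1, 0, 4)]),
     (7, [(2, 7, 6), (2, 0, 6), (2, 0, 6), (2, 0, 6), (1, 0, 4)]),
     (8, [(2, 7, 6), (2, 0, 6), (2, 0, 6), (2, 0, 6), (1, 0, 4)]),
     (9, [(2, 7, 6), (2, 0, 6), (2, 0, 6), (2, 0, 6), (1, 0, 4)]),
     (10, [(2, 7, 6), (2, 0, 6), (2, 0, 6), (1, 0, 6), (1, 0, 4)]),
     (11, [(2, 7, 6), (2, 0, 6), (2, 0, 6), (1, 0, 6), (1, 0, 4)]),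
     (12, [(2, 7, 6), (2, 0, 6), (2, 0, 6), (2, 0, 6), (1, 0, 4)]),
     (13, [(2, 7, 6), (2, 0, 6), (2, 0, 6), (2, 0, 6), (1, 0, 4)]),
     (15, [(2, 7, 6), (2, 0, 6), (2, 0, 6), (2, 0, 6), (1, 0, 4)]),
     (16, [(2, 7, 6), (2, 0, 6), (2, 0, 6), (2, 0, 6), (1, 0, 4)]),
     (18, [(2, 7, 6), (2, 0, 6), (2, 0, 6), (2, 0, 6), (1, 0, 4)]),
     (19, [(2, 7, 6), (2, 0, 6), (2, 0, 6), (2, 0, 6), (1, 0, 4)]),
     (20, [(2, 7, 6), (2, 0, 6), (2, 0, 6), (2, 0, 6), (1, 0, 4)]),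
     (21, [(2, 7, 6), (2, 0, 6), (2, 0, 6), (2, 0, 6), (1, 0, 4)]),
     (22, [(2, 7, 6), (2, 0, 6), (2, 0, 6), (2, 0, 6), (1, 0, 4)]),
     (23, [(1, 6, 0)])]),
  (4,
    [984818244535754528103549039458486304,
     965128854020860192151391391390468128,
     967812279691448225500382947153381408,
     971592882964418941354553515258775584],
    [(0, [(1, 6, 0)]),
     (1, [(2, 8, 7), (2, 0, 7), (2, 0, 7), (1, 0, 7), (1, 0, 4)]),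
     (2, [(2, 8, 7), (2, 0, 7), (2, 0, 7), (1, 0, 7), (1, 0, 4)]),
     (3, [(2, 8, 7), (2, 0, 7), (2, 0, 7), (1, 0, 7), (1, 0, 4)]),
     (5, [(2, 8, 7), (2, 0, 7), (2, 0, 7), (1, 0, 7), (1, 0, 4)]),
     (7, [(2, 8, 7), (2, 0, 7), (2, 0, 7), (1, 0, 7), (1, 0, 4)]),
     (8, [(2, 8, 7), (2, 0, 7), (2, 0, 7), (1, 0, 7), (1, 0, 4)]),
     (9, [(2, 8, 7), (2, 0, 7), (2, 0, 7), (1, 0, 7), (1, 0, 4)]),
     (12, [(2, 8, 7), (2, 0, 7), (2, 0, 7), (1, 0, 7), (1, 0, 4)]),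
     (13, [(2, 8, 7), (2, 0, 7), (2, 0, 7), (1, 0, 7), (1, 0, 4)]),
     (14, [(2, 8, 7), (2, 0, 7), (2, 0, 7), (1, 0, 7), (1, 0, 4)]),
     (15, [(2, 8, 7), (2, 0, 7), (2, 0, 7), (1, 0, 7), (1, 0, 4)]),
     (16, [(2, 8, 7), (2, 0, 7), (2, 0, 7), (1, 0, 7), (1, 0, 4)]),
     (17, [(2, 8, 7), (2, 0, 7), (2, 0, 7), (1, 0, 7), (1, 0, 4)]),
     (18, [(2, 8, 7), (2, 0, 7), (2, 0, 7), (1, 0, 7), (1, 0, 4)]),
     (19, [(2, 8, 7), (2, 0, 7), (2, 0, 7), (1, 0, 7), (1, 0, 4)]),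
     (20, [(2, 8, 7), (2, 0, 7), (2, 0, 7), (1, 0, 7), (1, 0, 4)]),
     (21, [(2, 8, 7), (2, 0, 7), (2, 0, 7), (1, 0, 7), (1, 0, 4)]),
     (22, [(2, 8, 7), (2, 0, 7), (2, 0, 7), (1, 0, 7), (1, 0, 4)]),
     (23, [(1, 7, 0)])])]

/-- Final derivation: C_1. -/
def orbC_1Fin : List (ℕ × ℕ × ℕ) := [(2, 8, 7), (2, 0, 7), (1, 0, 7), (2, 1, 8), (1, 1, 8), (2, 2, 9), (1, 2, 10), (2, 3, 11), (2, 2, 11), (2, 4, 11), (2, 1, 11), (2, 4, 11), (0, 1, 19), (0, 0, 16), (0, 0, 14), (3, 13811730, 13811730), (1, 8, 0), (2, 9, 1), (0, 7, 21), (0, 0, 21), (0, 0, 20), (3, 421910, 421910), (1, 4, 0), (2, 5, 1), (0, 31, 30), (0, 0, 28), (0, 0, 28), (0, 0, 27), (3, 12656663, 12656663), (1, 12, 0), (2, 13, 1), (1, 8, 2), (2, 9, 3), (1, 9, 4), (2, 10, 5), (0, 42, 36), (0, 0, 36), (0, 0, 7), (0, 0, 4), (3, 16056344, 16056344), (1, 9, 0), (2, 10, 1), (1, 9, 2), (2, 10, 3), (1,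 9, 4), (2, 10, 5), (0, 49, 48), (0, 0, 48), (0, 0, 48), (0, 0, 19), (3, 6832158, 6832158), (1, 40, 0), (2, 41, 1), (1, 7, 2), (2, 8, 3), (0, 62, 25), (0, 0, 14), (0, 0, 14), (0, 0, 13), (3, 15515712, 15515712), (1, 48, 0), (2, 49, 1), (0, 31, 19), (0, 0, 19), (0, 0, 12), (3, 2019456, 2019456), (1, 11, 0), (2, 12, 1), (0, 36, 34), (0, 0, 28), (0, 0, 28), (0, 0, 28), (3, 4038912, 4038912), (1, 5, 0), (2, 6, 1), (0, 82, 41), (0, 0, 35), (0, 0, 35), (0, 0, 34), (3, 11654144, 11654144), (1, 18, 0), (2, 19, 1)]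

theorem card_orbC_1 : Nat.card (fixMasks [8391797, 8536111, 1, 8388608]) = 96 := by
  rw [card_fixMasks (L := orbC_1Levels) (fin := orbC_1Fin) (by decide +kernel)]; decide +kernel

/-- Transversals and refutations: C_2. -/
def orbC_2Levels : List Level := [
  (1,
    [984818244535754528103549039458486304,
     976990105829392847739289005721748544,
     980950706932289206909372855713072224,
     965374508242841933242173352489059488,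
     969028219063631606277012225244857792,
     971496451907968610877962465629505056],
    [(0, [(1, 3, 0)]),
     (4, [(2, 5, 4), (2, 0, 4), (1, 0, 4), (1, 0, 3)]),
     (6, [(2, 5, 4), (2, 0, 4), (1, 0, 4), (1, 0, 3)]),
     (7, [(2, 5, 4), (2, 0, 4), (1, 0, 4), (1, 0, 3)]),
     (8, [(2, 5, 4), (2, 0, 4), (1, 0, 4), (1, 0, 3)]),
     (9, [(2, 5, 4), (2, 0, 4), (1, 0, 4), (1, 0, 3)]),
     (10, [(2, 5, 4), (2, 0, 4), (1, 0, 4), (1, 0, 3)]),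
     (11, [(2, 5, 4), (2, 0, 4), (1, 0, 4), (1, 0, 3)]),
     (12, [(2, 5, 4), (2, 0, 4), (1, 0, 4), (1, 0, 3)]),
     (13, [(2, 5, 4), (2, 0, 4), (1, 0, 4), (1, 0, 3)]),
     (15, [(2, 5, 4), (2, 0, 4), (1, 0, 4), (1, 0, 3)]),
     (16, [(2, 5, 4), (2, 0, 4), (1, 0, 4), (1, 0, 3)]),
     (18, [(2, 5, 4), (2, 0, 4), (1, 0, 4), (1, 0, 3)]),
     (19, [(2, 5, 4), (2, 0, 4), (1, 0, 4), (1, 0, 3)]),
     (20, [(2, 5, 4), (2, 0, 4), (1, 0, 4), (1, 0, 3)]),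
     (21, [(2, 5, 4), (2, 0, 4), (1, 0, 4), (1, 0, 3)]),
     (22, [(2, 5, 4), (2, 0, 4), (1, 0, 4), (1, 0, 3)]),
     (23, [(1, 4, 0)])]),
  (2,
    [984818244535754528103549039458486304,
     981737719767249052369456315699891232,
     975287932184123420360272088865510432,
     979255544404376808454307173571311648,
     963472382420602523184296581551703072],
    [(0, [(1, 4, 0)]),
     (1, [(1, 1, 0)]),
     (4, [(2, 6, 5), (2, 0, 5), (2, 0, 5), (1, 0, 3)]),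
     (6, [(2, 6, 5), (2, 0, 5), (2, 0, 5), (1, 0, 3)]),
     (7, [(2, 6, 5), (2, 0, 5), (2, 0, 5), (1, 0, 3)]),
     (8, [(2, 6, 5), (2, 0, 5), (2, 0, 5), (1, 0, 3)]),
     (9, [(2, 6, 5), (2, 0, 5), (2, 0, 5), (1, 0, 3)]),
     (10, [(2, 6, 5), (2, 0, 5), (2, 0, 5), (1, 0, 3)]),
     (11, [(2, 6, 5), (2, 0, 5), (2, 0, 5), (1, 0, 3)]),
     (12, [(2, 6, 5), (2, 0, 5), (2, 0, 5), (1, 0, 3)]),
     (13, [(2, 6, 5), (2, 0, 5), (2, 0, 5), (1, 0, 3)]),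
     (15, [(2, 6, 5), (2, 0, 5), (2, 0, 5), (1, 0, 3)]),
     (16, [(2, 6, 5), (2, 0, 5), (2, 0, 5), (1, 0, 3)]),
     (18, [(2, 6, 5), (2, 0, 5), (2, 0, 5), (1, 0, 3)]),
     (19, [(2, 6, 5), (2, 0, 5), (2, 0, 5), (1, 0, 3)]),
     (20, [(2, 6, 5), (2, 0, 5), (2, 0, 5), (1, 0, 3)]),
     (21, [(2, 6, 5), (2, 0, 5), (2, 0, 5), (1, 0, 3)]),
     (22, [(2, 6, 5), (2, 0, 5), (2, 0, 5), (1, 0, 3)]),
     (23, [(1, 5, 0)])]),
  (3,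
    [984818244535754528103549039458486304,
     984202951082164080105044112956360736,
     976783504883648070799297133914032160,
     972995847379114216489588235306567712],
    [(0, [(1, 5, 0)]),
     (1, [(1, 2, 0)]),
     (2, [(1, 1, 0)]),
     (4, [(2, 7, 6), (2, 0, 6), (2, 0, 6), (1, 0, 3)]),
     (6, [(2, 7, 6), (2, 0, 6), (2, 0, 6), (1, 0, 3)]),
     (7, [(2, 7, 6), (2, 0, 6), (2, 0, 6), (1, 0, 3)]),
     (8, [(2, 7, 6), (2, 0, 6), (2, 0, 6), (1, 0, 3)]),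
     (9, [(2, 7, 6), (2, 0, 6), (2, 0, 6), (1, 0, 3)]),
     (10, [(2, 7, 6), (2, 0, 6), (2, 0, 6), (1, 0, 3)]),
     (11, [(2, 7, 6), (2, 0, 6), (2, 0, 6), (1, 0, 3)]),
     (12, [(2, 7, 6), (2, 0, 6), (2, 0, 6), (1, 0, 3)]),
     (13, [(2, 7, 6), (2, 0, 6), (2, 0, 6), (1, 0, 3)]),
     (15, [(2, 7, 6), (2, 0, 6), (2, 0, 6), (1, 0, 3)]),
     (16, [(2, 7, 6), (2, 0, 6), (2, 0, 6), (1, 0, 3)]),
     (18, [(2, 7, 6), (2, 0, 6), (2, 0, 6), (1, 0, 3)]),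
     (19, [(2, 7, 6), (2, 0, 6), (2, 0, 6), (1, 0, 3)]),
     (20, [(2, 7, 6), (2, 0, 6), (2, 0, 6), (1, 0, 3)]),
     (21, [(2, 7, 6), (2, 0, 6), (2, 0, 6), (1, 0, 3)]),
     (22, [(2, 7, 6), (2, 0, 6), (2, 0, 6), (1, 0, 3)]),
     (23, [(1, 6, 0)])]),
  (4,
    [984818244535754528103549039458486304,
     980874226864350081512017426024335392,
     963721886883755259286232606933354528,
     979121071158219704299181131031480352,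
     975728708050008715525885598301784096,
     975754295934893126319599781779965984,
     979037747421335847153138073498388512,
     979416905286026856737440949975746592,
     961029066359601346093702817927759904,
     981818691054096003685363657089320992,
     984436632068016323118584907140532256,
     971863989228759034920585190470420512,
     965225113279737155758354497310656544,
     967738580936480664927891663448279072,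
     980224387687010295957922729495201824,
     961365507626256404119956257276790816],
    [(0, [(1, 6, 0)]),
     (1, [(2, 8, 7), (2, 0, 7), (2, 0, 7), (1, 0, 3)]),
     (2, [(2, 8, 7), (2, 0, 7), (2, 0, 7), (1, 0, 3)]),
     (3, [(2, 8, 7), (2, 0, 7), (2, 0, 7), (1, 0, 3)]),
     (5, [(2, 8, 7), (2, 0, 7), (2, 0, 7), (1, 0, 3)]),
     (14, [(2, 8, 7), (2, 0, 7), (2, 0, 7), (1, 0, 3)]),
     (17, [(2, 8, 7), (2, 0, 7), (2, 0, 7), (1, 0, 3)]),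
     (23, [(1, 7, 0)])]),
  (5,
    [984818244535754528103549039458486304,
     976531636853126291160407323722221600,
     972606645568131968584696805283956768],
    [(0, [(1, 7, 0)]),
     (1, [(1, 4, 0)]),
     (2, [(1, 3, 0)]),
     (3, [(1, 2, 0)]),
     (4, [(2, 9, 8), (2, 0, 8), (1, 0, 8), (2, 0, 7), (2, 0, 7), (2, 0, 7), (1, 0, 6)]),
     (6, [(2, 9, 8), (2, 0, 8), (1, 0, 8), (2, 0, 7), (2, 0, 7), (2, 0, 7), (1, 0, 6)]),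
     (7, [(2, 9, 8), (2, 0, 8), (1, 0, 8), (2, 0, 7), (2, 0, 7), (2, 0, 7), (1, 0, 6)]),
     (8, [(2, 9, 8), (2, 0, 8), (1, 0, 8), (2, 0, 7), (2, 0, 7), (2, 0, 7), (1, 0, 6)]),
     (9, [(2, 9, 8), (2, 0, 8), (1, 0, 8), (2, 0, 7), (2, 0, 7), (2, 0, 7), (1, 0, 6)]),
     (10, [(2, 9, 8), (2, 0, 8), (1, 0, 8), (2, 0, 7), (2, 0, 7), (2, 0, 7), (1, 0, 6)]),
     (11, [(2, 9, 8), (2, 0, 8), (1, 0, 8), (2, 0, 7), (2, 0, 7), (2, 0, 7), (1, 0, 6)]),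
     (12, [(2, 9, 8), (2, 0, 8), (1, 0, 8), (2, 0, 7), (2, 0, 7), (2, 0, 7), (1, 0, 6)]),
     (13, [(2, 9, 8), (2, 0, 8), (1, 0, 8), (2, 0, 7), (2, 0, 7), (2, 0, 7), (1, 0, 6)]),
     (15, [(2, 9, 8), (2, 0, 8), (1, 0, 8), (2, 0, 7), (2, 0, 7), (2, 0, 7), (1, 0, 6)]),
     (16, [(2, 9, 8), (2, 0, 8), (1, 0, 8), (2, 0, 7), (2, 0, 7), (2, 0, 7), (1, 0, 6)]),
     (18, [(2, 9, 8), (2, 0, 8), (1, 0, 8), (2, 0, 7), (2, 0, 7), (2, 0, 7), (1, 0, 6)]),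
     (19, [(2, 9, 8), (2, 0, 8), (1, 0, 8), (2, 0, 7), (2, 0, 7), (2, 0, 7), (1, 0, 6)]),
     (20, [(2, 9, 8), (2, 0, 8), (1, 0, 8), (2, 0, 7), (2, 0, 7), (2, 0, 7), (1, 0, 6)]),
     (21, [(2, 9, 8), (2, 0, 8), (1, 0, 8), (2, 0, 7), (2, 0, 7), (2, 0, 7), (1, 0, 6)]),
     (22, [(2, 9, 8), (2, 0, 8), (1, 0, 8), (2, 0, 7), (2, 0, 7), (2, 0, 7), (1, 0, 6)]),
     (23, [(1, 8, 0)])])]

/-- Final derivation: C_2. -/
def orbC_2Fin : List (ℕ × ℕ × ℕ) := [(2, 9, 8), (2, 0, 8), (1, 0, 8), (2, 1, 9), (2, 1, 8), (2, 0, 8), (2, 0, 8), (2, 3, 8), (2, 1, 8), (0, 0, 17), (0, 0, 14), (0, 0, 12), (3, 13811730, 13811730), (1, 5, 0), (2, 6, 1), (0, 6, 19), (0, 0, 19), (0, 0, 18), (3, 421910, 421910), (1, 4, 0), (2, 5, 1), (0, 29, 28), (0, 0, 26), (0, 0, 26), (0, 0, 25), (3, 12656663, 12656663), (1, 12, 0), (2, 13, 1), (1, 8, 2), (2, 9, 3), (1, 9, 4), (2, 10, 5), (0,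 40, 34), (0, 0, 34), (0, 0, 7), (0, 0, 4), (3, 16056344, 16056344), (1, 9, 0), (2, 10, 1), (1, 9, 2), (2, 10, 3), (1, 9, 4), (2, 10, 5), (0, 47, 46), (0, 0, 46), (0, 0, 46), (0, 0, 19), (3, 6832158, 6832158), (1, 39, 0), (2, 40, 1), (1, 7, 2), (2, 8, 3), (0, 60, 25), (0, 0, 14), (0, 0, 14), (0, 0, 13), (3, 15515712, 15515712), (1, 5, 0), (2, 6, 1), (0, 31, 19), (0, 0, 19), (0, 0, 12), (3, 2019456, 2019456), (1, 4, 0), (2, 5, 1), (0, 36, 34), (0, 0, 28), (0, 0, 28), (0, 0, 28), (3, 4038912, 4038912), (1, 5, 0), (2, 6, 1), (0, 45, 41), (0, 0, 35), (0, 0, 32), (0, 0, 26), (3, 8077824, 8077824), (1, 5, 0), (2, 6, 1), (0, 87, 48), (0, 0, 42), (0, 0, 42), (0, 0, 41), (3, 11654144, 11654144), (1, 5, 0), (2, 6, 1)]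

theorem card_orbC_2 : Nat.card (fixMasks [8536111, 8536111, 1, 8388608]) = 5760 := by
  rw [card_fixMasks (L := orbC_2Levels) (fin := orbC_2Fin) (by decide +kernel)]; decide +kernel

end CfsgLib.Golay
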