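import Cfsg.Agent.Lib.Golay.Position
import Cfsg.Agent.Lib.Golay.SmallSets

/-! Generic transitivity on classes of code words and of small sets, with marked points. -/

set_option autoImplicit false
set_option maxRecDepth 100000

namespace CfsgLib.Golay

open Cfsg
open scoped Pointwise

/-- The marked points lie in / outside `s` as prescribed. -/
def Marks (marks : List (ℕ × Bool)) (s : Finset GolayPt) : Prop :=
  ∀ p ∈ marks, (pt p.1 ∈ s ↔ p.2 = true)

/-- Boolean form of `Marks`. -/
def marksB (marks : List (ℕ × Bool)) (m : ℕ) : Bool :=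
  marks.all fun p => decide (p.1 < 24) && (m.testBit p.1 == p.2)

theorem marks_iff {marks : List (ℕ × Bool)} (h : ∀ p ∈ marks, p.1 < 24) (m : ℕ) :
    Marks marks (mset m) ↔ marksB marks m = true := by
  simp only [Marks, marksB, List.all_eq_true, Bool.and_eq_true, decide_eq_true_iff, beq_iff_eq]
  refine forall_congr' fun p => forall_congr' fun hp => ?_
  rw [mem_mset, idx_pt (h p hp)]
  cases m.testBit p.1 <;> cases p.2 <;> simp [h p hp]

/-- The marked points are fixed by `fixMasks X`. -/
def marksOK (X : List ℕ) (marks : List (ℕ × Bool)) : Bool :=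
  marks.all fun p => Nat.ble p.1 23 && X.any fun A => Nat.beq A (Nat.shiftLeft 1 p.1)

theorem marksOK_lt {X : List ℕ} {marks : List (ℕ × Bool)} (h : marksOK X marks = true) :
    ∀ p ∈ marks, p.1 < 24 := fun p hp => by
  have := List.all_eq_true.1 h p hp
  rw [Bool.and_eq_true] at this
  exact Nat.lt_succ_of_le (Nat.le_of_ble_eq_true this.1)

theorem marks_smul {X : List ℕ} {marks : List (ℕ × Bool)} (h : marksOK X marks = true)
    (σ : fixMasks X) {s : Finset GolayPt} (hs : Marks marks s) : Marks marks (σ • s) := by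
  intro p hp
  have := List.all_eq_true.1 h p hp
  rw [Bool.and_eq_true, List.any_eq_true] at this
  obtain ⟨-, A, hA, e⟩ := this
  rw [fix_mem_iff (marksOK_lt h p hp) (Nat.eq_of_beq_eq_true e ▸ hA) σ s]
  exact hs p hp

/-- Words of weight `w` with marks, meeting the mask `O` in `k` points. -/
def WordClass (w : ℕ) (marks : List (ℕ × Bool)) (O k : ℕ) (s : Finset GolayPt) : Prop :=
  s ∈ wordsOfWeight (golayCode : Set (GolayPt → ZMod 2)) w ∧ Marks marks s ∧
    (mset O ∩ s).card = k

/-- Boolean form of `WordClass`. -/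
def wordClassB (w : ℕ) (marks : List (ℕ × Bool)) (O k m : ℕ) : Bool :=
  Nat.beq (pop m) w && marksB marks m && Nat.beq (pop (Nat.land m O)) k

theorem inter_card_iff' {a m k : ℕ} :
    (mset a ∩ mset m).card = k ↔ Nat.beq (pop (Nat.land m a)) k = true := by
  rw [Finset.inter_comm, inter_card_iff]

theorem wordClass_iff {w O k : ℕ} {marks : List (ℕ × Bool)} (h : ∀ p ∈ marks, p.1 < 24)
    {m : ℕ} (hm : isCode m = true) :
    WordClass w marks O k (mset m) ↔ wordClassB w marks O k m = true := by
  simp only [WordClass, wordClassB, Bool.and_eq_true, marks_iff h, inter_card_iff', and_assoc]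
  refine and_congr_left fun _ => ?_
  rw [Nat.beq_eq, mem_wordsOfWeight_iff]
  constructor
  · rintro ⟨n, hn, hp, e⟩; rw [← mset_inj (isCode_lt hn) (isCode_lt hm) e]; exact hp
  · exact fun hp => ⟨m, hm, hp, rfl⟩

theorem wordClass_ncard {w O k : ℕ} {marks : List (ℕ × Bool)} (h : ∀ p ∈ marks, p.1 < 24) :
    {s | WordClass w marks O k s}.ncard = (codeList.filter (wordClassB w marks O k)).length := by
  refine ncard_mset_list (fun m hm => isCode_lt (mem_codeList.1 (List.mem_filter.1 hm).1))
    (codeList_nodup.filter _) fun s => ?_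
  simp only [Set.mem_setOf_eq, List.mem_filter, mem_codeList]
  constructor
  · intro hs
    obtain ⟨m, hm, -, rfl⟩ := mem_wordsOfWeight_iff.1 hs.1
    exact ⟨m, ⟨hm, (wordClass_iff h hm).1 hs⟩, rfl⟩
  · rintro ⟨m, ⟨hm, hc⟩, rfl⟩; exact (wordClass_iff h hm).2 hc

/-- `fixMasks X` is transitive on a word class, given matching orders. -/
theorem word_class_trans {X : List ℕ} {w O k : ℕ} {marks : List (ℕ × Bool)} (rep : ℕ) {a b N : ℕ}
    (hO : O ∈ X) (hm : marksOK X marks = true)
    (hrep : (isCode rep && wordClassB w marks O k rep) = true)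
    (hN : (codeList.filter (wordClassB w marks O k)).length = N)
    (ha : Nat.card (fixMasks X) = a) (hb : Nat.card (fixMasks (rep :: X)) = b) (hab : a = N * b)
    {y z : Finset GolayPt} (hy : WordClass w marks O k y) (hz : WordClass w marks O k z) :
    ∃ σ : fixMasks X, σ • y = z := by
  rw [Bool.and_eq_true] at hrep
  refine class_trans (P := WordClass w marks O k) (fun σ s hs => ⟨?_, marks_smul hm σ hs.2.1, ?_⟩)
    ((wordClass_iff (marksOK_lt hm) hrep.1).2 hrep.2) ((wordClass_ncard (marksOK_lt hm)).trans hN)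
    ha hb hab y z hy hz
  · exact ⟨mem_M24_iff.1 σ.2.1 s hs.1.1, (Finset.card_smul_finset σ s).trans hs.1.2⟩
  · rw [fix_inter_card hO]; exact hs.2.2

/-- The union with `T` lies in an octad. -/
def InOctad (T : ℕ) (s : Finset GolayPt) : Prop := ∃ o ∈ octads, mset T ∪ s ⊆ o

/-- Boolean form of `InOctad`. -/
def inOctadB (T m : ℕ) : Bool :=
  (octList.filter fun o => Nat.beq (Nat.land T o) T).any fun o => Nat.beq (Nat.land m o) m

theorem inOctad_iff {T m : ℕ} (hT : T < 16777216) (hm : m < 16777216) :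
    InOctad T (mset m) ↔ inOctadB T m = true := by
  simp only [InOctad, inOctadB, List.any_eq_true, List.mem_filter, mem_octads_iff,
    Finset.union_subset_iff]
  constructor
  · rintro ⟨_, ⟨o, ho, rfl⟩, hs, hs'⟩
    exact ⟨o, ⟨ho, (subset_iff_land hT).1 hs⟩, (subset_iff_land hm).1 hs'⟩
  · rintro ⟨o, ⟨ho, h⟩, h'⟩
    exact ⟨_, ⟨o, ho, rfl⟩, (subset_iff_land hT).2 h, (subset_iff_land hm).2 h'⟩

theorem inOctad_smul {X : List ℕ} {T : ℕ} (σ : fixMasks X) (hT : σ • mset T = mset T)
    {s : Finset GolayPt} : InOctad T (σ • s) ↔ InOctad T s := by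
  constructor
  · rintro ⟨o, ho, hs⟩
    refine ⟨σ⁻¹ • o, fix_smul_octad σ⁻¹ ho, ?_⟩
    have := Finset.smul_finset_subset_smul_finset (a := σ⁻¹) hs
    rwa [Finset.smul_finset_union, inv_smul_smul, inv_smul_eq_iff.2 hT.symm] at this
  · rintro ⟨o, ho, hs⟩
    refine ⟨σ • o, fix_smul_octad σ ho, ?_⟩
    have := Finset.smul_finset_subset_smul_finset (a := σ) hs
    rwa [Finset.smul_finset_union, hT] at this

/-- `n`-sets with marks, meeting `A` in `k` points, with `T ∪ s` in an octad or not. -/
def SetClass (n : ℕ) (marks : List (ℕ × Bool)) (A k : ℕ) (T : ℕ) (flag : Option Bool)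
    (s : Finset GolayPt) : Prop :=
  s.card = n ∧ Marks marks s ∧ (mset A ∩ s).card = k ∧
    ∀ b, flag = some b → (InOctad T s ↔ b = true)

/-- Boolean form of `SetClass`, apart from the cardinality. -/
def setClassB (marks : List (ℕ × Bool)) (A k : ℕ) (T : ℕ) (flag : Option Bool) (m : ℕ) : Bool :=
  marksB marks m && Nat.beq (pop (Nat.land m A)) k &&
    match flag with
    | none => true
    | some b => inOctadB T m == b

theorem setClass_iff {n A k T : ℕ} {flag : Option Bool} {marks : List (ℕ × Bool)}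
    (h : ∀ p ∈ marks, p.1 < 24) (hT : T < 16777216) {m : ℕ} (hm : m < 16777216) :
    SetClass n marks A k T flag (mset m) ↔
      pop m = n ∧ setClassB marks A k T flag m = true := by
  simp only [SetClass, setClassB, Bool.and_eq_true, marks_iff h, inter_card_iff', card_mset,
    inOctad_iff hT hm, and_assoc]
  refine and_congr_right fun _ => and_congr_right fun _ => and_congr_right fun _ => ?_
  cases flag with
  | none => simp
  | some b =>
    simp only [Option.some.injEq, forall_eq']
    cases inOctadB T m <;> cases b <;> simp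

theorem setClass_ncard {n A k T : ℕ} {flag : Option Bool} {marks : List (ℕ × Bool)}
    (h : ∀ p ∈ marks, p.1 < 24) (hT : T < 16777216) :
    {s | SetClass n marks A k T flag s}.ncard =
      ((ksub 24 n).filter (setClassB marks A k T flag)).length := by
  refine ncard_mset_list (fun m hm => by simpa using (ksub_spec (List.mem_filter.1 hm).1).1)
    ((ksub_nodup 24 n).filter _) fun s => ?_
  simp only [Set.mem_setOf_eq, List.mem_filter]
  constructor
  · intro hs
    obtain ⟨m, hm, rfl⟩ := mem_ksub_iff.1 hs.1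
    exact ⟨m, ⟨hm, ((setClass_iff h hT (by simpa using (ksub_spec hm).1)).1 hs).2⟩, rfl⟩
  · rintro ⟨m, ⟨hm, hc⟩, rfl⟩
    refine (setClass_iff h hT (by simpa using (ksub_spec hm).1)).2 ⟨?_, hc⟩
    rw [pop_eq]; exact (ksub_spec hm).2

/-- `fixMasks X` is transitive on a set class, given matching orders. -/
theorem set_class_trans {X : List ℕ} {n A k T : ℕ} {flag : Option Bool}
    {marks : List (ℕ × Bool)} (rep : ℕ) {a b N : ℕ} (hA : A ∈ X) (hm : marksOK X marks = true)
    (hT : T < 16777216) (hfix : ∀ σ : fixMasks X, σ • mset T = mset T)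
    (hrep : (Nat.ble rep 16777215 && Nat.beq (pop rep) n && setClassB marks A k T flag rep) = true)
    (hN : ((ksub 24 n).filter (setClassB marks A k T flag)).length = N)
    (ha : Nat.card (fixMasks X) = a) (hb : Nat.card (fixMasks (rep :: X)) = b) (hab : a = N * b)
    {y z : Finset GolayPt} (hy : SetClass n marks A k T flag y)
    (hz : SetClass n marks A k T flag z) : ∃ σ : fixMasks X, σ • y = z := by
  simp only [Bool.and_eq_true] at hrep
  refine class_trans (P := SetClass n marks A k T flag)
    (fun σ s hs => ⟨(Finset.card_smul_finset σ s).trans hs.1, marks_smul hm σ hs.2.1, ?_,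
      fun b hb' => (inOctad_smul σ (hfix σ)).trans (hs.2.2.2 b hb')⟩)
    ((setClass_iff (marksOK_lt hm) hT (Nat.lt_succ_of_le (Nat.le_of_ble_eq_true hrep.1.1))).2
      ⟨Nat.eq_of_beq_eq_true hrep.1.2, hrep.2⟩)
    ((setClass_ncard (marksOK_lt hm) hT).trans hN) ha hb hab y z hy hz
  rw [fix_inter_card hA]; exact hs.2.2.1

theorem smul_mem_iff_pt (c : M24) {p : GolayPt} {i : ℕ} (h : c • p = pt i) (s : Finset GolayPt) :
    pt i ∈ c • s ↔ p ∈ s := by
  rw [← h]; exact Finset.smul_mem_smul_finset_iff c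

theorem M24_pt_fix {X : List ℕ} {i : ℕ} (hi : i < 24) (hm : Nat.shiftLeft 1 i ∈ X)
    (σ : fixMasks X) {c : M24} {p : GolayPt} (hp : c • p = pt i) :
    (c⁻¹ * toM24 σ * c) • p = p := by
  rw [mul_smul, mul_smul, hp]
  show c⁻¹ • σ.1 (pt i) = p
  rw [fix_smul_pt hi hm σ, ← hp, inv_smul_smul]

theorem M24_set_fix {X : List ℕ} {m : ℕ} (hm : m ∈ X) (σ : fixMasks X) {c : M24}
    {s : Finset GolayPt} (hs : c • s = mset m) : (c⁻¹ * toM24 σ * c) • s = s := by
  rw [mul_smul, mul_smul, hs, toM24_fix σ hm, ← hs, inv_smul_smul]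

theorem M24_moved {X : List ℕ} (σ : fixMasks X) {c : M24} {s t : Finset GolayPt}
    (h : σ • (c • s) = c • t) : (c⁻¹ * toM24 σ * c) • s = t := by
  rw [mul_smul, mul_smul, toM24_smul, h, inv_smul_smul]

end CfsgLib.Golay
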