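import Cfsg.Agent.Lib.Golay.Chain

/-! Generated certificates: stabilisers for orbit computation D. -/

set_option autoImplicit false
set_option maxRecDepth 100000

namespace CfsgLib.Golay

/-- Transversals and refutations: D_base. -/
def orbD_baseLevels : List Level := [
  (1,
    [984818244535754528103549039458486304,
     976990105829392847739289005721748544,
     980950706932289206909372855713072224,
     982060704822795966893982365816784000,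
     968582211692953937292958977095697600,
     984644321498751900937536182823224800,
     976379595758121838223164502319367744],
    [(0, [(1, 2, 0)]),
     (5, [(2, 4, 3), (2, 0, 3), (1, 0, 3), (1, 0, 3)]),
     (7, [(2, 4, 3), (2, 0, 3), (1, 0, 3), (1, 0, 3)]),
     (8, [(2, 4, 3), (2, 0, 3), (1, 0, 3), (1, 0, 3)]),
     (9, [(2, 4, 3), (2, 0, 3), (1, 0, 3), (1, 0, 3)]),
     (10, [(2, 4, 3), (2, 0, 3), (1, 0, 3), (1, 0, 3)]),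
     (11, [(2, 4, 3), (2, 0, 3), (1, 0, 3), (1, 0, 3)]),
     (12, [(2, 4, 3), (2, 0, 3), (1, 0, 3), (1, 0, 3)]),
     (13, [(2, 4, 3), (2, 0, 3), (1, 0, 3), (1, 0, 3)]),
     (14, [(2, 4, 3), (2, 0, 3), (1, 0, 3), (1, 0, 3)]),
     (16, [(2, 4, 3), (2, 0, 3), (1, 0, 3), (1, 0, 3)]),
     (17, [(2, 4, 3), (2, 0, 3), (1, 0, 3), (1, 0, 3)]),
     (19, [(2, 4, 3), (2, 0, 3), (1, 0, 3), (1, 0, 3)]),
     (20, [(2, 4, 3), (2, 0, 3), (1, 0, 3), (1, 0, 3)]),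
     (21, [(2, 4, 3), (2, 0, 3), (1, 0, 3), (1, 0, 3)]),
     (22, [(2, 4, 3), (2, 0, 3), (1, 0, 3), (1, 0, 3)]),
     (23, [(1, 3, 0)])]),
  (2,
    [984818244535754528103549039458486304,
     981737719767249052369456315699891232,
     980920017121645750808446692546908192,
     966261024527270143218214344647055392,
     971427835580551787279014972240247840,
     965246890165736009736356715589355552],
    [(0, [(1, 3, 0)]),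
     (1, [(1, 1, 0)]),
     (5, [(2, 5, 4), (2, 0, 4), (2, 0, 4), (1, 0, 3)]),
     (7, [(2, 5, 4), (2, 0, 4), (2, 0, 4), (1, 0, 3)]),
     (8, [(2, 5, 4), (2, 0, 4), (2, 0, 4), (1, 0, 3)]),
     (9, [(2, 5, 4), (2, 0, 4), (2, 0, 4), (1, 0, 3)]),
     (10, [(2, 5, 4), (2, 0, 4), (2, 0, 4), (1, 0, 3)]),
     (11, [(2, 5, 4), (2, 0, 4), (2, 0, 4), (1, 0, 3)]),
     (12, [(2, 5, 4), (2, 0, 4), (2, 0, 4), (1, 0, 3)]),
     (13, [(2, 5, 4), (2, 0, 4), (2, 0, 4), (1, 0, 3)]),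
     (14, [(2, 5, 4), (2, 0, 4), (2, 0, 4), (1, 0, 3)]),
     (16, [(2, 5, 4), (2, 0, 4), (2, 0, 4), (1, 0, 3)]),
     (17, [(2, 5, 4), (2, 0, 4), (2, 0, 4), (1, 0, 3)]),
     (19, [(2, 5, 4), (2, 0, 4), (2, 0, 4), (1, 0, 3)]),
     (20, [(2, 5, 4), (2, 0, 4), (2, 0, 4), (1, 0, 3)]),
     (21, [(2, 5, 4), (2, 0, 4), (2, 0, 4), (1, 0, 3)]),
     (22, [(2, 5, 4), (2, 0, 4), (2, 0, 4), (1, 0, 3)]),
     (23, [(1, 4, 0)])]),
  (3,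
    [984818244535754528103549039458486304,
     977839867786251717525204161457686560,
     962694832558750323383766292752435232,
     977993317804836395731366124916803616,
     962774945461074800729415166826448928],
    [(0, [(1, 4, 0)]),
     (1, [(1, 2, 0)]),
     (2, [(1, 1, 0)]),
     (5, [(2, 6, 5), (2, 0, 5), (2, 0, 5), (1, 0, 3)]),
     (7, [(2, 6, 5), (2, 0, 5), (2, 0, 5), (1, 0, 3)]),
     (8, [(2, 6, 5), (2, 0, 5), (2, 0, 5), (1, 0, 3)]),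
     (9, [(2, 6, 5), (2, 0, 5), (2, 0, 5), (1, 0, 3)]),
     (10, [(2, 6, 5), (2, 0, 5), (2, 0, 5), (1, 0, 3)]),
     (11, [(2, 6, 5), (2, 0, 5), (2, 0, 5), (1, 0, 3)]),
     (12, [(2, 6, 5), (2, 0, 5), (2, 0, 5), (1, 0, 3)]),
     (13, [(2, 6, 5), (2, 0, 5), (2, 0, 5), (1, 0, 3)]),
     (14, [(2, 6, 5), (2, 0, 5), (2, 0, 5), (1, 0, 3)]),
     (16, [(2, 6, 5), (2, 0, 5), (2, 0, 5), (1, 0, 3)]),
     (17, [(2, 6, 5), (2, 0, 5), (2, 0, 5), (1, 0, 3)]),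
     (19, [(2, 6, 5), (2, 0, 5), (2, 0, 5), (1, 0, 3)]),
     (20, [(2, 6, 5), (2, 0, 5), (2, 0, 5), (1, 0, 3)]),
     (21, [(2, 6, 5), (2, 0, 5), (2, 0, 5), (1, 0, 3)]),
     (22, [(2, 6, 5), (2, 0, 5), (2, 0, 5), (1, 0, 3)]),
     (23, [(1, 5, 0)])]),
  (4,
    [984818244535754528103549039458486304,
     980874226864350081512017426024335392,
     981818691054096003685363657089320992,
     971863989228759034920585190470420512],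
    [(0, [(1, 5, 0)]),
     (1, [(1, 3, 0)]),
     (2, [(1, 2, 0)]),
     (3, [(1, 1, 0)]),
     (5, [(2, 7, 6), (2, 0, 6), (2, 0, 6), (1, 0, 3)]),
     (7, [(2, 7, 6), (2, 0, 6), (2, 0, 6), (1, 0, 3)]),
     (8, [(2, 7, 6), (2, 0, 6), (2, 0, 6), (1, 0, 3)]),
     (9, [(2, 7, 6), (2, 0, 6), (2, 0, 6), (1, 0, 3)]),
     (10, [(2, 7, 6), (2, 0, 6), (2, 0, 6), (1, 0, 3)]),
     (11, [(2, 7, 6), (2, 0, 6), (2, 0, 6), (1, 0, 3)]),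
     (12, [(2, 7, 6), (2, 0, 6), (2, 0, 6), (1, 0, 3)]),
     (13, [(2, 7, 6), (2, 0, 6), (2, 0, 6), (1, 0, 3)]),
     (14, [(2, 7, 6), (2, 0, 6), (2, 0, 6), (1, 0, 3)]),
     (16, [(2, 7, 6), (2, 0, 6), (2, 0, 6), (1, 0, 3)]),
     (17, [(2, 7, 6), (2, 0, 6), (2, 0, 6), (1, 0, 3)]),
     (19, [(2, 7, 6), (2, 0, 6), (2, 0, 6), (1, 0, 3)]),
     (20, [(2, 7, 6), (2, 0, 6), (2, 0, 6), (1, 0, 3)]),
     (21, [(2, 7, 6), (2, 0, 6), (2, 0, 6), (1, 0, 3)]),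
     (22, [(2, 7, 6), (2, 0, 6), (2, 0, 6), (1, 0, 3)]),
     (23, [(1, 6, 0)])]),
  (5,
    [984818244535754528103549039458486304,
     976531636853126291160407323722221600,
     972606645568131968584696805283956768],
    [(0, [(1, 6, 0)]),
     (1, [(2, 8, 7), (2, 0, 7), (2, 0, 7), (1, 0, 3)]),
     (2, [(2, 8, 7), (2, 0, 7), (2, 0, 7), (1, 0, 3)]),
     (3, [(2, 8, 7), (2, 0, 7), (2, 0, 7), (1, 0, 3)]),
     (4, [(2, 8, 7), (2, 0, 7), (2, 0, 7), (1, 0, 3)]),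
     (6, [(2, 8, 7), (2, 0, 7), (2, 0, 7), (1, 0, 3)]),
     (7, [(0, 7, 6), (0, 0, 5), (0, 0, 5), (0, 0, 5), (3, 8536111, 8536111), (1, 5, 0)]),
     (8, [(0, 7, 6), (0, 0, 5), (0, 0, 5), (0, 0, 5), (3, 8536111, 8536111), (1, 5, 0)]),
     (9, [(0, 7, 6), (0, 0, 5), (0, 0, 5), (0, 0, 5), (3, 8536111, 8536111), (1, 5, 0)]),
     (10, [(0, 7, 6), (0, 0, 5), (0, 0, 5), (0, 0, 5), (3, 8536111, 8536111), (1, 5, 0)]),
     (11, [(0, 7, 6), (0, 0, 5), (0, 0, 5), (0, 0, 5), (3, 8536111, 8536111), (1, 5, 0)]),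
     (12, [(0, 7, 6), (0, 0, 5), (0, 0, 5), (0, 0, 5), (3, 8536111, 8536111), (1, 5, 0)]),
     (13, [(0, 7, 6), (0, 0, 5), (0, 0, 5), (0, 0, 4), (3, 12656663, 12656663), (1, 5, 0)]),
     (15, [(2, 8, 7), (2, 0, 7), (2, 0, 7), (1, 0, 3)]),
     (16, [(0, 7, 6), (0, 0, 5), (0, 0, 5), (0, 0, 4), (3, 12656663, 12656663), (1, 5, 0)]),
     (18, [(2, 8, 7), (2, 0, 7), (2, 0, 7), (1, 0, 3)]),
     (19, [(0, 7, 6), (0, 0, 5), (0, 0, 5), (0, 0, 5), (3, 8536111, 8536111), (1, 5, 0)]),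
     (20, [(0, 7, 6), (0, 0, 5), (0, 0, 5), (0, 0, 5), (3, 8536111, 8536111), (1, 5, 0)]),
     (21, [(0, 7, 6), (0, 0, 5), (0, 0, 5), (0, 0, 5), (3, 8536111, 8536111), (1, 5, 0)]),
     (22, [(0, 7, 6), (0, 0, 5), (0, 0, 5), (0, 0, 4), (3, 12656663, 12656663), (1, 5, 0)]),
     (23, [(1, 7, 0)])])]

/-- Final derivation: D_base. -/
def orbD_baseFin : List (ℕ × ℕ × ℕ) := [(2, 8, 7), (2, 0, 7), (1, 0, 7), (2, 1, 8), (2, 1, 8), (2, 0, 8), (2, 0, 8), (2, 0, 8), (2, 4, 8), (0, 16, 15), (0, 0, 14), (0, 0, 14), (0, 0, 13), (3, 12656663, 12656663), (1, 5, 0), (2, 6, 1), (0, 1, 22), (0, 0, 17), (3, 7417889, 7417889), (1, 3, 0), (2, 4, 1), (0, 9, 23), (3, 8536111, 8536111), (1, 2, 0), (2, 3, 1), (0, 15, 27), (0, 0, 27), (0, 0, 27), (3, 8663097, 8663097), (1, 21, 0), (2, 22, 1), (1, 16, 2), (2, 17, 3), (1, 13, 4), (2, 14, 5), (0, 39, 37), (0, 0, 37),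 (0, 0, 37), (0, 0, 4), (3, 692282, 692282), (1, 16, 0), (2, 17, 1), (1, 17, 2), (2, 18, 3), (1, 13, 4), (2, 14, 5), (0, 52, 49), (0, 0, 49), (0, 0, 49), (0, 0, 49), (3, 5275709, 5275709), (1, 18, 0), (2, 19, 1), (1, 18, 2), (2, 19, 3), (0, 25, 21), (0, 0, 15), (0, 0, 15), (0, 0, 15), (3, 2019456, 2019456), (1, 16, 0), (2, 17, 1), (0, 69, 28), (0, 33, 31), (0, 0, 21), (0, 0, 20), (0, 0, 13), (3, 4038912, 4038912), (1, 6, 0), (2, 7, 1), (0, 46, 27), (0, 0, 19), (0, 0, 19), (3, 8077824, 8077824), (1, 4, 0), (2, 5, 1), (0, 13, 34), (0, 0, 32), (0, 0, 25), (3, 11654144, 11654144), (1, 4, 0), (2, 5, 1)]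

theorem card_orbD_base : Nat.card (fixMasks [8683614, 1, 8388608]) = 2520 := by
  rw [card_fixMasks (L := orbD_baseLevels) (fin := orbD_baseFin) (by decide +kernel)]; decide +kernel

/-- Transversals and refutations: D_0. -/
def orbD_0Levels : List Level := [
  (1,
    [984818244535754528103549039458486304,
     980467689964839082853059301327602752,
     980512946720020186841259429407590528,
     983357629764836114842404275947144384,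
     971824691956873917022406029705578976,
     970379686824124667074888536688789056],
    [(0, [(1, 3, 0)]),
     (3, [(2, 5, 4), (2, 0, 4), (1, 0, 4), (1, 0, 4), (1, 0, 4)]),
     (5, [(2, 5, 4), (2, 0, 4), (1, 0, 4), (2, 0, 4), (1, 0, 4)]),
     (7, [(2, 5, 4), (2, 0, 4), (1, 0, 4), (2, 0, 4), (1, 0, 4)]),
     (8, [(2, 5, 4), (2, 0, 4), (1, 0, 4), (2, 0, 4), (1, 0, 4)]),
     (9, [(2, 5, 4), (2, 0, 4), (1, 0, 4), (2, 0, 4), (1, 0, 4)]),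
     (10, [(2, 5, 4), (2, 0, 4), (1, 0, 4), (2, 0, 4), (1, 0, 4)]),
     (11, [(2, 5, 4), (2, 0, 4), (1, 0, 4), (2, 0, 4), (1, 0, 4)]),
     (12, [(2, 5, 4), (2, 0, 4), (1, 0, 4), (2, 0, 4), (1, 0, 4)]),
     (13, [(2, 5, 4), (2, 0, 4), (1, 0, 4), (2, 0, 4), (1, 0, 4)]),
     (14, [(2, 5, 4), (2, 0, 4), (1, 0, 4), (2, 0, 4), (1, 0, 4)]),
     (16, [(2, 5, 4), (2, 0, 4), (1, 0, 4), (2, 0, 4), (1, 0, 4)]),
     (17, [(2, 5, 4), (2, 0, 4), (1, 0, 4), (2, 0, 4), (1, 0, 4)]),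
     (19, [(2, 5, 4), (2, 0, 4), (1, 0, 4), (2, 0, 4), (1, 0, 4)]),
     (20, [(2, 5, 4), (2, 0, 4), (1, 0, 4), (2, 0, 4), (1, 0, 4)]),
     (21, [(2, 5, 4), (2, 0, 4), (1, 0, 4), (2, 0, 4), (1, 0, 4)]),
     (22, [(2, 5, 4), (2, 0, 4), (1, 0, 4), (2, 0, 4), (1, 0, 4)]),
     (23, [(1, 4, 0)])]),
  (2,
    [984818244535754528103549039458486304,
     971866677890671561606360091817252896,
     980884823720551302367760286722672672],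
    [(0, [(1, 4, 0)]),
     (1, [(1, 1, 0)]),
     (3, [(2, 6, 5), (2, 0, 5), (1, 0, 5), (1, 0, 5), (1, 0, 4)]),
     (4, [(2, 6, 5), (2, 0, 5), (1, 0, 5), (2, 1, 6), (1, 1, 6), (1, 1, 7), (0, 11, 10), (0, 0, 2), (0, 0, 9), (0, 0, 9), (3, 8536111, 9963547), (1, 5, 0)]),
     (5, [(2, 6, 5), (2, 0, 5), (2, 0, 5), (1, 0, 5), (1, 0, 4)]),
     (7, [(2, 6, 5), (2, 0, 5), (2, 0, 5), (1, 0, 5), (1, 0, 4)]),
     (8, [(2, 6, 5), (2, 0, 5), (2, 0, 5), (1, 0, 5), (1, 0, 4)]),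
     (9, [(2, 6, 5), (2, 0, 5), (2, 0, 5), (1, 0, 5), (1, 0, 4)]),
     (10, [(2, 6, 5), (2, 0, 5), (2, 0, 5), (2, 0, 5), (1, 0, 4)]),
     (11, [(2, 6, 5), (2, 0, 5), (2, 0, 5), (2, 0, 5), (1, 0, 4)]),
     (12, [(2, 6, 5), (2, 0, 5), (2, 0, 5), (2, 0, 5), (1, 0, 4)]),
     (13, [(2, 6, 5), (2, 0, 5), (2, 0, 5), (1, 0, 5), (1, 0, 4)]),
     (14, [(2, 6, 5), (2, 0, 5), (2, 0, 5), (1, 0, 5), (1, 0, 4)]),
     (15, [(2, 6, 5), (2, 0, 5), (1, 0, 5), (2, 1, 6), (1, 1, 6), (1, 1, 7), (0, 11, 10), (0, 0, 2), (0, 0, 9), (0, 0, 9), (3, 8536111, 14716939), (1, 5, 0)]),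
     (16, [(2, 6, 5), (2, 0, 5), (2, 0, 5), (2, 0, 5), (1, 0, 4)]),
     (17, [(2, 6, 5), (2, 0, 5), (2, 0, 5), (2, 0, 5), (1, 0, 4)]),
     (19, [(2, 6, 5), (2, 0, 5), (2, 0, 5), (2, 0, 5), (1, 0, 4)]),
     (20, [(2, 6, 5), (2, 0, 5), (2, 0, 5), (2, 0, 5), (1, 0, 4)]),
     (21, [(2, 6, 5), (2, 0, 5), (2, 0, 5), (2, 0, 5), (1, 0, 4)]),
     (22, [(2, 6, 5), (2, 0, 5), (2, 0, 5), (2, 0, 5), (1, 0, 4)]),
     (23, [(1, 5, 0)])]),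
  (4,
    [984818244535754528103549039458486304,
     981818691054096003685363657089320992],
    [(0, [(1, 5, 0)]),
     (1, [(1, 2, 0)]),
     (2, [(1, 1, 0)]),
     (3, [(2, 7, 6), (2, 0, 6), (1, 0, 6), (1, 0, 6), (1, 0, 4)]),
     (5, [(2, 7, 6), (2, 0, 6), (2, 0, 6), (1, 0, 6), (1, 0, 4)]),
     (6, [(2, 7, 6), (2, 0, 6), (1, 0, 6), (2, 1, 7), (1, 1, 7), (1, 1, 8), (2, 2, 9), (0, 13, 12), (0, 0, 10), (0, 0, 10), (0, 0, 10), (3, 12656663, 11010247), (2, 6, 0), (1, 6, 1), (2, 7, 2), (0, 1, 21), (0, 0, 11), (0, 0, 17), (3, 16056344, 11015256), (1, 4, 0), (0, 0, 25), (0, 0, 16), (0, 0, 22), (3, 3297305, 4330601), (1, 11, 0), (0, 20, 27), (0, 0, 27), (0, 0, 27), (0, 0, 3), (3, 6832158, 1573998), (1, 10, 0), (2, 11, 1), (0, 37, 34), (0, 0, 8), (0, 0, 3), (0, 0, 3), (3, 3719203, 8983587), (1, 43, 0)]),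
     (7, [(2, 7, 6), (2, 0, 6), (2, 0, 6), (1, 0, 6), (1, 0, 4)]),
     (8, [(2, 7, 6), (2, 0, 6), (2, 0, 6), (1, 0, 6), (1, 0, 4)]),
     (9, [(2, 7, 6), (2, 0, 6), (2, 0, 6), (1, 0, 6), (1, 0, 4)]),
     (10, [(2, 7, 6), (2, 0, 6), (2, 0, 6), (2, 0, 6), (1, 0, 4)]),
     (11, [(2, 7, 6), (2, 0, 6), (2, 0, 6), (2, 0, 6), (1, 0, 4)]),
     (12, [(2, 7, 6), (2, 0, 6), (2, 0, 6), (2, 0, 6), (1, 0, 4)]),
     (13, [(2, 7, 6), (2, 0, 6), (2, 0, 6), (1, 0, 6), (1, 0, 4)]),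
     (14, [(2, 7, 6), (2, 0, 6), (2, 0, 6), (1, 0, 6), (1, 0, 4)]),
     (16, [(2, 7, 6), (2, 0, 6), (2, 0, 6), (2, 0, 6), (1, 0, 4)]),
     (17, [(2, 7, 6), (2, 0, 6), (2, 0, 6), (2, 0, 6), (1, 0, 4)]),
     (18, [(2, 7, 6), (2, 0, 6), (1, 0, 6), (2, 1, 7), (1, 1, 7), (1, 1, 8), (2, 2, 9), (0, 13, 12), (0, 0, 10), (0, 0, 10), (0, 0, 10), (3, 12656663, 8657159), (2, 6, 0), (1, 6, 1), (2, 7, 2), (0, 1, 21), (0, 0, 11), (0, 0, 17), (3, 16056344, 9279496), (1, 4, 0), (0, 0, 25), (0, 0, 16), (0, 0, 22), (3, 3297305, 2031657), (1, 11, 0), (0, 20, 27), (0, 0, 27), (0, 0, 27), (0, 0, 3), (3, 6832158, 4526126), (1, 10, 0), (2, 11, 1), (0, 37, 34), (0, 0, 8), (0, 0, 3), (0, 0, 3), (3, 3719203, 8983587), (1, 43, 0)]),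
     (19, [(2, 7, 6), (2, 0, 6), (2, 0, 6), (2, 0, 6), (1, 0, 4)]),
     (20, [(2, 7, 6), (2, 0, 6), (2, 0, 6), (2, 0, 6), (1, 0, 4)]),
     (21, [(2, 7, 6), (2, 0, 6), (2, 0, 6), (2, 0, 6), (1, 0, 4)]),
     (22, [(2, 7, 6), (2, 0, 6), (2, 0, 6), (2, 0, 6), (1, 0, 4)]),
     (23, [(1, 6, 0)])])]

/-- Final derivation: D_0. -/
def orbD_0Fin : List (ℕ × ℕ × ℕ) := [(2, 7, 6), (2, 0, 6), (1, 0, 6), (2, 1, 7), (1, 1, 7), (2, 2, 8), (1, 2, 9), (2, 3, 10), (2, 2, 10), (2, 0, 10), (2, 0, 10), (0, 17, 16), (0, 0, 14), (0, 0, 14), (0, 0, 14), (3, 12656663, 12656663), (1, 9, 0), (2, 10, 1), (1, 10, 2), (2, 11, 3), (0, 1, 26), (0, 0, 16), (0, 0, 22), (3, 16056344, 16056344), (1, 13, 0), (2, 14, 1), (1, 6, 2), (2, 7, 3), (0, 1, 33), (0, 0, 24), (0, 0, 30), (3, 3297305, 3297305), (1, 14, 0), (2, 15, 1), (1, 6, 2), (2, 7, 3), (0, 31, 38), (0, 0, 38), (0,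 0, 38), (0, 0, 6), (3, 6832158, 6832158), (1, 22, 0), (2, 23, 1), (1, 16, 2), (2, 17, 3), (1, 9, 4), (2, 10, 5), (0, 53, 30), (0, 0, 23), (0, 0, 16), (0, 0, 6), (3, 11952160, 11952160), (1, 18, 0), (2, 19, 1), (1, 19, 2), (2, 20, 3), (0, 61, 58), (0, 0, 24), (0, 0, 14), (0, 0, 14), (3, 3719203, 3719203), (1, 35, 0), (2, 36, 1), (0, 38, 30), (0, 0, 19), (0, 0, 19), (0, 0, 11), (3, 2019456, 2019456), (1, 14, 0), (2, 15, 1), (0, 53, 45), (0, 0, 28), (0, 0, 28), (0, 0, 28), (3, 4038912, 4038912), (1, 5, 0), (2, 6, 1), (0, 83, 44), (0, 0, 35), (0, 0, 35), (0, 0, 35), (3, 11654144, 11654144), (1, 35, 0), (2, 36, 1)]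

theorem card_orbD_0 : Nat.card (fixMasks [8414120, 8683614, 1, 8388608]) = 36 := by
  rw [card_fixMasks (L := orbD_0Levels) (fin := orbD_0Fin) (by decide +kernel)]; decide +kernel

/-- Transversals and refutations: D_1. -/
def orbD_1Levels : List Level := [
  (1,
    [984818244535754528103549039458486304,
     967739223789245171407146504132003936,
     980909994986212163119639306264692928],
    [(0, [(1, 3, 0)]),
     (2, [(2, 5, 4), (2, 0, 4), (1, 0, 4), (1, 0, 4), (1, 0, 4)]),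
     (4, [(2, 5, 4), (2, 0, 4), (1, 0, 4), (1, 0, 4), (1, 0, 4)]),
     (5, [(2, 5, 4), (2, 0, 4), (1, 0, 4), (1, 0, 4), (1, 0, 4)]),
     (7, [(2, 5, 4), (2, 0, 4), (1, 0, 4), (1, 0, 4), (1, 0, 4)]),
     (8, [(2, 5, 4), (2, 0, 4), (1, 0, 4), (1, 0, 4), (1, 0, 4)]),
     (9, [(2, 5, 4), (2, 0, 4), (1, 0, 4), (1, 0, 4), (1, 0, 4)]),
     (10, [(2, 5, 4), (2, 0, 4), (1, 0, 4), (1, 0, 4), (1, 0, 4)]),
     (11, [(2, 5, 4), (2, 0, 4), (1, 0, 4), (1, 0, 4), (1, 0, 4)]),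
     (12, [(2, 5, 4), (2, 0, 4), (1, 0, 4), (1, 0, 4), (1, 0, 4)]),
     (13, [(2, 5, 4), (2, 0, 4), (1, 0, 4), (1, 0, 4), (1, 0, 4)]),
     (14, [(2, 5, 4), (2, 0, 4), (1, 0, 4), (1, 0, 4), (1, 0, 4)]),
     (15, [(2, 5, 4), (2, 0, 4), (1, 0, 4), (1, 0, 4), (1, 0, 4)]),
     (16, [(2, 5, 4), (2, 0, 4), (1, 0, 4), (1, 0, 4), (1, 0, 4)]),
     (17, [(2, 5, 4), (2, 0, 4), (1, 0, 4), (1, 0, 4), (1, 0, 4)]),
     (18, [(2, 5, 4), (2, 0, 4), (1, 0, 4), (1, 0, 4), (1, 0, 4)]),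
     (19, [(2, 5, 4), (2, 0, 4), (1, 0, 4), (1, 0, 4), (1, 0, 4)]),
     (20, [(2, 5, 4), (2, 0, 4), (1, 0, 4), (1, 0, 4), (1, 0, 4)]),
     (21, [(2, 5, 4), (2, 0, 4), (1, 0, 4), (1, 0, 4), (1, 0, 4)]),
     (22, [(2, 5, 4), (2, 0, 4), (1, 0, 4), (1, 0, 4), (1, 0, 4)]),
     (23, [(1, 4, 0)])]),
  (2,
    [984818244535754528103549039458486304,
     976535332656625866811670459970588704,
     978029839594700076676836534601759776,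
     980884823720551302367760286722672672],
    [(0, [(1, 4, 0)]),
     (1, [(2, 6, 5), (2, 0, 5), (1, 0, 5), (2, 0, 5), (1, 0, 4)]),
     (3, [(2, 6, 5), (2, 0, 5), (1, 0, 5), (2, 0, 5), (1, 0, 4)]),
     (5, [(2, 6, 5), (2, 0, 5), (1, 0, 5), (2, 0, 5), (1, 0, 4)]),
     (6, [(2, 6, 5), (2, 0, 5), (1, 0, 5), (2, 0, 5), (1, 0, 4)]),
     (7, [(2, 6, 5), (2, 0, 5), (1, 0, 5), (2, 0, 5), (1, 0, 4)]),
     (8, [(2, 6, 5), (2, 0, 5), (1, 0, 5), (2, 0, 5), (1, 0, 4)]),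
     (9, [(2, 6, 5), (2, 0, 5), (1, 0, 5), (2, 0, 5), (1, 0, 4)]),
     (10, [(2, 6, 5), (2, 0, 5), (1, 0, 5), (2, 0, 5), (1, 0, 4)]),
     (11, [(2, 6, 5), (2, 0, 5), (1, 0, 5), (2, 0, 5), (1, 0, 4)]),
     (12, [(2, 6, 5), (2, 0, 5), (1, 0, 5), (2, 0, 5), (1, 0, 4)]),
     (13, [(2, 6, 5), (2, 0, 5), (1, 0, 5), (2, 0, 5), (1, 0, 4)]),
     (14, [(2, 6, 5), (2, 0, 5), (1, 0, 5), (2, 0, 5), (1, 0, 4)]),
     (16, [(2, 6, 5), (2, 0, 5), (1, 0, 5), (2, 0, 5), (1, 0, 4)]),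
     (17, [(2, 6, 5), (2, 0, 5), (1, 0, 5), (2, 0, 5), (1, 0, 4)]),
     (19, [(2, 6, 5), (2, 0, 5), (1, 0, 5), (2, 0, 5), (1, 0, 4)]),
     (20, [(2, 6, 5), (2, 0, 5), (1, 0, 5), (2, 0, 5), (1, 0, 4)]),
     (21, [(2, 6, 5), (2, 0, 5), (1, 0, 5), (2, 0, 5), (1, 0, 4)]),
     (22, [(2, 6, 5), (2, 0, 5), (1, 0, 5), (2, 0, 5), (1, 0, 4)]),
     (23, [(1, 5, 0)])]),
  (3,
    [984818244535754528103549039458486304,
     967775751955048358589096069482874912],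
    [(0, [(1, 5, 0)]),
     (1, [(1, 2, 0)]),
     (2, [(2, 7, 6), (2, 0, 6), (1, 0, 6), (1, 0, 6), (2, 0, 6), (1, 0, 5)]),
     (4, [(2, 7, 6), (2, 0, 6), (1, 0, 6), (1, 0, 6), (2, 0, 6), (1, 0, 5)]),
     (5, [(2, 7, 6), (2, 0, 6), (2, 0, 6), (1, 0, 6), (1, 0, 4)]),
     (7, [(2, 7, 6), (2, 0, 6), (2, 0, 6), (1, 0, 6), (1, 0, 4)]),
     (8, [(2, 7, 6), (2, 0, 6), (2, 0, 6), (2, 0, 6), (1, 0, 4)]),
     (9, [(2, 7, 6), (2, 0, 6), (2, 0, 6), (2, 0, 6), (1, 0, 4)]),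
     (10, [(2, 7, 6), (2, 0, 6), (2, 0, 6), (2, 0, 6), (1, 0, 4)]),
     (11, [(2, 7, 6), (2, 0, 6), (2, 0, 6), (1, 0, 6), (1, 0, 4)]),
     (12, [(2, 7, 6), (2, 0, 6), (2, 0, 6), (1, 0, 6), (1, 0, 4)]),
     (13, [(2, 7, 6), (2, 0, 6), (2, 0, 6), (2, 0, 6), (1, 0, 4)]),
     (14, [(2, 7, 6), (2, 0, 6), (2, 0, 6), (2, 0, 6), (1, 0, 4)]),
     (15, [(2, 7, 6), (2, 0, 6), (1, 0, 6), (1, 0, 6), (2, 0, 6), (1, 0, 5)]),
     (16, [(2, 7, 6), (2, 0, 6), (2, 0, 6), (2, 0, 6), (1, 0, 4)]),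
     (17, [(2, 7, 6), (2, 0, 6), (2, 0, 6), (2, 0, 6), (1, 0, 4)]),
     (18, [(2, 7, 6), (2, 0, 6), (1, 0, 6), (1, 0, 6), (2, 0, 6), (1, 0, 5)]),
     (19, [(2, 7, 6), (2, 0, 6), (2, 0, 6), (2, 0, 6), (1, 0, 4)]),
     (20, [(2, 7, 6), (2, 0, 6), (2, 0, 6), (2, 0, 6), (1, 0, 4)]),
     (21, [(2, 7, 6), (2, 0, 6), (2, 0, 6), (2, 0, 6), (1, 0, 4)]),
     (22, [(2, 7, 6), (2, 0, 6), (2, 0, 6), (2, 0, 6), (1, 0, 4)]),
     (23, [(1, 6, 0)])])]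

/-- Final derivation: D_1. -/
def orbD_1Fin : List (ℕ × ℕ × ℕ) := [(2, 7, 6), (2, 0, 6), (1, 0, 6), (2, 1, 7), (1, 1, 7), (2, 2, 8), (1, 2, 9), (2, 3, 10), (2, 3, 10), (2, 3, 10), (2, 1, 10), (0, 1, 16), (0, 0, 14), (3, 1413139, 1413139), (1, 7, 0), (2, 8, 1), (1, 8, 2), (2, 9, 3), (0, 1, 24), (0, 0, 21), (0, 0, 20), (3, 9543722, 9543722), (1, 12, 0), (2, 13, 1), (1, 8, 2), (2, 9, 3), (1, 8, 4), (2, 9, 5), (0, 29, 28), (0, 0, 6), (0, 0, 5), (0, 0, 4), (3, 843820, 843820), (1, 9, 0), (2, 10, 1), (1, 7, 2), (2, 8, 3), (0, 39, 38), (0, 0, 38), (0, 0, 24), (0, 0, 15), (3, 4526126, 4526126), (1, 25, 0), (2, 26, 1), (1, 7, 2), (2, 8, 3), (0, 52, 51), (0, 0, 49), (0, 0, 49), (0, 0, 49), (3, 8536111, 8536111), (1, 15, 0), (2, 16, 1), (1, 7, 2), (2, 8, 3), (0, 40, 30), (0, 0, 22), (0, 0, 22), (0, 0, 15), (3, 2969648, 2969648), (1, 5, 0), (2, 6, 1),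 (0, 47, 39), (0, 0, 29), (0, 0, 20), (0, 0, 13), (3, 2019456, 2019456), (1, 41, 0), (2, 42, 1), (0, 46, 42), (0, 0, 36), (0, 0, 28), (0, 0, 28), (3, 4038912, 4038912), (1, 12, 0), (2, 13, 1), (0, 59, 31), (0, 0, 25), (0, 0, 25), (3, 8077824, 8077824), (1, 4, 0), (2, 5, 1)]

theorem card_orbD_1 : Nat.card (fixMasks [8394986, 8683614, 1, 8388608]) = 24 := by
  rw [card_fixMasks (L := orbD_1Levels) (fin := orbD_1Fin) (by decide +kernel)]; decide +kernel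

/-- Transversals and refutations: D_2. -/
def orbD_2Levels : List Level := [
  (1,
    [984818244535754528103549039458486304,
     976990105829392847739289005721748544,
     980950706932289206909372855713072224,
     982060704822795966893982365816784000,
     968582211692953937292958977095697600,
     984644321498751900937536182823224800,
     976379595758121838223164502319367744],
    [(0, [(1, 3, 0)]),
     (5, [(2, 5, 4), (2, 0, 4), (1, 0, 4), (1, 0, 3)]),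
     (7, [(2, 5, 4), (2, 0, 4), (1, 0, 4), (1, 0, 3)]),
     (8, [(2, 5, 4), (2, 0, 4), (1, 0, 4), (1, 0, 3)]),
     (9, [(2, 5, 4), (2, 0, 4), (1, 0, 4), (1, 0, 3)]),
     (10, [(2, 5, 4), (2, 0, 4), (1, 0, 4), (1, 0, 3)]),
     (11, [(2, 5, 4), (2, 0, 4), (1, 0, 4), (1, 0, 3)]),
     (12, [(2, 5, 4), (2, 0, 4), (1, 0, 4), (1, 0, 3)]),
     (13, [(2, 5, 4), (2, 0, 4), (1, 0, 4), (1, 0, 3)]),
     (14, [(2, 5, 4), (2, 0, 4), (1, 0, 4), (1, 0, 3)]),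
     (16, [(2, 5, 4), (2, 0, 4), (1, 0, 4), (1, 0, 3)]),
     (17, [(2, 5, 4), (2, 0, 4), (1, 0, 4), (1, 0, 3)]),
     (19, [(2, 5, 4), (2, 0, 4), (1, 0, 4), (1, 0, 3)]),
     (20, [(2, 5, 4), (2, 0, 4), (1, 0, 4), (1, 0, 3)]),
     (21, [(2, 5, 4), (2, 0, 4), (1, 0, 4), (1, 0, 3)]),
     (22, [(2, 5, 4), (2, 0, 4), (1, 0, 4), (1, 0, 3)]),
     (23, [(1, 4, 0)])]),
  (2,
    [984818244535754528103549039458486304,
     981737719767249052369456315699891232,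
     980920017121645750808446692546908192,
     966261024527270143218214344647055392,
     971427835580551787279014972240247840,
     965246890165736009736356715589355552],
    [(0, [(1, 4, 0)]),
     (1, [(1, 1, 0)]),
     (5, [(2, 6, 5), (2, 0, 5), (2, 0, 5), (1, 0, 3)]),
     (7, [(2, 6, 5), (2, 0, 5), (2, 0, 5), (1, 0, 3)]),
     (8, [(2, 6, 5), (2, 0, 5), (2, 0, 5), (1, 0, 3)]),
     (9, [(2, 6, 5), (2, 0, 5), (2, 0, 5), (1, 0, 3)]),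
     (10, [(2, 6, 5), (2, 0, 5), (2, 0, 5), (1, 0, 3)]),
     (11, [(2, 6, 5), (2, 0, 5), (2, 0, 5), (1, 0, 3)]),
     (12, [(2, 6, 5), (2, 0, 5), (2, 0, 5), (1, 0, 3)]),
     (13, [(2, 6, 5), (2, 0, 5), (2, 0, 5), (1, 0, 3)]),
     (14, [(2, 6, 5), (2, 0, 5), (2, 0, 5), (1, 0, 3)]),
     (16, [(2, 6, 5), (2, 0, 5), (2, 0, 5), (1, 0, 3)]),
     (17, [(2, 6, 5), (2, 0, 5), (2, 0, 5), (1, 0, 3)]),
     (19, [(2, 6, 5), (2, 0, 5), (2, 0, 5), (1, 0, 3)]),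
     (20, [(2, 6, 5), (2, 0, 5), (2, 0, 5), (1, 0, 3)]),
     (21, [(2, 6, 5), (2, 0, 5), (2, 0, 5), (1, 0, 3)]),
     (22, [(2, 6, 5), (2, 0, 5), (2, 0, 5), (1, 0, 3)]),
     (23, [(1, 5, 0)])]),
  (3,
    [984818244535754528103549039458486304,
     977839867786251717525204161457686560,
     962694832558750323383766292752435232,
     977993317804836395731366124916803616,
     962774945461074800729415166826448928],
    [(0, [(1, 5, 0)]),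
     (1, [(1, 2, 0)]),
     (2, [(1, 1, 0)]),
     (5, [(2, 7, 6), (2, 0, 6), (2, 0, 6), (1, 0, 3)]),
     (7, [(2, 7, 6), (2, 0, 6), (2, 0, 6), (1, 0, 3)]),
     (8, [(2, 7, 6), (2, 0, 6), (2, 0, 6), (1, 0, 3)]),
     (9, [(2, 7, 6), (2, 0, 6), (2, 0, 6), (1, 0, 3)]),
     (10, [(2, 7, 6), (2, 0, 6), (2, 0, 6), (1, 0, 3)]),
     (11, [(2, 7, 6), (2, 0, 6), (2, 0, 6), (1, 0, 3)]),
     (12, [(2, 7, 6), (2, 0, 6), (2, 0, 6), (1, 0, 3)]),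
     (13, [(2, 7, 6), (2, 0, 6), (2, 0, 6), (1, 0, 3)]),
     (14, [(2, 7, 6), (2, 0, 6), (2, 0, 6), (1, 0, 3)]),
     (16, [(2, 7, 6), (2, 0, 6), (2, 0, 6), (1, 0, 3)]),
     (17, [(2, 7, 6), (2, 0, 6), (2, 0, 6), (1, 0, 3)]),
     (19, [(2, 7, 6), (2, 0, 6), (2, 0, 6), (1, 0, 3)]),
     (20, [(2, 7, 6), (2, 0, 6), (2, 0, 6), (1, 0, 3)]),
     (21, [(2, 7, 6), (2, 0, 6), (2, 0, 6), (1, 0, 3)]),
     (22, [(2, 7, 6), (2, 0, 6), (2, 0, 6), (1, 0, 3)]),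
     (23, [(1, 6, 0)])]),
  (4,
    [984818244535754528103549039458486304,
     980874226864350081512017426024335392,
     981818691054096003685363657089320992,
     971863989228759034920585190470420512],
    [(0, [(1, 6, 0)]),
     (1, [(1, 3, 0)]),
     (2, [(1, 2, 0)]),
     (3, [(1, 1, 0)]),
     (5, [(2, 8, 7), (2, 0, 7), (2, 0, 7), (1, 0, 3)]),
     (7, [(2, 8, 7), (2, 0, 7), (2, 0, 7), (1, 0, 3)]),
     (8, [(2, 8, 7), (2, 0, 7), (2, 0, 7), (1, 0, 3)]),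
     (9, [(2, 8, 7), (2, 0, 7), (2, 0, 7), (1, 0, 3)]),
     (10, [(2, 8, 7), (2, 0, 7), (2, 0, 7), (1, 0, 3)]),
     (11, [(2, 8, 7), (2, 0, 7), (2, 0, 7), (1, 0, 3)]),
     (12, [(2, 8, 7), (2, 0, 7), (2, 0, 7), (1, 0, 3)]),
     (13, [(2, 8, 7), (2, 0, 7), (2, 0, 7), (1, 0, 3)]),
     (14, [(2, 8, 7), (2, 0, 7), (2, 0, 7), (1, 0, 3)]),
     (16, [(2, 8, 7), (2, 0, 7), (2, 0, 7), (1, 0, 3)]),
     (17, [(2, 8, 7), (2, 0, 7), (2, 0, 7), (1, 0, 3)]),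
     (19, [(2, 8, 7), (2, 0, 7), (2, 0, 7), (1, 0, 3)]),
     (20, [(2, 8, 7), (2, 0, 7), (2, 0, 7), (1, 0, 3)]),
     (21, [(2, 8, 7), (2, 0, 7), (2, 0, 7), (1, 0, 3)]),
     (22, [(2, 8, 7), (2, 0, 7), (2, 0, 7), (1, 0, 3)]),
     (23, [(1, 7, 0)])]),
  (5,
    [984818244535754528103549039458486304,
     976531636853126291160407323722221600,
     972606645568131968584696805283956768],
    [(0, [(1, 7, 0)]),
     (1, [(2, 9, 8), (2, 0, 8), (2, 0, 8), (1, 0, 3)]),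
     (2, [(2, 9, 8), (2, 0, 8), (2, 0, 8), (1, 0, 3)]),
     (3, [(2, 9, 8), (2, 0, 8), (2, 0, 8), (1, 0, 3)]),
     (4, [(2, 9, 8), (2, 0, 8), (2, 0, 8), (1, 0, 3)]),
     (6, [(2, 9, 8), (2, 0, 8), (2, 0, 8), (1, 0, 3)]),
     (7, [(0, 8, 7), (0, 0, 5), (0, 0, 5), (0, 0, 5), (3, 8536111, 8536111), (1, 5, 0)]),
     (8, [(0, 8, 7), (0, 0, 5), (0, 0, 5), (0, 0, 5), (3, 8536111, 8536111), (1, 5, 0)]),
     (9, [(0, 8, 7), (0, 0, 5), (0, 0, 5), (0, 0, 5), (3, 8536111, 8536111), (1, 5, 0)]),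
     (10, [(0, 8, 7), (0, 0, 5), (0, 0, 5), (0, 0, 5), (3, 8536111, 8536111), (1, 5, 0)]),
     (11, [(0, 8, 7), (0, 0, 5), (0, 0, 5), (0, 0, 5), (3, 8536111, 8536111), (1, 5, 0)]),
     (12, [(0, 8, 7), (0, 0, 5), (0, 0, 5), (0, 0, 5), (3, 8536111, 8536111), (1, 5, 0)]),
     (13, [(0, 8, 7), (0, 0, 5), (0, 0, 5), (0, 0, 4), (3, 12656663, 12656663), (1, 5, 0)]),
     (15, [(2, 9, 8), (2, 0, 8), (2, 0, 8), (1, 0, 3)]),
     (16, [(0, 8, 7), (0, 0, 5), (0, 0, 5), (0, 0, 4), (3, 12656663, 12656663), (1, 5, 0)]),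
     (18, [(2, 9, 8), (2, 0, 8), (2, 0, 8), (1, 0, 3)]),
     (19, [(0, 8, 7), (0, 0, 5), (0, 0, 5), (0, 0, 5), (3, 8536111, 8536111), (1, 5, 0)]),
     (20, [(0, 8, 7), (0, 0, 5), (0, 0, 5), (0, 0, 5), (3, 8536111, 8536111), (1, 5, 0)]),
     (21, [(0, 8, 7), (0, 0, 5), (0, 0, 5), (0, 0, 5), (3, 8536111, 8536111), (1, 5, 0)]),
     (22, [(0, 8, 7), (0, 0, 5), (0, 0, 5), (0, 0, 4), (3, 12656663, 12656663), (1, 5, 0)]),
     (23, [(1, 8, 0)])])]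

/-- Final derivation: D_2. -/
def orbD_2Fin : List (ℕ × ℕ × ℕ) := [(2, 9, 8), (2, 0, 8), (1, 0, 8), (2, 1, 9), (2, 1, 8), (2, 0, 8), (2, 0, 8), (2, 0, 8), (2, 4, 8), (0, 17, 16), (0, 0, 14), (0, 0, 14), (0, 0, 13), (3, 12656663, 12656663), (1, 5, 0), (2, 6, 1), (0, 1, 23), (0, 0, 17), (3, 7417889, 7417889), (1, 3, 0), (2, 4, 1), (0, 9, 23), (3, 8536111, 8536111), (1, 2, 0), (2, 3, 1), (0, 15, 27), (0, 0, 27), (0, 0, 27), (3, 8663097, 8663097), (1, 21, 0), (2, 22, 1), (1, 16, 2), (2, 17, 3), (1, 13, 4), (2, 14, 5), (0, 39, 37), (0, 0, 37), (0, 0, 37), (0, 0, 4), (3, 692282, 692282), (1, 16, 0), (2, 17, 1), (1, 17, 2), (2, 18, 3), (1, 13, 4), (2, 14, 5), (0, 53, 49), (0, 0, 49), (0, 0, 49), (0, 0, 49), (3, 5275709, 5275709), (1, 18, 0), (2, 19, 1), (1, 18, 2), (2, 19, 3), (0, 25, 21), (0, 0, 15), (0, 0, 15), (0, 0, 15), (3, 2019456, 2019456),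 (1, 16, 0), (2, 17, 1), (0, 70, 28), (0, 33, 31), (0, 0, 21), (0, 0, 20), (0, 0, 13), (3, 4038912, 4038912), (1, 6, 0), (2, 7, 1), (0, 46, 27), (0, 0, 19), (0, 0, 19), (3, 8077824, 8077824), (1, 4, 0), (2, 5, 1), (0, 13, 34), (0, 0, 32), (0, 0, 25), (3, 11654144, 11654144), (1, 4, 0), (2, 5, 1)]

theorem card_orbD_2 : Nat.card (fixMasks [8683614, 8683614, 1, 8388608]) = 2520 := by
  rw [card_fixMasks (L := orbD_2Levels) (fin := orbD_2Fin) (by decide +kernel)]; decide +kernel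

end CfsgLib.Golay
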