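import Cfsg.Agent.Lib.Golay.Chain

/-! Generated certificates: stabilisers for orbit computation E. -/

set_option autoImplicit false
set_option maxRecDepth 100000

namespace CfsgLib.Golay

/-- Transversals and refutations: E_base. -/
def orbE_baseLevels : List Level := [
  (0,
    [984818244535754528103549039458486304,
     972515684202761748824803774667261953,
     972876580985834619574089616508158978,
     970280904093326653051521643103454211,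
     966592714396052155698729442531673093,
     983113089370880564384757388293506062,
     967862115316661610188434604000609297],
    [(4, [(2, 3, 2), (1, 0, 2), (1, 0, 2)]),
     (6, [(2, 3, 2), (1, 0, 2), (1, 0, 2)]),
     (7, [(2, 3, 2), (1, 0, 2), (1, 0, 2)]),
     (8, [(2, 3, 2), (1, 0, 2), (1, 0, 2)]),
     (9, [(2, 3, 2), (1, 0, 2), (1, 0, 2)]),
     (10, [(2, 3, 2), (1, 0, 2), (1, 0, 2)]),
     (11, [(2, 3, 2), (1, 0, 2), (1, 0, 2)]),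
     (12, [(2, 3, 2), (1, 0, 2), (1, 0, 2)]),
     (13, [(2, 3, 2), (1, 0, 2), (1, 0, 2)]),
     (15, [(2, 3, 2), (1, 0, 2), (1, 0, 2)]),
     (16, [(2, 3, 2), (1, 0, 2), (1, 0, 2)]),
     (18, [(2, 3, 2), (1, 0, 2), (1, 0, 2)]),
     (19, [(2, 3, 2), (1, 0, 2), (1, 0, 2)]),
     (20, [(2, 3, 2), (1, 0, 2), (1, 0, 2)]),
     (21, [(2, 3, 2), (1, 0, 2), (1, 0, 2)]),
     (22, [(2, 3, 2), (1, 0, 2), (1, 0, 2)]),
     (23, [(1, 2, 0)])]),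
  (1,
    [984818244535754528103549039458486304,
     976990105829392847739289005721748544,
     980950706932289206909372855713072224,
     965374508242841933242173352489059488,
     969028219063631606277012225244857792,
     971496451907968610877962465629505056],
    [(0, [(1, 1, 0)]),
     (4, [(2, 4, 3), (2, 0, 3), (1, 0, 2)]),
     (6, [(2, 4, 3), (2, 0, 3), (1, 0, 2)]),
     (7, [(2, 4, 3), (2, 0, 3), (1, 0, 2)]),
     (8, [(2, 4, 3), (2, 0, 3), (1, 0, 2)]),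
     (9, [(2, 4, 3), (2, 0, 3), (1, 0, 2)]),
     (10, [(2, 4, 3), (2, 0, 3), (1, 0, 2)]),
     (11, [(2, 4, 3), (2, 0, 3), (1, 0, 2)]),
     (12, [(2, 4, 3), (2, 0, 3), (1, 0, 2)]),
     (13, [(2, 4, 3), (2, 0, 3), (1, 0, 2)]),
     (15, [(2, 4, 3), (2, 0, 3), (1, 0, 2)]),
     (16, [(2, 4, 3), (2, 0, 3), (1, 0, 2)]),
     (18, [(2, 4, 3), (2, 0, 3), (1, 0, 2)]),
     (19, [(2, 4, 3), (2, 0, 3), (1, 0, 2)]),
     (20, [(2, 4, 3), (2, 0, 3), (1, 0, 2)]),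
     (21, [(2, 4, 3), (2, 0, 3), (1, 0, 2)]),
     (22, [(2, 4, 3), (2, 0, 3), (1, 0, 2)]),
     (23, [(1, 3, 0)])]),
  (2,
    [984818244535754528103549039458486304,
     981737719767249052369456315699891232,
     975287932184123420360272088865510432,
     979255544404376808454307173571311648,
     963472382420602523184296581551703072],
    [(0, [(1, 2, 0)]),
     (1, [(1, 1, 0)]),
     (4, [(2, 5, 4), (2, 0, 4), (1, 0, 2)]),
     (6, [(2, 5, 4), (2, 0, 4), (1, 0, 2)]),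
     (7, [(2, 5, 4), (2, 0, 4), (1, 0, 2)]),
     (8, [(2, 5, 4), (2, 0, 4), (1, 0, 2)]),
     (9, [(2, 5, 4), (2, 0, 4), (1, 0, 2)]),
     (10, [(2, 5, 4), (2, 0, 4), (1, 0, 2)]),
     (11, [(2, 5, 4), (2, 0, 4), (1, 0, 2)]),
     (12, [(2, 5, 4), (2, 0, 4), (1, 0, 2)]),
     (13, [(2, 5, 4), (2, 0, 4), (1, 0, 2)]),
     (15, [(2, 5, 4), (2, 0, 4), (1, 0, 2)]),
     (16, [(2, 5, 4), (2, 0, 4), (1, 0, 2)]),
     (18, [(2, 5, 4), (2, 0, 4), (1, 0, 2)]),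
     (19, [(2, 5, 4), (2, 0, 4), (1, 0, 2)]),
     (20, [(2, 5, 4), (2, 0, 4), (1, 0, 2)]),
     (21, [(2, 5, 4), (2, 0, 4), (1, 0, 2)]),
     (22, [(2, 5, 4), (2, 0, 4), (1, 0, 2)]),
     (23, [(1, 4, 0)])]),
  (3,
    [984818244535754528103549039458486304,
     984202951082164080105044112956360736,
     976783504883648070799297133914032160,
     972995847379114216489588235306567712],
    [(0, [(1, 3, 0)]),
     (1, [(1, 2, 0)]),
     (2, [(1, 1, 0)]),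
     (4, [(2, 6, 5), (2, 0, 5), (1, 0, 2)]),
     (6, [(2, 6, 5), (2, 0, 5), (1, 0, 2)]),
     (7, [(2, 6, 5), (2, 0, 5), (1, 0, 2)]),
     (8, [(2, 6, 5), (2, 0, 5), (1, 0, 2)]),
     (9, [(2, 6, 5), (2, 0, 5), (1, 0, 2)]),
     (10, [(2, 6, 5), (2, 0, 5), (1, 0, 2)]),
     (11, [(2, 6, 5), (2, 0, 5), (1, 0, 2)]),
     (12, [(2, 6, 5), (2, 0, 5), (1, 0, 2)]),
     (13, [(2, 6, 5), (2, 0, 5), (1, 0, 2)]),
     (15, [(2, 6, 5), (2, 0, 5), (1, 0, 2)]),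
     (16, [(2, 6, 5), (2, 0, 5), (1, 0, 2)]),
     (18, [(2, 6, 5), (2, 0, 5), (1, 0, 2)]),
     (19, [(2, 6, 5), (2, 0, 5), (1, 0, 2)]),
     (20, [(2, 6, 5), (2, 0, 5), (1, 0, 2)]),
     (21, [(2, 6, 5), (2, 0, 5), (1, 0, 2)]),
     (22, [(2, 6, 5), (2, 0, 5), (1, 0, 2)]),
     (23, [(1, 5, 0)])]),
  (4,
    [984818244535754528103549039458486304,
     980874226864350081512017426024335392,
     963721886883755259286232606933354528,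
     979121071158219704299181131031480352,
     975728708050008715525885598301784096,
     975754295934893126319599781779965984,
     979037747421335847153138073498388512,
     979416905286026856737440949975746592,
     961029066359601346093702817927759904,
     981818691054096003685363657089320992,
     984436632068016323118584907140532256,
     971863989228759034920585190470420512,
     965225113279737155758354497310656544,
     967738580936480664927891663448279072,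
     980224387687010295957922729495201824,
     961365507626256404119956257276790816],
    [(0, [(2, 7, 6), (2, 0, 6), (1, 0, 2)]),
     (1, [(2, 7, 6), (2, 0, 6), (1, 0, 2)]),
     (2, [(2, 7, 6), (2, 0, 6), (1, 0, 2)]),
     (3, [(2, 7, 6), (2, 0, 6), (1, 0, 2)]),
     (5, [(2, 7, 6), (2, 0, 6), (1, 0, 2)]),
     (14, [(2, 7, 6), (2, 0, 6), (1, 0, 2)]),
     (17, [(2, 7, 6), (2, 0, 6), (1, 0, 2)]),
     (23, [(1, 6, 0)])]),
  (5,
    [984818244535754528103549039458486304,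
     976531636853126291160407323722221600,
     972606645568131968584696805283956768],
    [(0, [(1, 5, 0)]),
     (1, [(1, 4, 0)]),
     (2, [(1, 3, 0)]),
     (3, [(1, 2, 0)]),
     (4, [(2, 8, 7), (1, 0, 7), (2, 0, 7), (2, 0, 7), (2, 0, 7), (2, 0, 7), (1, 0, 6)]),
     (6, [(2, 8, 7), (1, 0, 7), (2, 0, 7), (2, 0, 7), (2, 0, 7), (2, 0, 7), (1, 0, 6)]),
     (7, [(2, 8, 7), (1, 0, 7), (2, 0, 7), (2, 0, 7), (2, 0, 7), (2, 0, 7), (1, 0, 6)]),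
     (8, [(2, 8, 7), (1, 0, 7), (2, 0, 7), (2, 0, 7), (2, 0, 7), (2, 0, 7), (1, 0, 6)]),
     (9, [(2, 8, 7), (1, 0, 7), (2, 0, 7), (2, 0, 7), (2, 0, 7), (2, 0, 7), (1, 0, 6)]),
     (10, [(2, 8, 7), (1, 0, 7), (2, 0, 7), (2, 0, 7), (2, 0, 7), (2, 0, 7), (1, 0, 6)]),
     (11, [(2, 8, 7), (1, 0, 7), (2, 0, 7), (2, 0, 7), (2, 0, 7), (2, 0, 7), (1, 0, 6)]),
     (12, [(2, 8, 7), (1, 0, 7), (2, 0, 7), (2, 0, 7), (2, 0, 7), (2, 0, 7), (1, 0, 6)]),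
     (13, [(2, 8, 7), (1, 0, 7), (2, 0, 7), (2, 0, 7), (2, 0, 7), (2, 0, 7), (1, 0, 6)]),
     (15, [(2, 8, 7), (1, 0, 7), (2, 0, 7), (2, 0, 7), (2, 0, 7), (2, 0, 7), (1, 0, 6)]),
     (16, [(2, 8, 7), (1, 0, 7), (2, 0, 7), (2, 0, 7), (2, 0, 7), (2, 0, 7), (1, 0, 6)]),
     (18, [(2, 8, 7), (1, 0, 7), (2, 0, 7), (2, 0, 7), (2, 0, 7), (2, 0, 7), (1, 0, 6)]),
     (19, [(2, 8, 7), (1, 0, 7), (2, 0, 7), (2, 0, 7), (2, 0, 7), (2, 0, 7), (1, 0, 6)]),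
     (20, [(2, 8, 7), (1, 0, 7), (2, 0, 7), (2, 0, 7), (2, 0, 7), (2, 0, 7), (1, 0, 6)]),
     (21, [(2, 8, 7), (1, 0, 7), (2, 0, 7), (2, 0, 7), (2, 0, 7), (2, 0, 7), (1, 0, 6)]),
     (22, [(2, 8, 7), (1, 0, 7), (2, 0, 7), (2, 0, 7), (2, 0, 7), (2, 0, 7), (1, 0, 6)]),
     (23, [(1, 7, 0)])])]

/-- Final derivation: E_base. -/
def orbE_baseFin : List (ℕ × ℕ × ℕ) := [(2, 8, 7), (1, 0, 7), (2, 1, 8), (2, 1, 8), (2, 0, 8), (2, 0, 8), (2, 0, 8), (2, 4, 8), (2, 1, 8), (0, 0, 16), (0, 0, 14), (0, 0, 12), (3, 13811730, 13811730), (1, 5, 0), (2, 6, 1), (0, 6, 19), (0, 0, 19), (0, 0, 18), (3, 421910, 421910), (1, 4, 0), (2, 5, 1), (0, 28, 26), (0, 0, 26), (0, 0, 26), (0, 0, 25), (3, 12656663, 12656663), (1, 12, 0), (2, 13, 1), (1, 8, 2), (2, 9, 3), (1, 9, 4), (2, 10, 5), (0, 39, 34), (0, 0, 34), (0, 0, 7), (0, 0, 4), (3, 16056344, 16056344), (1, 9, 0), (2, 10, 1), (1,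 9, 2), (2, 10, 3), (1, 9, 4), (2, 10, 5), (0, 47, 46), (0, 0, 46), (0, 0, 46), (0, 0, 19), (3, 6832158, 6832158), (1, 39, 0), (2, 40, 1), (1, 7, 2), (2, 8, 3), (0, 59, 25), (0, 0, 14), (0, 0, 14), (0, 0, 13), (3, 15515712, 15515712), (1, 5, 0), (2, 6, 1), (0, 31, 19), (0, 0, 19), (0, 0, 12), (3, 2019456, 2019456), (1, 4, 0), (2, 5, 1), (0, 36, 34), (0, 0, 28), (0, 0, 28), (0, 0, 28), (3, 4038912, 4038912), (1, 5, 0), (2, 6, 1), (0, 45, 41), (0, 0, 35), (0, 0, 32), (0, 0, 26), (3, 8077824, 8077824), (1, 5, 0), (2, 6, 1), (0, 86, 48), (0, 0, 42), (0, 0, 42), (0, 0, 41), (3, 11654144, 11654144), (1, 5, 0), (2, 6, 1)]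

theorem card_orbE_base : Nat.card (fixMasks [8536111, 8388608]) = 40320 := by
  rw [card_fixMasks (L := orbE_baseLevels) (fin := orbE_baseFin) (by decide +kernel)]; decide +kernel

/-- Transversals and refutations: E_0. -/
def orbE_0Levels : List Level := [
  (0,
    [984818244535754528103549039458486304,
     983546663363474750168552650252060673,
     976545627286196118495552485237753859,
     984772600324163327689138265598756869,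
     980438469621049519667413476094019598,
     979371272003396688966481866912729105],
    [(2, [(2, 4, 3), (1, 0, 3), (1, 0, 3), (1, 0, 3)]),
     (4, [(2, 4, 3), (1, 0, 3), (2, 0, 3), (1, 0, 3)]),
     (6, [(2, 4, 3), (1, 0, 3), (2, 0, 3), (1, 0, 3)]),
     (7, [(2, 4, 3), (1, 0, 3), (2, 0, 3), (1, 0, 3)]),
     (8, [(2, 4, 3), (1, 0, 3), (2, 0, 3), (1, 0, 3)]),
     (9, [(2, 4, 3), (1, 0, 3), (2, 0, 3), (1, 0, 3)]),
     (10, [(2, 4, 3), (1, 0, 3), (2, 0, 3), (1, 0, 3)]),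
     (11, [(2, 4, 3), (1, 0, 3), (2, 0, 3), (1, 0, 3)]),
     (12, [(2, 4, 3), (1, 0, 3), (2, 0, 3), (1, 0, 3)]),
     (13, [(2, 4, 3), (1, 0, 3), (2, 0, 3), (1, 0, 3)]),
     (15, [(2, 4, 3), (1, 0, 3), (2, 0, 3), (1, 0, 3)]),
     (16, [(2, 4, 3), (1, 0, 3), (2, 0, 3), (1, 0, 3)]),
     (18, [(2, 4, 3), (1, 0, 3), (2, 0, 3), (1, 0, 3)]),
     (19, [(2, 4, 3), (1, 0, 3), (2, 0, 3), (1, 0, 3)]),
     (20, [(2, 4, 3), (1, 0, 3), (2, 0, 3), (1, 0, 3)]),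
     (21, [(2, 4, 3), (1, 0, 3), (2, 0, 3), (1, 0, 3)]),
     (22, [(2, 4, 3), (1, 0, 3), (2, 0, 3), (1, 0, 3)]),
     (23, [(1, 3, 0)])]),
  (1,
    [984818244535754528103549039458486304,
     967739223789245171407146504132003936,
     982263522535701683130137574766577824,
     967850572430312661538050770389207488,
     975604989575193609557887651898493472],
    [(0, [(1, 1, 0)]),
     (2, [(2, 5, 4), (1, 0, 4), (1, 0, 4), (1, 0, 3)]),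
     (4, [(2, 5, 4), (2, 0, 4), (1, 0, 4), (1, 0, 3)]),
     (6, [(2, 5, 4), (2, 0, 4), (1, 0, 4), (1, 0, 3)]),
     (7, [(2, 5, 4), (2, 0, 4), (1, 0, 4), (1, 0, 3)]),
     (8, [(2, 5, 4), (2, 0, 4), (1, 0, 4), (1, 0, 3)]),
     (9, [(2, 5, 4), (2, 0, 4), (2, 0, 4), (1, 0, 3)]),
     (10, [(2, 5, 4), (2, 0, 4), (2, 0, 4), (1, 0, 3)]),
     (11, [(2, 5, 4), (2, 0, 4), (2, 0, 4), (1, 0, 3)]),
     (12, [(2, 5, 4), (2, 0, 4), (1, 0, 4), (1, 0, 3)]),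
     (13, [(2, 5, 4), (2, 0, 4), (1, 0, 4), (1, 0, 3)]),
     (15, [(2, 5, 4), (2, 0, 4), (2, 0, 4), (1, 0, 3)]),
     (16, [(2, 5, 4), (2, 0, 4), (2, 0, 4), (1, 0, 3)]),
     (18, [(2, 5, 4), (2, 0, 4), (2, 0, 4), (1, 0, 3)]),
     (19, [(2, 5, 4), (2, 0, 4), (2, 0, 4), (1, 0, 3)]),
     (20, [(2, 5, 4), (2, 0, 4), (2, 0, 4), (1, 0, 3)]),
     (21, [(2, 5, 4), (2, 0, 4), (2, 0, 4), (1, 0, 3)]),
     (22, [(2, 5, 4), (2, 0, 4), (2, 0, 4), (1, 0, 3)]),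
     (23, [(1, 4, 0)])]),
  (3,
    [984818244535754528103549039458486304,
     976934804572108675034832543981668384,
     983391825653034897193086219876501536,
     970579874927688723303984334079821856],
    [(0, [(1, 2, 0)]),
     (1, [(1, 1, 0)]),
     (2, [(2, 6, 5), (1, 0, 5), (1, 0, 5), (1, 0, 3)]),
     (4, [(2, 6, 5), (2, 0, 5), (1, 0, 5), (1, 0, 3)]),
     (6, [(2, 6, 5), (2, 0, 5), (1, 0, 5), (1, 0, 3)]),
     (7, [(2, 6, 5), (2, 0, 5), (1, 0, 5), (1, 0, 3)]),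
     (8, [(2, 6, 5), (2, 0, 5), (1, 0, 5), (1, 0, 3)]),
     (9, [(2, 6, 5), (2, 0, 5), (2, 0, 5), (1, 0, 3)]),
     (10, [(2, 6, 5), (2, 0, 5), (2, 0, 5), (1, 0, 3)]),
     (11, [(2, 6, 5), (2, 0, 5), (2, 0, 5), (1, 0, 3)]),
     (12, [(2, 6, 5), (2, 0, 5), (1, 0, 5), (1, 0, 3)]),
     (13, [(2, 6, 5), (2, 0, 5), (1, 0, 5), (1, 0, 3)]),
     (15, [(2, 6, 5), (2, 0, 5), (2, 0, 5), (1, 0, 3)]),
     (16, [(2, 6, 5), (2, 0, 5), (2, 0, 5), (1, 0, 3)]),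
     (18, [(2, 6, 5), (2, 0, 5), (2, 0, 5), (1, 0, 3)]),
     (19, [(2, 6, 5), (2, 0, 5), (2, 0, 5), (1, 0, 3)]),
     (20, [(2, 6, 5), (2, 0, 5), (2, 0, 5), (1, 0, 3)]),
     (21, [(2, 6, 5), (2, 0, 5), (2, 0, 5), (1, 0, 3)]),
     (22, [(2, 6, 5), (2, 0, 5), (2, 0, 5), (1, 0, 3)]),
     (23, [(1, 5, 0)])]),
  (4,
    [984818244535754528103549039458486304,
     980504394422866046962412236452235296,
     979416905286026856737440949975746592],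
    [(0, [(2, 7, 6), (2, 0, 6), (1, 0, 6), (1, 0, 3)]),
     (1, [(2, 7, 6), (2, 0, 6), (1, 0, 6), (1, 0, 3)]),
     (2, [(2, 7, 6), (1, 0, 6), (1, 0, 6), (1, 0, 3)]),
     (3, [(2, 7, 6), (2, 0, 6), (1, 0, 6), (1, 0, 3)]),
     (5, [(2, 7, 6), (2, 0, 6), (1, 0, 6), (1, 0, 3)]),
     (6, [(2, 7, 6), (1, 0, 6), (2, 1, 7), (1, 1, 7), (2, 1, 8), (0, 11, 1), (0, 0, 9), (0, 0, 9), (0, 0, 8), (3, 12656663, 11010247), (1, 5, 0), (2, 6, 1), (0, 1, 18), (0, 0, 14), (0, 0, 14), (3, 16056344, 11015256), (1, 4, 0)]),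
     (8, [(2, 7, 6), (1, 0, 6), (2, 1, 7), (1, 1, 7), (2, 1, 8), (0, 11, 1), (0, 0, 9), (0, 0, 9), (0, 0, 8), (3, 12656663, 8657159), (1, 5, 0), (2, 6, 1), (0, 1, 18), (0, 0, 14), (0, 0, 14), (3, 16056344, 8654232), (1, 4, 0)]),
     (9, [(2, 7, 6), (2, 0, 6), (1, 0, 6), (1, 0, 3)]),
     (10, [(2, 7, 6), (2, 0, 6), (1, 0, 6), (1, 0, 3)]),
     (11, [(2, 7, 6), (2, 0, 6), (1, 0, 6), (1, 0, 3)]),
     (13, [(2, 7, 6), (1, 0, 6), (2, 1, 7), (1, 1, 7), (2, 1, 8), (0, 11, 1), (0, 0, 9), (0, 0, 9), (0, 0, 8), (3, 12656663, 12656663), (1, 5, 0), (2, 6, 1), (0, 1, 18), (0, 0, 14), (0, 0, 14), (3, 16056344, 12661896), (1, 4, 0)]),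
     (14, [(2, 7, 6), (2, 0, 6), (1, 0, 6), (1, 0, 3)]),
     (15, [(2, 7, 6), (2, 0, 6), (1, 0, 6), (1, 0, 3)]),
     (16, [(2, 7, 6), (2, 0, 6), (1, 0, 6), (1, 0, 3)]),
     (17, [(2, 7, 6), (2, 0, 6), (1, 0, 6), (1, 0, 3)]),
     (18, [(2, 7, 6), (2, 0, 6), (1, 0, 6), (1, 0, 3)]),
     (19, [(2, 7, 6), (2, 0, 6), (1, 0, 6), (1, 0, 3)]),
     (20, [(2, 7, 6), (2, 0, 6), (1, 0, 6), (1, 0, 3)]),
     (21, [(2, 7, 6), (2, 0, 6), (1, 0, 6), (1, 0, 3)]),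
     (22, [(2, 7, 6), (2, 0, 6), (1, 0, 6), (1, 0, 3)]),
     (23, [(1, 6, 0)])])]

/-- Final derivation: E_0. -/
def orbE_0Fin : List (ℕ × ℕ × ℕ) := [(2, 7, 6), (1, 0, 6), (2, 1, 7), (1, 1, 7), (2, 2, 8), (1, 2, 9), (2, 3, 10), (2, 2, 10), (2, 0, 10), (2, 0, 10), (2, 4, 10), (0, 17, 7), (0, 0, 15), (0, 0, 15), (0, 0, 14), (3, 12656663, 12656663), (1, 9, 0), (2, 10, 1), (1, 7, 2), (2, 8, 3), (0, 3, 26), (0, 0, 22), (0, 0, 22), (3, 16056344, 16056344), (1, 6, 0), (2, 7, 1), (0, 9, 22), (0, 0, 29), (0, 0, 29), (3, 4526126, 4526126), (1, 20, 0), (2, 21, 1), (1, 12, 2), (2, 13, 3), (1, 9, 4), (2, 10, 5), (0, 38, 36), (0, 0, 18), (0, 0, 7), (0, 0, 4), (3, 6594610, 6594610), (1, 24, 0), (2, 25, 1), (1, 17, 2), (2, 18, 3), (1, 9, 4), (2, 10, 5), (0, 49, 48), (0, 0, 48), (0, 0, 18), (0, 0, 17), (3, 692282, 692282), (1, 20, 0), (2, 21, 1), (1, 9, 2), (2, 10, 3), (0, 62,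 21), (0, 0, 15), (0, 0, 14), (0, 0, 13), (3, 15515712, 15515712), (1, 27, 0), (2, 28, 1), (0, 30, 28), (0, 0, 20), (0, 0, 18), (0, 0, 13), (3, 2019456, 2019456), (1, 5, 0), (2, 6, 1), (0, 76, 37), (0, 54, 25), (0, 0, 25), (0, 0, 20), (3, 8077824, 8077824), (1, 19, 0), (2, 20, 1), (0, 6, 34), (0, 0, 34), (0, 0, 33), (3, 11654144, 11654144), (1, 4, 0), (2, 5, 1)]

theorem card_orbE_0 : Nat.card (fixMasks [8401364, 8536111, 8388608]) = 360 := by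
  rw [card_fixMasks (L := orbE_0Levels) (fin := orbE_0Fin) (by decide +kernel)]; decide +kernel

/-- Transversals and refutations: E_1. -/
def orbE_1Levels : List Level := [
  (0,
    [984818244535754528103549039458486304,
     976446668295928401926579321926352930,
     966680648865083951703654496171753509],
    [(1, [(2, 4, 3), (1, 0, 3), (1, 0, 3), (1, 0, 3)]),
     (3, [(2, 4, 3), (1, 0, 3), (1, 0, 3), (1, 0, 3)]),
     (4, [(2, 4, 3), (1, 0, 3), (1, 0, 3), (1, 0, 3)]),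
     (6, [(2, 4, 3), (1, 0, 3), (1, 0, 3), (1, 0, 3)]),
     (7, [(2, 4, 3), (1, 0, 3), (1, 0, 3), (1, 0, 3)]),
     (8, [(2, 4, 3), (1, 0, 3), (1, 0, 3), (1, 0, 3)]),
     (9, [(2, 4, 3), (1, 0, 3), (1, 0, 3), (1, 0, 3)]),
     (10, [(2, 4, 3), (1, 0, 3), (1, 0, 3), (1, 0, 3)]),
     (11, [(2, 4, 3), (1, 0, 3), (1, 0, 3), (1, 0, 3)]),
     (12, [(2, 4, 3), (1, 0, 3), (1, 0, 3), (1, 0, 3)]),
     (13, [(2, 4, 3), (1, 0, 3), (1, 0, 3), (1, 0, 3)]),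
     (14, [(2, 4, 3), (1, 0, 3), (1, 0, 3), (1, 0, 3)]),
     (15, [(2, 4, 3), (1, 0, 3), (1, 0, 3), (1, 0, 3)]),
     (16, [(2, 4, 3), (1, 0, 3), (1, 0, 3), (1, 0, 3)]),
     (17, [(2, 4, 3), (1, 0, 3), (1, 0, 3), (1, 0, 3)]),
     (18, [(2, 4, 3), (1, 0, 3), (1, 0, 3), (1, 0, 3)]),
     (19, [(2, 4, 3), (1, 0, 3), (1, 0, 3), (1, 0, 3)]),
     (20, [(2, 4, 3), (1, 0, 3), (1, 0, 3), (1, 0, 3)]),
     (21, [(2, 4, 3), (1, 0, 3), (1, 0, 3), (1, 0, 3)]),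
     (22, [(2, 4, 3), (1, 0, 3), (1, 0, 3), (1, 0, 3)]),
     (23, [(1, 3, 0)])]),
  (1,
    [984818244535754528103549039458486304,
     967739223789245171407146504132003936,
     980962117015607042146794352159001024,
     979287194752377404183470785272252960],
    [(0, [(2, 5, 4), (1, 0, 4), (2, 0, 4), (1, 0, 3)]),
     (2, [(2, 5, 4), (1, 0, 4), (2, 0, 4), (1, 0, 3)]),
     (4, [(2, 5, 4), (1, 0, 4), (2, 0, 4), (1, 0, 3)]),
     (5, [(2, 5, 4), (1, 0, 4), (2, 0, 4), (1, 0, 3)]),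
     (6, [(2, 5, 4), (1, 0, 4), (2, 0, 4), (1, 0, 3)]),
     (7, [(2, 5, 4), (1, 0, 4), (2, 0, 4), (1, 0, 3)]),
     (8, [(2, 5, 4), (1, 0, 4), (2, 0, 4), (1, 0, 3)]),
     (9, [(2, 5, 4), (1, 0, 4), (2, 0, 4), (1, 0, 3)]),
     (10, [(2, 5, 4), (1, 0, 4), (2, 0, 4), (1, 0, 3)]),
     (11, [(2, 5, 4), (1, 0, 4), (2, 0, 4), (1, 0, 3)]),
     (12, [(2, 5, 4), (1, 0, 4), (2, 0, 4), (1, 0, 3)]),
     (13, [(2, 5, 4), (1, 0, 4), (2, 0, 4), (1, 0, 3)]),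
     (15, [(2, 5, 4), (1, 0, 4), (2, 0, 4), (1, 0, 3)]),
     (16, [(2, 5, 4), (1, 0, 4), (2, 0, 4), (1, 0, 3)]),
     (18, [(2, 5, 4), (1, 0, 4), (2, 0, 4), (1, 0, 3)]),
     (19, [(2, 5, 4), (1, 0, 4), (2, 0, 4), (1, 0, 3)]),
     (20, [(2, 5, 4), (1, 0, 4), (2, 0, 4), (1, 0, 3)]),
     (21, [(2, 5, 4), (1, 0, 4), (2, 0, 4), (1, 0, 3)]),
     (22, [(2, 5, 4), (1, 0, 4), (2, 0, 4), (1, 0, 3)]),
     (23, [(1, 4, 0)])]),
  (2,
    [984818244535754528103549039458486304,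
     975366630392323105260605610366440480],
    [(0, [(1, 2, 0)]),
     (1, [(2, 6, 5), (1, 0, 5), (1, 0, 5), (2, 0, 5), (1, 0, 4)]),
     (3, [(2, 6, 5), (1, 0, 5), (1, 0, 5), (2, 0, 5), (1, 0, 4)]),
     (4, [(2, 6, 5), (2, 0, 5), (1, 0, 5), (1, 0, 3)]),
     (6, [(2, 6, 5), (2, 0, 5), (1, 0, 5), (1, 0, 3)]),
     (7, [(2, 6, 5), (2, 0, 5), (2, 0, 5), (1, 0, 3)]),
     (8, [(2, 6, 5), (2, 0, 5), (2, 0, 5), (1, 0, 3)]),
     (9, [(2, 6, 5), (2, 0, 5), (2, 0, 5), (1, 0, 3)]),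
     (10, [(2, 6, 5), (2, 0, 5), (1, 0, 5), (1, 0, 3)]),
     (11, [(2, 6, 5), (2, 0, 5), (1, 0, 5), (1, 0, 3)]),
     (12, [(2, 6, 5), (2, 0, 5), (2, 0, 5), (1, 0, 3)]),
     (13, [(2, 6, 5), (2, 0, 5), (2, 0, 5), (1, 0, 3)]),
     (14, [(2, 6, 5), (1, 0, 5), (1, 0, 5), (2, 0, 5), (1, 0, 4)]),
     (15, [(2, 6, 5), (2, 0, 5), (2, 0, 5), (1, 0, 3)]),
     (16, [(2, 6, 5), (2, 0, 5), (2, 0, 5), (1, 0, 3)]),
     (17, [(2, 6, 5), (1, 0, 5), (1, 0, 5), (2, 0, 5), (1, 0, 4)]),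
     (18, [(2, 6, 5), (2, 0, 5), (2, 0, 5), (1, 0, 3)]),
     (19, [(2, 6, 5), (2, 0, 5), (2, 0, 5), (1, 0, 3)]),
     (20, [(2, 6, 5), (2, 0, 5), (2, 0, 5), (1, 0, 3)]),
     (21, [(2, 6, 5), (2, 0, 5), (2, 0, 5), (1, 0, 3)]),
     (22, [(2, 6, 5), (2, 0, 5), (2, 0, 5), (1, 0, 3)]),
     (23, [(1, 5, 0)])]),
  (3,
    [984818244535754528103549039458486304,
     972771709591600271314490660250650656,
     976978698201109872514653476119676960],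
    [(0, [(1, 3, 0)]),
     (1, [(1, 2, 0)]),
     (2, [(2, 7, 6), (1, 0, 6), (2, 0, 6), (2, 0, 5), (1, 0, 4)]),
     (4, [(2, 7, 6), (2, 0, 6), (1, 0, 6), (1, 0, 3)]),
     (5, [(2, 7, 6), (1, 0, 6), (2, 0, 6), (2, 0, 5), (1, 0, 4)]),
     (6, [(2, 7, 6), (2, 0, 6), (1, 0, 6), (1, 0, 3)]),
     (7, [(2, 7, 6), (2, 0, 6), (2, 0, 6), (1, 0, 3)]),
     (8, [(2, 7, 6), (2, 0, 6), (2, 0, 6), (1, 0, 3)]),
     (9, [(2, 7, 6), (2, 0, 6), (2, 0, 6), (1, 0, 3)]),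
     (10, [(2, 7, 6), (2, 0, 6), (1, 0, 6), (1, 0, 3)]),
     (11, [(2, 7, 6), (2, 0, 6), (1, 0, 6), (1, 0, 3)]),
     (12, [(2, 7, 6), (2, 0, 6), (2, 0, 6), (1, 0, 3)]),
     (13, [(2, 7, 6), (2, 0, 6), (2, 0, 6), (1, 0, 3)]),
     (15, [(2, 7, 6), (2, 0, 6), (2, 0, 6), (1, 0, 3)]),
     (16, [(2, 7, 6), (2, 0, 6), (2, 0, 6), (1, 0, 3)]),
     (18, [(2, 7, 6), (2, 0, 6), (2, 0, 6), (1, 0, 3)]),
     (19, [(2, 7, 6), (2, 0, 6), (2, 0, 6), (1, 0, 3)]),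
     (20, [(2, 7, 6), (2, 0, 6), (2, 0, 6), (1, 0, 3)]),
     (21, [(2, 7, 6), (2, 0, 6), (2, 0, 6), (1, 0, 3)]),
     (22, [(2, 7, 6), (2, 0, 6), (2, 0, 6), (1, 0, 3)]),
     (23, [(1, 6, 0)])]),
  (4,
    [984818244535754528103549039458486304,
     965128854020860192151391391390468128,
     967812279691448225500382947153381408,
     971592882964418941354553515258775584],
    [(0, [(2, 8, 7), (2, 0, 7), (1, 0, 7), (1, 0, 3)]),
     (1, [(2, 8, 7), (2, 0, 7), (1, 0, 7), (1, 0, 3)]),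
     (2, [(2, 8, 7), (2, 0, 7), (1, 0, 7), (1, 0, 3)]),
     (3, [(2, 8, 7), (2, 0, 7), (1, 0, 7), (1, 0, 3)]),
     (5, [(2, 8, 7), (2, 0, 7), (1, 0, 7), (1, 0, 3)]),
     (7, [(2, 8, 7), (2, 0, 7), (1, 0, 7), (1, 0, 3)]),
     (8, [(2, 8, 7), (2, 0, 7), (1, 0, 7), (1, 0, 3)]),
     (9, [(2, 8, 7), (2, 0, 7), (1, 0, 7), (1, 0, 3)]),
     (12, [(2, 8, 7), (2, 0, 7), (1, 0, 7), (1, 0, 3)]),
     (13, [(2, 8, 7), (2, 0, 7), (1, 0, 7), (1, 0, 3)]),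
     (14, [(2, 8, 7), (2, 0, 7), (1, 0, 7), (1, 0, 3)]),
     (15, [(2, 8, 7), (2, 0, 7), (1, 0, 7), (1, 0, 3)]),
     (16, [(2, 8, 7), (2, 0, 7), (1, 0, 7), (1, 0, 3)]),
     (17, [(2, 8, 7), (2, 0, 7), (1, 0, 7), (1, 0, 3)]),
     (18, [(2, 8, 7), (2, 0, 7), (1, 0, 7), (1, 0, 3)]),
     (19, [(2, 8, 7), (2, 0, 7), (1, 0, 7), (1, 0, 3)]),
     (20, [(2, 8, 7), (2, 0, 7), (1, 0, 7), (1, 0, 3)]),
     (21, [(2, 8, 7), (2, 0, 7), (1, 0, 7), (1, 0, 3)]),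
     (22, [(2, 8, 7), (2, 0, 7), (1, 0, 7), (1, 0, 3)]),
     (23, [(1, 7, 0)])])]

/-- Final derivation: E_1. -/
def orbE_1Fin : List (ℕ × ℕ × ℕ) := [(2, 8, 7), (1, 0, 7), (2, 1, 8), (1, 1, 8), (2, 2, 9), (1, 2, 10), (2, 3, 11), (2, 3, 11), (2, 3, 11), (2, 1, 11), (2, 1, 11), (2, 5, 11), (0, 1, 19), (0, 0, 16), (0, 0, 14), (3, 13811730, 13811730), (1, 9, 0), (2, 10, 1), (0, 7, 21), (0, 0, 21), (0, 0, 20), (3, 421910, 421910), (1, 4, 0), (2, 5, 1), (0, 31, 28), (0, 0, 28), (0, 0, 28), (0, 0, 27), (3, 12656663, 12656663), (1, 12, 0), (2, 13, 1), (1, 8, 2), (2, 9, 3), (1, 9, 4), (2, 10, 5), (0, 42, 36), (0, 0, 36), (0, 0, 7), (0, 0, 4), (3, 16056344, 16056344), (1, 9, 0), (2, 10, 1), (1, 9, 2), (2, 10, 3), (1, 9, 4), (2, 10, 5), (0, 49, 48), (0, 0, 48), (0, 0, 48), (0, 0, 19), (3, 6832158, 6832158), (1, 40, 0), (2, 41, 1), (1, 7, 2), (2, 8, 3), (0, 62, 25), (0, 0,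 14), (0, 0, 14), (0, 0, 13), (3, 15515712, 15515712), (1, 48, 0), (2, 49, 1), (0, 31, 19), (0, 0, 19), (0, 0, 12), (3, 2019456, 2019456), (1, 11, 0), (2, 12, 1), (0, 36, 34), (0, 0, 28), (0, 0, 28), (0, 0, 28), (3, 4038912, 4038912), (1, 5, 0), (2, 6, 1), (0, 82, 41), (0, 0, 35), (0, 0, 35), (0, 0, 34), (3, 11654144, 11654144), (1, 18, 0), (2, 19, 1)]

theorem card_orbE_1 : Nat.card (fixMasks [8391797, 8536111, 8388608]) = 288 := by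
  rw [card_fixMasks (L := orbE_1Levels) (fin := orbE_1Fin) (by decide +kernel)]; decide +kernel

/-- Transversals and refutations: E_2. -/
def orbE_2Levels : List Level := [
  (0,
    [984818244535754528103549039458486304,
     972515684202761748824803774667261953,
     972876580985834619574089616508158978,
     970280904093326653051521643103454211,
     966592714396052155698729442531673093,
     983113089370880564384757388293506062,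
     967862115316661610188434604000609297],
    [(4, [(2, 4, 3), (1, 0, 3), (1, 0, 2)]),
     (6, [(2, 4, 3), (1, 0, 3), (1, 0, 2)]),
     (7, [(2, 4, 3), (1, 0, 3), (1, 0, 2)]),
     (8, [(2, 4, 3), (1, 0, 3), (1, 0, 2)]),
     (9, [(2, 4, 3), (1, 0, 3), (1, 0, 2)]),
     (10, [(2, 4, 3), (1, 0, 3), (1, 0, 2)]),
     (11, [(2, 4, 3), (1, 0, 3), (1, 0, 2)]),
     (12, [(2, 4, 3), (1, 0, 3), (1, 0, 2)]),
     (13, [(2, 4, 3), (1, 0, 3), (1, 0, 2)]),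
     (15, [(2, 4, 3), (1, 0, 3), (1, 0, 2)]),
     (16, [(2, 4, 3), (1, 0, 3), (1, 0, 2)]),
     (18, [(2, 4, 3), (1, 0, 3), (1, 0, 2)]),
     (19, [(2, 4, 3), (1, 0, 3), (1, 0, 2)]),
     (20, [(2, 4, 3), (1, 0, 3), (1, 0, 2)]),
     (21, [(2, 4, 3), (1, 0, 3), (1, 0, 2)]),
     (22, [(2, 4, 3), (1, 0, 3), (1, 0, 2)]),
     (23, [(1, 3, 0)])]),
  (1,
    [984818244535754528103549039458486304,
     976990105829392847739289005721748544,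
     980950706932289206909372855713072224,
     965374508242841933242173352489059488,
     969028219063631606277012225244857792,
     971496451907968610877962465629505056],
    [(0, [(1, 1, 0)]),
     (4, [(2, 5, 4), (2, 0, 4), (1, 0, 2)]),
     (6, [(2, 5, 4), (2, 0, 4), (1, 0, 2)]),
     (7, [(2, 5, 4), (2, 0, 4), (1, 0, 2)]),
     (8, [(2, 5, 4), (2, 0, 4), (1, 0, 2)]),
     (9, [(2, 5, 4), (2, 0, 4), (1, 0, 2)]),
     (10, [(2, 5, 4), (2, 0, 4), (1, 0, 2)]),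
     (11, [(2, 5, 4), (2, 0, 4), (1, 0, 2)]),
     (12, [(2, 5, 4), (2, 0, 4), (1, 0, 2)]),
     (13, [(2, 5, 4), (2, 0, 4), (1, 0, 2)]),
     (15, [(2, 5, 4), (2, 0, 4), (1, 0, 2)]),
     (16, [(2, 5, 4), (2, 0, 4), (1, 0, 2)]),
     (18, [(2, 5, 4), (2, 0, 4), (1, 0, 2)]),
     (19, [(2, 5, 4), (2, 0, 4), (1, 0, 2)]),
     (20, [(2, 5, 4), (2, 0, 4), (1, 0, 2)]),
     (21, [(2, 5, 4), (2, 0, 4), (1, 0, 2)]),
     (22, [(2, 5, 4), (2, 0, 4), (1, 0, 2)]),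
     (23, [(1, 4, 0)])]),
  (2,
    [984818244535754528103549039458486304,
     981737719767249052369456315699891232,
     975287932184123420360272088865510432,
     979255544404376808454307173571311648,
     963472382420602523184296581551703072],
    [(0, [(1, 2, 0)]),
     (1, [(1, 1, 0)]),
     (4, [(2, 6, 5), (2, 0, 5), (1, 0, 2)]),
     (6, [(2, 6, 5), (2, 0, 5), (1, 0, 2)]),
     (7, [(2, 6, 5), (2, 0, 5), (1, 0, 2)]),
     (8, [(2, 6, 5), (2, 0, 5), (1, 0, 2)]),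
     (9, [(2, 6, 5), (2, 0, 5), (1, 0, 2)]),
     (10, [(2, 6, 5), (2, 0, 5), (1, 0, 2)]),
     (11, [(2, 6, 5), (2, 0, 5), (1, 0, 2)]),
     (12, [(2, 6, 5), (2, 0, 5), (1, 0, 2)]),
     (13, [(2, 6, 5), (2, 0, 5), (1, 0, 2)]),
     (15, [(2, 6, 5), (2, 0, 5), (1, 0, 2)]),
     (16, [(2, 6, 5), (2, 0, 5), (1, 0, 2)]),
     (18, [(2, 6, 5), (2, 0, 5), (1, 0, 2)]),
     (19, [(2, 6, 5), (2, 0, 5), (1, 0, 2)]),
     (20, [(2, 6, 5), (2, 0, 5), (1, 0, 2)]),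
     (21, [(2, 6, 5), (2, 0, 5), (1, 0, 2)]),
     (22, [(2, 6, 5), (2, 0, 5), (1, 0, 2)]),
     (23, [(1, 5, 0)])]),
  (3,
    [984818244535754528103549039458486304,
     984202951082164080105044112956360736,
     976783504883648070799297133914032160,
     972995847379114216489588235306567712],
    [(0, [(1, 3, 0)]),
     (1, [(1, 2, 0)]),
     (2, [(1, 1, 0)]),
     (4, [(2, 7, 6), (2, 0, 6), (1, 0, 2)]),
     (6, [(2, 7, 6), (2, 0, 6), (1, 0, 2)]),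
     (7, [(2, 7, 6), (2, 0, 6), (1, 0, 2)]),
     (8, [(2, 7, 6), (2, 0, 6), (1, 0, 2)]),
     (9, [(2, 7, 6), (2, 0, 6), (1, 0, 2)]),
     (10, [(2, 7, 6), (2, 0, 6), (1, 0, 2)]),
     (11, [(2, 7, 6), (2, 0, 6), (1, 0, 2)]),
     (12, [(2, 7, 6), (2, 0, 6), (1, 0, 2)]),
     (13, [(2, 7, 6), (2, 0, 6), (1, 0, 2)]),
     (15, [(2, 7, 6), (2, 0, 6), (1, 0, 2)]),
     (16, [(2, 7, 6), (2, 0, 6), (1, 0, 2)]),
     (18, [(2, 7, 6), (2, 0, 6), (1, 0, 2)]),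
     (19, [(2, 7, 6), (2, 0, 6), (1, 0, 2)]),
     (20, [(2, 7, 6), (2, 0, 6), (1, 0, 2)]),
     (21, [(2, 7, 6), (2, 0, 6), (1, 0, 2)]),
     (22, [(2, 7, 6), (2, 0, 6), (1, 0, 2)]),
     (23, [(1, 6, 0)])]),
  (4,
    [984818244535754528103549039458486304,
     980874226864350081512017426024335392,
     963721886883755259286232606933354528,
     979121071158219704299181131031480352,
     975728708050008715525885598301784096,
     975754295934893126319599781779965984,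
     979037747421335847153138073498388512,
     979416905286026856737440949975746592,
     961029066359601346093702817927759904,
     981818691054096003685363657089320992,
     984436632068016323118584907140532256,
     971863989228759034920585190470420512,
     965225113279737155758354497310656544,
     967738580936480664927891663448279072,
     980224387687010295957922729495201824,
     961365507626256404119956257276790816],
    [(0, [(2, 8, 7), (2, 0, 7), (1, 0, 2)]),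
     (1, [(2, 8, 7), (2, 0, 7), (1, 0, 2)]),
     (2, [(2, 8, 7), (2, 0, 7), (1, 0, 2)]),
     (3, [(2, 8, 7), (2, 0, 7), (1, 0, 2)]),
     (5, [(2, 8, 7), (2, 0, 7), (1, 0, 2)]),
     (14, [(2, 8, 7), (2, 0, 7), (1, 0, 2)]),
     (17, [(2, 8, 7), (2, 0, 7), (1, 0, 2)]),
     (23, [(1, 7, 0)])]),
  (5,
    [984818244535754528103549039458486304,
     976531636853126291160407323722221600,
     972606645568131968584696805283956768],
    [(0, [(1, 5, 0)]),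
     (1, [(1, 4, 0)]),
     (2, [(1, 3, 0)]),
     (3, [(1, 2, 0)]),
     (4, [(2, 9, 8), (1, 0, 8), (2, 0, 7), (2, 0, 7), (2, 0, 7), (2, 0, 7), (1, 0, 6)]),
     (6, [(2, 9, 8), (1, 0, 8), (2, 0, 7), (2, 0, 7), (2, 0, 7), (2, 0, 7), (1, 0, 6)]),
     (7, [(2, 9, 8), (1, 0, 8), (2, 0, 7), (2, 0, 7), (2, 0, 7), (2, 0, 7), (1, 0, 6)]),
     (8, [(2, 9, 8), (1, 0, 8), (2, 0, 7), (2, 0, 7), (2, 0, 7), (2, 0, 7), (1, 0, 6)]),
     (9, [(2, 9, 8), (1, 0, 8), (2, 0, 7), (2, 0, 7), (2, 0, 7), (2, 0, 7), (1, 0, 6)]),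
     (10, [(2, 9, 8), (1, 0, 8), (2, 0, 7), (2, 0, 7), (2, 0, 7), (2, 0, 7), (1, 0, 6)]),
     (11, [(2, 9, 8), (1, 0, 8), (2, 0, 7), (2, 0, 7), (2, 0, 7), (2, 0, 7), (1, 0, 6)]),
     (12, [(2, 9, 8), (1, 0, 8), (2, 0, 7), (2, 0, 7), (2, 0, 7), (2, 0, 7), (1, 0, 6)]),
     (13, [(2, 9, 8), (1, 0, 8), (2, 0, 7), (2, 0, 7), (2, 0, 7), (2, 0, 7), (1, 0, 6)]),
     (15, [(2, 9, 8), (1, 0, 8), (2, 0, 7), (2, 0, 7), (2, 0, 7), (2, 0, 7), (1, 0, 6)]),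
     (16, [(2, 9, 8), (1, 0, 8), (2, 0, 7), (2, 0, 7), (2, 0, 7), (2, 0, 7), (1, 0, 6)]),
     (18, [(2, 9, 8), (1, 0, 8), (2, 0, 7), (2, 0, 7), (2, 0, 7), (2, 0, 7), (1, 0, 6)]),
     (19, [(2, 9, 8), (1, 0, 8), (2, 0, 7), (2, 0, 7), (2, 0, 7), (2, 0, 7), (1, 0, 6)]),
     (20, [(2, 9, 8), (1, 0, 8), (2, 0, 7), (2, 0, 7), (2, 0, 7), (2, 0, 7), (1, 0, 6)]),
     (21, [(2, 9, 8), (1, 0, 8), (2, 0, 7), (2, 0, 7), (2, 0, 7), (2, 0, 7), (1, 0, 6)]),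
     (22, [(2, 9, 8), (1, 0, 8), (2, 0, 7), (2, 0, 7), (2, 0, 7), (2, 0, 7), (1, 0, 6)]),
     (23, [(1, 8, 0)])])]

/-- Final derivation: E_2. -/
def orbE_2Fin : List (ℕ × ℕ × ℕ) := [(2, 9, 8), (1, 0, 8), (2, 1, 9), (2, 1, 8), (2, 0, 8), (2, 0, 8), (2, 0, 8), (2, 4, 8), (2, 1, 8), (0, 0, 17), (0, 0, 14), (0, 0, 12), (3, 13811730, 13811730), (1, 5, 0), (2, 6, 1), (0, 6, 19), (0, 0, 19), (0, 0, 18), (3, 421910, 421910), (1, 4, 0), (2, 5, 1), (0, 29, 26), (0, 0, 26), (0, 0, 26), (0, 0, 25), (3, 12656663, 12656663), (1, 12, 0), (2, 13, 1), (1, 8, 2), (2, 9, 3), (1, 9, 4), (2, 10, 5), (0, 40, 34), (0, 0, 34), (0, 0, 7), (0, 0, 4), (3, 16056344, 16056344), (1, 9, 0), (2, 10, 1), (1, 9, 2), (2, 10, 3), (1, 9, 4), (2, 10, 5), (0, 47, 46), (0, 0, 46), (0, 0, 46), (0, 0, 19), (3, 6832158, 6832158), (1, 39, 0), (2, 40, 1), (1, 7, 2), (2, 8, 3), (0, 60, 25), (0, 0, 14), (0,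 0, 14), (0, 0, 13), (3, 15515712, 15515712), (1, 5, 0), (2, 6, 1), (0, 31, 19), (0, 0, 19), (0, 0, 12), (3, 2019456, 2019456), (1, 4, 0), (2, 5, 1), (0, 36, 34), (0, 0, 28), (0, 0, 28), (0, 0, 28), (3, 4038912, 4038912), (1, 5, 0), (2, 6, 1), (0, 45, 41), (0, 0, 35), (0, 0, 32), (0, 0, 26), (3, 8077824, 8077824), (1, 5, 0), (2, 6, 1), (0, 87, 48), (0, 0, 42), (0, 0, 42), (0, 0, 41), (3, 11654144, 11654144), (1, 5, 0), (2, 6, 1)]

theorem card_orbE_2 : Nat.card (fixMasks [8536111, 8536111, 8388608]) = 40320 := by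
  rw [card_fixMasks (L := orbE_2Levels) (fin := orbE_2Fin) (by decide +kernel)]; decide +kernel

end CfsgLib.Golay
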