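import Cfsg.Agent.Lib.Golay.Chain

/-! Generated certificates: stabilisers for orbit computation F. -/

set_option autoImplicit false
set_option maxRecDepth 100000

namespace CfsgLib.Golay

/-- Transversals and refutations: F_base. -/
def orbF_baseLevels : List Level := [
  (0,
    [984818244535754528103549039458486304,
     972515684202761748824803774667261953,
     972876580985834619574089616508158978,
     970280904093326653051521643103454211,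
     969915342951471797747563229281846276,
     976493423506919008508865668187227143,
     966439845008098858210150329642714122,
     983177927955140095116659260663071756],
    [(5, [(1, 1, 0)]),
     (6, [(1, 1, 0)]),
     (8, [(1, 1, 0)]),
     (9, [(1, 1, 0)]),
     (11, [(1, 1, 0)]),
     (13, [(1, 1, 0)]),
     (14, [(1, 1, 0)]),
     (15, [(1, 1, 0)]),
     (16, [(1, 1, 0)]),
     (17, [(1, 1, 0)]),
     (18, [(1, 1, 0)]),
     (19, [(1, 1, 0)]),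
     (20, [(1, 1, 0)]),
     (21, [(1, 1, 0)]),
     (22, [(1, 1, 0)]),
     (23, [(1, 2, 0)])]),
  (1,
    [984818244535754528103549039458486304,
     976990105829392847739289005721748544,
     980950706932289206909372855713072224,
     982060704822795966893982365816784000,
     967282677882414412346491761713022176,
     963402558928176682917196241497556288,
     975442729215174487856029653418444160],
    [(0, [(1, 1, 0)]),
     (5, [(2, 4, 3), (2, 0, 3), (1, 0, 2)]),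
     (6, [(2, 4, 3), (2, 0, 3), (1, 0, 2)]),
     (8, [(2, 4, 3), (2, 0, 3), (1, 0, 2)]),
     (9, [(2, 4, 3), (2, 0, 3), (1, 0, 2)]),
     (11, [(2, 4, 3), (2, 0, 3), (1, 0, 2)]),
     (13, [(2, 4, 3), (2, 0, 3), (1, 0, 2)]),
     (14, [(2, 4, 3), (2, 0, 3), (1, 0, 2)]),
     (15, [(2, 4, 3), (2, 0, 3), (1, 0, 2)]),
     (16, [(2, 4, 3), (2, 0, 3), (1, 0, 2)]),
     (17, [(2, 4, 3), (2, 0, 3), (1, 0, 2)]),
     (18, [(2, 4, 3), (2, 0, 3), (1, 0, 2)]),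
     (19, [(2, 4, 3), (2, 0, 3), (1, 0, 2)]),
     (20, [(2, 4, 3), (2, 0, 3), (1, 0, 2)]),
     (21, [(2, 4, 3), (2, 0, 3), (1, 0, 2)]),
     (22, [(2, 4, 3), (2, 0, 3), (1, 0, 2)]),
     (23, [(1, 3, 0)])]),
  (2,
    [984818244535754528103549039458486304,
     981737719767249052369456315699891232,
     980920017121645750808446692546908192,
     979201208119882393322385278829141024,
     973157051253919035861214142682703904,
     984607248564125456058961653528604704],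
    [(0, [(1, 2, 0)]),
     (1, [(1, 1, 0)]),
     (5, [(2, 5, 4), (2, 0, 4), (1, 0, 2)]),
     (6, [(2, 5, 4), (2, 0, 4), (1, 0, 2)]),
     (8, [(2, 5, 4), (2, 0, 4), (1, 0, 2)]),
     (9, [(2, 5, 4), (2, 0, 4), (1, 0, 2)]),
     (11, [(2, 5, 4), (2, 0, 4), (1, 0, 2)]),
     (13, [(2, 5, 4), (2, 0, 4), (1, 0, 2)]),
     (14, [(2, 5, 4), (2, 0, 4), (1, 0, 2)]),
     (15, [(2, 5, 4), (2, 0, 4), (1, 0, 2)]),
     (16, [(2, 5, 4), (2, 0, 4), (1, 0, 2)]),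
     (17, [(2, 5, 4), (2, 0, 4), (1, 0, 2)]),
     (18, [(2, 5, 4), (2, 0, 4), (1, 0, 2)]),
     (19, [(2, 5, 4), (2, 0, 4), (1, 0, 2)]),
     (20, [(2, 5, 4), (2, 0, 4), (1, 0, 2)]),
     (21, [(2, 5, 4), (2, 0, 4), (1, 0, 2)]),
     (22, [(2, 5, 4), (2, 0, 4), (1, 0, 2)]),
     (23, [(1, 4, 0)])]),
  (3,
    [984818244535754528103549039458486304,
     977839867786251717525204161457686560,
     962504667559808837744080299536648224,
     962660455969611261303912270539327520,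
     974395464107601521457589214999087136],
    [(0, [(1, 3, 0)]),
     (1, [(1, 2, 0)]),
     (2, [(1, 1, 0)]),
     (5, [(2, 6, 5), (2, 0, 5), (1, 0, 2)]),
     (6, [(2, 6, 5), (2, 0, 5), (1, 0, 2)]),
     (8, [(2, 6, 5), (2, 0, 5), (1, 0, 2)]),
     (9, [(2, 6, 5), (2, 0, 5), (1, 0, 2)]),
     (11, [(2, 6, 5), (2, 0, 5), (1, 0, 2)]),
     (13, [(2, 6, 5), (2, 0, 5), (1, 0, 2)]),
     (14, [(2, 6, 5), (2, 0, 5), (1, 0, 2)]),
     (15, [(2, 6, 5), (2, 0, 5), (1, 0, 2)]),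
     (16, [(2, 6, 5), (2, 0, 5), (1, 0, 2)]),
     (17, [(2, 6, 5), (2, 0, 5), (1, 0, 2)]),
     (18, [(2, 6, 5), (2, 0, 5), (1, 0, 2)]),
     (19, [(2, 6, 5), (2, 0, 5), (1, 0, 2)]),
     (20, [(2, 6, 5), (2, 0, 5), (1, 0, 2)]),
     (21, [(2, 6, 5), (2, 0, 5), (1, 0, 2)]),
     (22, [(2, 6, 5), (2, 0, 5), (1, 0, 2)]),
     (23, [(1, 5, 0)])]),
  (4,
    [984818244535754528103549039458486304,
     963721886883755259286232606933354528,
     975754295934893126319599781779965984,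
     979416905286026856737440949975746592],
    [(0, [(1, 4, 0)]),
     (1, [(1, 3, 0)]),
     (2, [(1, 2, 0)]),
     (3, [(1, 1, 0)]),
     (5, [(2, 7, 6), (2, 0, 6), (1, 0, 2)]),
     (6, [(2, 7, 6), (2, 0, 6), (1, 0, 2)]),
     (8, [(2, 7, 6), (2, 0, 6), (1, 0, 2)]),
     (9, [(2, 7, 6), (2, 0, 6), (1, 0, 2)]),
     (11, [(2, 7, 6), (2, 0, 6), (1, 0, 2)]),
     (13, [(2, 7, 6), (2, 0, 6), (1, 0, 2)]),
     (14, [(2, 7, 6), (2, 0, 6), (1, 0, 2)]),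
     (15, [(2, 7, 6), (2, 0, 6), (1, 0, 2)]),
     (16, [(2, 7, 6), (2, 0, 6), (1, 0, 2)]),
     (17, [(2, 7, 6), (2, 0, 6), (1, 0, 2)]),
     (18, [(2, 7, 6), (2, 0, 6), (1, 0, 2)]),
     (19, [(2, 7, 6), (2, 0, 6), (1, 0, 2)]),
     (20, [(2, 7, 6), (2, 0, 6), (1, 0, 2)]),
     (21, [(2, 7, 6), (2, 0, 6), (1, 0, 2)]),
     (22, [(2, 7, 6), (2, 0, 6), (1, 0, 2)]),
     (23, [(1, 6, 0)])]),
  (5,
    [984818244535754528103549039458486304,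
     976531636853126291160407323722221600,
     972606645568131968584696805283956768],
    [(0, [(2, 8, 7), (2, 0, 7), (1, 0, 2)]),
     (1, [(2, 8, 7), (2, 0, 7), (1, 0, 2)]),
     (2, [(2, 8, 7), (2, 0, 7), (1, 0, 2)]),
     (3, [(2, 8, 7), (2, 0, 7), (1, 0, 2)]),
     (4, [(2, 8, 7), (2, 0, 7), (1, 0, 2)]),
     (6, [(2, 8, 7), (2, 0, 7), (2, 0, 2), (0, 10, 8), (0, 0, 8), (0, 0, 8), (0, 0, 7), (3, 12656663, 12656663), (1, 5, 0), (0, 0, 14), (0, 0, 10), (3, 7417889, 4563017), (1, 14, 0)]),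
     (7, [(2, 8, 7), (2, 0, 7), (1, 0, 2)]),
     (8, [(2, 8, 7), (2, 0, 7), (2, 0, 2), (0, 10, 8), (0, 0, 8), (0, 0, 8), (0, 0, 7), (3, 12656663, 12656663), (1, 5, 0), (2, 6, 1), (0, 1, 15), (0, 0, 11), (3, 7417889, 4924673), (1, 3, 0), (2, 4, 1), (0, 1, 20), (0, 0, 20), (0, 0, 17), (3, 3719203, 657763), (1, 4, 0), (0, 0, 23), (0, 0, 23), (3, 843820, 231532), (1, 23, 0)]),
     (9, [(2, 8, 7), (2, 0, 7), (2, 0, 2), (0, 10, 8), (0, 0, 8), (0, 0, 8), (0, 0, 7), (3, 12656663, 12656663), (1, 5, 0), (2, 6, 1), (0, 1, 15), (0, 0, 11), (3, 7417889, 4287105), (1, 3, 0), (2, 4, 1), (0, 1, 20), (0, 0, 20), (0, 0, 17), (3, 3719203, 1460739), (1, 4, 0), (0, 0, 23), (0, 0, 23), (3, 843820, 5652556), (1, 23, 0)]),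
     (10, [(2, 8, 7), (2, 0, 7), (1, 0, 2)]),
     (11, [(2, 8, 7), (2, 0, 7), (2, 0, 2), (0, 10, 8), (0, 0, 8), (0, 0, 8), (0, 0, 7), (3, 12656663, 12656663), (1, 5, 0), (2, 6, 1), (0, 1, 15), (0, 0, 11), (3, 7417889, 4287105), (1, 3, 0), (2, 4, 1), (0, 1, 20), (0, 0, 20), (0, 0, 17), (3, 3719203, 1460739), (1, 4, 0), (0, 0, 23), (0, 0, 23), (3, 843820, 5652556), (1, 23, 0)]),
     (12, [(2, 8, 7), (2, 0, 7), (1, 0, 2)]),
     (13, [(0, 7, 5), (0, 0, 5), (0, 0, 5), (0, 0, 4), (3, 12656663, 12656663), (1, 5, 0)]),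
     (15, [(2, 8, 7), (2, 0, 7), (2, 0, 2), (0, 10, 8), (0, 0, 8), (0, 0, 8), (0, 0, 7), (3, 12656663, 12656663), (1, 5, 0), (0, 0, 14), (0, 0, 10), (3, 7417889, 4563017), (1, 14, 0)]),
     (16, [(0, 7, 5), (0, 0, 5), (0, 0, 5), (0, 0, 4), (3, 12656663, 12656663), (1, 5, 0)]),
     (18, [(2, 8, 7), (2, 0, 7), (2, 0, 2), (0, 10, 8), (0, 0, 8), (0, 0, 8), (0, 0, 7), (3, 12656663, 12656663), (1, 5, 0), (0, 0, 14), (0, 0, 10), (3, 7417889, 4563017), (1, 14, 0)]),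
     (19, [(2, 8, 7), (2, 0, 7), (2, 0, 2), (0, 10, 8), (0, 0, 8), (0, 0, 8), (0, 0, 7), (3, 12656663, 12656663), (1, 5, 0), (2, 6, 1), (0, 1, 15), (0, 0, 11), (3, 7417889, 4924673), (1, 3, 0), (2, 4, 1), (0, 1, 20), (0, 0, 20), (0, 0, 17), (3, 3719203, 657763), (1, 4, 0), (0, 0, 23), (0, 0, 23), (3, 843820, 231532), (1, 23, 0)]),
     (20, [(2, 8, 7), (2, 0, 7), (2, 0, 2), (0, 10, 8), (0, 0, 8), (0, 0, 8), (0, 0, 7), (3, 12656663, 12656663), (1, 5, 0), (2, 6, 1), (0, 1, 15), (0, 0, 11), (3, 7417889, 7417889), (1, 3, 0), (2, 4, 1), (0, 1, 20), (0, 0, 20), (0, 0, 17), (3, 3719203, 3719203), (1, 4, 0), (0, 0, 23), (0, 0, 23), (3, 843820, 843820), (1, 23, 0)]),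
     (21, [(2, 8, 7), (2, 0, 7), (2, 0, 2), (0, 10, 8), (0, 0, 8), (0, 0, 8), (0, 0, 7), (3, 12656663, 12656663), (1, 5, 0), (2, 6, 1), (0, 1, 15), (0, 0, 11), (3, 7417889, 7417889), (1, 3, 0), (2, 4, 1), (0, 1, 20), (0, 0, 20), (0, 0, 17), (3, 3719203, 3719203), (1, 4, 0), (0, 0, 23), (0, 0, 23), (3, 843820, 843820), (1, 23, 0)]),
     (22, [(0, 7, 5), (0, 0, 5), (0, 0, 5), (0, 0, 4), (3, 12656663, 12656663), (1, 5, 0)]),
     (23, [(1, 7, 0)])])]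

/-- Final derivation: F_base. -/
def orbF_baseFin : List (ℕ × ℕ × ℕ) := [(2, 8, 7), (2, 0, 7), (2, 8, 7), (2, 0, 7), (2, 0, 7), (2, 0, 7), (2, 0, 7), (2, 5, 7), (0, 15, 13), (0, 0, 13), (0, 0, 13), (0, 0, 12), (3, 12656663, 12656663), (1, 5, 0), (2, 6, 1), (0, 1, 20), (0, 0, 16), (3, 7417889, 7417889), (1, 11, 0), (2, 12, 1), (1, 5, 2), (2, 6, 3), (0, 1, 27), (0, 0, 27), (0, 0, 24), (3, 3719203, 3719203), (1, 4, 0), (2, 5, 1), (0, 1, 31), (0, 0, 31), (3, 843820, 843820), (1, 17, 0), (2, 18, 1), (1, 5, 2), (2, 6, 3), (0, 24, 37), (3, 8536111, 8536111), (1, 10, 0), (2, 11, 1), (1, 4, 2), (2, 5, 3), (0, 42, 41), (0, 0, 23), (0, 0, 9), (0, 0, 6), (3, 2969648, 2969648), (1, 25, 0), (2, 26, 1), (1, 15, 2), (2, 16, 3), (1, 11, 4), (2, 12, 5), (0, 59, 18), (0, 0, 15), (0, 0, 7), (0, 0, 5), (3, 15515712, 15515712), (1, 16, 0), (2, 17, 1), (0, 40, 25), (0, 0, 22), (0, 0, 21), (0,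 0, 14), (3, 2019456, 2019456), (1, 44, 0), (2, 45, 1), (0, 34, 32), (0, 0, 20), (0, 0, 20), (0, 0, 20), (3, 4038912, 4038912), (1, 12, 0), (2, 13, 1), (0, 35, 33), (0, 0, 27), (0, 0, 27), (0, 0, 27), (3, 8077824, 8077824), (1, 5, 0), (2, 6, 1)]

theorem card_orbF_base : Nat.card (fixMasks [5279, 8388608]) = 20160 := by
  rw [card_fixMasks (L := orbF_baseLevels) (fin := orbF_baseFin) (by decide +kernel)]; decide +kernel

/-- Transversals and refutations: F_0. -/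
def orbF_0Levels : List Level := [
  (0,
    [984818244535754528103549039458486304,
     983546663363474750168552650252060673,
     982986170017578881412968392275624962,
     967409362282864040007241960663352323,
     967936734589434919541077741139985412,
     967977184524296489242255876762436615,
     982864667295998052488135934956635146,
     967287897964862226708095211006919692],
    [(5, [(1, 2, 0)]),
     (6, [(1, 2, 0)]),
     (8, [(1, 2, 0)]),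
     (9, [(1, 2, 0)]),
     (11, [(1, 2, 0)]),
     (13, [(1, 2, 0)]),
     (14, [(1, 2, 0)]),
     (15, [(1, 2, 0)]),
     (16, [(1, 2, 0)]),
     (17, [(1, 2, 0)]),
     (18, [(1, 2, 0)]),
     (19, [(1, 2, 0)]),
     (20, [(1, 2, 0)]),
     (21, [(1, 2, 0)]),
     (22, [(1, 2, 0)]),
     (23, [(1, 3, 0)])]),
  (1,
    [984818244535754528103549039458486304,
     966644684235801628085642631091160128,
     966160914718533544587741114354697312,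
     983013863945144517338840318649369728,
     984316129434161925149707737900319968,
     962736838996678716363538878001415488,
     962265388569744846830610479916844416],
    [(0, [(1, 1, 0)]),
     (5, [(2, 5, 4), (2, 0, 4), (2, 0, 4), (1, 0, 3)]),
     (6, [(1, 2, 0)]),
     (8, [(2, 5, 4), (2, 0, 4), (2, 0, 4), (1, 0, 3)]),
     (9, [(2, 5, 4), (2, 0, 4), (2, 0, 4), (1, 0, 3)]),
     (11, [(1, 2, 0)]),
     (13, [(1, 2, 0)]),
     (14, [(1, 2, 0)]),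
     (15, [(2, 5, 4), (2, 0, 4), (2, 0, 4), (1, 0, 3)]),
     (16, [(1, 2, 0)]),
     (17, [(1, 2, 0)]),
     (18, [(1, 2, 0)]),
     (19, [(1, 2, 0)]),
     (20, [(2, 5, 4), (2, 0, 4), (2, 0, 4), (1, 0, 3)]),
     (21, [(2, 5, 4), (2, 0, 4), (2, 0, 4), (1, 0, 3)]),
     (22, [(2, 5, 4), (2, 0, 4), (2, 0, 4), (1, 0, 3)]),
     (23, [(1, 4, 0)])]),
  (2,
    [984818244535754528103549039458486304,
     981737719767249052369456315699891232,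
     981716224128048982828018616042065952,
     981720065691719392799159415558183968,
     984804261842214368737105645013149728,
     981736068231927503549634048857026592],
    [(0, [(1, 2, 0)]),
     (1, [(1, 1, 0)]),
     (5, [(2, 6, 5), (2, 0, 5), (2, 0, 5), (1, 0, 3)]),
     (6, [(1, 3, 0)]),
     (8, [(2, 6, 5), (2, 0, 5), (2, 0, 5), (1, 0, 3)]),
     (9, [(2, 6, 5), (2, 0, 5), (2, 0, 5), (1, 0, 3)]),
     (11, [(1, 3, 0)]),
     (13, [(1, 3, 0)]),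
     (14, [(1, 3, 0)]),
     (15, [(2, 6, 5), (2, 0, 5), (2, 0, 5), (1, 0, 3)]),
     (16, [(1, 3, 0)]),
     (17, [(1, 3, 0)]),
     (18, [(1, 3, 0)]),
     (19, [(1, 3, 0)]),
     (20, [(2, 6, 5), (2, 0, 5), (2, 0, 5), (1, 0, 3)]),
     (21, [(2, 6, 5), (2, 0, 5), (2, 0, 5), (1, 0, 3)]),
     (22, [(2, 6, 5), (2, 0, 5), (2, 0, 5), (1, 0, 3)]),
     (23, [(1, 5, 0)])]),
  (3,
    [984818244535754528103549039458486304,
     962223308431878189186809386174122016,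
     965995967454161196873229362941626400,
     983560496244493579808249287294715936],
    [(0, [(1, 3, 0)]),
     (1, [(1, 2, 0)]),
     (2, [(1, 1, 0)]),
     (5, [(2, 7, 6), (2, 0, 6), (2, 0, 6), (1, 0, 3)]),
     (6, [(1, 4, 0)]),
     (8, [(2, 7, 6), (2, 0, 6), (2, 0, 6), (1, 0, 3)]),
     (9, [(2, 7, 6), (2, 0, 6), (2, 0, 6), (1, 0, 3)]),
     (10, [(0, 6, 3), (0, 0, 3), (0, 0, 3), (0, 0, 3), (3, 8536111, 9471495), (1, 9, 0)]),
     (11, [(1, 4, 0)]),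
     (13, [(1, 4, 0)]),
     (14, [(1, 4, 0)]),
     (15, [(2, 7, 6), (2, 0, 6), (2, 0, 6), (1, 0, 3)]),
     (16, [(1, 4, 0)]),
     (17, [(1, 4, 0)]),
     (18, [(1, 4, 0)]),
     (19, [(1, 4, 0)]),
     (20, [(2, 7, 6), (2, 0, 6), (2, 0, 6), (1, 0, 3)]),
     (21, [(2, 7, 6), (2, 0, 6), (2, 0, 6), (1, 0, 3)]),
     (22, [(2, 7, 6), (2, 0, 6), (2, 0, 6), (1, 0, 3)]),
     (23, [(1, 6, 0)])]),
  (4,
    [984818244535754528103549039458486304],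
    [(0, [(1, 4, 0)]),
     (1, [(1, 3, 0)]),
     (2, [(1, 2, 0)]),
     (3, [(1, 1, 0)]),
     (5, [(2, 8, 7), (2, 0, 7), (2, 0, 7), (1, 0, 3)]),
     (6, [(1, 5, 0)]),
     (7, [(2, 8, 7), (2, 0, 7), (2, 0, 7), (0, 10, 7), (0, 0, 7), (0, 0, 7), (0, 0, 6), (3, 12656663, 11010247), (2, 13, 0), (1, 6, 1), (0, 13, 12), (0, 0, 12), (0, 0, 12), (0, 0, 3), (3, 6832158, 2130606), (1, 6, 0)]),
     (8, [(2, 8, 7), (2, 0, 7), (2, 0, 7), (1, 0, 3)]),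
     (9, [(2, 8, 7), (2, 0, 7), (2, 0, 7), (1, 0, 3)]),
     (10, [(0, 7, 4), (0, 0, 4), (0, 0, 4), (0, 0, 3), (3, 12656663, 9471495), (1, 10, 0)]),
     (11, [(1, 5, 0)]),
     (12, [(0, 7, 4), (0, 0, 4), (0, 0, 4), (0, 0, 3), (3, 12656663, 8657159), (1, 10, 0), (2, 11, 1), (0, 1, 9), (0, 0, 9), (0, 0, 9), (3, 2207772, 277580), (1, 4, 0)]),
     (13, [(1, 5, 0)]),
     (14, [(1, 5, 0)]),
     (15, [(2, 8, 7), (2, 0, 7), (2, 0, 7), (1, 0, 3)]),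
     (16, [(1, 5, 0)]),
     (17, [(1, 5, 0)]),
     (18, [(1, 5, 0)]),
     (19, [(1, 5, 0)]),
     (20, [(2, 8, 7), (2, 0, 7), (2, 0, 7), (1, 0, 3)]),
     (21, [(2, 8, 7), (2, 0, 7), (2, 0, 7), (1, 0, 3)]),
     (22, [(2, 8, 7), (2, 0, 7), (2, 0, 7), (1, 0, 3)]),
     (23, [(1, 7, 0)])])]

/-- Final derivation: F_0. -/
def orbF_0Fin : List (ℕ × ℕ × ℕ) := [(2, 8, 7), (2, 0, 7), (2, 0, 7), (2, 9, 7), (2, 0, 7), (2, 0, 7), (2, 0, 7), (2, 0, 7), (0, 15, 12), (0, 0, 12), (0, 0, 12), (0, 0, 11), (3, 12656663, 12656663), (1, 18, 0), (2, 19, 1), (1, 12, 2), (2, 13, 3), (0, 3, 19), (0, 0, 19), (0, 0, 19), (3, 2207772, 2207772), (1, 13, 0), (2, 14, 1), (1, 6, 2), (2, 7, 3), (0, 28, 27), (0, 0, 27), (0, 0, 27), (0, 0, 12), (3, 6832158, 6832158), (1, 15, 0), (2, 16, 1), (1, 8, 2), (2, 9, 3), (0, 20, 38), (0, 0, 19), (0, 0, 14), (3, 7417889, 7417889), (1, 13, 0), (2, 14, 1), (0, 42,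 24), (0, 0, 19), (0, 0, 9), (0, 0, 9), (3, 6475812, 6475812), (1, 14, 0), (2, 15, 1), (1, 15, 2), (2, 16, 3), (1, 10, 4), (2, 11, 5), (0, 42, 53), (0, 0, 19), (0, 0, 19), (3, 10846245, 10846245), (1, 41, 0), (2, 42, 1), (1, 8, 2), (2, 9, 3), (0, 66, 43), (0, 0, 27), (0, 0, 27), (0, 0, 16), (3, 15515712, 15515712), (1, 5, 0), (2, 6, 1), (0, 44, 32), (0, 0, 21), (0, 0, 21), (0, 0, 21), (3, 2019456, 2019456), (1, 48, 0), (2, 49, 1), (0, 49, 26), (0, 0, 23), (0, 0, 19), (3, 4038912, 4038912), (1, 37, 0), (2, 38, 1)]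

theorem card_orbF_0 : Nat.card (fixMasks [1009728, 5279, 8388608]) = 1344 := by
  rw [card_fixMasks (L := orbF_0Levels) (fin := orbF_0Fin) (by decide +kernel)]; decide +kernel

/-- Transversals and refutations: F_1. -/
def orbF_1Levels : List Level := [
  (0,
    [984818244535754528103549039458486304,
     981571712312852068974742389833990178,
     984569746182803254892263252834650147,
     982215716966026784075120748736348196,
     978105997631331416234907497847128103,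
     980276217696685047138208919150659626],
    [(1, [(1, 2, 1), (1, 0, 1)]),
     (5, [(2, 2, 1), (1, 0, 1)]),
     (6, [(2, 2, 1), (1, 0, 1)]),
     (8, [(2, 2, 1), (1, 0, 1)]),
     (9, [(2, 2, 1), (1, 0, 1)]),
     (11, [(2, 2, 1), (1, 0, 1)]),
     (12, [(1, 2, 1), (1, 0, 1)]),
     (13, [(2, 2, 1), (1, 0, 1)]),
     (14, [(2, 2, 1), (1, 0, 1)]),
     (15, [(2, 2, 1), (1, 0, 1)]),
     (16, [(2, 2, 1), (1, 0, 1)]),
     (17, [(2, 2, 1), (1, 0, 1)]),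
     (18, [(2, 2, 1), (1, 0, 1)]),
     (19, [(2, 2, 1), (1, 0, 1)]),
     (20, [(2, 2, 1), (1, 0, 1)]),
     (21, [(2, 2, 1), (1, 0, 1)]),
     (22, [(2, 2, 1), (1, 0, 1)]),
     (23, [(1, 3, 0)])]),
  (1,
    [984818244535754528103549039458486304,
     984571052771685786531681076360874368],
    [(0, [(1, 3, 2), (1, 0, 1)]),
     (2, [(1, 3, 2), (1, 0, 1)]),
     (3, [(1, 3, 2), (1, 0, 1)]),
     (4, [(1, 3, 2), (1, 0, 1)]),
     (5, [(1, 3, 2), (1, 0, 1)]),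
     (6, [(1, 3, 2), (1, 0, 1)]),
     (7, [(1, 3, 2), (1, 0, 1)]),
     (8, [(1, 3, 2), (1, 0, 1)]),
     (9, [(1, 3, 2), (1, 0, 1)]),
     (10, [(1, 3, 2), (1, 0, 1)]),
     (11, [(1, 3, 2), (1, 0, 1)]),
     (13, [(1, 3, 2), (1, 0, 1)]),
     (14, [(1, 3, 2), (1, 0, 1)]),
     (15, [(1, 3, 2), (1, 0, 1)]),
     (16, [(1, 3, 2), (1, 0, 1)]),
     (17, [(1, 3, 2), (1, 0, 1)]),
     (18, [(1, 3, 2), (1, 0, 1)]),
     (19, [(1, 3, 2), (1, 0, 1)]),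
     (20, [(1, 3, 2), (1, 0, 1)]),
     (21, [(1, 3, 2), (1, 0, 1)]),
     (22, [(1, 3, 2), (1, 0, 1)]),
     (23, [(1, 4, 0)])]),
  (2,
    [984818244535754528103549039458486304,
     975769634574123257898013205243990048,
     983272426375389490288716212292656160],
    [(0, [(1, 2, 0)]),
     (1, [(2, 4, 3), (2, 0, 3), (1, 0, 2)]),
     (3, [(2, 6, 5), (2, 0, 5), (1, 6, 5), (1, 1, 6), (2, 1, 5), (0, 10, 7), (0, 0, 7), (0, 0, 2), (0, 0, 8), (3, 8657159, 14716939), (1, 6, 0)]),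
     (5, [(2, 6, 5), (2, 0, 5), (2, 0, 5), (1, 0, 3)]),
     (6, [(2, 6, 5), (2, 0, 5), (1, 0, 5), (1, 0, 3)]),
     (8, [(2, 6, 5), (2, 0, 5), (1, 0, 5), (1, 0, 3)]),
     (9, [(2, 6, 5), (2, 0, 5), (1, 0, 5), (1, 0, 3)]),
     (10, [(2, 6, 5), (2, 0, 5), (1, 6, 5), (1, 1, 6), (2, 1, 5), (0, 10, 7), (0, 0, 7), (0, 0, 2), (0, 0, 8), (3, 8657159, 8983587), (1, 6, 0)]),
     (11, [(2, 6, 5), (2, 0, 5), (1, 0, 5), (1, 0, 3)]),
     (12, [(2, 4, 3), (2, 0, 3), (1, 0, 2)]),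
     (13, [(2, 6, 5), (2, 0, 5), (1, 0, 5), (1, 0, 3)]),
     (14, [(2, 6, 5), (2, 0, 5), (1, 0, 5), (1, 0, 3)]),
     (15, [(2, 6, 5), (2, 0, 5), (2, 0, 5), (1, 0, 3)]),
     (16, [(2, 6, 5), (2, 0, 5), (2, 0, 5), (1, 0, 3)]),
     (17, [(2, 6, 5), (2, 0, 5), (2, 0, 5), (1, 0, 3)]),
     (18, [(2, 6, 5), (2, 0, 5), (2, 0, 5), (1, 0, 3)]),
     (19, [(2, 6, 5), (2, 0, 5), (2, 0, 5), (1, 0, 3)]),
     (20, [(2, 6, 5), (2, 0, 5), (2, 0, 5), (1, 0, 3)]),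
     (21, [(2, 6, 5), (2, 0, 5), (2, 0, 5), (1, 0, 3)]),
     (22, [(2, 6, 5), (2, 0, 5), (2, 0, 5), (1, 0, 3)]),
     (23, [(1, 5, 0)])]),
  (3,
    [984818244535754528103549039458486304,
     980717513807977534628435478231451680],
    [(0, [(1, 3, 0)]),
     (1, [(1, 2, 0)]),
     (2, [(1, 1, 0)]),
     (4, [(2, 7, 6), (2, 0, 6), (1, 7, 6), (1, 1, 7), (2, 1, 6), (0, 11, 8), (0, 0, 8), (0, 0, 2), (0, 0, 8), (3, 14716939, 8524371), (1, 6, 0)]),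
     (5, [(2, 7, 6), (2, 0, 6), (2, 0, 6), (1, 0, 3)]),
     (6, [(2, 7, 6), (2, 0, 6), (1, 0, 6), (1, 0, 3)]),
     (7, [(2, 7, 6), (2, 0, 6), (1, 7, 6), (1, 1, 7), (2, 1, 6), (0, 11, 8), (0, 0, 8), (0, 0, 2), (0, 0, 8), (3, 14716939, 9465987), (1, 6, 0)]),
     (8, [(2, 7, 6), (2, 0, 6), (1, 0, 6), (1, 0, 3)]),
     (9, [(2, 7, 6), (2, 0, 6), (1, 0, 6), (1, 0, 3)]),
     (11, [(2, 7, 6), (2, 0, 6), (1, 0, 6), (1, 0, 3)]),
     (12, [(1, 5, 4), (2, 0, 3), (1, 0, 2)]),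
     (13, [(2, 7, 6), (2, 0, 6), (1, 0, 6), (1, 0, 3)]),
     (14, [(2, 7, 6), (2, 0, 6), (1, 0, 6), (1, 0, 3)]),
     (15, [(2, 7, 6), (2, 0, 6), (2, 0, 6), (1, 0, 3)]),
     (16, [(2, 7, 6), (2, 0, 6), (2, 0, 6), (1, 0, 3)]),
     (17, [(2, 7, 6), (2, 0, 6), (2, 0, 6), (1, 0, 3)]),
     (18, [(2, 7, 6), (2, 0, 6), (2, 0, 6), (1, 0, 3)]),
     (19, [(2, 7, 6), (2, 0, 6), (2, 0, 6), (1, 0, 3)]),
     (20, [(2, 7, 6), (2, 0, 6), (2, 0, 6), (1, 0, 3)]),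
     (21, [(2, 7, 6), (2, 0, 6), (2, 0, 6), (1, 0, 3)]),
     (22, [(2, 7, 6), (2, 0, 6), (2, 0, 6), (1, 0, 3)]),
     (23, [(1, 6, 0)])])]

/-- Final derivation: F_1. -/
def orbF_1Fin : List (ℕ × ℕ × ℕ) := [(2, 7, 6), (2, 0, 6), (1, 7, 6), (2, 8, 7), (1, 2, 8), (2, 3, 9), (2, 2, 9), (2, 4, 9), (2, 1, 9), (2, 0, 9), (0, 16, 13), (0, 0, 13), (0, 0, 4), (0, 0, 13), (3, 14716939, 14716939), (1, 9, 0), (2, 10, 1), (0, 1, 9), (0, 0, 19), (3, 6475812, 6475812), (1, 15, 0), (2, 16, 1), (1, 5, 2), (2, 6, 3), (0, 1, 26), (0, 0, 17), (0, 0, 26), (3, 692282, 692282), (1, 18, 0), (2, 19, 1), (1, 14, 2), (2, 15, 3), (1, 8, 4), (2, 9, 5), (0, 37, 35), (0, 0, 35), (0, 0, 7), (0, 0, 6), (3, 5275709, 5275709), (1, 16, 0), (2, 17, 1), (1, 9, 2), (2, 10, 3), (1, 9, 4), (2, 10, 5), (0, 51, 24), (0, 0, 15), (0, 0, 14), (0, 0, 6), (3, 15515712, 15515712), (1, 28, 0), (2, 29, 1), (1, 7, 2), (2,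 8, 3), (0, 60, 56), (0, 0, 47), (0, 0, 13), (0, 0, 6), (3, 10825794, 10825794), (1, 7, 0), (2, 8, 1), (0, 30, 28), (0, 54, 41), (0, 0, 32), (0, 0, 31), (0, 0, 24), (3, 2019456, 2019456), (1, 37, 0), (2, 38, 1), (0, 7, 26), (0, 0, 26), (0, 0, 18), (3, 4038912, 4038912), (1, 12, 0), (2, 13, 1), (0, 54, 42), (0, 0, 35), (0, 0, 35), (0, 0, 35), (3, 8077824, 8077824), (1, 5, 0), (2, 6, 1)]

theorem card_orbF_1 : Nat.card (fixMasks [31554, 5279, 8388608]) = 72 := by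
  rw [card_fixMasks (L := orbF_1Levels) (fin := orbF_1Fin) (by decide +kernel)]; decide +kernel

/-- Transversals and refutations: F_2. -/
def orbF_2Levels : List Level := [
  (0,
    [984818244535754528103549039458486304,
     978117032666334908527472635753335847,
     984529295704448004891348547396505642,
     982058169214528134527953136276049964],
    [(1, [(1, 2, 1), (1, 0, 1)]),
     (2, [(1, 2, 1), (1, 0, 1)]),
     (3, [(1, 2, 1), (1, 0, 1)]),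
     (4, [(1, 2, 1), (1, 0, 1)]),
     (5, [(2, 2, 1), (1, 0, 1)]),
     (6, [(2, 2, 1), (1, 0, 1)]),
     (8, [(2, 2, 1), (1, 0, 1)]),
     (9, [(2, 2, 1), (1, 0, 1)]),
     (11, [(2, 2, 1), (1, 0, 1)]),
     (13, [(2, 2, 1), (1, 0, 1)]),
     (14, [(2, 2, 1), (1, 0, 1)]),
     (15, [(2, 2, 1), (1, 0, 1)]),
     (16, [(2, 2, 1), (1, 0, 1)]),
     (17, [(2, 2, 1), (1, 0, 1)]),
     (18, [(2, 2, 1), (1, 0, 1)]),
     (19, [(2, 2, 1), (1, 0, 1)]),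
     (20, [(2, 2, 1), (1, 0, 1)]),
     (21, [(2, 2, 1), (1, 0, 1)]),
     (22, [(2, 2, 1), (1, 0, 1)]),
     (23, [(1, 3, 0)])]),
  (1,
    [984818244535754528103549039458486304,
     976990105829392847739289005721748544,
     980950706932289206909372855713072224,
     982060704822795966893982365816784000],
    [(0, [(1, 3, 2), (1, 0, 1)]),
     (5, [(1, 3, 2), (1, 0, 1)]),
     (6, [(1, 3, 2), (1, 0, 1)]),
     (7, [(1, 3, 2), (1, 0, 1)]),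
     (8, [(1, 3, 2), (1, 0, 1)]),
     (9, [(1, 3, 2), (1, 0, 1)]),
     (10, [(1, 3, 2), (1, 0, 1)]),
     (11, [(1, 3, 2), (1, 0, 1)]),
     (12, [(1, 3, 2), (1, 0, 1)]),
     (13, [(1, 3, 2), (1, 0, 1)]),
     (14, [(1, 3, 2), (1, 0, 1)]),
     (15, [(1, 3, 2), (1, 0, 1)]),
     (16, [(1, 3, 2), (1, 0, 1)]),
     (17, [(1, 3, 2), (1, 0, 1)]),
     (18, [(1, 3, 2), (1, 0, 1)]),
     (19, [(1, 3, 2), (1, 0, 1)]),
     (20, [(1, 3, 2), (1, 0, 1)]),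
     (21, [(1, 3, 2), (1, 0, 1)]),
     (22, [(1, 3, 2), (1, 0, 1)]),
     (23, [(1, 4, 0)])]),
  (2,
    [984818244535754528103549039458486304,
     981737719767249052369456315699891232,
     980920017121645750808446692546908192],
    [(0, [(1, 2, 0)]),
     (1, [(1, 1, 0)]),
     (5, [(2, 6, 5), (2, 0, 5), (1, 0, 5), (1, 0, 3)]),
     (6, [(2, 6, 5), (2, 0, 5), (2, 0, 5), (1, 0, 3)]),
     (7, [(2, 4, 3), (2, 0, 3), (1, 0, 2)]),
     (8, [(2, 6, 5), (2, 0, 5), (1, 0, 5), (1, 0, 3)]),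
     (9, [(2, 6, 5), (2, 0, 5), (2, 0, 5), (1, 0, 3)]),
     (10, [(2, 4, 3), (2, 0, 3), (1, 0, 2)]),
     (11, [(2, 6, 5), (2, 0, 5), (1, 0, 5), (1, 0, 3)]),
     (12, [(2, 4, 3), (2, 0, 3), (1, 0, 2)]),
     (13, [(2, 6, 5), (2, 0, 5), (1, 0, 5), (1, 0, 3)]),
     (14, [(2, 6, 5), (2, 0, 5), (2, 0, 5), (1, 0, 3)]),
     (15, [(2, 6, 5), (2, 0, 5), (2, 0, 5), (1, 0, 3)]),
     (16, [(2, 6, 5), (2, 0, 5), (2, 0, 5), (1, 0, 3)]),
     (17, [(2, 6, 5), (2, 0, 5), (2, 0, 5), (1, 0, 3)]),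
     (18, [(2, 6, 5), (2, 0, 5), (2, 0, 5), (1, 0, 3)]),
     (19, [(2, 6, 5), (2, 0, 5), (2, 0, 5), (1, 0, 3)]),
     (20, [(2, 6, 5), (2, 0, 5), (2, 0, 5), (1, 0, 3)]),
     (21, [(2, 6, 5), (2, 0, 5), (2, 0, 5), (1, 0, 3)]),
     (22, [(2, 6, 5), (2, 0, 5), (2, 0, 5), (1, 0, 3)]),
     (23, [(1, 5, 0)])]),
  (3,
    [984818244535754528103549039458486304,
     977839867786251717525204161457686560],
    [(0, [(1, 3, 0)]),
     (1, [(1, 2, 0)]),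
     (2, [(1, 1, 0)]),
     (5, [(2, 7, 6), (2, 0, 6), (1, 0, 6), (1, 0, 3)]),
     (6, [(2, 7, 6), (2, 0, 6), (2, 0, 6), (1, 0, 3)]),
     (7, [(2, 5, 4), (2, 0, 4), (1, 0, 2)]),
     (8, [(2, 7, 6), (2, 0, 6), (1, 0, 6), (1, 0, 3)]),
     (9, [(2, 7, 6), (2, 0, 6), (2, 0, 6), (1, 0, 3)]),
     (10, [(2, 5, 4), (2, 0, 4), (1, 0, 2)]),
     (11, [(2, 7, 6), (2, 0, 6), (1, 0, 6), (1, 0, 3)]),
     (12, [(2, 5, 4), (2, 0, 4), (1, 0, 2)]),
     (13, [(2, 7, 6), (2, 0, 6), (1, 0, 6), (1, 0, 3)]),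
     (14, [(2, 7, 6), (2, 0, 6), (2, 0, 6), (1, 0, 3)]),
     (15, [(2, 7, 6), (2, 0, 6), (2, 0, 6), (1, 0, 3)]),
     (16, [(2, 7, 6), (2, 0, 6), (2, 0, 6), (1, 0, 3)]),
     (17, [(2, 7, 6), (2, 0, 6), (2, 0, 6), (1, 0, 3)]),
     (18, [(2, 7, 6), (2, 0, 6), (2, 0, 6), (1, 0, 3)]),
     (19, [(2, 7, 6), (2, 0, 6), (2, 0, 6), (1, 0, 3)]),
     (20, [(2, 7, 6), (2, 0, 6), (2, 0, 6), (1, 0, 3)]),
     (21, [(2, 7, 6), (2, 0, 6), (2, 0, 6), (1, 0, 3)]),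
     (22, [(2, 7, 6), (2, 0, 6), (2, 0, 6), (1, 0, 3)]),
     (23, [(1, 6, 0)])])]

/-- Final derivation: F_2. -/
def orbF_2Fin : List (ℕ × ℕ × ℕ) := [(2, 7, 6), (2, 0, 6), (1, 7, 6), (2, 8, 7), (1, 2, 8), (2, 3, 9), (2, 2, 9), (2, 4, 9), (2, 0, 9), (2, 0, 9), (0, 16, 13), (0, 0, 13), (0, 0, 13), (0, 0, 3), (3, 12656663, 12656663), (1, 10, 0), (2, 11, 1), (1, 11, 2), (2, 12, 3), (0, 1, 25), (0, 0, 20), (0, 0, 11), (3, 16056344, 16056344), (1, 4, 0), (2, 5, 1), (0, 1, 31), (0, 0, 10), (3, 11952160, 11952160), (1, 11, 0), (2, 12, 1), (1, 5, 2), (2, 6, 3), (0, 14, 35), (0, 0, 17), (0, 0, 5), (3, 7417889, 7417889), (1, 29, 0), (2, 30, 1), (1, 14, 2), (2, 15, 3), (0, 1, 43), (0, 0, 43), (0, 0, 13), (3, 3719203, 3719203), (1, 13, 0), (2, 14, 1), (1, 14, 2), (2, 15, 3), (0, 49, 19), (0, 0, 12), (0, 0, 5), (0, 0, 5), (3, 6475812, 6475812), (1, 35, 0), (2, 36, 1), (1, 16, 2), (2,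 17, 3), (1, 10, 4), (2, 11, 5), (0, 65, 19), (0, 0, 15), (0, 0, 7), (0, 0, 6), (3, 15515712, 15515712), (1, 16, 0), (2, 17, 1), (0, 29, 26), (0, 0, 22), (0, 0, 22), (0, 0, 12), (3, 2019456, 2019456), (1, 33, 0), (2, 34, 1), (0, 57, 33), (0, 0, 19), (0, 0, 19), (0, 0, 19), (3, 4038912, 4038912), (1, 48, 0), (2, 49, 1)]

theorem card_orbF_2 : Nat.card (fixMasks [10558, 5279, 8388608]) = 96 := by
  rw [card_fixMasks (L := orbF_2Levels) (fin := orbF_2Fin) (by decide +kernel)]; decide +kernel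

/-- Transversals and refutations: F_3. -/
def orbF_3Levels : List Level := [
  (0,
    [984818244535754528103549039458486304,
     972515684202761748824803774667261953,
     972876580985834619574089616508158978,
     970280904093326653051521643103454211,
     969915342951471797747563229281846276,
     976493423506919008508865668187227143,
     966439845008098858210150329642714122,
     983177927955140095116659260663071756],
    [(5, [(1, 2, 0)]),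
     (6, [(1, 2, 0)]),
     (8, [(1, 2, 0)]),
     (9, [(1, 2, 0)]),
     (11, [(1, 2, 0)]),
     (13, [(1, 2, 0)]),
     (14, [(1, 2, 0)]),
     (15, [(1, 2, 0)]),
     (16, [(1, 2, 0)]),
     (17, [(1, 2, 0)]),
     (18, [(1, 2, 0)]),
     (19, [(1, 2, 0)]),
     (20, [(1, 2, 0)]),
     (21, [(1, 2, 0)]),
     (22, [(1, 2, 0)]),
     (23, [(1, 3, 0)])]),
  (1,
    [984818244535754528103549039458486304,
     976990105829392847739289005721748544,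
     980950706932289206909372855713072224,
     982060704822795966893982365816784000,
     967282677882414412346491761713022176,
     963402558928176682917196241497556288,
     975442729215174487856029653418444160],
    [(0, [(1, 1, 0)]),
     (5, [(2, 5, 4), (2, 0, 4), (1, 0, 2)]),
     (6, [(2, 5, 4), (2, 0, 4), (1, 0, 2)]),
     (8, [(2, 5, 4), (2, 0, 4), (1, 0, 2)]),
     (9, [(2, 5, 4), (2, 0, 4), (1, 0, 2)]),
     (11, [(2, 5, 4), (2, 0, 4), (1, 0, 2)]),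
     (13, [(2, 5, 4), (2, 0, 4), (1, 0, 2)]),
     (14, [(2, 5, 4), (2, 0, 4), (1, 0, 2)]),
     (15, [(2, 5, 4), (2, 0, 4), (1, 0, 2)]),
     (16, [(2, 5, 4), (2, 0, 4), (1, 0, 2)]),
     (17, [(2, 5, 4), (2, 0, 4), (1, 0, 2)]),
     (18, [(2, 5, 4), (2, 0, 4), (1, 0, 2)]),
     (19, [(2, 5, 4), (2, 0, 4), (1, 0, 2)]),
     (20, [(2, 5, 4), (2, 0, 4), (1, 0, 2)]),
     (21, [(2, 5, 4), (2, 0, 4), (1, 0, 2)]),
     (22, [(2, 5, 4), (2, 0, 4), (1, 0, 2)]),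
     (23, [(1, 4, 0)])]),
  (2,
    [984818244535754528103549039458486304,
     981737719767249052369456315699891232,
     980920017121645750808446692546908192,
     979201208119882393322385278829141024,
     973157051253919035861214142682703904,
     984607248564125456058961653528604704],
    [(0, [(1, 2, 0)]),
     (1, [(1, 1, 0)]),
     (5, [(2, 6, 5), (2, 0, 5), (1, 0, 2)]),
     (6, [(2, 6, 5), (2, 0, 5), (1, 0, 2)]),
     (8, [(2, 6, 5), (2, 0, 5), (1, 0, 2)]),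
     (9, [(2, 6, 5), (2, 0, 5), (1, 0, 2)]),
     (11, [(2, 6, 5), (2, 0, 5), (1, 0, 2)]),
     (13, [(2, 6, 5), (2, 0, 5), (1, 0, 2)]),
     (14, [(2, 6, 5), (2, 0, 5), (1, 0, 2)]),
     (15, [(2, 6, 5), (2, 0, 5), (1, 0, 2)]),
     (16, [(2, 6, 5), (2, 0, 5), (1, 0, 2)]),
     (17, [(2, 6, 5), (2, 0, 5), (1, 0, 2)]),
     (18, [(2, 6, 5), (2, 0, 5), (1, 0, 2)]),
     (19, [(2, 6, 5), (2, 0, 5), (1, 0, 2)]),
     (20, [(2, 6, 5), (2, 0, 5), (1, 0, 2)]),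
     (21, [(2, 6, 5), (2, 0, 5), (1, 0, 2)]),
     (22, [(2, 6, 5), (2, 0, 5), (1, 0, 2)]),
     (23, [(1, 5, 0)])]),
  (3,
    [984818244535754528103549039458486304,
     977839867786251717525204161457686560,
     962504667559808837744080299536648224,
     962660455969611261303912270539327520,
     974395464107601521457589214999087136],
    [(0, [(1, 3, 0)]),
     (1, [(1, 2, 0)]),
     (2, [(1, 1, 0)]),
     (5, [(2, 7, 6), (2, 0, 6), (1, 0, 2)]),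
     (6, [(2, 7, 6), (2, 0, 6), (1, 0, 2)]),
     (8, [(2, 7, 6), (2, 0, 6), (1, 0, 2)]),
     (9, [(2, 7, 6), (2, 0, 6), (1, 0, 2)]),
     (11, [(2, 7, 6), (2, 0, 6), (1, 0, 2)]),
     (13, [(2, 7, 6), (2, 0, 6), (1, 0, 2)]),
     (14, [(2, 7, 6), (2, 0, 6), (1, 0, 2)]),
     (15, [(2, 7, 6), (2, 0, 6), (1, 0, 2)]),
     (16, [(2, 7, 6), (2, 0, 6), (1, 0, 2)]),
     (17, [(2, 7, 6), (2, 0, 6), (1, 0, 2)]),
     (18, [(2, 7, 6), (2, 0, 6), (1, 0, 2)]),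
     (19, [(2, 7, 6), (2, 0, 6), (1, 0, 2)]),
     (20, [(2, 7, 6), (2, 0, 6), (1, 0, 2)]),
     (21, [(2, 7, 6), (2, 0, 6), (1, 0, 2)]),
     (22, [(2, 7, 6), (2, 0, 6), (1, 0, 2)]),
     (23, [(1, 6, 0)])]),
  (4,
    [984818244535754528103549039458486304,
     963721886883755259286232606933354528,
     975754295934893126319599781779965984,
     979416905286026856737440949975746592],
    [(0, [(1, 4, 0)]),
     (1, [(1, 3, 0)]),
     (2, [(1, 2, 0)]),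
     (3, [(1, 1, 0)]),
     (5, [(2, 8, 7), (2, 0, 7), (1, 0, 2)]),
     (6, [(2, 8, 7), (2, 0, 7), (1, 0, 2)]),
     (8, [(2, 8, 7), (2, 0, 7), (1, 0, 2)]),
     (9, [(2, 8, 7), (2, 0, 7), (1, 0, 2)]),
     (11, [(2, 8, 7), (2, 0, 7), (1, 0, 2)]),
     (13, [(2, 8, 7), (2, 0, 7), (1, 0, 2)]),
     (14, [(2, 8, 7), (2, 0, 7), (1, 0, 2)]),
     (15, [(2, 8, 7), (2, 0, 7), (1, 0, 2)]),
     (16, [(2, 8, 7), (2, 0, 7), (1, 0, 2)]),
     (17, [(2, 8, 7), (2, 0, 7), (1, 0, 2)]),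
     (18, [(2, 8, 7), (2, 0, 7), (1, 0, 2)]),
     (19, [(2, 8, 7), (2, 0, 7), (1, 0, 2)]),
     (20, [(2, 8, 7), (2, 0, 7), (1, 0, 2)]),
     (21, [(2, 8, 7), (2, 0, 7), (1, 0, 2)]),
     (22, [(2, 8, 7), (2, 0, 7), (1, 0, 2)]),
     (23, [(1, 7, 0)])]),
  (5,
    [984818244535754528103549039458486304,
     976531636853126291160407323722221600,
     972606645568131968584696805283956768],
    [(0, [(2, 9, 8), (2, 0, 8), (1, 0, 2)]),
     (1, [(2, 9, 8), (2, 0, 8), (1, 0, 2)]),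
     (2, [(2, 9, 8), (2, 0, 8), (1, 0, 2)]),
     (3, [(2, 9, 8), (2, 0, 8), (1, 0, 2)]),
     (4, [(2, 9, 8), (2, 0, 8), (1, 0, 2)]),
     (6, [(2, 9, 8), (2, 0, 8), (2, 0, 2), (0, 11, 8), (0, 0, 8), (0, 0, 8), (0, 0, 7), (3, 12656663, 12656663), (1, 5, 0), (0, 0, 14), (0, 0, 10), (3, 7417889, 4563017), (1, 14, 0)]),
     (7, [(2, 9, 8), (2, 0, 8), (1, 0, 2)]),
     (8, [(2, 9, 8), (2, 0, 8), (2, 0, 2), (0, 11, 8), (0, 0, 8), (0, 0, 8), (0, 0, 7), (3, 12656663, 12656663), (1, 5, 0), (2, 6, 1), (0, 1, 15), (0, 0, 11), (3, 7417889, 4924673), (1, 3, 0), (2, 4, 1), (0, 1, 20), (0, 0, 20), (0, 0, 17), (3, 3719203, 657763), (1, 4, 0), (0, 0, 23), (0, 0, 23), (3, 843820, 231532), (1, 23, 0)]),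
     (9, [(2, 9, 8), (2, 0, 8), (2, 0, 2), (0, 11, 8), (0, 0, 8), (0, 0, 8), (0, 0, 7), (3, 12656663, 12656663), (1, 5, 0), (2, 6, 1), (0, 1, 15), (0, 0, 11), (3, 7417889, 4287105), (1, 3, 0), (2, 4, 1), (0, 1, 20), (0, 0, 20), (0, 0, 17), (3, 3719203, 1460739), (1, 4, 0), (0, 0, 23), (0, 0, 23), (3, 843820, 5652556), (1, 23, 0)]),
     (10, [(2, 9, 8), (2, 0, 8), (1, 0, 2)]),
     (11, [(2, 9, 8), (2, 0, 8), (2, 0, 2), (0, 11, 8), (0, 0, 8), (0, 0, 8), (0, 0, 7), (3, 12656663, 12656663), (1, 5, 0), (2, 6, 1), (0, 1, 15), (0, 0, 11), (3, 7417889, 4287105), (1, 3, 0), (2, 4, 1), (0, 1, 20), (0, 0, 20), (0, 0, 17), (3, 3719203, 1460739), (1, 4, 0), (0, 0, 23), (0, 0, 23), (3, 843820, 5652556), (1, 23, 0)]),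
     (12, [(2, 9, 8), (2, 0, 8), (1, 0, 2)]),
     (13, [(0, 8, 5), (0, 0, 5), (0, 0, 5), (0, 0, 4), (3, 12656663, 12656663), (1, 5, 0)]),
     (15, [(2, 9, 8), (2, 0, 8), (2, 0, 2), (0, 11, 8), (0, 0, 8), (0, 0, 8), (0, 0, 7), (3, 12656663, 12656663), (1, 5, 0), (0, 0, 14), (0, 0, 10), (3, 7417889, 4563017), (1, 14, 0)]),
     (16, [(0, 8, 5), (0, 0, 5), (0, 0, 5), (0, 0, 4), (3, 12656663, 12656663), (1, 5, 0)]),
     (18, [(2, 9, 8), (2, 0, 8), (2, 0, 2), (0, 11, 8), (0, 0, 8), (0, 0, 8), (0, 0, 7), (3, 12656663, 12656663), (1, 5, 0), (0, 0, 14), (0, 0, 10), (3, 7417889, 4563017), (1, 14, 0)]),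
     (19, [(2, 9, 8), (2, 0, 8), (2, 0, 2), (0, 11, 8), (0, 0, 8), (0, 0, 8), (0, 0, 7), (3, 12656663, 12656663), (1, 5, 0), (2, 6, 1), (0, 1, 15), (0, 0, 11), (3, 7417889, 4924673), (1, 3, 0), (2, 4, 1), (0, 1, 20), (0, 0, 20), (0, 0, 17), (3, 3719203, 657763), (1, 4, 0), (0, 0, 23), (0, 0, 23), (3, 843820, 231532), (1, 23, 0)]),
     (20, [(2, 9, 8), (2, 0, 8), (2, 0, 2), (0, 11, 8), (0, 0, 8), (0, 0, 8), (0, 0, 7), (3, 12656663, 12656663), (1, 5, 0), (2, 6, 1), (0, 1, 15), (0, 0, 11), (3, 7417889, 7417889), (1, 3, 0), (2, 4, 1), (0, 1, 20), (0, 0, 20), (0, 0, 17), (3, 3719203, 3719203), (1, 4, 0), (0, 0, 23), (0, 0, 23), (3, 843820, 843820), (1, 23, 0)]),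
     (21, [(2, 9, 8), (2, 0, 8), (2, 0, 2), (0, 11, 8), (0, 0, 8), (0, 0, 8), (0, 0, 7), (3, 12656663, 12656663), (1, 5, 0), (2, 6, 1), (0, 1, 15), (0, 0, 11), (3, 7417889, 7417889), (1, 3, 0), (2, 4, 1), (0, 1, 20), (0, 0, 20), (0, 0, 17), (3, 3719203, 3719203), (1, 4, 0), (0, 0, 23), (0, 0, 23), (3, 843820, 843820), (1, 23, 0)]),
     (22, [(0, 8, 5), (0, 0, 5), (0, 0, 5), (0, 0, 4), (3, 12656663, 12656663), (1, 5, 0)]),
     (23, [(1, 8, 0)])])]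

/-- Final derivation: F_3. -/
def orbF_3Fin : List (ℕ × ℕ × ℕ) := [(2, 9, 8), (2, 0, 8), (2, 8, 7), (2, 0, 7), (2, 0, 7), (2, 0, 7), (2, 0, 7), (2, 5, 7), (0, 16, 13), (0, 0, 13), (0, 0, 13), (0, 0, 12), (3, 12656663, 12656663), (1, 5, 0), (2, 6, 1), (0, 1, 20), (0, 0, 16), (3, 7417889, 7417889), (1, 11, 0), (2, 12, 1), (1, 5, 2), (2, 6, 3), (0, 1, 27), (0, 0, 27), (0, 0, 24), (3, 3719203, 3719203), (1, 4, 0), (2, 5, 1), (0, 1, 31), (0, 0, 31), (3, 843820, 843820), (1, 17, 0), (2, 18, 1), (1, 5, 2), (2, 6, 3), (0, 24, 37), (3, 8536111, 8536111), (1, 10, 0), (2, 11, 1), (1, 4, 2), (2, 5, 3), (0, 42, 41), (0, 0, 23), (0, 0, 9), (0, 0, 6), (3, 2969648, 2969648), (1, 25, 0), (2, 26, 1), (1, 15, 2), (2, 16, 3), (1, 11, 4), (2, 12, 5), (0, 60, 18), (0, 0, 15), (0, 0, 7), (0, 0, 5), (3, 15515712, 15515712), (1, 16, 0), (2, 17, 1), (0, 40, 25), (0, 0, 22), (0, 0, 21), (0, 0, 14),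 (3, 2019456, 2019456), (1, 44, 0), (2, 45, 1), (0, 34, 32), (0, 0, 20), (0, 0, 20), (0, 0, 20), (3, 4038912, 4038912), (1, 12, 0), (2, 13, 1), (0, 35, 33), (0, 0, 27), (0, 0, 27), (0, 0, 27), (3, 8077824, 8077824), (1, 5, 0), (2, 6, 1)]

theorem card_orbF_3 : Nat.card (fixMasks [5279, 5279, 8388608]) = 20160 := by
  rw [card_fixMasks (L := orbF_3Levels) (fin := orbF_3Fin) (by decide +kernel)]; decide +kernel

end CfsgLib.Golay
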