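import Cfsg.Agent.Lib.Golay.Chain

/-! Generated certificates: stabilisers for orbit computation H. -/

set_option autoImplicit false
set_option maxRecDepth 100000

namespace CfsgLib.Golay

/-- Transversals and refutations: H_base. -/
def orbH_baseLevels : List Level := [
  (1,
    [984818244535754528103549039458486304,
     233233386906768391987032901617288256,
     235742061483406767849477376128910432,
     642026626081851459412623021573211264,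
     879625693134708752067995883059348672,
     445545763657309050880227477812217088,
     838127774253295018847781861836522784,
     808017424765127922428093681722525056,
     479911567098918105692038360497980832,
     321052369375284577462031329287800320,
     936387645834130189017006441359279680],
    [(0, [(1, 2, 0)]),
     (5, [(2, 3, 2), (1, 0, 2), (1, 0, 2)]),
     (7, [(2, 3, 2), (1, 0, 2), (1, 0, 2)]),
     (10, [(2, 3, 2), (1, 0, 2), (1, 0, 2)]),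
     (11, [(2, 3, 2), (1, 0, 2), (1, 0, 2)]),
     (14, [(2, 3, 2), (1, 0, 2), (1, 0, 2)]),
     (15, [(2, 3, 2), (1, 0, 2), (1, 0, 2)]),
     (17, [(2, 3, 2), (1, 0, 2), (1, 0, 2)]),
     (19, [(2, 3, 2), (1, 0, 2), (1, 0, 2)]),
     (20, [(2, 3, 2), (1, 0, 2), (1, 0, 2)]),
     (21, [(2, 3, 2), (1, 0, 2), (1, 0, 2)]),
     (22, [(2, 3, 2), (1, 0, 2), (1, 0, 2)]),
     (23, [(2, 3, 2), (1, 0, 2), (1, 0, 2)])]),
  (2,
    [984818244535754528103549039458486304,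
     735500604421669808992593446508235808,
     735487641475210312359759341757206560,
     969192610918565898168936684552525856,
     233959790473158824216177681506574368,
     965338963119640587914710321726563360,
     721046562558839904869265658136834080,
     601930637354377878261354464644510752,
     235379565287160066622594956605341728,
     606676711139852856892877066189490208],
    [(0, [(1, 3, 0)]),
     (1, [(1, 1, 0)]),
     (5, [(2, 4, 3), (2, 0, 3), (1, 0, 2)]),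
     (7, [(2, 4, 3), (2, 0, 3), (1, 0, 2)]),
     (10, [(2, 4, 3), (2, 0, 3), (1, 0, 2)]),
     (11, [(2, 4, 3), (2, 0, 3), (1, 0, 2)]),
     (14, [(2, 4, 3), (2, 0, 3), (1, 0, 2)]),
     (15, [(2, 4, 3), (2, 0, 3), (1, 0, 2)]),
     (17, [(2, 4, 3), (2, 0, 3), (1, 0, 2)]),
     (19, [(2, 4, 3), (2, 0, 3), (1, 0, 2)]),
     (20, [(2, 4, 3), (2, 0, 3), (1, 0, 2)]),
     (21, [(2, 4, 3), (2, 0, 3), (1, 0, 2)]),
     (22, [(2, 4, 3), (2, 0, 3), (1, 0, 2)]),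
     (23, [(2, 4, 3), (2, 0, 3), (1, 0, 2)])]),
  (3,
    [984818244535754528103549039458486304,
     486073779993727295785104656607348768,
     303972014349329906305369256209090592,
     899214583888558003150069357295700000,
     424698032726113400716592269113985056,
     928718206277989008510816407558424608,
     809399594410595785774724965859756064,
     858988336336270505570052787752405024,
     648441755269428208718993426702993440],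
    [(0, [(1, 4, 0)]),
     (1, [(1, 2, 0)]),
     (2, [(1, 1, 0)]),
     (5, [(2, 5, 4), (2, 0, 4), (1, 0, 2)]),
     (7, [(2, 5, 4), (2, 0, 4), (1, 0, 2)]),
     (10, [(2, 5, 4), (2, 0, 4), (1, 0, 2)]),
     (11, [(2, 5, 4), (2, 0, 4), (1, 0, 2)]),
     (14, [(2, 5, 4), (2, 0, 4), (1, 0, 2)]),
     (15, [(2, 5, 4), (2, 0, 4), (1, 0, 2)]),
     (17, [(2, 5, 4), (2, 0, 4), (1, 0, 2)]),
     (19, [(2, 5, 4), (2, 0, 4), (1, 0, 2)]),
     (20, [(2, 5, 4), (2, 0, 4), (1, 0, 2)]),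
     (21, [(2, 5, 4), (2, 0, 4), (1, 0, 2)]),
     (22, [(2, 5, 4), (2, 0, 4), (1, 0, 2)]),
     (23, [(2, 5, 4), (2, 0, 4), (1, 0, 2)])]),
  (4,
    [984818244535754528103549039458486304,
     719923664328491199848526586197411872,
     608405391266436187982588441666881568,
     715872302521680643580706198532491296,
     970499966350631336865513127433832480,
     227578386318009578406903204956702752,
     609271311764373893382231684089481248,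
     232652365823391711183829569059784736],
    [(0, [(1, 5, 0)]),
     (1, [(1, 3, 0)]),
     (2, [(1, 2, 0)]),
     (3, [(1, 1, 0)]),
     (5, [(2, 6, 5), (2, 0, 5), (1, 0, 2)]),
     (7, [(2, 6, 5), (2, 0, 5), (1, 0, 2)]),
     (10, [(2, 6, 5), (2, 0, 5), (1, 0, 2)]),
     (11, [(2, 6, 5), (2, 0, 5), (1, 0, 2)]),
     (14, [(2, 6, 5), (2, 0, 5), (1, 0, 2)]),
     (15, [(2, 6, 5), (2, 0, 5), (1, 0, 2)]),
     (17, [(2, 6, 5), (2, 0, 5), (1, 0, 2)]),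
     (19, [(2, 6, 5), (2, 0, 5), (1, 0, 2)]),
     (20, [(2, 6, 5), (2, 0, 5), (1, 0, 2)]),
     (21, [(2, 6, 5), (2, 0, 5), (1, 0, 2)]),
     (22, [(2, 6, 5), (2, 0, 5), (1, 0, 2)]),
     (23, [(2, 6, 5), (2, 0, 5), (1, 0, 2)])]),
  (5,
    [984818244535754528103549039458486304],
    [(0, [(1, 6, 0)]),
     (1, [(2, 7, 6), (2, 0, 6), (1, 0, 2)]),
     (2, [(2, 7, 6), (2, 0, 6), (1, 0, 2)]),
     (3, [(2, 7, 6), (2, 0, 6), (1, 0, 2)]),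
     (4, [(2, 7, 6), (2, 0, 6), (1, 0, 2)]),
     (6, [(2, 7, 6), (2, 0, 6), (1, 0, 2)]),
     (7, [(0, 6, 4), (0, 0, 4), (0, 0, 4), (0, 0, 3), (3, 8536111, 5279), (1, 6, 0)]),
     (8, [(2, 7, 6), (2, 0, 6), (1, 0, 2)]),
     (9, [(2, 7, 6), (2, 0, 6), (1, 0, 2)]),
     (10, [(0, 6, 4), (0, 0, 4), (0, 0, 4), (0, 0, 3), (3, 8536111, 5279), (1, 6, 0)]),
     (11, [(2, 7, 6), (1, 0, 6), (2, 0, 6), (2, 0, 6), (2, 0, 6), (2, 0, 6), (0, 12, 10), (0, 0, 10), (0, 0, 10), (0, 0, 9), (3, 8536111, 4196943), (1, 5, 0)]),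
     (12, [(2, 7, 6), (2, 0, 6), (1, 0, 2)]),
     (13, [(2, 7, 6), (2, 0, 6), (1, 0, 2)]),
     (14, [(2, 7, 6), (1, 0, 6), (2, 0, 6), (2, 0, 6), (2, 0, 6), (2, 0, 6), (0, 12, 9), (0, 0, 9), (0, 0, 9), (0, 0, 9), (3, 5275709, 346141), (1, 5, 0)]),
     (15, [(2, 7, 6), (1, 0, 6), (2, 0, 6), (2, 0, 6), (2, 0, 6), (2, 0, 6), (0, 12, 10), (0, 0, 10), (0, 0, 10), (0, 0, 9), (3, 8536111, 622863), (1, 5, 0)]),
     (16, [(2, 7, 6), (2, 0, 6), (1, 0, 2)]),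
     (17, [(2, 7, 6), (1, 0, 6), (2, 0, 6), (2, 0, 6), (2, 0, 6), (2, 0, 6), (0, 12, 9), (0, 0, 9), (0, 0, 9), (0, 0, 9), (3, 5275709, 663645), (1, 5, 0)]),
     (18, [(2, 7, 6), (2, 0, 6), (1, 0, 2)]),
     (19, [(2, 7, 6), (1, 0, 6), (2, 0, 6), (2, 0, 6), (2, 0, 6), (2, 0, 6), (0, 12, 10), (0, 0, 10), (0, 0, 10), (0, 0, 9), (3, 8536111, 622863), (1, 5, 0)]),
     (20, [(2, 7, 6), (1, 0, 6), (2, 0, 6), (2, 0, 6), (2, 0, 6), (2, 0, 6), (0, 12, 10), (0, 0, 10), (0, 0, 10), (0, 0, 9), (3, 8536111, 3416079), (1, 5, 0)]),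
     (21, [(2, 7, 6), (1, 0, 6), (2, 0, 6), (2, 0, 6), (2, 0, 6), (2, 0, 6), (0, 12, 10), (0, 0, 10), (0, 0, 10), (0, 0, 9), (3, 8536111, 3416079), (1, 5, 0)]),
     (22, [(2, 7, 6), (1, 0, 6), (2, 0, 6), (2, 0, 6), (2, 0, 6), (2, 0, 6), (0, 12, 10), (0, 0, 10), (0, 0, 10), (0, 0, 9), (3, 8536111, 4196943), (1, 5, 0)]),
     (23, [(2, 7, 6), (1, 0, 6), (2, 0, 6), (2, 0, 6), (2, 0, 6), (2, 0, 6), (0, 12, 9), (0, 0, 9), (0, 0, 9), (0, 0, 9), (3, 5275709, 10486557), (1, 5, 0)])])]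

/-- Final derivation: H_base. -/
def orbH_baseFin : List (ℕ × ℕ × ℕ) := [(2, 7, 6), (1, 0, 6), (2, 1, 7), (2, 1, 7), (2, 0, 7), (2, 0, 7), (2, 0, 7), (2, 4, 7), (0, 14, 12), (0, 0, 12), (0, 0, 12), (0, 0, 11), (3, 8536111, 8536111), (1, 5, 0), (2, 6, 1), (0, 21, 18), (0, 0, 18), (0, 0, 18), (0, 0, 18), (3, 5275709, 5275709), (1, 5, 0), (2, 6, 1), (0, 1, 26), (0, 0, 26), (3, 7438406, 7438406), (1, 18, 0), (2, 19, 1), (1, 5, 2), (2, 6, 3), (0, 3, 35), (0, 0, 33), (0, 0, 33), (3, 9506893, 9506893), (1, 19, 0), (2, 20, 1), (1, 14, 2), (2, 15, 3), (1, 10, 4), (2, 11, 5), (0, 45, 40), (0, 0, 12), (0, 0, 7), (0, 0, 6), (3, 11575377, 11575377), (1, 18, 0), (2, 19, 1), (1, 9, 2), (2, 10, 3), (1, 9, 4), (2, 10, 5), (0, 54, 51), (0, 0, 23), (0, 0, 16), (0, 0, 8), (3, 4063314, 4063314), (1, 26, 0), (2, 27, 1), (1, 22, 2), (2, 23, 3), (1, 9, 4), (2, 10, 5), (0, 25, 23), (0, 0,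 15), (0, 0, 7), (0, 0, 6), (3, 2019456, 2019456), (1, 9, 0), (2, 10, 1), (0, 40, 34), (0, 0, 33), (0, 0, 32), (0, 43, 35), (0, 0, 26), (0, 0, 26), (0, 0, 25), (3, 4038912, 4038912), (1, 15, 0), (2, 16, 1), (0, 7, 32), (3, 11654144, 11654144), (1, 12, 0), (2, 13, 1)]

theorem card_orbH_base : Nat.card (fixMasks [340831, 1]) = 7920 := by
  rw [card_fixMasks (L := orbH_baseLevels) (fin := orbH_baseFin) (by decide +kernel)]; decide +kernel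

/-- Transversals and refutations: H_0. -/
def orbH_0Levels : List Level := [
  (1,
    [984818244535754528103549039458486304,
     233233386906768391987032901617288256,
     235742061483406767849477376128910432,
     642026626081851459412623021573211264,
     879625693134708752067995883059348672,
     445545763657309050880227477812217088,
     838127774253295018847781861836522784,
     808017424765127922428093681722525056,
     479911567098918105692038360497980832,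
     321052369375284577462031329287800320,
     936387645834130189017006441359279680],
    [(0, [(1, 3, 0)]),
     (5, [(2, 4, 3), (1, 0, 3), (1, 0, 2)]),
     (7, [(2, 4, 3), (1, 0, 3), (1, 0, 2)]),
     (10, [(2, 4, 3), (1, 0, 3), (1, 0, 2)]),
     (11, [(2, 4, 3), (1, 0, 3), (1, 0, 2)]),
     (14, [(2, 4, 3), (1, 0, 3), (1, 0, 2)]),
     (15, [(2, 4, 3), (1, 0, 3), (1, 0, 2)]),
     (17, [(2, 4, 3), (1, 0, 3), (1, 0, 2)]),
     (19, [(2, 4, 3), (1, 0, 3), (1, 0, 2)]),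
     (20, [(2, 4, 3), (1, 0, 3), (1, 0, 2)]),
     (21, [(2, 4, 3), (1, 0, 3), (1, 0, 2)]),
     (22, [(2, 4, 3), (1, 0, 3), (1, 0, 2)]),
     (23, [(2, 4, 3), (1, 0, 3), (1, 0, 2)])]),
  (2,
    [984818244535754528103549039458486304,
     735500604421669808992593446508235808,
     735487641475210312359759341757206560,
     969192610918565898168936684552525856,
     233959790473158824216177681506574368,
     965338963119640587914710321726563360,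
     721046562558839904869265658136834080,
     601930637354377878261354464644510752,
     235379565287160066622594956605341728,
     606676711139852856892877066189490208],
    [(0, [(1, 4, 0)]),
     (1, [(1, 1, 0)]),
     (5, [(2, 5, 4), (2, 0, 4), (1, 0, 2)]),
     (7, [(2, 5, 4), (2, 0, 4), (1, 0, 2)]),
     (10, [(2, 5, 4), (2, 0, 4), (1, 0, 2)]),
     (11, [(2, 5, 4), (2, 0, 4), (1, 0, 2)]),
     (14, [(2, 5, 4), (2, 0, 4), (1, 0, 2)]),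
     (15, [(2, 5, 4), (2, 0, 4), (1, 0, 2)]),
     (17, [(2, 5, 4), (2, 0, 4), (1, 0, 2)]),
     (19, [(2, 5, 4), (2, 0, 4), (1, 0, 2)]),
     (20, [(2, 5, 4), (2, 0, 4), (1, 0, 2)]),
     (21, [(2, 5, 4), (2, 0, 4), (1, 0, 2)]),
     (22, [(2, 5, 4), (2, 0, 4), (1, 0, 2)]),
     (23, [(2, 5, 4), (2, 0, 4), (1, 0, 2)])]),
  (3,
    [984818244535754528103549039458486304,
     486073779993727295785104656607348768,
     303972014349329906305369256209090592,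
     899214583888558003150069357295700000,
     424698032726113400716592269113985056,
     928718206277989008510816407558424608,
     809399594410595785774724965859756064,
     858988336336270505570052787752405024,
     648441755269428208718993426702993440],
    [(0, [(1, 5, 0)]),
     (1, [(1, 2, 0)]),
     (2, [(1, 1, 0)]),
     (5, [(2, 6, 5), (2, 0, 5), (1, 0, 2)]),
     (7, [(2, 6, 5), (2, 0, 5), (1, 0, 2)]),
     (10, [(2, 6, 5), (2, 0, 5), (1, 0, 2)]),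
     (11, [(2, 6, 5), (2, 0, 5), (1, 0, 2)]),
     (14, [(2, 6, 5), (2, 0, 5), (1, 0, 2)]),
     (15, [(2, 6, 5), (2, 0, 5), (1, 0, 2)]),
     (17, [(2, 6, 5), (2, 0, 5), (1, 0, 2)]),
     (19, [(2, 6, 5), (2, 0, 5), (1, 0, 2)]),
     (20, [(2, 6, 5), (2, 0, 5), (1, 0, 2)]),
     (21, [(2, 6, 5), (2, 0, 5), (1, 0, 2)]),
     (22, [(2, 6, 5), (2, 0, 5), (1, 0, 2)]),
     (23, [(2, 6, 5), (2, 0, 5), (1, 0, 2)])]),
  (4,
    [984818244535754528103549039458486304,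
     719923664328491199848526586197411872,
     608405391266436187982588441666881568,
     715872302521680643580706198532491296,
     970499966350631336865513127433832480,
     227578386318009578406903204956702752,
     609271311764373893382231684089481248,
     232652365823391711183829569059784736],
    [(0, [(1, 6, 0)]),
     (1, [(1, 3, 0)]),
     (2, [(1, 2, 0)]),
     (3, [(1, 1, 0)]),
     (5, [(2, 7, 6), (2, 0, 6), (1, 0, 2)]),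
     (7, [(2, 7, 6), (2, 0, 6), (1, 0, 2)]),
     (10, [(2, 7, 6), (2, 0, 6), (1, 0, 2)]),
     (11, [(2, 7, 6), (2, 0, 6), (1, 0, 2)]),
     (14, [(2, 7, 6), (2, 0, 6), (1, 0, 2)]),
     (15, [(2, 7, 6), (2, 0, 6), (1, 0, 2)]),
     (17, [(2, 7, 6), (2, 0, 6), (1, 0, 2)]),
     (19, [(2, 7, 6), (2, 0, 6), (1, 0, 2)]),
     (20, [(2, 7, 6), (2, 0, 6), (1, 0, 2)]),
     (21, [(2, 7, 6), (2, 0, 6), (1, 0, 2)]),
     (22, [(2, 7, 6), (2, 0, 6), (1, 0, 2)]),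
     (23, [(2, 7, 6), (2, 0, 6), (1, 0, 2)])]),
  (5,
    [984818244535754528103549039458486304],
    [(0, [(1, 7, 0)]),
     (1, [(2, 8, 7), (2, 0, 7), (1, 0, 2)]),
     (2, [(2, 8, 7), (2, 0, 7), (1, 0, 2)]),
     (3, [(2, 8, 7), (2, 0, 7), (1, 0, 2)]),
     (4, [(2, 8, 7), (2, 0, 7), (1, 0, 2)]),
     (6, [(2, 8, 7), (2, 0, 7), (1, 0, 2)]),
     (7, [(0, 7, 4), (0, 0, 4), (0, 0, 4), (0, 0, 3), (3, 8536111, 5279), (1, 6, 0)]),
     (8, [(2, 8, 7), (2, 0, 7), (1, 0, 2)]),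
     (9, [(2, 8, 7), (2, 0, 7), (1, 0, 2)]),
     (10, [(0, 7, 4), (0, 0, 4), (0, 0, 4), (0, 0, 3), (3, 8536111, 5279), (1, 6, 0)]),
     (11, [(2, 8, 7), (1, 0, 7), (2, 0, 6), (2, 0, 6), (2, 0, 6), (2, 0, 6), (0, 13, 10), (0, 0, 10), (0, 0, 10), (0, 0, 9), (3, 8536111, 4196943), (1, 5, 0)]),
     (12, [(2, 8, 7), (2, 0, 7), (1, 0, 2)]),
     (13, [(2, 8, 7), (2, 0, 7), (1, 0, 2)]),
     (14, [(2, 8, 7), (1, 0, 7), (2, 0, 6), (2, 0, 6), (2, 0, 6), (2, 0, 6), (0, 13, 9), (0, 0, 9), (0, 0, 9), (0, 0, 9), (3, 5275709, 346141), (1, 5, 0)]),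
     (15, [(2, 8, 7), (1, 0, 7), (2, 0, 6), (2, 0, 6), (2, 0, 6), (2, 0, 6), (0, 13, 10), (0, 0, 10), (0, 0, 10), (0, 0, 9), (3, 8536111, 622863), (1, 5, 0)]),
     (16, [(2, 8, 7), (2, 0, 7), (1, 0, 2)]),
     (17, [(2, 8, 7), (1, 0, 7), (2, 0, 6), (2, 0, 6), (2, 0, 6), (2, 0, 6), (0, 13, 9), (0, 0, 9), (0, 0, 9), (0, 0, 9), (3, 5275709, 663645), (1, 5, 0)]),
     (18, [(2, 8, 7), (2, 0, 7), (1, 0, 2)]),
     (19, [(2, 8, 7), (1, 0, 7), (2, 0, 6), (2, 0, 6), (2, 0, 6), (2, 0, 6), (0, 13, 10), (0, 0, 10), (0, 0, 10), (0, 0, 9), (3, 8536111, 622863), (1, 5, 0)]),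
     (20, [(2, 8, 7), (1, 0, 7), (2, 0, 6), (2, 0, 6), (2, 0, 6), (2, 0, 6), (0, 13, 10), (0, 0, 10), (0, 0, 10), (0, 0, 9), (3, 8536111, 3416079), (1, 5, 0)]),
     (21, [(2, 8, 7), (1, 0, 7), (2, 0, 6), (2, 0, 6), (2, 0, 6), (2, 0, 6), (0, 13, 10), (0, 0, 10), (0, 0, 10), (0, 0, 9), (3, 8536111, 3416079), (1, 5, 0)]),
     (22, [(2, 8, 7), (1, 0, 7), (2, 0, 6), (2, 0, 6), (2, 0, 6), (2, 0, 6), (0, 13, 10), (0, 0, 10), (0, 0, 10), (0, 0, 9), (3, 8536111, 4196943), (1, 5, 0)]),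
     (23, [(2, 8, 7), (1, 0, 7), (2, 0, 6), (2, 0, 6), (2, 0, 6), (2, 0, 6), (0, 13, 9), (0, 0, 9), (0, 0, 9), (0, 0, 9), (3, 5275709, 10486557), (1, 5, 0)])])]

/-- Final derivation: H_0. -/
def orbH_0Fin : List (ℕ × ℕ × ℕ) := [(2, 8, 7), (1, 0, 7), (2, 1, 8), (2, 1, 7), (2, 0, 7), (2, 0, 7), (2, 0, 7), (2, 4, 7), (0, 15, 12), (0, 0, 12), (0, 0, 12), (0, 0, 11), (3, 8536111, 8536111), (1, 5, 0), (2, 6, 1), (0, 22, 18), (0, 0, 18), (0, 0, 18), (0, 0, 18), (3, 5275709, 5275709), (1, 5, 0), (2, 6, 1), (0, 1, 26), (0, 0, 26), (3, 7438406, 7438406), (1, 18, 0), (2, 19, 1), (1, 5, 2), (2, 6, 3), (0, 3, 36), (0, 0, 33), (0, 0, 33), (3, 9506893, 9506893), (1, 19, 0), (2, 20, 1), (1, 14, 2), (2, 15, 3), (1, 10, 4), (2, 11, 5), (0, 46, 40), (0, 0, 12), (0, 0, 7), (0, 0, 6), (3, 11575377, 11575377), (1, 18, 0), (2, 19, 1), (1, 9, 2), (2, 10, 3), (1, 9, 4), (2, 10, 5), (0, 54,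 51), (0, 0, 23), (0, 0, 16), (0, 0, 8), (3, 4063314, 4063314), (1, 26, 0), (2, 27, 1), (1, 22, 2), (2, 23, 3), (1, 9, 4), (2, 10, 5), (0, 25, 23), (0, 0, 15), (0, 0, 7), (0, 0, 6), (3, 2019456, 2019456), (1, 9, 0), (2, 10, 1), (0, 40, 34), (0, 0, 33), (0, 0, 32), (0, 43, 35), (0, 0, 26), (0, 0, 26), (0, 0, 25), (3, 4038912, 4038912), (1, 15, 0), (2, 16, 1), (0, 7, 32), (3, 11654144, 11654144), (1, 12, 0), (2, 13, 1)]

theorem card_orbH_0 : Nat.card (fixMasks [340831, 340831, 1]) = 7920 := by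
  rw [card_fixMasks (L := orbH_0Levels) (fin := orbH_0Fin) (by decide +kernel)]; decide +kernel

/-- Transversals and refutations: H_1. -/
def orbH_1Levels : List Level := [
  (1,
    [984818244535754528103549039458486304,
     983549310955746530506231437997410400,
     942050949324606012089488517999135104],
    [(0, [(1, 3, 0)]),
     (2, [(2, 4, 3), (1, 0, 3), (1, 0, 3), (1, 0, 3)]),
     (4, [(2, 4, 3), (1, 0, 3), (1, 0, 3), (1, 0, 3)]),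
     (5, [(2, 4, 3), (1, 0, 3), (1, 0, 3), (1, 0, 3)]),
     (6, [(2, 4, 3), (1, 0, 3), (1, 0, 3), (1, 0, 3)]),
     (7, [(2, 4, 3), (1, 0, 3), (1, 0, 3), (1, 0, 3)]),
     (8, [(2, 4, 3), (1, 0, 3), (1, 0, 3), (1, 0, 3)]),
     (9, [(2, 4, 3), (1, 0, 3), (1, 0, 3), (1, 0, 3)]),
     (10, [(2, 4, 3), (1, 0, 3), (1, 0, 3), (1, 0, 3)]),
     (11, [(2, 4, 3), (1, 0, 3), (1, 0, 3), (1, 0, 3)]),
     (13, [(2, 4, 3), (1, 0, 3), (1, 0, 3), (1, 0, 3)]),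
     (14, [(2, 4, 3), (1, 0, 3), (1, 0, 3), (1, 0, 3)]),
     (15, [(2, 4, 3), (1, 0, 3), (1, 0, 3), (1, 0, 3)]),
     (16, [(2, 4, 3), (1, 0, 3), (1, 0, 3), (1, 0, 3)]),
     (17, [(2, 4, 3), (1, 0, 3), (1, 0, 3), (1, 0, 3)]),
     (18, [(2, 4, 3), (1, 0, 3), (1, 0, 3), (1, 0, 3)]),
     (19, [(2, 4, 3), (1, 0, 3), (1, 0, 3), (1, 0, 3)]),
     (20, [(2, 4, 3), (1, 0, 3), (1, 0, 3), (1, 0, 3)]),
     (21, [(2, 4, 3), (1, 0, 3), (1, 0, 3), (1, 0, 3)]),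
     (22, [(2, 4, 3), (1, 0, 3), (1, 0, 3), (1, 0, 3)]),
     (23, [(2, 4, 3), (1, 0, 3), (1, 0, 3), (1, 0, 3)])]),
  (2,
    [984818244535754528103549039458486304,
     944576703234065857180591671912828960,
     892678979062015973796382123298789408,
     651282396854002459103630181277245472,
     892719306154393014912194512563577888,
     944326977132319820570357567894696992,
     984574657262612311324662570656612384,
     651249440069770165527960730430720032],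
    [(0, [(1, 4, 0)]),
     (1, [(2, 5, 4), (1, 0, 4), (2, 0, 4), (1, 0, 3)]),
     (3, [(2, 5, 4), (1, 0, 4), (2, 0, 4), (1, 0, 3)]),
     (5, [(2, 5, 4), (1, 0, 4), (2, 0, 4), (1, 0, 3)]),
     (7, [(2, 5, 4), (1, 0, 4), (2, 0, 4), (1, 0, 3)]),
     (10, [(2, 5, 4), (1, 0, 4), (2, 0, 4), (1, 0, 3)]),
     (11, [(2, 5, 4), (1, 0, 4), (2, 0, 4), (1, 0, 3)]),
     (12, [(2, 5, 4), (1, 0, 4), (2, 0, 4), (1, 0, 3)]),
     (14, [(2, 5, 4), (1, 0, 4), (2, 0, 4), (1, 0, 3)]),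
     (15, [(2, 5, 4), (1, 0, 4), (2, 0, 4), (1, 0, 3)]),
     (17, [(2, 5, 4), (1, 0, 4), (2, 0, 4), (1, 0, 3)]),
     (19, [(2, 5, 4), (1, 0, 4), (2, 0, 4), (1, 0, 3)]),
     (20, [(2, 5, 4), (1, 0, 4), (2, 0, 4), (1, 0, 3)]),
     (21, [(2, 5, 4), (1, 0, 4), (2, 0, 4), (1, 0, 3)]),
     (22, [(2, 5, 4), (1, 0, 4), (2, 0, 4), (1, 0, 3)]),
     (23, [(2, 5, 4), (1, 0, 4), (2, 0, 4), (1, 0, 3)])]),
  (3,
    [984818244535754528103549039458486304,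
     944569772236290697579231267829188640],
    [(0, [(1, 5, 0)]),
     (1, [(1, 2, 0)]),
     (2, [(2, 6, 5), (1, 0, 5), (1, 0, 5), (2, 0, 5), (1, 0, 4)]),
     (4, [(2, 6, 5), (1, 0, 5), (1, 0, 5), (2, 0, 5), (1, 0, 4)]),
     (5, [(2, 6, 5), (2, 0, 5), (1, 0, 5), (1, 0, 3)]),
     (6, [(2, 6, 5), (1, 0, 5), (1, 0, 5), (2, 0, 5), (1, 0, 4)]),
     (7, [(2, 6, 5), (2, 0, 5), (1, 0, 5), (1, 0, 3)]),
     (8, [(2, 6, 5), (1, 0, 5), (1, 0, 5), (2, 0, 5), (1, 0, 4)]),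
     (9, [(2, 6, 5), (1, 0, 5), (1, 0, 5), (2, 0, 5), (1, 0, 4)]),
     (10, [(2, 6, 5), (2, 0, 5), (1, 0, 5), (1, 0, 3)]),
     (11, [(2, 6, 5), (2, 0, 5), (1, 0, 5), (1, 0, 3)]),
     (13, [(2, 6, 5), (1, 0, 5), (1, 0, 5), (2, 0, 5), (1, 0, 4)]),
     (14, [(2, 6, 5), (2, 0, 5), (1, 0, 5), (1, 0, 3)]),
     (15, [(2, 6, 5), (2, 0, 5), (2, 0, 5), (1, 0, 3)]),
     (16, [(2, 6, 5), (1, 0, 5), (1, 0, 5), (2, 0, 5), (1, 0, 4)]),
     (17, [(2, 6, 5), (2, 0, 5), (1, 0, 5), (1, 0, 3)]),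
     (18, [(2, 6, 5), (1, 0, 5), (1, 0, 5), (2, 0, 5), (1, 0, 4)]),
     (19, [(2, 6, 5), (2, 0, 5), (1, 0, 5), (1, 0, 3)]),
     (20, [(2, 6, 5), (2, 0, 5), (1, 0, 5), (1, 0, 3)]),
     (21, [(2, 6, 5), (2, 0, 5), (2, 0, 5), (1, 0, 3)]),
     (22, [(2, 6, 5), (2, 0, 5), (2, 0, 5), (1, 0, 3)]),
     (23, [(2, 6, 5), (2, 0, 5), (2, 0, 5), (1, 0, 3)])]),
  (5,
    [984818244535754528103549039458486304],
    [(0, [(1, 6, 0)]),
     (1, [(2, 7, 6), (2, 0, 6), (1, 0, 6), (1, 0, 3)]),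
     (2, [(2, 7, 6), (2, 0, 6), (1, 0, 6), (1, 0, 3)]),
     (3, [(2, 7, 6), (2, 0, 6), (1, 0, 6), (1, 0, 3)]),
     (4, [(2, 7, 6), (2, 0, 6), (1, 0, 6), (1, 0, 3)]),
     (6, [(2, 7, 6), (2, 0, 6), (1, 0, 6), (1, 0, 3)]),
     (7, [(2, 7, 6), (1, 0, 6), (1, 0, 6), (2, 0, 6), (2, 0, 5), (0, 8, 7), (0, 0, 7), (0, 0, 2), (0, 0, 8), (3, 4526126, 5279), (1, 16, 0)]),
     (8, [(2, 7, 6), (2, 0, 6), (1, 0, 6), (1, 0, 3)]),
     (9, [(2, 7, 6), (2, 0, 6), (1, 0, 6), (1, 0, 3)]),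
     (10, [(2, 7, 6), (1, 0, 6), (1, 0, 6), (2, 0, 6), (2, 0, 5), (0, 8, 7), (0, 0, 7), (0, 0, 2), (0, 0, 8), (3, 4526126, 5279), (1, 16, 0)]),
     (11, [(2, 7, 6), (1, 0, 6), (1, 0, 6), (2, 1, 7), (2, 1, 7), (2, 1, 7), (2, 1, 7), (0, 10, 9), (0, 0, 9), (0, 0, 2), (0, 0, 10), (3, 4526126, 1103886), (1, 6, 0)]),
     (12, [(2, 7, 6), (2, 0, 6), (1, 0, 6), (1, 0, 3)]),
     (13, [(2, 7, 6), (2, 0, 6), (1, 0, 6), (1, 0, 3)]),
     (14, [(2, 7, 6), (1, 0, 6), (1, 0, 6), (2, 1, 7), (2, 1, 7), (2, 1, 7), (2, 1, 7), (0, 10, 9), (0, 0, 9), (0, 0, 2), (0, 0, 10), (3, 4526126, 1103886), (1, 6, 0)]),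
     (15, [(2, 7, 6), (2, 0, 6), (1, 0, 6), (1, 0, 3)]),
     (16, [(2, 7, 6), (2, 0, 6), (1, 0, 6), (1, 0, 3)]),
     (17, [(2, 7, 6), (1, 0, 6), (2, 1, 7), (1, 1, 7), (2, 2, 8), (2, 2, 9), (2, 2, 9), (2, 2, 9), (2, 1, 9), (0, 12, 11), (0, 0, 11), (0, 0, 2), (0, 0, 12), (3, 4526126, 2232654), (1, 8, 0), (2, 9, 1), (2, 8, 2), (0, 23, 20), (0, 0, 20), (0, 0, 20), (0, 0, 20), (3, 8536111, 8536111), (2, 6, 0), (0, 0, 26), (0, 0, 24), (0, 0, 10), (3, 6594610, 6979970), (1, 10, 0)]),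
     (18, [(2, 7, 6), (2, 0, 6), (1, 0, 6), (1, 0, 3)]),
     (19, [(2, 7, 6), (2, 0, 6), (1, 0, 6), (2, 0, 3), (0, 10, 7), (0, 0, 7), (0, 0, 7), (0, 0, 7), (3, 8536111, 622863), (1, 5, 0)]),
     (20, [(2, 7, 6), (1, 0, 6), (1, 0, 6), (2, 1, 7), (2, 1, 7), (2, 1, 7), (2, 1, 7), (0, 10, 9), (0, 0, 9), (0, 0, 2), (0, 0, 10), (3, 4526126, 1103886), (1, 6, 0)]),
     (21, [(2, 7, 6), (2, 0, 6), (1, 0, 6), (1, 0, 3)]),
     (22, [(2, 7, 6), (2, 0, 6), (1, 0, 6), (1, 0, 3)]),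
     (23, [(2, 7, 6), (2, 0, 6), (1, 0, 6), (1, 0, 3)])])]

/-- Final derivation: H_1. -/
def orbH_1Fin : List (ℕ × ℕ × ℕ) := [(2, 7, 6), (1, 0, 6), (2, 1, 7), (1, 1, 7), (2, 2, 8), (1, 2, 9), (2, 3, 10), (2, 3, 10), (2, 3, 10), (2, 1, 10), (2, 4, 10), (0, 14, 13), (0, 0, 13), (0, 0, 3), (0, 0, 14), (3, 4526126, 4526126), (1, 9, 0), (2, 10, 1), (1, 9, 2), (2, 10, 3), (0, 26, 23), (0, 0, 23), (0, 0, 23), (0, 0, 23), (3, 8536111, 8536111), (1, 14, 0), (2, 15, 1), (1, 9, 2), (2, 10, 3), (0, 0, 32), (0, 0, 30), (0, 0, 14), (3, 6594610, 6594610), (1, 14, 0), (2, 15, 1), (1, 15, 2), (2, 16, 3), (0, 25, 27), (0, 0, 38), (0, 0, 11), (3, 11538486, 11538486), (1, 14, 0), (2, 15, 1), (1, 14, 2), (2, 15, 3), (1, 9, 4), (2, 10, 5), (0, 43, 47), (0, 0, 3), (3, 692282, 692282), (1, 24, 0), (2, 25, 1), (1, 9, 2), (2, 10, 3), (0, 37, 26), (0, 0, 21), (0, 0, 12), (0, 0, 12), (3, 15515712,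 15515712), (1, 22, 0), (2, 23, 1), (0, 51, 27), (0, 0, 20), (0, 0, 18), (0, 0, 13), (3, 2019456, 2019456), (1, 12, 0), (2, 13, 1), (0, 49, 26), (0, 0, 25), (0, 0, 25), (3, 4038912, 4038912), (1, 11, 0), (2, 12, 1), (0, 64, 46), (0, 0, 40), (0, 0, 34), (0, 0, 33), (3, 11654144, 11654144), (1, 11, 0), (2, 12, 1)]

theorem card_orbH_1 : Nat.card (fixMasks [1727659, 340831, 1]) = 48 := by
  rw [card_fixMasks (L := orbH_1Levels) (fin := orbH_1Fin) (by decide +kernel)]; decide +kernel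

/-- Transversals and refutations: H_2. -/
def orbH_2Levels : List Level := [
  (1,
    [984818244535754528103549039458486304,
     982224155767909524168889505747699904,
     840735798521748337912373881810783488,
     939388961956203782786776643684864288,
     799196191671016786715252016775574080],
    [(0, [(1, 3, 0)]),
     (2, [(2, 4, 3), (1, 0, 3), (1, 0, 3), (1, 0, 3)]),
     (3, [(2, 4, 3), (1, 0, 3), (1, 0, 3), (1, 0, 3)]),
     (4, [(2, 4, 3), (1, 0, 3), (1, 0, 3), (1, 0, 3)]),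
     (5, [(2, 4, 3), (1, 0, 3), (2, 0, 3), (1, 0, 3)]),
     (7, [(2, 4, 3), (1, 0, 3), (2, 0, 3), (1, 0, 3)]),
     (10, [(2, 4, 3), (1, 0, 3), (2, 0, 3), (1, 0, 3)]),
     (11, [(2, 4, 3), (1, 0, 3), (2, 0, 3), (1, 0, 3)]),
     (12, [(2, 4, 3), (1, 0, 3), (1, 0, 3), (1, 0, 3)]),
     (13, [(2, 4, 3), (1, 0, 3), (1, 0, 3), (1, 0, 3)]),
     (14, [(2, 4, 3), (1, 0, 3), (2, 0, 3), (1, 0, 3)]),
     (15, [(2, 4, 3), (1, 0, 3), (2, 0, 3), (1, 0, 3)]),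
     (16, [(2, 4, 3), (1, 0, 3), (1, 0, 3), (3, 2207772, 2207772), (1, 4, 0)]),
     (17, [(2, 4, 3), (1, 0, 3), (2, 0, 3), (1, 0, 3)]),
     (19, [(2, 4, 3), (1, 0, 3), (2, 0, 3), (1, 0, 3)]),
     (20, [(2, 4, 3), (1, 0, 3), (2, 0, 3), (1, 0, 3)]),
     (21, [(2, 4, 3), (1, 0, 3), (2, 0, 3), (1, 0, 3)]),
     (22, [(2, 4, 3), (1, 0, 3), (2, 0, 3), (1, 0, 3)]),
     (23, [(2, 4, 3), (1, 0, 3), (2, 0, 3), (1, 0, 3)])]),
  (2,
    [984818244535754528103549039458486304,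
     944576703234065857180591671912828960],
    [(0, [(1, 4, 0)]),
     (1, [(2, 5, 4), (1, 0, 4), (1, 0, 4), (1, 0, 3)]),
     (3, [(2, 5, 4), (1, 0, 4), (2, 1, 5), (1, 1, 5), (2, 2, 6), (1, 2, 7), (2, 3, 8), (2, 2, 8), (7, 2207772, 2207772), (1, 3, 0), (2, 4, 1), (1, 4, 2), (1, 4, 3), (2, 5, 4), (0, 18, 14), (0, 0, 5), (0, 0, 4), (0, 0, 4), (3, 10846245, 3246601), (1, 8, 0), (2, 9, 1), (1, 7, 2), (0, 23, 22), (0, 0, 11), (0, 0, 11), (0, 0, 5), (3, 2826278, 10554382), (1, 6, 0), (0, 32, 15), (0, 0, 9), (0, 0, 8), (0, 0, 3), (3, 2031657, 69395), (1, 34, 0)]),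
     (5, [(2, 5, 4), (1, 0, 4), (1, 0, 4), (1, 0, 3)]),
     (6, [(2, 5, 4), (1, 0, 4), (1, 0, 4), (1, 0, 3)]),
     (7, [(2, 5, 4), (1, 0, 4), (1, 0, 4), (1, 0, 3)]),
     (8, [(2, 5, 4), (1, 0, 4), (1, 0, 4), (1, 0, 3)]),
     (9, [(2, 5, 4), (1, 0, 4), (1, 0, 4), (1, 0, 3)]),
     (10, [(2, 5, 4), (1, 0, 4), (1, 0, 4), (1, 0, 3)]),
     (11, [(2, 5, 4), (1, 0, 4), (1, 0, 4), (1, 0, 3)]),
     (12, [(2, 5, 4), (1, 0, 4), (2, 1, 5), (1, 1, 5), (2, 2, 6), (1, 2, 7), (2, 3, 8), (2, 2, 8), (7, 2207772, 2207772), (1, 3, 0), (2, 4, 1), (1, 4, 2), (1, 4, 3), (2, 5, 4), (0, 18, 14), (0, 0, 5), (0, 0, 4), (0, 0, 4), (3, 10846245, 2854977), (1, 8, 0), (2, 9, 1), (1, 7, 2), (0, 23, 22), (0, 0, 11), (0, 0, 11), (0, 0, 5), (3, 2826278, 6493202), (1, 6, 0), (0, 32, 15), (0, 0, 9), (0, 0, 8), (0, 0, 3), (3, 2031657, 459847), (1, 34, 0)]),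
     (13, [(2, 5, 4), (1, 0, 4), (2, 1, 5), (1, 1, 5), (2, 2, 6), (1, 2, 7), (2, 3, 8), (2, 2, 8), (7, 2207772, 2207772), (1, 3, 0), (1, 3, 1), (1, 3, 2), (0, 16, 12), (0, 0, 3), (0, 0, 3), (0, 0, 3), (3, 10846245, 2204803), (1, 18, 0)]),
     (14, [(2, 5, 4), (1, 0, 4), (1, 0, 4), (1, 0, 3)]),
     (15, [(2, 5, 4), (1, 0, 4), (1, 0, 4), (1, 0, 3)]),
     (16, [(2, 5, 4), (1, 0, 4), (1, 0, 4), (1, 0, 3)]),
     (17, [(2, 5, 4), (1, 0, 4), (1, 0, 4), (1, 0, 3)]),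
     (18, [(2, 5, 4), (1, 0, 4), (1, 0, 4), (1, 0, 3)]),
     (19, [(2, 5, 4), (1, 0, 4), (1, 0, 4), (1, 0, 3)]),
     (20, [(2, 5, 4), (1, 0, 4), (1, 0, 4), (1, 0, 3)]),
     (21, [(2, 5, 4), (1, 0, 4), (1, 0, 4), (1, 0, 3)]),
     (22, [(2, 5, 4), (1, 0, 4), (1, 0, 4), (1, 0, 3)]),
     (23, [(2, 5, 4), (1, 0, 4), (1, 0, 4), (1, 0, 3)])])]

/-- Final derivation: H_2. -/
def orbH_2Fin : List (ℕ × ℕ × ℕ) := [(2, 5, 4), (1, 0, 4), (2, 1, 5), (1, 1, 5), (2, 2, 6), (1, 2, 7), (2, 3, 8), (2, 2, 8), (2, 4, 8), (8, 2207772, 2207772), (1, 4, 0), (2, 5, 1), (1, 5, 2), (2, 6, 3), (1, 6, 4), (2, 7, 5), (0, 20, 16), (0, 0, 6), (0, 0, 5), (0, 0, 4), (3, 10846245, 10846245), (1, 9, 0), (2, 10, 1), (1, 9, 2), (2, 10, 3), (1, 9, 4), (2, 10, 5), (0, 28, 27), (0, 0, 15), (0, 0, 14), (0, 0, 8), (3, 2826278, 2826278), (1, 23, 0), (2, 24, 1), (1, 11, 2), (2, 12, 3), (1, 11, 4), (2, 12,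 5), (0, 42, 23), (0, 0, 17), (0, 0, 14), (0, 0, 6), (3, 2031657, 2031657), (1, 9, 0), (2, 10, 1), (1, 7, 2), (2, 8, 3), (0, 47, 36), (0, 0, 26), (0, 0, 23), (0, 0, 17), (3, 843820, 843820), (1, 16, 0), (2, 17, 1), (0, 26, 39), (0, 0, 33), (0, 0, 30), (3, 4526126, 4526126), (1, 13, 0), (2, 14, 1), (1, 13, 2), (2, 14, 3), (0, 51, 49), (0, 0, 39), (0, 0, 38), (0, 0, 28), (3, 15515712, 15515712), (1, 40, 0), (2, 41, 1), (0, 6, 54), (0, 0, 44), (0, 0, 38), (3, 4038912, 4038912), (1, 4, 0), (2, 5, 1), (0, 5, 51), (0, 0, 30), (3, 11654144, 11654144), (1, 24, 0), (2, 25, 1)]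

theorem card_orbH_2 : Nat.card (fixMasks [195645, 340831, 1]) = 10 := by
  rw [card_fixMasks (L := orbH_2Levels) (fin := orbH_2Fin) (by decide +kernel)]; decide +kernel

/-- Transversals and refutations: H_3. -/
def orbH_3Levels : List Level := [
  (1,
    [984818244535754528103549039458486304,
     901822542813354591381483251612879232,
     230677849259001266017366822915187200,
     819800670950815639079421689972824640],
    [(0, [(1, 3, 0)]),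
     (2, [(2, 4, 3), (1, 0, 3), (1, 0, 3), (1, 0, 3)]),
     (3, [(2, 4, 3), (1, 0, 3), (1, 0, 3), (1, 0, 3)]),
     (4, [(2, 4, 3), (1, 0, 3), (1, 0, 3), (1, 0, 3)]),
     (5, [(2, 4, 3), (1, 0, 3), (2, 0, 3), (1, 0, 3)]),
     (6, [(2, 4, 3), (1, 0, 3), (1, 0, 3), (1, 0, 3)]),
     (7, [(2, 4, 3), (1, 0, 3), (2, 0, 3), (1, 0, 3)]),
     (8, [(2, 4, 3), (1, 0, 3), (1, 0, 3), (1, 0, 3)]),
     (9, [(2, 4, 3), (1, 0, 3), (1, 0, 3), (1, 0, 3)]),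
     (10, [(2, 4, 3), (1, 0, 3), (2, 0, 3), (1, 0, 3)]),
     (11, [(2, 4, 3), (1, 0, 3), (2, 0, 3), (1, 0, 3)]),
     (13, [(2, 4, 3), (1, 0, 3), (1, 0, 3), (1, 0, 3)]),
     (14, [(2, 4, 3), (1, 0, 3), (2, 0, 3), (1, 0, 3)]),
     (15, [(2, 4, 3), (1, 0, 3), (2, 0, 3), (1, 0, 3)]),
     (17, [(2, 4, 3), (1, 0, 3), (2, 0, 3), (1, 0, 3)]),
     (19, [(2, 4, 3), (1, 0, 3), (2, 0, 3), (1, 0, 3)]),
     (20, [(2, 4, 3), (1, 0, 3), (2, 0, 3), (1, 0, 3)]),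
     (21, [(2, 4, 3), (1, 0, 3), (2, 0, 3), (1, 0, 3)]),
     (22, [(2, 4, 3), (1, 0, 3), (2, 0, 3), (1, 0, 3)]),
     (23, [(2, 4, 3), (1, 0, 3), (2, 0, 3), (1, 0, 3)])]),
  (2,
    [984818244535754528103549039458486304,
     735500604421669808992593446508235808,
     736804383017876510902232875427862560,
     936140533522044042177323534200905760,
     978320980801228321302614373466121248,
     943922561094339879383119455137772576],
    [(0, [(1, 4, 0)]),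
     (1, [(2, 5, 4), (1, 0, 4), (1, 0, 4), (1, 0, 3)]),
     (4, [(2, 5, 4), (1, 0, 4), (2, 0, 4), (2, 0, 4), (0, 0, 8), (0, 0, 6), (3, 1413139, 1413139), (1, 7, 0)]),
     (5, [(2, 5, 4), (1, 0, 4), (1, 0, 4), (1, 0, 3)]),
     (7, [(2, 5, 4), (1, 0, 4), (1, 0, 4), (1, 0, 3)]),
     (10, [(2, 5, 4), (1, 0, 4), (1, 0, 4), (1, 0, 3)]),
     (11, [(2, 5, 4), (1, 0, 4), (1, 0, 4), (1, 0, 3)]),
     (12, [(2, 5, 4), (1, 0, 4), (1, 0, 4), (1, 0, 3)]),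
     (14, [(2, 5, 4), (1, 0, 4), (1, 0, 4), (1, 0, 3)]),
     (15, [(2, 5, 4), (1, 0, 4), (1, 0, 4), (1, 0, 3)]),
     (16, [(2, 5, 4), (1, 0, 4), (1, 0, 4), (1, 0, 3)]),
     (17, [(2, 5, 4), (1, 0, 4), (1, 0, 4), (1, 0, 3)]),
     (18, [(2, 5, 4), (1, 0, 4), (1, 0, 4), (1, 0, 3)]),
     (19, [(2, 5, 4), (1, 0, 4), (1, 0, 4), (1, 0, 3)]),
     (20, [(2, 5, 4), (1, 0, 4), (1, 0, 4), (1, 0, 3)]),
     (21, [(2, 5, 4), (1, 0, 4), (1, 0, 4), (1, 0, 3)]),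
     (22, [(2, 5, 4), (1, 0, 4), (1, 0, 4), (1, 0, 3)]),
     (23, [(2, 5, 4), (1, 0, 4), (1, 0, 4), (1, 0, 3)])])]

/-- Final derivation: H_3. -/
def orbH_3Fin : List (ℕ × ℕ × ℕ) := [(2, 5, 4), (1, 0, 4), (2, 1, 5), (1, 1, 5), (2, 2, 6), (1, 2, 7), (2, 3, 8), (2, 2, 8), (2, 4, 8), (0, 1, 13), (0, 0, 11), (3, 1413139, 1413139), (1, 5, 0), (2, 6, 1), (1, 5, 2), (2, 6, 3), (0, 11, 16), (3, 4526126, 4526126), (1, 4, 0), (2, 5, 1), (1, 4, 2), (2, 5, 3), (0, 12, 22), (3, 864389, 864389), (1, 18, 0), (2, 19, 1), (1, 6, 2), (2, 7, 3), (1, 6, 4), (2, 7, 5), (0, 17, 9), (0, 0, 6), (0, 0, 3), (3, 7397512, 7397512), (1, 15, 0), (2, 16, 1), (1, 10, 2), (2, 11, 3), (1, 10, 4), (2, 11, 5), (0, 41, 19), (0, 0, 16), (0, 0, 15), (0, 0, 4), (3, 3739786, 3739786), (1, 37, 0), (2, 38, 1), (1, 34, 2), (2, 35, 3), (0, 49, 28), (0, 0, 25), (0, 0, 14), (0, 0, 13), (3, 10768524, 10768524),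 (1, 14, 0), (2, 15, 1), (1, 10, 2), (2, 11, 3), (0, 33, 23), (0, 0, 20), (0, 0, 12), (0, 0, 6), (3, 15864000, 15864000), (1, 33, 0), (2, 34, 1), (0, 38, 36), (0, 0, 27), (0, 0, 20), (0, 0, 20), (3, 4038912, 4038912), (1, 5, 0), (2, 6, 1), (0, 35, 33), (0, 0, 25), (0, 0, 25), (0, 0, 20), (3, 11654144, 11654144), (1, 39, 0), (2, 40, 1)]

theorem card_orbH_3 : Nat.card (fixMasks [28637, 340831, 1]) = 24 := by
  rw [card_fixMasks (L := orbH_3Levels) (fin := orbH_3Fin) (by decide +kernel)]; decide +kernel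

end CfsgLib.Golay
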