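import Cfsg.Agent.Lib.Golay.MatrixElement
import Cfsg.Agent.Lib.Golay.Co0HSGroup
import Cfsg.Agent.Lib.Golay.Chain

/-!
# Certificates for orbits of lattice vectors

A lattice vector with entries in `[-8, 7]` is packed into a natural number, four bits for each
coordinate. An orbit certificate is a search tree of records `(key, generator, parent key)` with
`key = vector * 256 + depth`; each record other than the root is reached from a record of smaller
depth by a generator that is either an encoded permutation or a checked matrix.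
-/

set_option autoImplicit false
set_option maxRecDepth 100000

namespace CfsgLib.Golay.OrbitTree

open Cfsg CfsgLib.Golay
open scoped Pointwise

/-- The digit of index `i`. -/
def dig (n i : ℕ) : ℕ := Nat.land (Nat.shiftRight n (Nat.mul 4 i)) 15

/-- The vector of a packed number. -/
def decV (n : ℕ) : GolayPt → ℤ := fun p => (dig n (idx p) : ℤ) - 8

theorem decV_inj {m n : ℕ} (hm : m < 2 ^ 96) (hn : n < 2 ^ 96) (h : decV m = decV n) : m = n := by
  refine Nat.eq_of_testBit_eq fun j => ?_
  by_cases hj : j < 96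
  · have e := congrFun h (pt (j / 4))
    simp only [decV, idx_pt (show j / 4 < 24 by omega), sub_left_inj, Nat.cast_inj] at e
    have : ∀ a : ℕ, (dig a (j / 4)).testBit (j % 4) = a.testBit j := fun a => by
      show ((a >>> (4 * (j / 4))) &&& 15).testBit (j % 4) = _
      rw [Nat.testBit_land, Nat.testBit_shiftRight, Nat.div_add_mod, show (15 : ℕ) = 2 ^ 4 - 1 from rfl,
        Nat.testBit_two_pow_sub_one]
      simp [Nat.mod_lt]
    rw [← this m, ← this n, e]
  · rw [Nat.testBit_lt_two_pow (lt_of_lt_of_le hm (Nat.pow_le_pow_right (by norm_num) (by omega))),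
      Nat.testBit_lt_two_pow (lt_of_lt_of_le hn (Nat.pow_le_pow_right (by norm_num) (by omega)))]

/-- A search tree of records. -/
inductive T where
  | l : T
  | n : T → ℕ → ℕ → ℕ → T → T

/-- All records satisfy the test. -/
def T.allR (p : ℕ → ℕ → ℕ → Bool) : T → Bool
  | .l => true
  | .n a k g q b => a.allR p && p k g q && b.allR p

/-- The record is in the tree. -/
def T.mem (k g q : ℕ) : T → Prop
  | .l => False
  | .n a k' g' q' b => a.mem k g q ∨ (k = k' ∧ g = g' ∧ q = q') ∨ b.mem k g q

/-- Search for a key. -/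
def T.has (x : ℕ) : T → Bool
  | .l => false
  | .n a k _ _ b => bif Nat.beq x k then true else bif Nat.ble x k then a.has x else b.has x

/-- Number of records. -/
def T.size : T → ℕ
  | .l => 0
  | .n a _ _ _ b => a.size + b.size + 1

/-- The vectors of the records increase strictly inside `[lo, hi)`. -/
def T.incr : T → ℕ → ℕ → Bool
  | .l, _, _ => true
  | .n a k _ _ b, lo, hi =>
    let v := Nat.shiftRight k 8
    Nat.ble lo v && Nat.blt v hi && a.incr lo v && b.incr (v + 1) hi

/-- The vectors of the records. -/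
def T.vals : T → Finset ℕ
  | .l => ∅
  | .n a k _ _ b => a.vals ∪ {Nat.shiftRight k 8} ∪ b.vals

theorem T.allR_iff {p : ℕ → ℕ → ℕ → Bool} : ∀ {t : T},
    t.allR p = true ↔ ∀ k g q, t.mem k g q → p k g q = true
  | .l => by simp [T.allR, T.mem]
  | .n a k g q b => by
    simp only [T.allR, T.mem, Bool.and_eq_true, T.allR_iff (t := a), T.allR_iff (t := b)]
    exact ⟨fun ⟨⟨h1, h2⟩, h3⟩ k' g' q' h => by
        rcases h with h | ⟨rfl, rfl, rfl⟩ | h
        · exact h1 _ _ _ h
        · exact h2
        · exact h3 _ _ _ h,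
      fun h => ⟨⟨fun k' g' q' h' => h _ _ _ (Or.inl h'), h _ _ _ (Or.inr (Or.inl ⟨rfl, rfl, rfl⟩))⟩,
        fun k' g' q' h' => h _ _ _ (Or.inr (Or.inr h'))⟩⟩

theorem T.allR_node {p : ℕ → ℕ → ℕ → Bool} {a b : T} {k g q : ℕ} (ha : a.allR p = true)
    (hk : p k g q = true) (hb : b.allR p = true) : (T.n a k g q b).allR p = true := by
  simp only [T.allR, ha, hk, hb, Bool.and_self]

theorem T.has_sound {x : ℕ} : ∀ {t : T}, t.has x = true → ∃ g q, t.mem x g q
  | .l, h => by simp [T.has] at h
  | .n a k g q b, h => by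
    simp only [T.has] at h
    cases h1 : Nat.beq x k
    · rw [h1, cond_false] at h
      cases h2 : Nat.ble x k
      · rw [h2, cond_false] at h
        obtain ⟨g', q', h'⟩ := T.has_sound h
        exact ⟨g', q', Or.inr (Or.inr h')⟩
      · rw [h2, cond_true] at h
        obtain ⟨g', q', h'⟩ := T.has_sound h
        exact ⟨g', q', Or.inl h'⟩
    · exact ⟨g, q, Or.inr (Or.inl ⟨Nat.eq_of_beq_eq_true h1, rfl, rfl⟩)⟩

theorem T.incr_spec : ∀ {t : T} {lo hi : ℕ}, t.incr lo hi = true →
    (∀ v ∈ t.vals, lo ≤ v ∧ v < hi) ∧ t.vals.card = t.size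
  | .l, lo, hi, _ => by simp [T.vals, T.size]
  | .n a k g q b, lo, hi, h => by
    simp only [T.incr, Bool.and_eq_true] at h
    obtain ⟨⟨⟨h1, h2⟩, ha⟩, hb⟩ := h
    have h1' := Nat.le_of_ble_eq_true h1
    have h2' : Nat.shiftRight k 8 < hi := Nat.le_of_ble_eq_true h2
    obtain ⟨ra, ca⟩ := T.incr_spec ha
    obtain ⟨rb, cb⟩ := T.incr_spec hb
    refine ⟨fun v hv => ?_, ?_⟩
    · simp only [T.vals, Finset.mem_union, Finset.mem_singleton] at hv
      rcases hv with (hv | rfl) | hv
      · have := ra v hv; omega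
      · omega
      · have := rb v hv; omega
    · simp only [T.vals, T.size]
      rw [Finset.card_union_of_disjoint, Finset.card_union_of_disjoint, Finset.card_singleton, ca, cb]
      · omega
      · rw [Finset.disjoint_singleton_right]
        exact fun h => absurd (ra _ h).2 (lt_irrefl _)
      · rw [Finset.disjoint_left]
        intro v hv hv'
        have h3 := rb v hv'
        simp only [Finset.mem_union, Finset.mem_singleton] at hv
        rcases hv with hv | rfl
        · have := ra v hv; omega
        · omega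

theorem T.mem_vals : ∀ {t : T} {v : ℕ}, v ∈ t.vals → ∃ k g q, t.mem k g q ∧ Nat.shiftRight k 8 = v
  | .l, v, h => by simp [T.vals] at h
  | .n a k g q b, v, h => by
    simp only [T.vals, Finset.mem_union, Finset.mem_singleton] at h
    rcases h with (h | rfl) | h
    · obtain ⟨k', g', q', h1, h2⟩ := T.mem_vals h; exact ⟨k', g', q', Or.inl h1, h2⟩
    · exact ⟨k, g, q, Or.inr (Or.inl ⟨rfl, rfl, rfl⟩), rfl⟩
    · obtain ⟨k', g', q', h1, h2⟩ := T.mem_vals h; exact ⟨k', g', q', Or.inr (Or.inr h1), h2⟩

/-- `c` is the image of `p` under the generator `g`. -/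
def stepOK (gens : List ℕ) (M : GolayPt → GolayPt → ℤ) (g p c : ℕ) : Bool :=
  bif Nat.blt g gens.length then
    let σ := gens.getD g 0
    (List.range 24).all fun i => Nat.beq (dig c (img σ i)) (dig p i)
  else (List.range 24).all fun i => decide (matFun M (decV p) (pt i) = decV c (pt i))

/-- The test on a record: it is the root, or it is reached from a shallower record. -/
def recOK (gens : List ℕ) (M : GolayPt → GolayPt → ℤ) (top : T) (root : ℕ) (k g q : ℕ) : Bool :=
  (Nat.beq (Nat.shiftRight k 8) root || (Nat.blt (Nat.land q 255) (Nat.land k 255) && top.has q &&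
    stepOK gens M g (Nat.shiftRight q 8) (Nat.shiftRight k 8))) && Nat.blt k (2 ^ 104)

/-- The permutations fixing the points of index `23` and `0`. -/
def gensOK (gens : List ℕ) : Bool :=
  gens.all fun g => inM24 g && Nat.beq (img g 23) 23 && Nat.beq (img g 0) 0

theorem gen_elem {g : ℕ} (h : inM24 g = true) (h23 : img g 23 = 23) (h0 : img g 0 = 0) :
    ∃ σ : M24, σ • pinf = pinf ∧ σ • pz = pz ∧ ∀ i < 24, (σ : Equiv.Perm GolayPt) (pt i) = pt (img g i) :=
  ⟨⟨permOf g, inM24_mem h⟩,
    show permOf g (pt 23) = pt 23 by rw [permOf_pt (inM24_valid h) (by norm_num), h23],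
    show permOf g (pt 0) = pt 0 by rw [permOf_pt (inM24_valid h) (by norm_num), h0],
    fun i hi => permOf_pt (inM24_valid h) hi⟩

/-- Every vector of a checked tree is in the orbit of the root. -/
theorem reach {gens : List ℕ} {M : GolayPt → GolayPt → ℤ} (hg : gensOK gens = true)
    (H : Subgroup Co0)
    (hperm : ∀ σ : M24, σ • pinf = pinf → σ • pz = pz → monoCo0 σ σ.2 ∅ empty_code ∈ H)
    {m : Co0} (hm : m ∈ H) (hmv : ∀ v : leechLattice, ((m • v : leechLattice) : GolayPt → ℤ) = matFun M v)
    {t : T} {root : ℕ} (ht : t.allR (recOK gens M t root) = true) {R : leechLattice}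
    (hR : (R : GolayPt → ℤ) = decV root) :
    ∀ v ∈ t.vals, v < 2 ^ 96 ∧ ∃ h ∈ H, ((h • R : leechLattice) : GolayPt → ℤ) = decV v := by
  rw [T.allR_iff] at ht
  have main : ∀ d k g q, Nat.land k 255 = d → t.mem k g q →
      ∃ h ∈ H, ((h • R : leechLattice) : GolayPt → ℤ) = decV (Nat.shiftRight k 8) := by
    intro d
    induction d using Nat.strong_induction_on with
    | _ d ih =>
      intro k g q hd hk
      have h := ht k g q hk
      simp only [recOK, Bool.and_eq_true, Bool.or_eq_true] at h
      rcases h.1 with h1 | ⟨⟨h1, h2⟩, h3⟩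
      · exact ⟨1, H.one_mem, by rw [one_smul, Nat.eq_of_beq_eq_true h1, hR]⟩
      obtain ⟨g', q', hq⟩ := T.has_sound h2
      have hlt : Nat.land q 255 < d := hd ▸ Nat.le_of_ble_eq_true h1
      obtain ⟨a, ha, e⟩ := ih _ hlt q g' q' rfl hq
      simp only [stepOK] at h3
      cases hb : Nat.blt g gens.length
      · rw [hb, cond_false] at h3
        simp only [List.all_eq_true, List.mem_range, decide_eq_true_iff] at h3
        refine ⟨m * a, mul_mem hm ha, ?_⟩
        rw [mul_smul, hmv, e]
        funext p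
        have := h3 (idx p) (idx_lt p)
        rwa [pt_idx] at this
      · rw [hb, cond_true] at h3
        simp only [List.all_eq_true, List.mem_range] at h3
        have hl : g < gens.length := Nat.le_of_ble_eq_true hb
        have hmem : gens.getD g 0 ∈ gens := by
          rw [List.getD_eq_getElem _ _ hl]; exact List.getElem_mem hl
        simp only [gensOK, List.all_eq_true, Bool.and_eq_true] at hg
        obtain ⟨⟨g1, g2⟩, g3⟩ := hg _ hmem
        obtain ⟨σ, s1, s2, s3⟩ :=
          gen_elem g1 (Nat.eq_of_beq_eq_true g2) (Nat.eq_of_beq_eq_true g3)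
        refine ⟨monoCo0 σ σ.2 ∅ empty_code * a, mul_mem (hperm σ s1 s2) ha, ?_⟩
        rw [mul_smul]
        funext p
        obtain ⟨p, rfl⟩ := (σ : Equiv.Perm GolayPt).surjective p
        rw [perm_apply, e]
        have hi := Nat.eq_of_beq_eq_true (h3 (idx p) (idx_lt p))
        have hs := s3 (idx p) (idx_lt p)
        rw [pt_idx] at hs
        rw [hs]
        have hlt24 : img (gens.getD g 0) (idx p) < 24 := by
          by_contra hne
          have e1 : pt (img (gens.getD g 0) (idx p)) = pt 23 := by
            simp only [pt]; rw [dif_neg (by omega), dif_neg (by omega)]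
          have e2 : idx p = 23 := by
            have := (σ : Equiv.Perm GolayPt).injective ((hs.trans e1).trans s1.symm)
            rw [this]; exact idx_pt (by norm_num)
          rw [e2, Nat.eq_of_beq_eq_true g2] at hne
          omega
        simp only [decV, idx_pt hlt24, hi]
  intro v hv
  obtain ⟨k, g, q, hk, rfl⟩ := T.mem_vals hv
  refine ⟨?_, main _ k g q rfl hk⟩
  have h := ht k g q hk
  simp only [recOK, Bool.and_eq_true] at h
  have : k < 2 ^ 104 := Nat.le_of_ble_eq_true h.2
  show k >>> 8 < _
  rw [Nat.shiftRight_eq_div_pow]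
  omega

/-- A checked tree bounds the orbit of the root from below. -/
theorem size_le_orbit {gens : List ℕ} {M : GolayPt → GolayPt → ℤ} (hg : gensOK gens = true)
    (H : Subgroup Co0)
    (hperm : ∀ σ : M24, σ • pinf = pinf → σ • pz = pz → monoCo0 σ σ.2 ∅ empty_code ∈ H)
    {m : Co0} (hm : m ∈ H) (hmv : ∀ v : leechLattice, ((m • v : leechLattice) : GolayPt → ℤ) = matFun M v)
    {t : T} {root : ℕ} (ht : t.allR (recOK gens M t root) = true) (hi : t.incr 0 (2 ^ 96) = true)
    {R : leechLattice} (hR : (R : GolayPt → ℤ) = decV root) (hfin : (MulAction.orbit H R).Finite) :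
    t.size ≤ (MulAction.orbit H R).ncard := by
  classical
  obtain ⟨-, hc⟩ := T.incr_spec hi
  have hr := reach hg H hperm hm hmv ht hR
  choose f hf hfe using fun v (hv : v ∈ t.vals) => (hr v hv).2
  rw [← hc, ← Set.ncard_coe_finset]
  refine Set.ncard_le_ncard_of_injOn (fun v => if hv : v ∈ t.vals then f v hv • R else R) ?_ ?_ hfin
  · intro v hv
    rw [Finset.mem_coe] at hv
    simp only [dif_pos hv]
    exact ⟨⟨_, hf v hv⟩, rfl⟩
  · intro v hv w hw e
    rw [Finset.mem_coe] at hv hw
    simp only [dif_pos hv, dif_pos hw] at e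
    exact decV_inj (hr v hv).1 (hr w hw).1 (by rw [← hfe v hv, ← hfe w hw, e])

/-- An orbit of a subgroup moved by conjugation. -/
theorem orbit_conj {H K : Subgroup Co0} (g : Co0) (h : ∀ k, k ∈ K ↔ g * k * g⁻¹ ∈ H) (R : leechLattice) :
    MulAction.orbit K (g⁻¹ • R) = (fun y : leechLattice => g⁻¹ • y) '' MulAction.orbit H R := by
  ext y
  constructor
  · rintro ⟨⟨k, hk⟩, rfl⟩
    refine ⟨(g * k * g⁻¹) • R, ⟨⟨_, (h k).1 hk⟩, rfl⟩, ?_⟩
    show g⁻¹ • ((g * k * g⁻¹) • R) = k • g⁻¹ • R
    rw [smul_smul, smul_smul]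
    group
  · rintro ⟨_, ⟨⟨a, ha⟩, rfl⟩, rfl⟩
    have hk : g⁻¹ * a * g ∈ K := by
      rw [h]
      convert ha using 1
      group
    refine ⟨⟨_, hk⟩, ?_⟩
    show (g⁻¹ * a * g) • g⁻¹ • R = g⁻¹ • a • R
    rw [smul_smul, smul_smul]
    group

theorem ncard_orbit_conj {H K : Subgroup Co0} (g : Co0) (h : ∀ k, k ∈ K ↔ g * k * g⁻¹ ∈ H)
    (R : leechLattice) :
    (MulAction.orbit K (g⁻¹ • R)).ncard = (MulAction.orbit H R).ncard := by
  rw [orbit_conj g h, Set.ncard_image_of_injective _ (MulAction.injective g⁻¹)]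

/-- The vectors of sum of squares `32` form a finite set. -/
theorem shell_finite (P : leechLattice → Prop) :
    {y : leechLattice | sqNorm (y : GolayPt → ℤ) = 32 ∧ P y}.Finite :=
  ((finite_norm 32).preimage Subtype.val_injective.injOn).subset fun y hy => ⟨y.2, hy.1⟩

end CfsgLib.Golay.OrbitTree
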