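import Cfsg.Agent.Lib.Golay.M22Index
import Cfsg.Agent.Lib.Golay.Stab
import Cfsg.Agent.S0374

/-!
Overgroups in `M24` of the group of Möbius transformations of the projective line over `ZMod 23`
with square determinant, and of its point stabiliser in `M23`.
-/

set_option autoImplicit false
set_option maxRecDepth 100000

namespace CfsgLib.Golay

open Cfsg CfsgLib.Mathieu
open scoped Pointwise

local instance : Fact (Nat.Prime 23) := ⟨by norm_num⟩

/-- The translation `t ↦ t + 1`. -/
def shiftP : Equiv.Perm GolayPt := Equiv.optionCongr (Equiv.addRight (1 : ZMod 23))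

/-- The squares acting by multiplication. -/
def sqMuls : Set (Equiv.Perm GolayPt) :=
  {g | ∃ u : (ZMod 23)ˣ, IsSquare u ∧ g = Equiv.optionCongr (Units.mulLeft u)}

/-- The Borel subgroup `23:11`. -/
def borel23 : Subgroup (Equiv.Perm GolayPt) := Subgroup.closure ({shiftP} ∪ sqMuls)

/-- The group `PSL(2,23)`. -/
def psl23 : Subgroup (Equiv.Perm GolayPt) := Subgroup.closure ({shiftP, projInv} ∪ sqMuls)

theorem borel_le_psl : borel23 ≤ psl23 :=
  Subgroup.closure_mono (Set.union_subset_union_left _ (by simp))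

theorem shiftP_mem : shiftP ∈ M24 := by
  rw [← Cfsg.Agent.S0374.result]
  exact Subgroup.subset_closure (by simp [shiftP])

theorem projInv_mem : projInv ∈ M24 := by
  rw [← Cfsg.Agent.S0374.result]
  exact Subgroup.subset_closure (by simp)

/-- The code of `t ↦ 2t`. -/
def twoCode : ℕ := 983435072843990828779021698901151808

theorem twoCode_ok : inM24 twoCode = true := by decide +kernel

theorem two_ne : (2 : ZMod 23) ≠ 0 := by decide

/-- The unit two. -/
def two23 : (ZMod 23)ˣ := ⟨2, 12, by decide, by decide⟩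

theorem twoP_mem : (Equiv.optionCongr (Units.mulLeft two23) : Equiv.Perm GolayPt) ∈ M24 := by
  have e : permOf twoCode = (Equiv.optionCongr (Units.mulLeft two23) : Equiv.Perm GolayPt) := by
    refine Equiv.ext fun p => ?_
    rw [permOf_apply (inM24_valid twoCode_ok)]
    revert p; decide +kernel
  exact e ▸ inM24_mem twoCode_ok

theorem mulLeft_pow (u : (ZMod 23)ˣ) (k : ℕ) :
    (Equiv.optionCongr (Units.mulLeft u) : Equiv.Perm GolayPt) ^ k =
      Equiv.optionCongr (Units.mulLeft (u ^ k)) := by
  induction k with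
  | zero => refine Equiv.ext fun p => ?_; cases p <;> simp
  | succ k ih =>
    rw [pow_succ, ih, pow_succ]
    refine Equiv.ext fun p => ?_
    cases p <;> simp [Equiv.Perm.mul_apply, mul_assoc]

theorem square_pow_two : ∀ v : ZMod 23, v ≠ 0 → ∃ k : Fin 11, v * v = 2 ^ k.val := by decide +kernel

theorem sqMuls_eq {g : Equiv.Perm GolayPt} (hg : g ∈ sqMuls) :
    ∃ k : ℕ, g = (Equiv.optionCongr (Units.mulLeft two23) : Equiv.Perm GolayPt) ^ k := by
  obtain ⟨u, ⟨v, rfl⟩, rfl⟩ := hg
  obtain ⟨k, hk⟩ := square_pow_two v v.ne_zero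
  refine ⟨k.val, ?_⟩
  rw [mulLeft_pow, show v * v = two23 ^ k.val from Units.ext (by simpa [two23] using hk)]

theorem psl_le_M24 : psl23 ≤ M24 := by
  rw [psl23, Subgroup.closure_le]
  rintro g ((rfl | rfl) | hg)
  · exact shiftP_mem
  · exact projInv_mem
  · obtain ⟨k, rfl⟩ := sqMuls_eq hg
    exact M24.pow_mem twoP_mem k

theorem two_sq : (Equiv.optionCongr (Units.mulLeft two23) : Equiv.Perm GolayPt) ∈ sqMuls :=
  ⟨two23, ⟨⟨5, 14, by decide, by decide⟩, Units.ext (by decide)⟩, rfl⟩

theorem borel_fix {g : Equiv.Perm GolayPt} (hg : g ∈ borel23) : g none = none := by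
  have h : borel23 ≤ MulAction.stabilizer (Equiv.Perm GolayPt) (none : GolayPt) := by
    rw [borel23, Subgroup.closure_le]
    rintro g (rfl | ⟨u, -, rfl⟩) <;> rfl
  exact h hg

theorem borel_le_stab : borel23 ≤ M24 ⊓ MulAction.stabilizer (Equiv.Perm GolayPt) (none : GolayPt) :=
  fun _ hg => ⟨psl_le_M24 (borel_le_psl hg), borel_fix hg⟩

/-- The point stabiliser. -/
abbrev S23 : Subgroup M24 := MulAction.stabilizer M24 (none : GolayPt)

/-- The Borel subgroup inside the point stabiliser. -/
def B23 : Subgroup S23 := (borel23.subgroupOf M24).subgroupOf S23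

theorem card_subgroupOf_S23 {H : Subgroup (Equiv.Perm GolayPt)}
    (h : H ≤ M24 ⊓ MulAction.stabilizer (Equiv.Perm GolayPt) (none : GolayPt)) :
    Nat.card ↥((H.subgroupOf M24).subgroupOf S23) = Nat.card H := by
  rw [Nat.card_congr (Subgroup.subgroupOfEquivOfLe ?_).toEquiv,
    Nat.card_congr (Subgroup.subgroupOfEquivOfLe (h.trans inf_le_left)).toEquiv]
  exact fun x hx => (h hx).2

/-- The translation inside the point stabiliser. -/
def shiftS : S23 := ⟨⟨shiftP, shiftP_mem⟩, rfl⟩

theorem shiftS_mem : shiftS ∈ B23 := Subgroup.subset_closure (Or.inl rfl)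

theorem shiftP_pow (n : ℕ) (t : ZMod 23) : (shiftP ^ n) (some t) = some (t + n) := by
  induction n with
  | zero => simp
  | succ n ih =>
    rw [pow_succ', Equiv.Perm.mul_apply, ih]
    simp [shiftP, add_assoc]

theorem shiftS_order : orderOf shiftS = 23 := by
  haveI : Fact (Nat.Prime 23) := ⟨by norm_num⟩
  rw [← Subgroup.orderOf_coe, ← Subgroup.orderOf_coe]
  refine orderOf_eq_prime (Equiv.ext fun p => ?_) fun h => ?_
  · revert p; decide +kernel
  · have := Equiv.congr_fun h (some 0)
    simp [shiftS, shiftP] at this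

theorem cent_shiftS : Nat.card (Subgroup.centralizer ({shiftS} : Set S23)) = 23 := by
  refine le_antisymm ?_ ?_
  · have hinj : Function.Injective fun g : Subgroup.centralizer ({shiftS} : Set S23) =>
        ((g.1.1.1 : Equiv.Perm GolayPt) (some 0)).getD 0 := by
      intro g g' h
      have key : ∀ g : Subgroup.centralizer ({shiftS} : Set S23), ∀ n : ℕ,
          (g.1.1.1 : Equiv.Perm GolayPt) (some (n : ZMod 23)) =
            some (((g.1.1.1 : Equiv.Perm GolayPt) (some 0)).getD 0 + n) := by
        intro g n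
        have hnone : (g.1.1.1 : Equiv.Perm GolayPt) none = none := g.1.2
        obtain ⟨a, ha⟩ : ∃ a, (g.1.1.1 : Equiv.Perm GolayPt) (some 0) = some a := by
          rcases hv : (g.1.1.1 : Equiv.Perm GolayPt) (some 0) with _ | a
          · exact absurd ((g.1.1.1 : Equiv.Perm GolayPt).injective (hv.trans hnone.symm)) (by simp)
          · exact ⟨a, rfl⟩
        have hc : Commute (g.1.1.1 : Equiv.Perm GolayPt) shiftP :=
          congrArg (fun z : S23 => (z.1.1 : Equiv.Perm GolayPt))
            (Subgroup.mem_centralizer_singleton_iff.1 g.2)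
        have := Equiv.congr_fun (hc.pow_right n).eq (some 0)
        simp only [Equiv.Perm.mul_apply, shiftP_pow, ha, zero_add] at this
        simpa [ha] using this
      refine Subtype.ext (Subtype.ext (Subtype.ext (Equiv.ext fun p => ?_)))
      rcases p with _ | t
      · have h1 : (g.1.1.1 : Equiv.Perm GolayPt) none = none := g.1.2
        have h2 : (g'.1.1.1 : Equiv.Perm GolayPt) none = none := g'.1.2
        exact h1.trans h2.symm
      · rw [← ZMod.natCast_zmod_val t, key, key]
        exact congrArg (fun a => some (a + _)) h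
    exact (Nat.card_le_card_of_injective _ hinj).trans (le_of_eq (Nat.card_zmod 23))
  · have h := Subgroup.card_le_of_le (show Subgroup.zpowers shiftS ≤
      Subgroup.centralizer ({shiftS} : Set S23) from
      Subgroup.zpowers_le.2 (Subgroup.mem_centralizer_singleton_iff.2 rfl))
    rwa [Nat.card_zpowers, shiftS_order] at h

theorem card_S23 : Nat.card S23 = 10200960 := by
  obtain ⟨e⟩ := stab1_equiv (none : GolayPt)
  rw [Nat.card_congr e.toEquiv, card_fix23]

theorem card_normalizer_shiftS :
    Nat.card (Subgroup.normalizer (Subgroup.zpowers shiftS : Set S23)) = 253 := by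
  obtain ⟨d, hd, h1, h2, h3, h4⟩ := normalizer_meet_count (by norm_num) shiftS_order cent_shiftS
    (H := ⊤) (Subgroup.mem_top _) (by rw [Subgroup.card_top, card_S23]; norm_num)
  rw [top_inf_eq] at hd
  rw [Subgroup.card_top, card_S23] at h3 h4
  rw [hd]
  have : d ∈ Nat.divisors 506 := Nat.mem_divisors.2 ⟨h2, by norm_num⟩
  rw [show Nat.divisors 506 = {1, 2, 11, 22, 23, 46, 253, 506} by decide +kernel] at this
  fin_cases this <;> omega

theorem shiftP_pow_none (n : ℕ) : (shiftP ^ n) none = none := by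
  induction n with
  | zero => rfl
  | succ n ih => rw [pow_succ', Equiv.Perm.mul_apply, ih]; rfl

theorem mulLeft_shift (u : (ZMod 23)ˣ) :
    (Equiv.optionCongr (Units.mulLeft u) : Equiv.Perm GolayPt) * shiftP =
      shiftP ^ (u : ZMod 23).val * Equiv.optionCongr (Units.mulLeft u) := by
  refine Equiv.ext fun p => ?_
  rw [Equiv.Perm.mul_apply, Equiv.Perm.mul_apply]
  rcases p with _ | t
  · exact (shiftP_pow_none _).symm
  · rw [show (Equiv.optionCongr (Units.mulLeft u) : Equiv.Perm GolayPt) (some t) =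
      some ((u : ZMod 23) * t) from rfl, shiftP_pow, ZMod.natCast_zmod_val]
    show some ((u : ZMod 23) * (t + 1)) = _
    rw [mul_add, mul_one]

theorem B23_le_normalizer : B23 ≤ Subgroup.normalizer (Subgroup.zpowers shiftS : Set S23) := by
  intro x hx
  have hx1 : (x.1.1 : Equiv.Perm GolayPt) ∈ borel23 := hx
  have key : ∀ g ∈ borel23, ∃ k : ℕ, g * shiftP = shiftP ^ k * g := by
    intro g hg
    induction hg using Subgroup.closure_induction'' with
    | mem g hg =>
      rcases hg with rfl | ⟨u, -, rfl⟩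
      · exact ⟨1, by rw [pow_one]⟩
      · exact ⟨_, mulLeft_shift u⟩
    | inv_mem g hg =>
      rcases hg with rfl | ⟨u, -, rfl⟩
      · exact ⟨1, by rw [pow_one, inv_mul_cancel, mul_inv_cancel]⟩
      · have e : (Equiv.optionCongr (Units.mulLeft u) : Equiv.Perm GolayPt)⁻¹ =
            Equiv.optionCongr (Units.mulLeft u⁻¹) := by
          refine Equiv.ext fun q => ?_
          cases q <;> rfl
        exact ⟨_, by rw [e]; exact mulLeft_shift u⁻¹⟩
    | one => exact ⟨1, by simp⟩
    | mul a b _ _ ha hb =>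
      obtain ⟨i, hi⟩ := ha
      obtain ⟨j, hj⟩ := hb
      refine ⟨i * j, ?_⟩
      have hij : a * shiftP ^ j = shiftP ^ (i * j) * a := by
        rw [pow_mul]
        exact (show SemiconjBy a shiftP (shiftP ^ i) from hi).pow_right j
      rw [mul_assoc, hj, ← mul_assoc, hij, mul_assoc]
  obtain ⟨k, hk⟩ := key x.1.1 hx1
  exact mem_normalizer_of_semiPow (k := k) (Subtype.ext (Subtype.ext hk))

theorem dvd_card_B23 : 253 ∣ Nat.card B23 := by
  have h23 : 23 ∣ Nat.card B23 := by
    have := Subgroup.card_dvd_of_le (Subgroup.zpowers_le.2 shiftS_mem)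
    rwa [Nat.card_zpowers, shiftS_order] at this
  have h11 : 11 ∣ Nat.card B23 := by
    let m : S23 := ⟨⟨_, twoP_mem⟩, rfl⟩
    have hm : m ∈ B23 := Subgroup.subset_closure (Or.inr two_sq)
    haveI : Fact (Nat.Prime 11) := ⟨by norm_num⟩
    have ho : orderOf m = 11 := by
      rw [← Subgroup.orderOf_coe, ← Subgroup.orderOf_coe]
      refine orderOf_eq_prime (Equiv.ext fun p => ?_) fun h => ?_
      · show ((Equiv.optionCongr (Units.mulLeft two23) : Equiv.Perm GolayPt) ^ 11) p = p
        rw [mulLeft_pow]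
        revert p; decide +kernel
      · have := Equiv.congr_fun h (some 1)
        simp [m, two23] at this
        exact absurd this (by decide)
    have := Subgroup.card_dvd_of_le (Subgroup.zpowers_le.2 hm)
    rwa [Nat.card_zpowers, ho] at this
  exact Nat.Coprime.mul_dvd_of_dvd_of_dvd (by norm_num : Nat.Coprime 23 11) h23 h11

theorem B23_eq : B23 = Subgroup.normalizer (Subgroup.zpowers shiftS : Set S23) :=
  Subgroup.eq_of_le_of_card_ge B23_le_normalizer
    (card_normalizer_shiftS.le.trans (Nat.le_of_dvd Nat.card_pos dvd_card_B23))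

theorem card_B23 : Nat.card B23 = 253 := B23_eq ▸ card_normalizer_shiftS

theorem borel_index_check : ∀ N ∈ Nat.divisors 40320, N % 23 = 1 →
    (N % 11 = 1 ∨ (N % 5 = 0 ∧ N / 5 % 11 = 1)) → N = 1 ∨ N = 40320 := by decide +kernel

/-- The Borel subgroup is maximal in the point stabiliser. -/
theorem B23_overgroup {K : Subgroup S23} (h : B23 ≤ K) : Nat.card K = 253 ∨ K = ⊤ := by
  classical
  haveI : Fact (Nat.Prime 11) := ⟨by norm_num⟩
  obtain ⟨d, hd, -, -, h3, h4⟩ := normalizer_meet_count (by norm_num) shiftS_order cent_shiftS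
    (H := K) (h shiftS_mem) (fun hc => by
      have := hc.trans (Subgroup.card_subgroup_dvd_card K)
      rw [card_S23] at this
      norm_num at this)
  rw [← B23_eq, inf_eq_right.2 h, card_B23] at hd
  subst hd
  obtain ⟨N, hN⟩ := h3
  rw [hN, Nat.mul_div_cancel_left _ (by norm_num : 0 < 253)] at h4
  have hN' : N ∣ 40320 := by
    have := Subgroup.card_subgroup_dvd_card K
    rw [hN, card_S23] at this
    exact Nat.dvd_of_mul_dvd_mul_left (by norm_num : 0 < 253) (this.trans (dvd_of_eq (by norm_num)))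
  have horb : MulAction.orbit K (some 0 : GolayPt) = {p | p ≠ none} := by
    ext p
    constructor
    · rintro ⟨g, rfl⟩ hp
      have h0 : (g : S23).1 • (some 0 : GolayPt) = none := hp
      have hnone : (g : S23).1 • (none : GolayPt) = none := (g : S23).2
      exact Option.some_ne_none (0 : ZMod 23)
        (MulAction.injective (g : S23).1 (h0.trans hnone.symm))
    · intro hp
      obtain ⟨t, rfl⟩ := Option.ne_none_iff_exists'.1 hp
      refine ⟨⟨shiftS ^ t.val, pow_mem (h shiftS_mem) _⟩, ?_⟩
      show ((shiftP ^ t.val : Equiv.Perm GolayPt)) (some 0) = some t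
      rw [shiftP_pow, zero_add, ZMod.natCast_zmod_val]
  have hcard := Nat.card_congr (MulAction.orbitProdStabilizerEquivGroup K (some 0 : GolayPt))
  have hset : ({p | p ≠ none} : Set GolayPt).ncard = 23 := by
    rw [Set.ncard_eq_toFinset_card']
    decide +kernel
  rw [Nat.card_prod, Nat.card_coe_set_eq, horb, hset, hN] at hcard
  obtain ⟨e⟩ := stab2_equiv (show (none : GolayPt) ≠ some 0 by simp)
  let ι : MulAction.stabilizer K (some 0 : GolayPt) →*
      ↥(MulAction.stabilizer M24 (none : GolayPt) ⊓ MulAction.stabilizer M24 (some 0 : GolayPt)) :=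
    { toFun := fun g => ⟨g.1.1.1, g.1.1.2, g.2⟩
      map_one' := rfl
      map_mul' := fun _ _ => rfl }
  have hι : Function.Injective (e.toMonoidHom.comp ι) := e.injective.comp fun g g' he =>
    Subtype.ext (Subtype.ext (Subtype.ext (congrArg Subtype.val he :)))
  have hM : Nat.card (e.toMonoidHom.comp ι).range = 11 * N := by
    rw [← Nat.card_congr (MonoidHom.ofInjective hι).toEquiv]
    omega
  obtain ⟨g, hg⟩ := exists_conj_mem (by norm_num) gA_order (by rw [card_fix22]; norm_num)
    (H := (e.toMonoidHom.comp ι).range) (hM ▸ dvd_mul_right _ _)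
  have hM' : Nat.card ((e.toMonoidHom.comp ι).range.map (MulAut.conj g).toMonoidHom) = 11 * N := by
    rw [← hM]
    exact (Nat.card_congr ((e.toMonoidHom.comp ι).range.equivMapOfInjective _
      (MulAut.conj g).injective).toEquiv).symm
  obtain ⟨c, hc, c1, c2, c3, c4⟩ := normalizer_meet_count (by norm_num) gA_order cent_gA hg
    (fun hc => by
      have := hc.trans (Subgroup.card_subgroup_dvd_card _)
      rw [card_fix22] at this
      norm_num at this)
  -- the normaliser of order eleven has order 55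
  have h55 : Nat.card (Subgroup.normalizer (Subgroup.zpowers gA : Set (fixMasks X22))) = 55 := by
    obtain ⟨m, hm, m1, m2, m3, m4⟩ := normalizer_meet_count (by norm_num) gA_order cent_gA
      (H := ⊤) (Subgroup.mem_top _) (by rw [Subgroup.card_top, card_fix22]; norm_num)
    rw [top_inf_eq] at hm
    rw [Subgroup.card_top, card_fix22] at m3 m4
    rw [hm]
    have : m ∈ Nat.divisors 110 := Nat.mem_divisors.2 ⟨m2, by norm_num⟩
    rw [show Nat.divisors 110 = {1, 2, 5, 10, 11, 22, 55, 110} by decide +kernel] at this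
    fin_cases this <;> omega
  have hcn : c ∣ 55 := hc ▸ h55 ▸ Subgroup.card_dvd_of_le inf_le_right
  rw [hM'] at c3 c4
  have h11 : c = 11 ∨ c = 55 := by
    have : c ∈ Nat.divisors 55 := Nat.mem_divisors.2 ⟨hcn, by norm_num⟩
    rw [show Nat.divisors 55 = {1, 5, 11, 55} by decide +kernel] at this
    fin_cases this <;> omega
  have hcase : N % 11 = 1 ∨ (N % 5 = 0 ∧ N / 5 % 11 = 1) := by
    rcases h11 with rfl | rfl
    · left; omega
    · right; omega
  rcases borel_index_check N (Nat.mem_divisors.2 ⟨hN', by norm_num⟩) h4 hcase with rfl | rfl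
  · exact Or.inl hN
  · refine Or.inr (Subgroup.eq_top_of_card_eq _ ?_)
    rw [hN, card_S23]

/-- The vector point. -/
def mobPt (v : ZMod 23 × ZMod 23) : GolayPt := if v.2 = 0 then none else some (v.1 / v.2)

/-- A transformation induced by a linear map. -/
def IsMob (σ : Equiv.Perm GolayPt) (M : Fin 4 → ZMod 23) : Prop :=
  ∀ v : ZMod 23 × ZMod 23, v ≠ 0 →
    (M 0 * v.1 + M 1 * v.2, M 2 * v.1 + M 3 * v.2) ≠ (0 : ZMod 23 × ZMod 23) ∧
      σ (mobPt v) = mobPt (M 0 * v.1 + M 1 * v.2, M 2 * v.1 + M 3 * v.2)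

theorem inv_mem_eq : ∀ z : ZMod 23, z ≠ 0 → z ^ 21 * z = 1 := by decide +kernel

theorem psl_isMob {σ : Equiv.Perm GolayPt} (hσ : σ ∈ psl23) : ∃ M, IsMob σ M := by
  have hmul : ∀ {σ τ M N}, IsMob σ M → IsMob τ N → IsMob (σ * τ)
      ![M 0 * N 0 + M 1 * N 2, M 0 * N 1 + M 1 * N 3, M 2 * N 0 + M 3 * N 2,
        M 2 * N 1 + M 3 * N 3] := by
    intro σ τ M N hM hN v hv
    obtain ⟨hne, hτ⟩ := hN v hv
    obtain ⟨hne', hσ'⟩ := hM _ hne
    rw [Equiv.Perm.mul_apply, hτ, hσ']
    simp only [Matrix.cons_val_zero, Matrix.cons_val_one, Matrix.cons_val_two, Matrix.head_cons,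
      Matrix.tail_cons, Matrix.cons_val_three]
    refine ⟨fun h => hne' ((Prod.ext ?_ ?_).trans h), congrArg mobPt (Prod.ext ?_ ?_)⟩ <;>
      simp <;> ring
  have hgen : ∀ g ∈ ({shiftP, projInv} ∪ sqMuls : Set _), ∃ M, IsMob g M := by
    rintro g ((rfl | rfl) | ⟨u, -, rfl⟩)
    · refine ⟨![1, 1, 0, 1], fun v hv => ?_⟩
      obtain ⟨x, y⟩ := v
      refine ⟨?_, ?_⟩
      · intro h
        simp at h
        apply hv
        obtain ⟨h1, h2⟩ := h
        subst h2
        simpa using h1
      · by_cases hy : y = 0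
        · simp [mobPt, hy, shiftP]
        · simp [mobPt, hy, shiftP, add_div]
    · refine ⟨![0, -1, 1, 0], fun v hv => ?_⟩
      obtain ⟨x, y⟩ := v
      refine ⟨?_, ?_⟩
      · intro h
        simp at h
        exact hv (by simp [h.1, h.2])
      · by_cases hy : y = 0
        · have hx : x ≠ 0 := fun hx => hv (by simp [hx, hy])
          simp [mobPt, hy, hx, projInv, projInvFun]
        · by_cases hx : x = 0
          · simp [mobPt, hy, hx, projInv, projInvFun]
          · simp [mobPt, hy, hx, projInv, projInvFun]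
            have h := inv_mem_eq (x / y) (div_ne_zero hx hy)
            rw [eq_inv_of_mul_eq_one_left h, inv_div, neg_div]
    · refine ⟨![(u : ZMod 23), 0, 0, 1], fun v hv => ?_⟩
      obtain ⟨x, y⟩ := v
      refine ⟨?_, ?_⟩
      · intro h
        simp at h
        exact hv (by simp [h.1, h.2])
      · by_cases hy : y = 0
        · simp [mobPt, hy]
        · simp [mobPt, hy, mul_div_assoc]
  have hσ' : σ ∈ (Submonoid.closure ({shiftP, projInv} ∪ sqMuls : Set _)) := by
    rwa [← Subgroup.closure_toSubmonoid_of_finite, Subgroup.mem_toSubmonoid]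
  clear hσ
  induction hσ' using Submonoid.closure_induction with
  | mem g hg => exact hgen g hg
  | one => exact ⟨![1, 0, 0, 1], fun v hv => ⟨by simpa using hv, by simp⟩⟩
  | mul a b _ _ ha hb =>
    obtain ⟨M, hM⟩ := ha
    obtain ⟨N, hN⟩ := hb
    exact ⟨_, hmul hM hN⟩

theorem card_psl_le : Nat.card psl23 ≤ 23 ^ 4 := by
  choose f hf using fun σ : psl23 => psl_isMob σ.2
  refine (Nat.card_le_card_of_injective f fun σ τ h => Subtype.ext (Equiv.ext fun p => ?_)).trans
    (le_of_eq (by simp))
  obtain ⟨v, hv, rfl⟩ : ∃ v : ZMod 23 × ZMod 23, v ≠ 0 ∧ mobPt v = p := by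
    cases p with
    | none => exact ⟨(1, 0), by simp, by simp [mobPt]⟩
    | some t => exact ⟨(t, 1), by simp, by simp [mobPt]⟩
  rw [(hf σ v hv).2, (hf τ v hv).2, h]

theorem psl_trans (p : GolayPt) : ∃ g ∈ psl23, g none = p := by
  cases p with
  | none => exact ⟨1, one_mem _, rfl⟩
  | some t =>
    refine ⟨shiftP ^ t.val * projInv, mul_mem (pow_mem (Subgroup.subset_closure (by simp)) _)
      (Subgroup.subset_closure (by simp)), ?_⟩
    rw [Equiv.Perm.mul_apply, show projInv none = some 0 from rfl, shiftP_pow, zero_add,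
      ZMod.natCast_zmod_val]

/-- An overgroup of `PSL(2,23)` in `M24`. -/
theorem psl_overgroup {K : Subgroup M24} (h : psl23.subgroupOf M24 ≤ K) :
    Nat.card K = 6072 ∨ K = ⊤ := by
  have hB : B23 ≤ K.subgroupOf S23 := fun x hx => h (borel_le_psl hx)
  have horb : MulAction.orbit K (none : GolayPt) = Set.univ := Set.eq_univ_of_forall fun p => by
    obtain ⟨g, hg, e⟩ := psl_trans p
    exact ⟨⟨⟨g, psl_le_M24 hg⟩, h hg⟩, e⟩
  have hcard := Nat.card_congr (MulAction.orbitProdStabilizerEquivGroup K (none : GolayPt))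
  rw [Nat.card_prod, Nat.card_coe_set_eq, horb, Set.ncard_univ] at hcard
  have e : K.subgroupOf S23 ≃ MulAction.stabilizer K (none : GolayPt) :=
    { toFun := fun x => ⟨⟨x.1.1, x.2⟩, x.1.2⟩
      invFun := fun x => ⟨⟨x.1.1, x.2⟩, x.1.2⟩
      left_inv := fun _ => rfl
      right_inv := fun _ => rfl }
  rw [← Nat.card_congr e, show Nat.card GolayPt = 24 by simp] at hcard
  rcases B23_overgroup hB with h1 | h1
  · left; omega
  · right
    refine Subgroup.eq_top_of_card_eq _ ?_
    rw [h1, Subgroup.card_top, card_S23] at hcard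
    rw [card_M24]; omega

theorem card_psl : Nat.card psl23 = 6072 := by
  rw [← Nat.card_congr (Subgroup.subgroupOfEquivOfLe psl_le_M24).toEquiv]
  refine (psl_overgroup le_rfl).resolve_right fun h => ?_
  have := card_psl_le
  rw [← Nat.card_congr (Subgroup.subgroupOfEquivOfLe psl_le_M24).toEquiv, h, Subgroup.card_top,
    card_M24] at this
  norm_num at this

theorem psl_coatom : IsCoatom (psl23.subgroupOf M24) := by
  refine ⟨fun h => ?_, fun K hK => ?_⟩
  · have := card_psl
    rw [← Nat.card_congr (Subgroup.subgroupOfEquivOfLe psl_le_M24).toEquiv, h, Subgroup.card_top,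
      card_M24] at this
    omega
  · refine (psl_overgroup hK.le).resolve_left fun h => ?_
    refine hK.ne (Subgroup.eq_of_le_of_card_ge hK.le ?_)
    rw [h, Nat.card_congr (Subgroup.subgroupOfEquivOfLe psl_le_M24).toEquiv, card_psl]

theorem borel_coatom : IsCoatom B23 := by
  refine ⟨fun h => ?_, fun K hK => ?_⟩
  · have := card_B23
    rw [h, Subgroup.card_top, card_S23] at this
    omega
  · refine (B23_overgroup hK.le).resolve_left fun h => ?_
    exact hK.ne (Subgroup.eq_of_le_of_card_ge hK.le (by rw [h, card_B23]))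

theorem card_borel : Nat.card borel23 = 253 := card_subgroupOf_S23 borel_le_stab ▸ card_B23

end CfsgLib.Golay
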