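import Cfsg.Agent.Lib.Golay.Code

/-! Permutations of the 24 points as numbers (five bits per image), and certificates for
orders of stabilisers of sets of points in `Cfsg.M24`. -/

set_option autoImplicit false
set_option maxRecDepth 100000

namespace CfsgLib.Golay

open Cfsg
open scoped Pointwise

/-- Image of the point number `i` under the encoded permutation `g`. -/
def img (g i : ℕ) : ℕ := Nat.land (Nat.shiftRight g (Nat.mul 5 i)) 31

/-- Contribution of bit `i` to the image of a mask. -/
def mterm (g m i : ℕ) : ℕ := Nat.shiftLeft (Nat.land (Nat.shiftRight m i) 1) (img g i)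

/-- Image of the lowest `n` bits of a mask. -/
def mimgAux (g m : ℕ) : ℕ → ℕ
  | 0 => 0
  | n + 1 => Nat.lor (mterm g m n) (mimgAux g m n)

/-- Image of a mask. -/
def mimg (g m : ℕ) : ℕ :=
  Nat.lor (mterm g m 23)
    (Nat.lor (mterm g m 22)
    (Nat.lor (mterm g m 21)
    (Nat.lor (mterm g m 20)
    (Nat.lor (mterm g m 19)
    (Nat.lor (mterm g m 18)
    (Nat.lor (mterm g m 17)
    (Nat.lor (mterm g m 16)
    (Nat.lor (mterm g m 15)
    (Nat.lor (mterm g m 14)
    (Nat.lor (mterm g m 13)
    (Nat.lor (mterm g m 12)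
    (Nat.lor (mterm g m 11)
    (Nat.lor (mterm g m 10)
    (Nat.lor (mterm g m 9)
    (Nat.lor (mterm g m 8)
    (Nat.lor (mterm g m 7)
    (Nat.lor (mterm g m 6)
    (Nat.lor (mterm g m 5)
    (Nat.lor (mterm g m 4)
    (Nat.lor (mterm g m 3)
    (Nat.lor (mterm g m 2)
    (Nat.lor (mterm g m 1)
    (Nat.lor (mterm g m 0) 0)))))))))))))))))))))))

theorem mimg_eq (g m : ℕ) : mimg g m = mimgAux g m 24 := rfl

theorem testBit_mterm (g m i j : ℕ) :
    (mterm g m i).testBit j = (m.testBit i && (img g i == j)) := by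
  show (((m >>> i) &&& 1) <<< img g i).testBit j = _
  have e : (m >>> i) &&& 1 = if m.testBit i then 1 else 0 := by
    have := sel_eq 1 i m
    simpa [sel] using this
  rw [e]
  cases m.testBit i
  · simp
  · simp [Nat.testBit_two_pow, Nat.shiftLeft_eq, Bool.beq_eq_decide_eq]

theorem testBit_mimgAux (g m n j : ℕ) :
    (mimgAux g m n).testBit j = true ↔ ∃ i < n, m.testBit i = true ∧ img g i = j := by
  induction n with
  | zero => simp [mimgAux]
  | succ n ih =>
    show (mterm g m n ||| mimgAux g m n).testBit j = true ↔ _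
    rw [Nat.testBit_lor, Bool.or_eq_true, ih, testBit_mterm, Bool.and_eq_true, beq_iff_eq]
    constructor
    · rintro (h | ⟨i, hi, h⟩)
      · exact ⟨n, by omega, h⟩
      · exact ⟨i, by omega, h⟩
    · rintro ⟨i, hi, h⟩
      rcases Nat.lt_succ_iff_lt_or_eq.1 hi with hi | rfl
      · exact Or.inr ⟨i, hi, h⟩
      · exact Or.inl h

theorem testBit_mimg {g m j : ℕ} :
    (mimg g m).testBit j = true ↔ ∃ i < 24, m.testBit i = true ∧ img g i = j := by
  rw [mimg_eq, testBit_mimgAux]

/-- `g` encodes a permutation of the 24 points. -/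
def valid (g : ℕ) : Bool := Nat.beq (mimg g 16777215) 16777215

/-- The point function of an encoded permutation. -/
def ptFun (g : ℕ) (p : GolayPt) : GolayPt := pt (img g (idx p))

theorem testBit_full {i : ℕ} : (16777215 : ℕ).testBit i = decide (i < 24) := by
  rw [show (16777215 : ℕ) = 2 ^ 24 - 1 by norm_num, Nat.testBit_two_pow_sub_one]

theorem valid_surj {g : ℕ} (h : valid g = true) {j : ℕ} (hj : j < 24) :
    ∃ i < 24, img g i = j := by
  have e : mimg g 16777215 = 16777215 := Nat.eq_of_beq_eq_true h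
  have : (mimg g 16777215).testBit j = true := by rw [e, testBit_full]; simpa using hj
  obtain ⟨i, hi, -, hij⟩ := testBit_mimg.1 this
  exact ⟨i, hi, hij⟩

theorem valid_lt {g : ℕ} (h : valid g = true) {i : ℕ} (hi : i < 24) : img g i < 24 := by
  have e : mimg g 16777215 = 16777215 := Nat.eq_of_beq_eq_true h
  have : (mimg g 16777215).testBit (img g i) = true :=
    testBit_mimg.2 ⟨i, hi, by rw [testBit_full]; simpa using hi, rfl⟩
  rw [e, testBit_full] at this
  exact of_decide_eq_true this

theorem ptFun_bijective {g : ℕ} (h : valid g = true) : Function.Bijective (ptFun g) := by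
  refine Finite.surjective_iff_bijective.1 fun q => ?_
  obtain ⟨i, hi, e⟩ := valid_surj h (idx_lt q)
  exact ⟨pt i, by rw [ptFun, idx_pt hi, e, pt_idx]⟩

/-- The permutation of the points encoded by `g` (the identity if `g` is not valid). -/
noncomputable def permOf (g : ℕ) : Equiv.Perm GolayPt :=
  if h : valid g = true then Equiv.ofBijective (ptFun g) (ptFun_bijective h) else 1

theorem permOf_apply {g : ℕ} (h : valid g = true) (p : GolayPt) :
    permOf g p = pt (img g (idx p)) := by
  simp [permOf, h, ptFun]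

theorem permOf_pt {g : ℕ} (h : valid g = true) {i : ℕ} (hi : i < 24) :
    permOf g (pt i) = pt (img g i) := by rw [permOf_apply h, idx_pt hi]

theorem mimg_lt {g : ℕ} (h : valid g = true) (m : ℕ) : mimg g m < 16777216 := by
  rw [show (16777216 : ℕ) = 2 ^ 24 by norm_num]
  refine Nat.lt_pow_two_of_testBit _ fun j hj => ?_
  by_contra hc
  rw [Bool.not_eq_false] at hc
  obtain ⟨i, hi, -, e⟩ := testBit_mimg.1 hc
  have := valid_lt h hi
  omega

theorem smul_mset {g : ℕ} (h : valid g = true) (m : ℕ) :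
    permOf g • mset m = mset (mimg g m) := by
  ext q
  rw [Finset.mem_smul_finset, mem_mset, testBit_mimg]
  constructor
  · rintro ⟨p, hp, rfl⟩
    refine ⟨idx p, idx_lt p, mem_mset.1 hp, ?_⟩
    rw [Equiv.Perm.smul_def, permOf_apply h, idx_pt (valid_lt h (idx_lt p))]
  · rintro ⟨i, hi, hb, e⟩
    refine ⟨pt i, mem_mset.2 (by rwa [idx_pt hi]), ?_⟩
    rw [Equiv.Perm.smul_def, permOf_pt h hi, e, pt_idx]

theorem mword_enc_mem_submodule (P : Submodule (ZMod 2) (GolayPt → ZMod 2))
    (h : ∀ x ∈ gens, mword x ∈ P) (k : ℕ) : mword (enc k) ∈ P := by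
  have hs : ∀ x ∈ gens, ∀ i, mword (sel x i k) ∈ P := fun x hx i => by
    rw [sel_eq]
    split_ifs
    · exact h x hx
    · rw [mword_zero]; exact Submodule.zero_mem _
  simp only [enc, show ∀ x y : ℕ, Nat.xor x y = x ^^^ y from fun _ _ => rfl, mword_xor]
  repeat' apply Submodule.add_mem
  all_goals exact hs _ (by decide) _

theorem smul_support₂ (σ : Equiv.Perm GolayPt) (w : GolayPt → ZMod 2) :
    σ • support₂ w = support₂ (fun p => w (σ⁻¹ p)) := by
  ext q
  rw [Finset.mem_smul_finset]
  simp only [support₂, Finset.mem_filter, Finset.mem_univ, true_and, Equiv.Perm.smul_def]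
  constructor
  · rintro ⟨p, hp, rfl⟩; simpa using hp
  · intro hq; exact ⟨σ⁻¹ q, hq, by simp⟩

theorem mem_M24_iff {σ : Equiv.Perm GolayPt} :
    σ ∈ M24 ↔ ∀ s ∈ supports (golayCode : Set (GolayPt → ZMod 2)),
      σ • s ∈ supports (golayCode : Set (GolayPt → ZMod 2)) := by
  rw [MulAction.mem_stabilizer_iff]
  constructor
  · intro h s hs; rw [← h]; exact Set.smul_mem_smul_set hs
  · intro h
    refine Set.eq_of_subset_of_ncard_le ?_ ?_ (Set.toFinite _)
    · rintro _ ⟨s, hs, rfl⟩; exact h s hs
    · rw [Set.ncard_smul_set]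

theorem mem_M24_of_words {σ : Equiv.Perm GolayPt}
    (h : ∀ x ∈ gens, σ • mset x ∈ supports (golayCode : Set (GolayPt → ZMod 2))) :
    σ ∈ M24 := by
  rw [mem_M24_iff]
  intro s hs
  obtain ⟨m, hm, rfl⟩ := mem_supports_iff.1 hs
  let P := golayCode.comap (LinearMap.funLeft (ZMod 2) (ZMod 2) ((σ⁻¹ : Equiv.Perm GolayPt) : GolayPt → GolayPt))
  have hP : ∀ x ∈ gens, mword x ∈ P := by
    intro x hx
    obtain ⟨w, hw, e⟩ := h x hx
    rw [← support_mword, smul_support₂] at e
    have := support₂_injective e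
    show (fun p => mword x (σ⁻¹ p)) ∈ golayCode
    rw [← this]; exact hw
  have := mword_enc_mem_submodule P hP (m % 4096)
  rw [isCode_iff.1 hm] at this
  rw [← support_mword, smul_support₂]
  exact ⟨_, this, rfl⟩

/-- `g` encodes an element of `M24`. -/
def inM24 (g : ℕ) : Bool := valid g && gens.all fun x => isCode (mimg g x)

theorem inM24_valid {g : ℕ} (h : inM24 g = true) : valid g = true := by
  simp only [inM24, Bool.and_eq_true] at h; exact h.1

theorem inM24_mem {g : ℕ} (h : inM24 g = true) : permOf g ∈ M24 := by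
  have hv := inM24_valid h
  simp only [inM24, Bool.and_eq_true, List.all_eq_true] at h
  refine mem_M24_of_words fun x hx => ?_
  rw [smul_mset hv, mset_mem_supports_iff (mimg_lt hv x)]
  exact h.2 x hx

theorem M24_smul_octad {σ : Equiv.Perm GolayPt} (hσ : σ ∈ M24) {o : Finset GolayPt}
    (ho : o ∈ octads) : σ • o ∈ octads :=
  ⟨mem_M24_iff.1 hσ o ho.1, by rw [Finset.card_smul_finset]; exact ho.2⟩

theorem M24_smul_dodecad {σ : Equiv.Perm GolayPt} (hσ : σ ∈ M24) {o : Finset GolayPt}
    (ho : o ∈ dodecads) : σ • o ∈ dodecads :=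
  ⟨mem_M24_iff.1 hσ o ho.1, by rw [Finset.card_smul_finset]; exact ho.2⟩

/-- Two octads sharing five points are equal. -/
theorem octads_eq_of_five {o o' : Finset GolayPt} (ho : o ∈ octads) (ho' : o' ∈ octads)
    (h : 5 ≤ (o ∩ o').card) : o = o' := by
  obtain ⟨a, ha, rfl⟩ := mem_octads_iff.1 ho
  obtain ⟨b, hb, rfl⟩ := mem_octads_iff.1 ho'
  rw [mem_octList] at ha hb
  rw [← mset_and, card_mset] at h
  have e : (mset (a ^^^ b)).card + 2 * pop (a &&& b) = pop a + pop b := by
    rw [mset_xor, symmDiff_def, Finset.sup_eq_union,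
      Finset.card_union_of_disjoint disjoint_sdiff_sdiff, ← card_mset, ← card_mset, ← card_mset,
      mset_and, Finset.card_sdiff, Finset.card_sdiff, Finset.inter_comm (mset b) (mset a)]
    have h1 : (mset a ∩ mset b).card ≤ (mset a).card := Finset.card_le_card Finset.inter_subset_left
    have h2 : (mset a ∩ mset b).card ≤ (mset b).card := Finset.card_le_card Finset.inter_subset_right
    omega
  rw [card_mset, ha.2, hb.2] at e
  have hz : pop (a ^^^ b) = 0 := by
    rcases isCode_weights (isCode_xor ha.1 hb.1) with h' | h' | h' | h' | h' <;> omega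
  have : mset (a ^^^ b) = ∅ := Finset.card_eq_zero.1 (by rw [card_mset, hz])
  rw [mset_xor] at this
  exact symmDiff_eq_bot.1 this

end CfsgLib.Golay
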