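import Cfsg.Agent.Lib.Golay.OrbitTree

/-!
# Groups of lattice symmetries with a prescribed permutation image

A finite group acting on objects indexed by `Fin N` is isomorphic to a group `Q` of the same order with a
faithful action on `Fin N` when some of its elements induce the permutations of generators of `Q`.
-/

set_option autoImplicit false

namespace CfsgLib.Golay.OrbitTree

open Cfsg CfsgLib.Golay
open scoped Pointwise

theorem nonempty_iso_of_perm {G Ω : Type*} [Group G] [MulAction G Ω] {Q : Type*} [Group Q] {N : ℕ} {ι : Type*}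
    (H : Subgroup G) [Finite H] (P : Fin N → Ω) (hP : Function.Injective P) (a : ι → G)
    (ha : ∀ j, a j ∈ H) (b : ι → Q) (hb : Subgroup.closure (Set.range b) = ⊤)
    (ψ : Q →* Equiv.Perm (Fin N)) (hψ : Function.Injective ψ)
    (hab : ∀ j i, a j • P i = P (ψ (b j) i)) (hcard : Nat.card H = Nat.card Q) :
    Nonempty (H ≃* Q) := by
  let D : Subgroup (H × Q) :=
    { carrier := {z | ∀ i, (z.1 : G) • P i = P (ψ z.2 i)}
      one_mem' := fun i => by simp
      mul_mem' := fun {x y} hx hy i => by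
        simp only [Prod.fst_mul, Prod.snd_mul, Subgroup.coe_mul, mul_smul, map_mul, Equiv.Perm.mul_apply]
        rw [hy i, hx]
      inv_mem' := fun {x} hx i => by
        simp only [Prod.fst_inv, Prod.snd_inv, Subgroup.coe_inv, map_inv]
        rw [inv_smul_eq_iff, hx]
        simp }
  let f₁ : D →* H := (MonoidHom.fst H Q).comp D.subtype
  let f₂ : D →* Q := (MonoidHom.snd H Q).comp D.subtype
  have i₁ : Function.Injective f₁ := by
    rintro ⟨⟨x, q⟩, h⟩ ⟨⟨x', q'⟩, h'⟩ (e : x = x')
    subst e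
    have : q = q' := hψ (Equiv.ext fun i => hP ((h i).symm.trans (h' i)))
    subst this
    rfl
  have s₂ : Function.Surjective f₂ := by
    rw [← MonoidHom.range_eq_top, eq_top_iff, ← hb, Subgroup.closure_le]
    rintro _ ⟨j, rfl⟩
    exact ⟨⟨(⟨a j, ha j⟩, b j), hab j⟩, rfl⟩
  have : Finite D := Finite.of_injective f₁ i₁
  have h1 : Nat.card Q ≤ Nat.card D := Nat.card_le_card_of_surjective f₂ s₂
  have h2 : Nat.card D ≤ Nat.card H := Nat.card_le_card_of_injective f₁ i₁
  have b₁ : Function.Bijective f₁ := (Nat.bijective_iff_injective_and_card f₁).2 ⟨i₁, by omega⟩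
  have b₂ : Function.Bijective f₂ := (Nat.bijective_iff_surjective_and_card f₂).2 ⟨s₂, by omega⟩
  exact ⟨(MulEquiv.ofBijective f₁ b₁).symm.trans (MulEquiv.ofBijective f₂ b₂)⟩

/-- The lattice vectors whose packed numbers are indexed by a list. -/
def vecSet (V L : List ℕ) : Set leechLattice :=
  {y | ∃ k ∈ L, (y : GolayPt → ℤ) = decV (V.getD k 0)}

/-- The checks on a table of vectors. -/
def vecsOK (V : List ℕ) : Bool :=
  V.all (fun v => decide (v < 2 ^ 96) && inLat (decV v)) && decide V.Nodup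

/-- A bit mask of a list. -/
def bitsOf (L : List ℕ) : ℕ := L.foldr (fun k m => Nat.lor (2 ^ k) m) 0

theorem testBit_bitsOf : ∀ (L : List ℕ) (j : ℕ), (bitsOf L).testBit j = true ↔ j ∈ L
  | [], j => by simp [bitsOf]
  | k :: L, j => by
    show (Nat.lor (2 ^ k) (bitsOf L)).testBit j = true ↔ _
    rw [show Nat.lor (2 ^ k) (bitsOf L) = 2 ^ k ||| bitsOf L from rfl, Nat.testBit_or, Bool.or_eq_true,
      testBit_bitsOf L j, Nat.testBit_two_pow, decide_eq_true_iff, List.mem_cons, eq_comm]

/-- The checks on the index lists. -/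
def setsOK (V : List ℕ) (PS : List (List ℕ)) : Bool :=
  PS.all (fun L => L.all fun k => decide (k < V.length)) && decide (PS.map bitsOf).Nodup

theorem vecSet_injective {V : List ℕ} {PS : List (List ℕ)} (hV : vecsOK V = true)
    (hS : setsOK V PS = true) {N : ℕ} (hN : PS.length = N) :
    Function.Injective fun i : Fin N => vecSet V (PS.getD i []) := by
  simp only [vecsOK, setsOK, Bool.and_eq_true, List.all_eq_true, decide_eq_true_iff] at hV hS
  intro i j h
  have key : ∀ i j : Fin N, vecSet V (PS.getD i []) ⊆ vecSet V (PS.getD j []) →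
      ∀ k ∈ PS.getD i [], k ∈ PS.getD j [] := by
    intro i j hsub k hk
    have hlt : ∀ (i : Fin N), ∀ k ∈ PS.getD i [], k < V.length := fun i k hk => by
      rw [List.getD_eq_getElem _ _ (hN ▸ i.2)] at hk
      exact hS.1 _ (List.getElem_mem _) k hk
    obtain ⟨l, hl, e⟩ := hsub (show (⟨_, inLat_mem (hV.1 _ (by
      rw [List.getD_eq_getElem _ _ (hlt i k hk)]; exact List.getElem_mem _)).2⟩ : leechLattice) ∈
        vecSet V (PS.getD i []) from ⟨k, hk, rfl⟩)
    have hk' := hlt i k hk
    have hl' := hlt j l hl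
    simp only [List.getD_eq_getElem _ _ hk', List.getD_eq_getElem _ _ hl'] at e
    have := (hV.2.getElem_inj_iff).1 (decV_inj (hV.1 _ (List.getElem_mem hk')).1
      (hV.1 _ (List.getElem_mem hl')).1 e)
    exact this ▸ hl
  have e : bitsOf (PS.getD i []) = bitsOf (PS.getD j []) := Nat.eq_of_testBit_eq fun k => by
    rw [Bool.eq_iff_iff, testBit_bitsOf, testBit_bitsOf]
    exact ⟨key i j h.le k, key j i h.ge k⟩
  rw [List.getD_eq_getElem _ _ (hN ▸ i.2), List.getD_eq_getElem _ _ (hN ▸ j.2)] at e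
  refine Fin.ext ((hS.2.getElem_inj_iff (hi := by simpa [hN] using i.2) (hj := by simpa [hN] using j.2)).1 ?_)
  simpa using e

/-- A matrix permutes the vectors as the table `σ`. -/
def permChk (M : GolayPt → GolayPt → ℤ) (V σ : List ℕ) (ks : List ℕ) : Bool :=
  ks.all fun k => decide (σ.getD k 0 < V.length) &&
    (List.range 24).all fun i => decide (matFun M (decV (V.getD k 0)) (pt i) = decV (V.getD (σ.getD k 0) 0) (pt i))

/-- A table permutes the index lists as the table `T`. -/
def imageChk (PS : List (List ℕ)) (σ T : List ℕ) (is : List ℕ) : Bool :=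
  is.all fun i =>
    let A := PS.getD i []
    let B := PS.getD (T.getD i 0) []
    A.all (fun k => B.contains (σ.getD k 0)) && B.all (fun l => A.any fun k => σ.getD k 0 == l)

theorem permChk_spec {M : GolayPt → GolayPt → ℤ} {V σ ks : List ℕ} (h : permChk M V σ ks = true) {k : ℕ}
    (hk : k ∈ ks) : matFun M (decV (V.getD k 0)) = decV (V.getD (σ.getD k 0) 0) := by
  simp only [permChk, List.all_eq_true, Bool.and_eq_true, decide_eq_true_iff, List.mem_range] at h
  funext p
  have := (h k hk).2 (idx p) (idx_lt p)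
  rwa [pt_idx] at this

theorem smul_vecSet {M : GolayPt → GolayPt → ℤ} (hM : matOK M = true) {V σ T : List ℕ}
    {PS : List (List ℕ)} (hV : vecsOK V = true) (hS : setsOK V PS = true)
    (hp : ∀ k < V.length, matFun M (decV (V.getD k 0)) = decV (V.getD (σ.getD k 0) 0)) {i : ℕ}
    (hi : i < PS.length) (him : imageChk PS σ T [i] = true) :
    matCo0 M hM • vecSet V (PS.getD i []) = vecSet V (PS.getD (T.getD i 0) []) := by
  simp only [vecsOK, setsOK, Bool.and_eq_true, List.all_eq_true, decide_eq_true_iff] at hV hS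
  simp only [imageChk, List.all_cons, List.all_nil, Bool.and_true, Bool.and_eq_true, List.all_eq_true,
    List.contains_iff_mem, List.any_eq_true, beq_iff_eq] at him
  have hlt : ∀ k ∈ PS.getD i [], k < V.length := fun k hk => by
    rw [List.getD_eq_getElem _ _ hi] at hk
    exact hS.1 _ (List.getElem_mem hi) k hk
  ext y
  constructor
  · rintro ⟨x, ⟨k, hk, e⟩, rfl⟩
    refine ⟨σ.getD k 0, him.1 k hk, ?_⟩
    show ((matCo0 M hM • x : leechLattice) : GolayPt → ℤ) = _
    rw [matCo0_smul, e, hp k (hlt k hk)]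
  · rintro ⟨l, hl, e⟩
    obtain ⟨k, hk, rfl⟩ := him.2 l hl
    refine ⟨⟨_, inLat_mem (hV.1 (V.getD k 0) (by
      rw [List.getD_eq_getElem _ _ (hlt k hk)]; exact List.getElem_mem _)).2⟩, ⟨k, hk, rfl⟩, Subtype.ext ?_⟩
    show ((matCo0 M hM • _ : leechLattice) : GolayPt → ℤ) = _
    rw [matCo0_smul, e, ← hp k (hlt k hk)]

/-- Conjugate triple stabilisers are isomorphic. -/
theorem stab3_iso {u v x u' v' x' : leechLattice} (g : Co0) (h1 : g • u = u') (h2 : g • v = v')
    (h3 : g • x = x') :
    Nonempty (↥(MulAction.stabilizer Co0 u ⊓ MulAction.stabilizer Co0 v ⊓ MulAction.stabilizer Co0 x) ≃*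
      ↥(MulAction.stabilizer Co0 u' ⊓ MulAction.stabilizer Co0 v' ⊓ MulAction.stabilizer Co0 x')) := by
  refine ⟨((MulAut.conj g).subgroupMap _).trans (MulEquiv.subgroupCongr ?_)⟩
  ext k
  simp only [Subgroup.mem_map, Subgroup.mem_inf, MulAction.mem_stabilizer_iff, MonoidHom.coe_coe,
    MulAut.conj_apply]
  constructor
  · rintro ⟨a, ⟨⟨a1, a2⟩, a3⟩, rfl⟩
    subst h1 h2 h3
    refine ⟨⟨?_, ?_⟩, ?_⟩ <;> rw [mul_smul, mul_smul, inv_smul_smul]
    · rw [a1]
    · rw [a2]
    · rw [a3]
  · rintro ⟨⟨k1, k2⟩, k3⟩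
    refine ⟨g⁻¹ * k * g, ⟨⟨?_, ?_⟩, ?_⟩, by group⟩ <;> rw [mul_smul, mul_smul, inv_smul_eq_iff]
    · rw [h1, k1]
    · rw [h2, k2]
    · rw [h3, k3]

/-- Orbit counting for the stabiliser of a point inside a stabiliser. -/
theorem card_inf_stab {A : Subgroup Co0} (x : leechLattice) (n : ℕ)
    (hn : (MulAction.orbit A x).ncard = n) :
    Nat.card ↥(A ⊓ MulAction.stabilizer Co0 x) * n = Nat.card A := by
  have h := (MulAction.stabilizer A x).card_mul_index
  rw [MulAction.index_stabilizer, hn] at h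
  rw [← h]
  congr 1
  exact Nat.card_congr
    { toFun := fun a => ⟨⟨a.1, a.2.1⟩, a.2.2⟩
      invFun := fun a => ⟨a.1.1, a.1.2, a.2⟩
      left_inv := fun _ => rfl
      right_inv := fun _ => rfl }

end CfsgLib.Golay.OrbitTree
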