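import Mathlib

/-!
Sets of involutions any two of which commute or have a product of a fixed odd prime order `p`:
elementary lemmas, and the configuration that cannot occur in a solvable group.
-/

set_option autoImplicit false

namespace CfsgLib.PrimeTransp

open scoped commutatorElement

variable {G : Type*} [Group G]

/-- A conjugation-closed set of involutions in which non-commuting members have a product of
order `p`. -/
structure IsPTransp (p : ℕ) (D : Set G) : Prop where
  conj : ∀ g : G, ∀ d ∈ D, g * d * g⁻¹ ∈ D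
  sq : ∀ d ∈ D, d * d = 1
  ne_one : ∀ d ∈ D, d ≠ 1
  prod : ∀ a ∈ D, ∀ b ∈ D, ¬ Commute a b → (a * b) ^ p = 1

section Odd

variable {p : ℕ}

theorem eq_one_of_pow_two (hp : Odd p) {g : G} (h2 : g ^ 2 = 1) (hg : g ^ p = 1) : g = 1 := by
  obtain ⟨m, rfl⟩ := hp
  rwa [pow_succ, pow_mul, h2, one_pow, one_mul] at hg

theorem eq_one_of_pow_four (hp : Odd p) {g : G} (h4 : g ^ 4 = 1) (hg : g ^ p = 1) : g = 1 := by
  refine eq_one_of_pow_two hp (eq_one_of_pow_two hp ?_ ?_) hg
  · rw [← pow_mul]; exact h4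
  · rw [← pow_mul, mul_comm, pow_mul, hg, one_pow]

theorem sq_injective (hp : Odd p) {g h : G} (hg : g ^ p = 1) (hh : h ^ p = 1)
    (e : g * g = h * h) : g = h := by
  obtain ⟨m, rfl⟩ := hp
  have k : ∀ x : G, x ^ (2 * m + 1) = 1 → (x * x) ^ (m + 1) = x := fun x hx => by
    rw [← sq, ← pow_mul, show 2 * (m + 1) = (2 * m + 1) + 1 by ring, pow_succ, hx, one_mul]
  rw [← k g hg, ← k h hh, e]

theorem half_add_half (hp : Odd p) : (p + 1) / 2 + (p + 1) / 2 = p + 1 := by
  obtain ⟨m, rfl⟩ := hp
  omega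

end Odd

theorem inv_eq_self {d : G} (h : d * d = 1) : d⁻¹ = d := inv_eq_of_mul_eq_one_right h

theorem mul_eq_one_iff_eq {a b : G} (hb : b * b = 1) : a * b = 1 ↔ a = b := by
  rw [mul_eq_one_iff_eq_inv, inv_eq_self hb]

/-- An involution inverts the powers of its product with another involution. -/
theorem mul_pow_conj {a b : G} (ha : a * a = 1) (hb : b * b = 1) (n : ℕ) :
    a * (a * b) ^ n * a = ((a * b) ^ n)⁻¹ := by
  have h1 : a * (a * b) * a⁻¹ = (a * b)⁻¹ := by
    rw [mul_inv_rev, inv_eq_self ha, inv_eq_self hb, ← mul_assoc, ha, one_mul]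
  have h := conj_pow (a := a) (b := a * b) (i := n)
  rw [h1, inv_pow, inv_eq_self ha] at h
  exact h.symm

theorem invert_pow {w u : G} (hw : w * w = 1) (h : w * u * w = u⁻¹) (n : ℕ) :
    w * u ^ n * w = (u ^ n)⁻¹ := by
  have e := conj_pow (a := w) (b := u) (i := n)
  rw [inv_eq_self hw, h, inv_pow] at e
  exact e.symm

namespace IsPTransp

variable {p : ℕ} {D : Set G}

theorem conj_self (hD : IsPTransp p D) {g d : G} (hg : g ∈ D) (hd : d ∈ D) : g * d * g ∈ D := by
  have := hD.conj g d hd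
  rwa [inv_eq_self (hD.sq g hg)] at this

theorem mul_self_cancel (hD : IsPTransp p D) {d : G} (hd : d ∈ D) (g : G) : d * (d * g) = g := by
  rw [← mul_assoc, hD.sq d hd, one_mul]

theorem pow_two_eq (hD : IsPTransp p D) {d : G} (hd : d ∈ D) : d ^ 2 = 1 := by
  rw [pow_two, hD.sq d hd]

theorem mul_ne_one (hD : IsPTransp p D) {a b : G} (hb : b ∈ D) (h : ¬ Commute a b) :
    a * b ≠ 1 := fun e => h (by rw [(mul_eq_one_iff_eq (hD.sq b hb)).1 e])

theorem conj_fixed (hD : IsPTransp p D) {a m : G} (hm : m ∈ D) (h : Commute a m) :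
    m * a * m = a := by
  rw [← h.eq, mul_assoc, hD.sq m hm, mul_one]

theorem commute_of_conj_fixed (hD : IsPTransp p D) {a m : G} (hm : m ∈ D)
    (h : m * a * m = a) : Commute a m := by
  show a * m = m * a
  nth_rewrite 1 [← h]
  rw [mul_assoc, hD.sq m hm, mul_one]

theorem conj_injective (hD : IsPTransp p D) (hp : Odd p) {m a b : G} (hm : m ∈ D) (ha : a ∈ D)
    (hb : b ∈ D) (hma : ¬ Commute m a) (e : a * m * a = b * m * b) : a = b := by
  have hmb : ¬ Commute m b := fun h => hma
    (hD.commute_of_conj_fixed ha (by rw [e, hD.conj_fixed hb h]))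
  refine mul_left_cancel (sq_injective hp (hD.prod m hm a ha hma) (hD.prod m hm b hb hmb) ?_)
  calc m * a * (m * a) = m * (a * m * a) := by group
    _ = m * (b * m * b) := by rw [e]
    _ = m * b * (m * b) := by group

theorem commute_of_commute_mul (hD : IsPTransp p D) (hp : Odd p) {x a m : G} (hx : x ∈ D)
    (ha : a ∈ D) (hm : m ∈ D) (hxa : Commute x a) (hne : x ≠ a) (h : Commute m (x * a)) :
    Commute m x := by
  by_contra hmx
  refine hne (hD.conj_injective hp hm hx ha hmx ?_)
  calc x * m * x = x * (m * (x * a)) * a := by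
        rw [← mul_assoc, ← mul_assoc, mul_assoc (x * m * x), hD.sq a ha, mul_one]
    _ = x * (x * a * m) * a := by rw [h.eq]
    _ = a * m * a := by rw [mul_assoc x a m, hD.mul_self_cancel hx]

theorem commute_of_commute_mul' (hD : IsPTransp p D) (hp : Odd p) {x a m : G} (hx : x ∈ D)
    (ha : a ∈ D) (hm : m ∈ D) (hxa : Commute x a) (hne : x ≠ a) (h : Commute m (x * a)) :
    Commute m a :=
  hD.commute_of_commute_mul hp ha hx hm hxa.symm hne.symm (by rwa [hxa.symm.eq])

theorem not_commute_conj (hD : IsPTransp p D) (hp : Odd p) {a b : G} (ha : a ∈ D) (hb : b ∈ D)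
    (h : ¬ Commute a b) : ¬ Commute a (b * a * b) := fun hc => by
  refine hD.mul_ne_one hb h (eq_one_of_pow_four hp ?_ (hD.prod a ha b hb h))
  have e : (a * b) ^ 2 = a * (b * a * b) := by rw [pow_two]; group
  rw [show 4 = 2 * 2 from rfl, pow_mul, e, hc.mul_pow, hD.pow_two_eq ha,
    hD.pow_two_eq (hD.conj_self hb ha), one_mul]

theorem commute_of_commute_prod (hD : IsPTransp p D) (hp : Odd p) {w z d : G} (hw : w ∈ D)
    (hz : z ∈ D) (hd : d ∈ D) (hwz : ¬ Commute w z) (h : Commute d (w * z)) :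
    Commute d w ∧ Commute d z := by
  have h1 : Commute d w := by
    by_contra hdw
    refine hwz ?_
    rw [hD.conj_injective hp hd hw hz hdw ?_]
    calc w * d * w = w * (d * (w * z)) * z := by
          rw [← mul_assoc, ← mul_assoc, mul_assoc (w * d * w), hD.sq z hz, mul_one]
      _ = w * (w * z * d) * z := by rw [h.eq]
      _ = z * d * z := by rw [mul_assoc w z d, hD.mul_self_cancel hw]
  refine ⟨h1, ?_⟩
  rw [← hD.mul_self_cancel hw z]
  exact h1.mul_right h

/-- The point of the line through `y` and `z` whose conjugation exchanges them. -/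
theorem exists_midpoint (hD : IsPTransp p D) (hp : Odd p) {y z : G} (hy : y ∈ D) (hz : z ∈ D)
    (h : ¬ Commute y z) :
    ∃ m ∈ D, m * y * m = z ∧ ∃ k : ℕ, m = y * (y * z) ^ k := by
  have hy2 := hD.sq y hy
  have hw : (y * z) ^ p = 1 := hD.prod y hy z hz h
  obtain ⟨k, hk⟩ : ∃ k, k = (p + 1) / 2 := ⟨_, rfl⟩
  have hkk : k + k = p + 1 := hk ▸ half_add_half hp
  refine ⟨y * (y * z) ^ k, ?_, ?_, k, rfl⟩
  · have hinv := mul_pow_conj hy2 (hD.sq z hz) (k * k)
    have e : (y * z) ^ k = (y * z) ^ (k * k) * (y * z) ^ (k * k) := by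
      rw [← pow_add, ← add_mul, hkk, add_mul, one_mul, pow_add, pow_mul, hw, one_pow, one_mul]
    have e' : y * (y * z) ^ k = ((y * z) ^ (k * k))⁻¹ * y * (((y * z) ^ (k * k))⁻¹)⁻¹ := by
      rw [inv_inv, ← hinv, mul_assoc (y * (y * z) ^ (k * k)), hy2, mul_one, e, mul_assoc]
    rw [e']
    exact hD.conj _ y hy
  · calc y * (y * z) ^ k * y * (y * (y * z) ^ k)
        = y * (y * z) ^ k * (y * y) * (y * z) ^ k := by group
      _ = y * (y * z) ^ (k + k) := by rw [hy2, mul_one, mul_assoc, ← pow_add]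
      _ = z := by rw [hkk, pow_succ, hw, one_mul, hD.mul_self_cancel hy]

theorem exists_conj (hD : IsPTransp p D) (hp : Odd p) {y z : G} (hy : y ∈ D) (hz : z ∈ D)
    (h : ¬ Commute y z) : ∃ g : G, g * y * g⁻¹ = z := by
  obtain ⟨m, hm, e, -⟩ := hD.exists_midpoint hp hy hz h
  exact ⟨m, by rwa [inv_eq_self (hD.sq m hm)]⟩

/-- Replacing a set by its intersection with a subgroup. -/
theorem preimage (hD : IsPTransp p D) (H : Subgroup G) :
    IsPTransp p {h : H | (h : G) ∈ D} where
  conj g d hd := hD.conj g.1 d.1 hd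
  sq d hd := Subtype.ext (hD.sq d.1 hd)
  ne_one d hd e := hD.ne_one d.1 hd (congrArg Subtype.val e)
  prod a ha b hb h := Subtype.ext (hD.prod a.1 ha b.1 hb fun c => h (Subtype.ext c.eq))

/-- The nontrivial images in a quotient. -/
theorem image {Q : Type*} [Group Q] (hD : IsPTransp p D) (f : G →* Q)
    (hf : Function.Surjective f) : IsPTransp p ((f '' D) \ {1}) where
  conj g d hd := by
    obtain ⟨⟨a, ha, rfl⟩, hne⟩ := hd
    obtain ⟨g, rfl⟩ := hf g
    refine ⟨⟨g * a * g⁻¹, hD.conj g a ha, by simp⟩, fun e => hne ?_⟩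
    simpa using e
  sq d hd := by
    obtain ⟨⟨a, ha, rfl⟩, -⟩ := hd
    rw [← map_mul, hD.sq a ha, map_one]
  ne_one d hd := hd.2
  prod a ha b hb h := by
    obtain ⟨⟨a, ha, rfl⟩, -⟩ := ha
    obtain ⟨⟨b, hb, rfl⟩, -⟩ := hb
    rw [← map_mul, ← map_pow, hD.prod a ha b hb fun c => h (c.map f), map_one]

end IsPTransp

/-! ### Solvable groups -/

private theorem derived_absurd {p : ℕ} (hp : Odd p) : ∀ (n : ℕ) (X : Type _) [Group X] (x a y : X),
    derivedSeries X n = ⊥ → x * x = 1 → a * a = 1 → y * y = 1 → Commute x a →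
    (y * x) ^ p = 1 → (y * a) ^ p = 1 → (y * (x * a)) ^ p = 1 →
    y * x ≠ 1 → y * a ≠ 1 → y * (x * a) ≠ 1 → False := by
  intro n
  induction n with
  | zero =>
    intro X _ x a y hn _ _ _ _ _ _ _ h1 _ _
    rw [derivedSeries_zero] at hn
    exact h1 ((Subgroup.mem_bot).1 (hn ▸ Subgroup.mem_top _))
  | succ n ih =>
    intro X _ x a y hn hx ha hy hxa p1 p2 p3 n1 n2 n3
    have hN : (derivedSeries X n).Normal := derivedSeries_normal X n
    set N := derivedSeries X n with hNdef
    have hab : ∀ u ∈ N, ∀ v ∈ N, Commute u v := by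
      intro u hu v hv
      have : ⁅u, v⁆ ∈ derivedSeries X (n + 1) := by
        rw [derivedSeries_succ]; exact Subgroup.commutator_mem_commutator hu hv
      rw [hn, Subgroup.mem_bot] at this
      exact commutatorElement_eq_one_iff_commute.1 this
    -- no involution which is inverted into a product of order `p` lies in `N`
    have key : ∀ z : X, z * z = 1 → (y * z) ^ p = 1 → y * z ≠ 1 → z ∉ N := fun z hz pz nz hzN => by
      refine nz (eq_one_of_pow_four hp ?_ pz)
      have hz' : y * z * y ∈ N := by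
        have := hN.conj_mem z hzN y
        rwa [inv_eq_self hy] at this
      have e : (y * z) ^ 2 = y * z * y * z := by rw [pow_two]; group
      have e2 : (y * z * y) ^ 2 = 1 := by
        calc (y * z * y) ^ 2 = y * z * (y * y) * z * y := by rw [pow_two]; group
          _ = y * (z * z) * y := by rw [hy]; group
          _ = 1 := by rw [hz, mul_one, hy]
      rw [show 4 = 2 * 2 from rfl, pow_mul, e, (hab _ hz' _ hzN).mul_pow, e2, one_mul, sq, hz]
    have hxa2 : x * a * (x * a) = 1 := by
      rw [mul_assoc, ← mul_assoc a, ← hxa.eq, mul_assoc x a a, ha, mul_one, hx]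
    let q := QuotientGroup.mk' N
    have hq : Function.Surjective q := QuotientGroup.mk'_surjective N
    have hker : ∀ z, q z = 1 → z ∈ N := fun z hz => (QuotientGroup.eq_one_iff z).1 hz
    have hsq : ∀ {z : X}, z * z = 1 → q z * q z = 1 := fun {z} hz => by
      rw [← map_mul, hz, map_one]
    have heq : ∀ {z : X}, z * z = 1 → q (y * z) = 1 → q y = q z := fun {z} hz e =>
      (mul_eq_one_iff_eq (hsq hz)).1 (by rwa [← map_mul])
    -- commuting images with product of order dividing `p` coincide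
    have hcol : ∀ {z : X}, z * z = 1 → (y * z) ^ p = 1 → Commute (q y) (q z) → q y = q z :=
      fun {z} hz pz hc => heq hz (eq_one_of_pow_two hp (by
        rw [map_mul, hc.mul_pow, sq, sq, hsq hy, hsq hz, one_mul])
        (by rw [← map_pow, pz, map_one]))
    by_cases e1 : q (y * x) = 1
    · have e := hcol ha p2 (by rw [heq hx e1]; exact hxa.map q)
      exact key (x * a) hxa2 p3 n3 (hker _ (by rw [map_mul, ← heq hx e1, ← e, hsq hy]))
    by_cases e2 : q (y * a) = 1
    · have e := hcol hx p1 (by rw [heq ha e2]; exact (hxa.map q).symm)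
      exact key (x * a) hxa2 p3 n3 (hker _ (by rw [map_mul, ← heq ha e2, ← e, hsq hy]))
    by_cases e3 : q (y * (x * a)) = 1
    · have e := hcol ha p2 (by
        rw [heq hxa2 e3]; exact (Commute.mul_left hxa (Commute.refl a)).map q)
      refine key x hx p1 n1 (hker _ ?_)
      have e' := (heq hxa2 e3).symm.trans e
      rwa [map_mul, mul_eq_right] at e'
    refine ih (X ⧸ N) (q x) (q a) (q y) ?_ (hsq hx) (hsq ha) (hsq hy) (hxa.map q) ?_ ?_ ?_
      ?_ ?_ ?_
    · rw [← map_derivedSeries_eq hq, Subgroup.map_eq_bot_iff, QuotientGroup.ker_mk']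
    · rw [← map_mul, ← map_pow, p1, map_one]
    · rw [← map_mul, ← map_pow, p2, map_one]
    · rw [← map_mul, ← map_mul, ← map_pow, p3, map_one]
    · rwa [← map_mul]
    · rwa [← map_mul]
    · rwa [← map_mul, ← map_mul]

/-- In a solvable group no involution forms products of order `p` with the three involutions of a
four-group. -/
theorem no_triple_of_isSolvable {X : Type*} [Group X] [Group.IsSolvable X] {p : ℕ} (hp : Odd p)
    {x a y : X} (hx : x * x = 1) (ha : a * a = 1) (hy : y * y = 1) (hxa : Commute x a)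
    (p1 : (y * x) ^ p = 1) (p2 : (y * a) ^ p = 1) (p3 : (y * (x * a)) ^ p = 1)
    (n1 : y * x ≠ 1) (n2 : y * a ≠ 1) (n3 : y * (x * a) ≠ 1) : False := by
  obtain ⟨n, hn⟩ := Group.IsSolvable.solvable (G := X)
  exact derived_absurd hp n X x a y hn hx ha hy hxa p1 p2 p3 n1 n2 n3

end CfsgLib.PrimeTransp
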