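import Cfsg.Agent.Lib.Golay.PrimeTranspBasic
import Cfsg.Agent.Lib.Comp.Subnormal
import Cfsg.Agent.Lib.Perm.InvolPProducts

/-!
A minimal non-solvable group generated by involutions whose pairwise products have order at most two
or a fixed prime `p ≥ 5`: commuting is an equivalence relation on the involutions, and any two distinct
commuting ones have their product among them.
-/

set_option autoImplicit false

namespace CfsgLib.PrimeTransp

open Subgroup

variable {G : Type*} [Group G]

/-- A minimal counterexample. -/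
structure Min (p : ℕ) (D : Set G) : Prop extends IsPTransp p D where
  prime : p.Prime
  five : 5 ≤ p
  nonempty : D.Nonempty
  gen : Subgroup.closure D = ⊤
  rad : ∀ N : Subgroup G, N.Normal → Group.IsSolvable N → N = ⊥
  proper : ∀ H : Subgroup G, H ≠ ⊤ → Group.IsSolvable (Subgroup.closure (D ∩ H))

/-- Members of `D` with the same commuting set. -/
def Twin (D : Set G) (a b : G) : Prop := ∀ w ∈ D, (Commute w a ↔ Commute w b)

/-- Three elements lying in no proper subgroup. -/
def Generates (x a y : G) : Prop := ∀ H : Subgroup G, x ∈ H → a ∈ H → y ∈ H → H = ⊤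

theorem commute_of_conj_eq {t a : G} (ht : t * t = 1) (h : t * a * t = a) : Commute a t := by
  show a * t = t * a
  nth_rewrite 1 [← h]
  rw [mul_assoc, ht, mul_one]

namespace Min

variable {p : ℕ} {D : Set G} [Finite G]

theorem odd (hM : Min p D) : Odd p := hM.prime.odd_of_ne_two (by have := hM.five; omega)

theorem eq_one_of_commute_all (hM : Min p D) {g : G} (h : ∀ d ∈ D, Commute g d) : g = 1 := by
  have hg : g ∈ Subgroup.center G := by
    rw [Subgroup.mem_center_iff]
    intro z
    have hz : z ∈ Subgroup.centralizer ({g} : Set G) := by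
      refine (Subgroup.closure_le _).2 (fun d hd => ?_) (hM.gen ▸ Subgroup.mem_top z)
      exact Subgroup.mem_centralizer_singleton_iff.2 (h d hd).symm.eq
    exact Subgroup.mem_centralizer_singleton_iff.1 hz
  rw [hM.rad (Subgroup.center G) inferInstance
    (Group.isSolvable_of_comm fun a b => Subtype.ext (Subgroup.mem_center_iff.1 b.2 a.1))] at hg
  exact Subgroup.mem_bot.1 hg

theorem eq_one_of_commute_three (hM : Min p D) {x a y g : G} (hgen : Generates x a y)
    (h1 : Commute g x) (h2 : Commute g a) (h3 : Commute g y) : g = 1 := by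
  refine hM.eq_one_of_commute_all fun d _ => ?_
  have hd : d ∈ Subgroup.centralizer ({g} : Set G) := by
    rw [hgen (Subgroup.centralizer {g}) (Subgroup.mem_centralizer_singleton_iff.2 h1.symm.eq)
      (Subgroup.mem_centralizer_singleton_iff.2 h2.symm.eq)
      (Subgroup.mem_centralizer_singleton_iff.2 h3.symm.eq)]
    exact Subgroup.mem_top d
  exact Commute.symm (Subgroup.mem_centralizer_singleton_iff.1 hd)

theorem gen_triple (hM : Min p D) {x a y : G} (hx : x ∈ D) (ha : a ∈ D) (hy : y ∈ D)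
    (hxa : Commute x a) (hb : x * a ∈ D) (hyx : ¬ Commute y x) (hya : ¬ Commute y a)
    (hyb : ¬ Commute y (x * a)) : Generates x a y := by
  intro H hxH haH hyH
  by_contra hne
  have : Group.IsSolvable (Subgroup.closure (D ∩ H)) := hM.proper H hne
  let X := Subgroup.closure (D ∩ H)
  let x' : X := ⟨x, Subgroup.subset_closure ⟨hx, hxH⟩⟩
  let a' : X := ⟨a, Subgroup.subset_closure ⟨ha, haH⟩⟩
  let y' : X := ⟨y, Subgroup.subset_closure ⟨hy, hyH⟩⟩
  exact no_triple_of_isSolvable hM.odd (x := x') (a := a') (y := y')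
    (Subtype.ext (hM.sq x hx)) (Subtype.ext (hM.sq a ha)) (Subtype.ext (hM.sq y hy))
    (Subtype.ext hxa.eq) (Subtype.ext (hM.prod y hy x hx hyx))
    (Subtype.ext (hM.prod y hy a ha hya)) (Subtype.ext (hM.prod y hy _ hb hyb))
    (fun e => hM.mul_ne_one hx hyx (congrArg Subtype.val e))
    (fun e => hM.mul_ne_one ha hya (congrArg Subtype.val e))
    (fun e => hM.mul_ne_one hb hyb (congrArg Subtype.val e))

/-- The dichotomy: `y` commutes with its conjugate under the product of two commuting members,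
unless that product is a member. -/
theorem dich (hM : Min p D) {x a y : G} (hx : x ∈ D) (ha : a ∈ D) (hy : y ∈ D)
    (hxa : Commute x a) (hne : x ≠ a) (hyx : ¬ Commute y x) (hya : ¬ Commute y a)
    (ht : x * a ∉ D) : Commute y (x * a * y * (x * a)) := by
  by_contra hyz
  set t := x * a with htdef
  have hx2 := hM.sq x hx
  have ha2 := hM.sq a ha
  have ht2 : t * t = 1 := by
    rw [htdef, mul_assoc, ← mul_assoc a, ← hxa.eq, mul_assoc x a a, ha2, mul_one, hx2]
  have hz : t * y * t ∈ D := by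
    have := hM.conj t y hy
    rwa [inv_eq_self ht2] at this
  set z := t * y * t with hzdef
  obtain ⟨m, hm, hmy, -⟩ := hM.exists_midpoint hM.odd hy hz hyz
  have hmz : m * z * m = y := by
    rw [← hmy]
    calc m * (m * y * m) * m = m * m * y * (m * m) := by group
      _ = y := by rw [hM.sq m hm, one_mul, mul_one]
  have hm' : t * m * t ∈ D := by
    have := hM.conj t m hm
    rwa [inv_eq_self ht2] at this
  have hym : ¬ Commute y m := fun h => hyz (by rw [← hmy, hM.conj_fixed hm h])
  have heq : m = t * m * t := by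
    refine hM.conj_injective hM.odd hy hm hm' hym ?_
    rw [hmy]
    calc z = t * y * t := rfl
      _ = t * (m * z * m) * t := by rw [hmz]
      _ = t * m * t * y * (t * m * t) := by rw [hzdef]; group
  have hmt : Commute m t := commute_of_conj_eq ht2 heq.symm
  have hmx := hM.commute_of_commute_mul hM.odd hx ha hm hxa hne hmt
  have hma := hM.commute_of_commute_mul' hM.odd hx ha hm hxa hne hmt
  obtain ⟨s, hsdef⟩ : ∃ s, s = m * t := ⟨_, rfl⟩
  have hs2 : s * s = 1 := by
    rw [hsdef, mul_assoc, ← mul_assoc t, ← hmt.eq, mul_assoc m t t, ht2, mul_one, hM.sq m hm]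
  have hsne : s ≠ 1 := fun e => ht (by
    rw [hsdef] at e; rwa [← (mul_eq_one_iff_eq ht2).1 e])
  have hsy : Commute s y := by
    refine (commute_of_conj_eq hs2 ?_).symm
    calc s * y * s = m * (t * y * t) * (t * s) := by rw [mul_assoc]; rw [show
          m * (t * y * t) * (t * s) = m * t * y * (t * t) * s by group, ht2, hsdef]; group
      _ = y := by rw [show t * s = m by
            rw [hsdef, hmt.eq, ← mul_assoc, ht2, one_mul]]; exact hmz
  have hxt : Commute x t := (Commute.refl x).mul_right hxa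
  have hat : Commute a t := hxa.symm.mul_right (Commute.refl a)
  have hsx : Commute s x := hsdef ▸ hmx.mul_left hxt.symm
  have hsa : Commute s a := hsdef ▸ hma.mul_left hat.symm
  have hsm : Commute s m := hsdef ▸ (Commute.refl m).mul_left hmt.symm
  -- the subgroup centralising `s`
  let C := Subgroup.centralizer ({s} : Set G)
  have hmemC : ∀ {g : G}, Commute s g → g ∈ C := fun h =>
    Subgroup.mem_centralizer_singleton_iff.2 h.symm.eq
  have hC : C ≠ ⊤ := fun e => hsne (hM.eq_one_of_commute_all fun d _ =>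
    (Commute.symm (Subgroup.mem_centralizer_singleton_iff.1
      (show d ∈ C by rw [e]; exact Subgroup.mem_top d))))
  have : Group.IsSolvable (Subgroup.closure (D ∩ C)) := hM.proper C hC
  let X := Subgroup.closure (D ∩ C)
  have hXC : ∀ g : X, Commute s g.1 := fun g => (Subgroup.mem_centralizer_singleton_iff.1
    ((Subgroup.closure_le C).2 (Set.inter_subset_right) g.2)).symm
  let x' : X := ⟨x, Subgroup.subset_closure ⟨hx, hmemC hsx⟩⟩
  let a' : X := ⟨a, Subgroup.subset_closure ⟨ha, hmemC hsa⟩⟩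
  let y' : X := ⟨y, Subgroup.subset_closure ⟨hy, hmemC hsy⟩⟩
  let m' : X := ⟨m, Subgroup.subset_closure ⟨hm, hmemC hsm⟩⟩
  let s' : X := m' * (x' * a')
  have hs' : s'.1 = s := hsdef.symm
  have hN : (Subgroup.zpowers s').Normal := by
    refine ⟨fun n hn g => ?_⟩
    obtain ⟨i, rfl⟩ := hn
    have hc : Commute g (s' ^ i) := (Commute.zpow_right
      (show Commute g s' from Subtype.ext ((hs'.symm ▸ hXC g).symm.eq)) i)
    rw [hc.eq, mul_inv_cancel_right]
    exact ⟨i, rfl⟩
  let q := QuotientGroup.mk' (Subgroup.zpowers s')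
  have hqs : q s' = 1 := (QuotientGroup.eq_one_iff s').2 (Subgroup.mem_zpowers s')
  have hqm : q (x' * a') = q m' := by
    have : q m' * q (x' * a') = 1 := by rw [← map_mul]; exact hqs
    rw [← mul_left_cancel_iff (a := q m'), this, ← map_mul,
      show m' * m' = 1 from Subtype.ext (hM.sq m hm), map_one]
  have hne1 : ∀ v : X, v.1 ∈ D → ¬ Commute y v.1 → q (y' * v) ≠ 1 := fun v hv hyv e => by
    obtain ⟨i, hi⟩ := (QuotientGroup.eq_one_iff _).1 e
    refine hM.mul_ne_one hv hyv (eq_one_of_pow_two hM.odd ?_ (hM.prod y hy v.1 hv hyv))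
    have h2 : (y' * v) ^ 2 = 1 := by
      rw [← hi, ← zpow_natCast, ← zpow_mul, mul_comm, zpow_mul, zpow_natCast, pow_two,
        show s' * s' = 1 from Subtype.ext (by rw [Subgroup.coe_mul, hs']; exact hs2), one_zpow]
    exact congrArg Subtype.val h2
  have hp1 : ∀ v : X, v.1 ∈ D → ¬ Commute y v.1 → (q y' * q v) ^ p = 1 := fun v hv hyv => by
    rw [← map_mul, ← map_pow,
      show (y' * v) ^ p = 1 from Subtype.ext (hM.prod y hy v.1 hv hyv), map_one]
  have hqxa : q x' * q a' = q m' := by rw [← map_mul, hqm]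
  refine no_triple_of_isSolvable hM.odd (x := q x') (a := q a') (y := q y') ?_ ?_ ?_ ?_
    (hp1 x' hx hyx) (hp1 a' ha hya) ?_ (by rw [← map_mul]; exact hne1 x' hx hyx)
    (by rw [← map_mul]; exact hne1 a' ha hya) ?_
  · rw [← map_mul, show x' * x' = 1 from Subtype.ext hx2, map_one]
  · rw [← map_mul, show a' * a' = 1 from Subtype.ext ha2, map_one]
  · rw [← map_mul, show y' * y' = 1 from Subtype.ext (hM.sq y hy), map_one]
  · exact (show Commute x' a' from Subtype.ext hxa.eq).map q
  · rw [hqxa]; exact hp1 m' hm hym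
  · rw [hqxa, ← map_mul]; exact hne1 m' hm hym

omit [Finite G] in
theorem exists_pow_pow_eq (hM : Min p D) {u : G} (hu : u ^ p = 1) (h1 : u ≠ 1) {k : ℕ}
    (hk : ¬ p ∣ k) : ∃ j : ℕ, (u ^ k) ^ j = u := by
  refine exists_pow_eq_self_of_coprime ?_
  have := Fact.mk hM.prime
  rw [orderOf_eq_prime hu h1]
  exact (hM.prime.coprime_iff_not_dvd.2 hk).symm

/-- Two commuting members whose product is not a member extend to four pairwise commuting members
with product one. -/
theorem exists_quad (hM : Min p D) {x a y : G} (hx : x ∈ D) (ha : a ∈ D) (hy : y ∈ D)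
    (hxa : Commute x a) (hne : x ≠ a) (hyx : ¬ Commute y x) (hya : ¬ Commute y a)
    (ht : x * a ∉ D) : ∃ b ∈ D, ∃ c ∈ D, b * c = x * a ∧ Commute b c ∧ Commute x b ∧ Commute x c ∧
      Commute a b ∧ Commute a c ∧ b ≠ x ∧ b ≠ a ∧ c ≠ x ∧ c ≠ a ∧ b ≠ c := by
  obtain ⟨t, htdef⟩ : ∃ t, t = x * a := ⟨_, rfl⟩
  obtain ⟨u, hudef⟩ : ∃ u, u = x * y := ⟨_, rfl⟩
  have hx2 := hM.sq x hx
  have ha2 := hM.sq a ha
  have ht2 : t * t = 1 := by
    rw [htdef, mul_assoc, ← mul_assoc a, ← hxa.eq, mul_assoc x a a, ha2, mul_one, hx2]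
  have hxy : ¬ Commute x y := fun h => hyx h.symm
  have hu : u ^ p = 1 := hudef ▸ hM.prod x hx y hy hxy
  have hu1 : u ≠ 1 := hudef ▸ hM.mul_ne_one hy hxy
  have hord : orderOf u = p := by
    have := Fact.mk hM.prime
    exact orderOf_eq_prime hu hu1
  have hxt : Commute x t := htdef ▸ (Commute.refl x).mul_right hxa
  have haxt : a = x * t := by rw [htdef, hM.mul_self_cancel hx]
  have hyu : y = x * u := by rw [hudef, hM.mul_self_cancel hx]
  have hxu : x * u * x = u⁻¹ := by
    rw [hudef, mul_inv_rev, inv_eq_self hx2, inv_eq_self (hM.sq y hy), ← mul_assoc x x y, hx2,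
      one_mul]
  -- a multiple of `u` commuting with `t` is trivial
  have hfree : ∀ k, ¬ p ∣ k → ¬ Commute t (u ^ k) := fun k hk h => by
    obtain ⟨j, hj⟩ := hM.exists_pow_pow_eq hu hu1 hk
    have htu : Commute t u := hj ▸ h.pow_right j
    refine hyx (hM.commute_of_commute_mul hM.odd hx ha hy hxa hne ?_)
    rw [← htdef, hyu]
    exact (hxt.symm.mul_right htu).symm
  let T : ℕ → G := fun k => u ^ k * t * (u ^ k)⁻¹
  have hT2 : ∀ k, T k * T k = 1 := fun k => by
    show u ^ k * t * (u ^ k)⁻¹ * (u ^ k * t * (u ^ k)⁻¹) = 1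
    calc _ = u ^ k * (t * t) * (u ^ k)⁻¹ := by group
      _ = 1 := by rw [ht2, mul_one, mul_inv_cancel]
  have hT0 : T 0 = t := by simp [T]
  have hTadd : ∀ i j, T (i + j) = u ^ i * T j * (u ^ i)⁻¹ := fun i j => by
    simp only [T, pow_add]; group
  have hTper : ∀ k, T (k + p) = T k := fun k => by simp only [T, pow_add, hu, mul_one]
  have hcomm0 : ∀ k, Commute t (T k) := fun k => by
    by_cases hk : p ∣ k
    · obtain ⟨j, rfl⟩ := hk
      simp only [T, pow_mul, hu, one_pow, one_mul, inv_one, mul_one]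
      exact Commute.refl t
    obtain ⟨g, hgdef⟩ : ∃ g, g = u ^ k := ⟨_, rfl⟩
    obtain ⟨h, hhdef⟩ : ∃ h, h = u ^ (k * ((p + 1) / 2)) := ⟨_, rfl⟩
    have hxg : x * g * x = g⁻¹ := hgdef ▸ invert_pow hx2 hxu k
    have hxh : x * h * x = h⁻¹ := hhdef ▸ invert_pow hx2 hxu _
    have hgh : g = h * h := by
      rw [hgdef, hhdef, ← pow_add, ← mul_add, half_add_half hM.odd, mul_add, mul_one, pow_add,
        mul_comm k p, pow_mul, hu, one_pow, one_mul]
    have hr : g * x ∈ D := by
      have : g * x = h * x * h⁻¹ := by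
        rw [← hxh, hgh]
        calc h * h * x = h * (x * x) * h * x := by rw [hx2, mul_one]
          _ = h * x * (x * h * x) := by group
      rw [this]
      exact hM.conj h x hx
    have hg1 : g ^ p = 1 := by rw [hgdef, ← pow_mul, mul_comm, pow_mul, hu, one_pow]
    have hrx : ¬ Commute (g * x) x := fun hc => by
      have e : g = g⁻¹ := by
        rw [← hxg]
        calc g = g * x * x := by rw [mul_assoc, hx2, mul_one]
          _ = x * (g * x) := hc.eq
          _ = x * g * x := by group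
      have : g = 1 := eq_one_of_pow_two hM.odd (by
        rw [pow_two]; nth_rewrite 2 [e]; exact mul_inv_cancel g) hg1
      exact hfree k hk (by rw [← hgdef, this]; exact Commute.one_right t)
    have hra : ¬ Commute (g * x) a := fun hc => by
      have hag : Commute a g := by
        have := hc.symm.mul_right hxa.symm
        rwa [mul_assoc, hx2, mul_one] at this
      obtain ⟨j, hj⟩ := hM.exists_pow_pow_eq hu hu1 hk
      refine hya (Commute.symm ?_)
      rw [hyu, ← hj, ← hgdef]
      exact hxa.symm.mul_right (hag.pow_right j)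
    have hd := hM.dich hx ha hr hxa hne hrx hra ht
    rw [← htdef] at hd
    have hTk : T k = g * x * t * (g * x) := by
      have e : (g * x)⁻¹ = g * x := inv_eq_self (hM.sq _ hr)
      calc T k = g * (x * t * x) * g⁻¹ := by
            rw [hxt.eq, mul_assoc t x x, hx2, mul_one, hgdef]
        _ = g * x * t * (g * x)⁻¹ := by rw [mul_inv_rev, inv_eq_self hx2]; group
        _ = g * x * t * (g * x) := by rw [e]
    rw [hTk]
    generalize g * x = r at hd
    show t * (r * t * r) = r * t * r * t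
    calc t * (r * t * r) = t * r * t * r := by group
      _ = r * (t * r * t) := hd.symm.eq
      _ = r * t * r * t := by group
  have hcomm : ∀ i j, Commute (T i) (T j) := fun i j => by
    have e : T j = T (i + (j + (p - 1) * i)) := by
      have : i + (j + (p - 1) * i) = j + p * i := by
        have := hM.five
        obtain ⟨q, rfl⟩ : ∃ q, p = q + 1 := ⟨p - 1, by omega⟩
        rw [Nat.add_sub_cancel]; ring
      simp only [T, this, pow_add, pow_mul, hu, one_pow, mul_one]
    rw [e, hTadd i (j + (p - 1) * i), show T i = u ^ i * T 0 * (u ^ i)⁻¹ by rw [hT0], hT0]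
    exact (Commute.conj_iff _).2 (hcomm0 _)
  have hneg : ∀ k, k ≤ p → x * T k * x = T (p - k) := fun k hk => by
    have e : u ^ (p - k) = (u ^ k)⁻¹ := eq_inv_of_mul_eq_one_left (by
      rw [← pow_add, Nat.sub_add_cancel hk, hu])
    simp only [T, e, inv_inv]
    calc x * (u ^ k * t * (u ^ k)⁻¹) * x
        = x * u ^ k * (x * x) * t * (x * x) * (u ^ k)⁻¹ * x := by rw [hx2]; group
      _ = x * u ^ k * x * (x * t * x) * (x * u ^ k * x⁻¹)⁻¹ := by
            rw [mul_inv_rev, mul_inv_rev, inv_inv, inv_eq_self hx2]; group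
      _ = (u ^ k)⁻¹ * t * u ^ k := by
            rw [inv_eq_self hx2, invert_pow hx2 hxu, inv_inv, hxt.eq, mul_assoc t x x, hx2, mul_one]
  have hnega : ∀ k, k ≤ p → a * T k * a = T (p - k) := fun k hk => by
    rw [← hneg k hk, haxt]
    calc x * t * T k * (x * t) = x * (t * T k) * x * t := by group
      _ = x * (T k * t) * x * t := by rw [(hcomm0 k).eq]
      _ = x * T k * (t * x) * t := by group
      _ = x * T k * x * (t * t) := by rw [← hxt.eq]; group
      _ = x * T k * x := by rw [ht2, mul_one]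
  obtain ⟨k, hk, he1, het⟩ : ∃ k, k ≤ p ∧ T (p - k) * T k ≠ 1 ∧ T (p - k) * T k ≠ t := by
    by_contra hno
    push Not at hno
    have hp5 := hM.five
    have hp2k : ∀ k, 1 ≤ k → k ≤ 4 → ¬ p ∣ k := fun k h1 h4 h => by
      have := Nat.le_of_dvd (by omega) h; omega
    have hkk : ∀ k, 1 ≤ k → k ≤ 2 → T (p - k) * T k = t := fun k h1 h2 => hno k (by omega) fun e => by
      have e' : T (p - k) = T k := (mul_eq_one_iff_eq (hT2 k)).1 e
      refine hfree (k + k) (hp2k _ (by omega) (by omega)) ?_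
      have e'' : u ^ k * T (p - k) * (u ^ k)⁻¹ = u ^ k * T k * (u ^ k)⁻¹ := by rw [e']
      rw [← hTadd, ← hTadd, show k + (p - k) = 0 + p by omega, hTper, hT0] at e''
      refine commute_iff_eq _ _ |>.2 ?_
      have e3 : t * u ^ (k + k) = u ^ (k + k) * t * (u ^ (k + k))⁻¹ * u ^ (k + k) := by
        nth_rewrite 1 [e'']; rfl
      rwa [inv_mul_cancel_right] at e3
    have h1 := hkk 1 le_rfl (by omega)
    have h2 := hkk 2 (by omega) le_rfl
    have h2' : T (p - 1) * T 3 = T 1 := by
      have e : u ^ 1 * (T (p - 2) * T 2) * (u ^ 1)⁻¹ = u ^ 1 * T 0 * (u ^ 1)⁻¹ := by rw [h2, hT0]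
      rw [← hTadd, show u ^ 1 * (T (p - 2) * T 2) * (u ^ 1)⁻¹ =
        u ^ 1 * T (p - 2) * (u ^ 1)⁻¹ * (u ^ 1 * T 2 * (u ^ 1)⁻¹) by group, ← hTadd, ← hTadd,
        show 1 + (p - 2) = p - 1 by omega] at e
      exact e
    have h3 : T 3 = t := by
      rw [← h1, ← h2', ← mul_assoc, hT2, one_mul]
    refine hfree 3 (hp2k 3 (by omega) (by omega)) ?_
    have e3 : t * u ^ 3 = u ^ 3 * t * (u ^ 3)⁻¹ * u ^ 3 := by nth_rewrite 1 [← h3]; rfl
    rwa [inv_mul_cancel_right] at e3
  obtain ⟨e, hedef⟩ : ∃ e, e = T (p - k) * T k := ⟨_, rfl⟩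
  rw [← hedef] at he1 het
  have he2 : e * e = 1 := by
    rw [hedef, mul_assoc, ← mul_assoc (T k), ← (hcomm (p - k) k).eq, mul_assoc (T (p - k)) (T k),
      hT2, mul_one, hT2]
  have hpk : x * T (p - k) * x = T k := by
    rw [hneg (p - k) (by omega), show p - (p - k) = k by omega]
  have hpka : a * T (p - k) * a = T k := by
    rw [hnega (p - k) (by omega), show p - (p - k) = k by omega]
  have hxe : Commute x e := by
    refine (commute_of_conj_eq hx2 ?_).symm
    calc x * e * x = x * T (p - k) * (x * x) * T k * x := by rw [hedef, hx2]; group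
      _ = x * T (p - k) * x * (x * T k * x) := by group
      _ = e := by rw [hpk, hneg k hk, hedef, (hcomm _ _).eq]
  have hae : Commute a e := by
    refine (commute_of_conj_eq ha2 ?_).symm
    calc a * e * a = a * T (p - k) * (a * a) * T k * a := by rw [hedef, ha2]; group
      _ = a * T (p - k) * a * (a * T k * a) := by group
      _ = e := by rw [hpka, hnega k hk, hedef, (hcomm _ _).eq]
  have hbD : x * e ∈ D := by
    have := hM.conj (T k) x hx
    rwa [inv_eq_self (hT2 k), show T k * x * T k = x * e by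
      rw [hedef, ← hneg k hk, show x * (x * T k * x * T k) = x * x * T k * x * T k by group, hx2,
        one_mul]] at this
  have hcD : a * e ∈ D := by
    have := hM.conj (T k) a ha
    rwa [inv_eq_self (hT2 k), show T k * a * T k = a * e by
      rw [hedef, ← hnega k hk, show a * (a * T k * a * T k) = a * a * T k * a * T k by group, ha2,
        one_mul]] at this
  refine ⟨x * e, hbD, a * e, hcD, ?_, ?_, (Commute.refl x).mul_right hxe,
    hxa.mul_right hxe, hxa.symm.mul_right hae, (Commute.refl a).mul_right hae, ?_, ?_, ?_, ?_, ?_⟩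
  · rw [mul_assoc, ← mul_assoc e, ← hae.eq, mul_assoc a, he2, mul_one]
  · exact (hxa.mul_right hxe).mul_left (hae.symm.mul_right (Commute.refl e))
  · exact fun h => he1 (mul_eq_left.1 h)
  · intro h
    exact het (mul_left_cancel (h.trans haxt))
  · intro h
    refine het ?_
    rw [htdef, hxa.eq, ← mul_right_inj a, h, hM.mul_self_cancel ha]
  · exact fun h => he1 (mul_eq_left.1 h)
  · exact fun h => hne (mul_right_cancel h)

theorem twin_half_of_quad (hM : Min p D) {x a b c z : G} (hx : x ∈ D) (ha : a ∈ D) (hb : b ∈ D)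
    (hc : c ∈ D) (hbc : b * c = x * a) (hxa : Commute x a) (h1 : Commute b c) (h2 : Commute x b)
    (h3 : Commute x c) (h4 : Commute a b) (h5 : Commute a c) (n1 : b ≠ a) (n2 : c ≠ a)
    (hz : z ∈ D) (hzx : Commute z x) : Commute z a := by
  by_contra hza
  have hx2 := hM.sq x hx
  have hxb : x * b = a * c := by
    calc x * b = x * (b * c) * c := by rw [mul_assoc x, mul_assoc b, hM.sq c hc, mul_one]
      _ = a * c := by rw [hbc, hM.mul_self_cancel hx]
  have hxc : x * c = a * b := by
    calc x * c = x * (c * b) * b := by rw [mul_assoc x, mul_assoc c, hM.sq b hb, mul_one]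
      _ = a * b := by rw [← h1.eq, hbc, hM.mul_self_cancel hx]
  have hzb : ¬ Commute z b := fun h =>
    hza (hM.commute_of_commute_mul hM.odd ha hc hz h5 n2.symm (hxb ▸ hzx.mul_right h))
  have hzc : ¬ Commute z c := fun h =>
    hza (hM.commute_of_commute_mul hM.odd ha hb hz h4 n1.symm (hxc ▸ hzx.mul_right h))
  obtain ⟨t', htdef⟩ : ∃ t', t' = a * b := ⟨_, rfl⟩
  have hconj : t' * z * t' = c * z * c := by
    rw [htdef, ← hxc]
    nth_rewrite 1 [h3.eq]
    calc c * x * z * (x * c) = c * (x * z * x) * c := by group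
      _ = c * z * c := by rw [hM.conj_fixed hx hzx]
  by_cases ht' : t' ∈ D
  · by_cases hzt : Commute z t'
    · rw [hM.conj_fixed ht' hzt] at hconj
      exact hzc (hM.commute_of_conj_fixed hc hconj.symm)
    · have e := hM.conj_injective hM.odd hz ht' hc hzt hconj
      rw [htdef, ← hxc, mul_eq_right] at e
      exact hM.ne_one x hx e
  · have := hM.dich ha hb hz h4 n1.symm hza hzb (htdef ▸ ht')
    rw [← htdef, hconj] at this
    exact hM.not_commute_conj hM.odd hz hc hzc this

theorem twin_half_of_triple (hM : Min p D) {x a z : G} (hx : x ∈ D) (ha : a ∈ D)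
    (hb : x * a ∈ D) (hxa : Commute x a) (hz : z ∈ D) (hzx : Commute z x) : Commute z a := by
  by_contra hza
  have e : x * a * z * (x * a) = a * z * a := by
    nth_rewrite 1 [hxa.eq]
    calc a * x * z * (x * a) = a * (x * z * x) * a := by group
      _ = a * z * a := by rw [hM.conj_fixed hx hzx]
  have hzb : ¬ Commute z (x * a) := fun h => hza (by
    rw [← hM.mul_self_cancel hx a]; exact hzx.mul_right h)
  have := hM.conj_injective hM.odd hz hb ha hzb e
  rw [mul_eq_right] at this
  exact hM.ne_one x hx this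

theorem twin_of_triple (hM : Min p D) {x a : G} (hx : x ∈ D) (ha : a ∈ D)
    (hb : x * a ∈ D) (hxa : Commute x a) : Twin D x a := fun z hz =>
  ⟨hM.twin_half_of_triple hx ha hb hxa hz,
    hM.twin_half_of_triple ha hx (by rwa [← hxa.eq]) hxa.symm hz⟩

theorem twin_of_witness (hM : Min p D) {x a y : G} (hx : x ∈ D) (ha : a ∈ D) (hy : y ∈ D)
    (hxa : Commute x a) (hne : x ≠ a) (hyx : ¬ Commute y x) (hya : ¬ Commute y a) :
    Twin D x a := by
  by_cases ht : x * a ∈ D
  · exact hM.twin_of_triple hx ha ht hxa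
  obtain ⟨b, hb, c, hc, hbc, h1, h2, h3, h4, h5, n0, n1, n2, n3, -⟩ :=
    hM.exists_quad hx ha hy hxa hne hyx hya ht
  exact fun z hz => ⟨hM.twin_half_of_quad hx ha hb hc hbc hxa h1 h2 h3 h4 h5 n1 n3 hz,
    hM.twin_half_of_quad ha hx hb hc (hbc.trans hxa.eq) hxa.symm h1 h4 h5 h2 h3 n0 n2 hz⟩

theorem mem_of_witness (hM : Min p D) {x a y : G} (hx : x ∈ D) (ha : a ∈ D) (hy : y ∈ D)
    (hxa : Commute x a) (hne : x ≠ a) (hyx : ¬ Commute y x) (hya : ¬ Commute y a) :
    x * a ∈ D := by
  by_contra ht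
  obtain ⟨t, htdef⟩ : ∃ t, t = x * a := ⟨_, rfl⟩
  have hx2 := hM.sq x hx
  have ht2 : t * t = 1 := by
    rw [htdef, mul_assoc, ← mul_assoc a, ← hxa.eq, mul_assoc x a a, hM.sq a ha, mul_one, hx2]
  have hti : t⁻¹ = t := inv_eq_self ht2
  have htw := hM.twin_of_witness hx ha hy hxa hne hyx hya
  have hxt : Commute x t := htdef ▸ (Commute.refl x).mul_right hxa
  have hmoves : ∀ z ∈ D, Twin D z (t * z * t⁻¹) := by
    intro z hz
    rw [hti]
    by_cases hzx : Commute z x
    · have hzt : Commute z t := htdef ▸ hzx.mul_right ((htw z hz).1 hzx)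
      rw [← hzt.eq, mul_assoc, ht2, mul_one]
      exact fun w _ => Iff.rfl
    have hza : ¬ Commute z a := fun h => hzx ((htw z hz).2 h)
    have hc := hM.dich hx ha hz hxa hne hzx hza ht
    rw [← htdef] at hc
    have hz' : t * z * t ∈ D := by
      have := hM.conj t z hz
      rwa [hti] at this
    have hne' : z ≠ t * z * t := fun e =>
      hzx (hM.commute_of_commute_mul hM.odd hx ha hz hxa hne
        (htdef ▸ commute_of_conj_eq ht2 e.symm))
    refine hM.twin_of_witness hz hz' hx hc hne' (fun h => hzx h.symm) fun h => hzx ?_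
    have e : t * x * t = x := by rw [← hxt.eq, mul_assoc, ht2, mul_one]
    have : Commute (t * x * t⁻¹) (t * z * t⁻¹) := by rw [hti, e]; exact h
    exact ((Commute.conj_iff _).1 this).symm
  have hcomm : ∀ (g : G) (a b : G), Twin D a b → Twin D (g * a * g⁻¹) (g * b * g⁻¹) := by
    intro g a b h w hw
    have e : w = g * (g⁻¹ * w * g) * g⁻¹ := by group
    have hw' : g⁻¹ * w * g ∈ D := by
      have := hM.conj g⁻¹ w hw
      rwa [inv_inv] at this
    rw [e, Commute.conj_iff, Commute.conj_iff]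
    exact h _ hw'
  let R : Subgroup G :=
    { carrier := {g | ∀ z ∈ D, Twin D z (g * z * g⁻¹)}
      one_mem' := fun z _ w _ => by simp
      mul_mem' := fun {g h} hg hh z hz w hw => by
        rw [show g * h * z * (g * h)⁻¹ = g * (h * z * h⁻¹) * g⁻¹ by group]
        exact (hh z hz w hw).trans (hg _ (hM.conj h z hz) w hw)
      inv_mem' := fun {g} hg z hz w hw => by
        have := hg _ (hM.conj g⁻¹ z hz) w hw
        rw [show g * (g⁻¹ * z * g⁻¹⁻¹) * g⁻¹ = z by group] at this
        exact this.symm }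
  have hRn : R.Normal := by
    refine ⟨fun g hg h z hz => ?_⟩
    have := hcomm h _ _ (hg (h⁻¹ * z * h⁻¹⁻¹) (hM.conj h⁻¹ z hz))
    rw [show h * (h⁻¹ * z * h⁻¹⁻¹) * h⁻¹ = z by group] at this
    rw [show h * g * h⁻¹ * z * (h * g * h⁻¹)⁻¹ =
      h * (g * (h⁻¹ * z * h⁻¹⁻¹) * g⁻¹) * h⁻¹ by group]
    exact this
  have hcentral : ∀ r ∈ R, r = 1 := by
    intro r hr
    refine hM.eq_one_of_commute_all fun z hz => ?_
    have hz2 := hM.sq z hz
    let S : Set G := {w | ∃ g ∈ R, g * z * g⁻¹ = w}
    have hS : ∀ w₁ ∈ S, ∀ w₂ ∈ S, w₁ * w₂ = w₂ * w₁ := by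
      rintro _ ⟨g₁, hg₁, rfl⟩ _ ⟨g₂, hg₂, rfl⟩
      have h1 := (hg₁ z hz z hz).1 (Commute.refl z)
      exact ((hg₂ z hz _ (hM.conj g₁ z hz)).1 h1.symm).eq
    let A := Subgroup.closure S
    have hA : ∀ a₁ ∈ A, ∀ a₂ ∈ A, a₁ * a₂ = a₂ * a₁ := by
      intro a₁ h₁ a₂ h₂
      have hle : S ⊆ Subgroup.centralizer (S : Set G) := fun w hw =>
        Subgroup.mem_centralizer_iff.2 fun v hv => hS v hv w hw
      have h₁' : a₁ ∈ Subgroup.centralizer (S : Set G) := (Subgroup.closure_le _).2 hle h₁
      exact Subgroup.closure_induction (p := fun y _ => a₁ * y = y * a₁)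
        (fun v hv => (Subgroup.mem_centralizer_iff.1 h₁' v hv).symm) (by simp)
        (fun u v _ _ hu hv => by rw [← mul_assoc, hu, mul_assoc, hv, mul_assoc])
        (fun u _ hu => (Commute.inv_right (show Commute a₁ u from hu)).eq) h₂
    let B := A ⊓ R
    have hsolB : Group.IsSolvable B :=
      Group.isSolvable_of_comm fun u v => Subtype.ext (hA u.1 u.2.1 v.1 v.2.1)
    have hconjA : ∀ g ∈ R, ∀ w ∈ A, g * w * g⁻¹ ∈ A := by
      intro g hg w hw
      induction hw using Subgroup.closure_induction with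
      | mem v hv =>
        obtain ⟨g', hg', rfl⟩ := hv
        exact Subgroup.subset_closure ⟨g * g', mul_mem hg hg', by group⟩
      | one => simp
      | mul u v _ _ hu hv => convert mul_mem hu hv using 1; group
      | inv u _ hu => convert inv_mem hu using 1; group
    have hnorm : R ≤ Subgroup.normalizer (B : Set G) := by
      intro g hg
      rw [Subgroup.mem_normalizer_iff]
      intro w
      refine ⟨fun hw => ⟨hconjA g hg w hw.1, hRn.conj_mem w hw.2 g⟩, fun hw => ?_⟩
      have h1 := hconjA g⁻¹ (inv_mem hg) _ hw.1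
      have h2 := hRn.conj_mem _ hw.2 g⁻¹
      rw [show g⁻¹ * (g * w * g⁻¹) * g⁻¹⁻¹ = w by group] at h1 h2
      exact ⟨h1, h2⟩
    obtain ⟨N, hN, hBN, hsolN⟩ := CfsgLib.Comp.exists_normal_of_isSubnormal
      (fun H : Subgroup G => Group.IsSolvable H) (Group.isSolvable_of_comm fun u v => by
        apply Subtype.ext
        rw [Subgroup.coe_mul, Subgroup.coe_mul, Subgroup.mem_bot.1 u.2, Subgroup.mem_bot.1 v.2])
      (fun H g hH => Group.isSolvable_of_surjective
        (f := (Subgroup.equivMapOfInjective H _ (MulAut.conj g).injective).toMonoidHom)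
        (Subgroup.equivMapOfInjective H _ (MulAut.conj g).injective).surjective)
      (fun H K _ hKH hH hK => CfsgLib.Comp.isSolvable_sup hKH hH hK)
      (CfsgLib.Comp.isSubnormal_of_le_normalizer inf_le_right hRn.isSubnormal hnorm) hsolB
    have hmem : r * z * r⁻¹ * z ∈ B := by
      refine ⟨mul_mem (Subgroup.subset_closure ⟨r, hr, rfl⟩)
        (Subgroup.subset_closure ⟨1, one_mem R, by simp⟩), ?_⟩
      have := hRn.conj_mem r⁻¹ (inv_mem hr) z
      rw [inv_eq_self hz2] at this
      rw [show r * z * r⁻¹ * z = r * (z * r⁻¹ * z) by group]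
      exact mul_mem hr this
    have h1 : r * z * r⁻¹ * z = 1 := Subgroup.mem_bot.1 (hM.rad N hN hsolN ▸ hBN hmem)
    exact mul_inv_eq_iff_eq_mul.1 ((mul_eq_one_iff_eq hz2).1 h1)
  have ht1 : x * a = 1 := htdef ▸ hcentral t hmoves
  exact hne ((mul_eq_one_iff_eq (hM.sq a ha)).1 ht1)

theorem exists_witness (hM : Min p D) : ∃ x ∈ D, ∃ a ∈ D, ∃ y ∈ D, Commute x a ∧ x ≠ a ∧
    ¬ Commute y x ∧ ¬ Commute y a := by
  by_contra hno
  push Not at hno
  obtain ⟨x, hx⟩ := hM.nonempty
  -- the class of `x` under non-commuting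
  let E : Set G := {d | d ∈ D ∧ (d = x ∨ ¬ Commute d x)}
  have htrans : ∀ u ∈ D, ∀ v ∈ D, ∀ w ∈ D, ¬ Commute u v → ¬ Commute v w →
      u = w ∨ ¬ Commute u w := by
    intro u hu v hv w hw h1 h2
    by_contra hc
    push Not at hc
    exact h2 (hno u hu w hw v hv hc.2 hc.1 fun h => h1 h.symm)
  have hEE : ∀ d ∈ E, ∀ e ∈ E, d = e ∨ ¬ Commute d e := by
    rintro d ⟨hd, hd'⟩ e ⟨he, he'⟩
    rcases hd' with rfl | hd' <;> rcases he' with rfl | he'
    · exact Or.inl rfl
    · exact Or.inr fun h => he' h.symm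
    · exact Or.inr hd'
    · exact htrans d hd x hx e he hd' fun h => he' h.symm
  have hEconj : ∀ g : G, g * x * g⁻¹ ∈ E := by
    intro g
    have hg : g ∈ Subgroup.closure D := hM.gen ▸ Subgroup.mem_top g
    induction hg using Subgroup.closure_induction_left with
    | one => simpa [E] using hx
    | mul_left d hd h _ ih =>
      obtain ⟨he, he'⟩ := ih
      rw [show d * h * x * (d * h)⁻¹ = d * (h * x * h⁻¹) * d⁻¹ by group]
      generalize h * x * h⁻¹ = e at he he'
      refine ⟨hM.conj d e he, ?_⟩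
      rw [inv_eq_self (hM.sq d hd)]
      by_cases hde : Commute e d
      · rw [hM.conj_fixed hd hde]; exact he'
      have h1 := hM.not_commute_conj hM.odd he hd hde
      rcases he' with rfl | he'
      · exact Or.inr fun h' => h1 h'.symm
      · exact htrans _ (hM.conj_self hd he) e he x hx (fun h' => h1 h'.symm) he'
    | inv_mul_cancel d hd h _ ih =>
      obtain ⟨he, he'⟩ := ih
      rw [show d⁻¹ * h * x * (d⁻¹ * h)⁻¹ = d⁻¹ * (h * x * h⁻¹) * d⁻¹⁻¹ by group]
      generalize h * x * h⁻¹ = e at he he'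
      refine ⟨hM.conj d⁻¹ e he, ?_⟩
      rw [inv_inv, inv_eq_self (hM.sq d hd)]
      by_cases hde : Commute e d
      · rw [hM.conj_fixed hd hde]; exact he'
      have h1 := hM.not_commute_conj hM.odd he hd hde
      rcases he' with rfl | he'
      · exact Or.inr fun h' => h1 h'.symm
      · exact htrans _ (hM.conj_self hd he) e he x hx (fun h' => h1 h'.symm) he'
  have := Fact.mk hM.prime
  have hord : orderOf x = 2 := orderOf_eq_prime (hM.pow_two_eq hx) (hM.ne_one x hx)
  have hprod := CfsgLib.Perm.InvolProd.products_mem_pCore hM.prime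
    (by have := hM.five; omega) x hord fun g => by
      rcases hEE x ⟨hx, Or.inl rfl⟩ _ (hEconj g) with e | e
      · exact ⟨0, by rw [← e, hM.sq x hx, orderOf_one, pow_zero]⟩
      · exact ⟨1, by rw [pow_one, orderOf_eq_prime (hM.prod x hx _ (hM.conj g x hx) e)
          (hM.mul_ne_one (hM.conj g x hx) e)]⟩
  have hbot : Cfsg.pCore p G = ⊥ := by
    refine hM.rad _ (CfsgLib.Solvable.pCore_normal p G) ?_
    have := (CfsgLib.Solvable.pCore_isPGroup (G := G) p).isNilpotent
    infer_instance
  refine hM.ne_one x hx (hM.eq_one_of_commute_all fun d hd => ?_)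
  have hmem : x * (d * x * d⁻¹) = 1 := Subgroup.mem_bot.1 (hbot ▸ hprod d)
  refine commute_of_conj_eq (hM.sq d hd) ?_
  have hinv : d * x * d⁻¹ = x :=
    ((mul_eq_one_iff_eq (hM.sq _ (hM.conj d x hx))).1 hmem).symm
  rwa [inv_eq_self (hM.sq d hd)] at hinv

/-- The members form a single class. -/
theorem single_class (hM : Min p D) {d e : G} (hd : d ∈ D) (he : e ∈ D) :
    ∃ g : G, g * d * g⁻¹ = e := by
  obtain ⟨x, hx, a, ha, y, hy, hxa, hne, hyx, hya⟩ := hM.exists_witness
  have hb := hM.mem_of_witness hx ha hy hxa hne hyx hya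
  have hyb : ¬ Commute y (x * a) := fun h => hya ((hM.twin_of_triple hb ha
    (by rw [mul_assoc, hM.sq a ha, mul_one]; exact hx) (hxa.mul_left (Commute.refl a)) y hy).1 h)
  have hgen := hM.gen_triple hx ha hy hxa hb hyx hya hyb
  have key : ∀ d ∈ D, ∃ g : G, g * x * g⁻¹ = d := by
    intro d hd
    by_contra hno
    push Not at hno
    have hcom : ∀ g : G, Commute d (g * x * g⁻¹) := by
      intro g
      by_contra hc
      obtain ⟨m, hm⟩ := hM.exists_conj hM.odd (hM.conj g x hx) hd fun h => hc h.symm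
      exact hno (m * g) (by rw [← hm]; group)
    obtain ⟨g₁, hg₁⟩ := hM.exists_conj hM.odd hx hy fun h => hyx h.symm
    obtain ⟨g₂, hg₂⟩ := hM.exists_conj hM.odd hy ha hya
    refine hM.ne_one d hd (hM.eq_one_of_commute_three hgen (by simpa using hcom 1) ?_ ?_)
    · rw [← hg₂, ← hg₁]
      simpa [mul_assoc] using hcom (g₂ * g₁)
    · rw [← hg₁]; exact hcom g₁
  obtain ⟨g, rfl⟩ := key d hd
  obtain ⟨h, rfl⟩ := key e he
  exact ⟨h * g⁻¹, by group⟩

theorem exists_partner (hM : Min p D) {x : G} (hx : x ∈ D) :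
    ∃ a ∈ D, ∃ y ∈ D, Commute x a ∧ x ≠ a ∧ ¬ Commute y x ∧ ¬ Commute y a := by
  obtain ⟨x₀, hx₀, a, ha, y, hy, hxa, hne, hyx, hya⟩ := hM.exists_witness
  obtain ⟨g, rfl⟩ := hM.single_class hx₀ hx
  exact ⟨g * a * g⁻¹, hM.conj g a ha, g * y * g⁻¹, hM.conj g y hy, (Commute.conj_iff _).2 hxa,
    fun e => hne (mul_left_cancel (mul_right_cancel e)), mt (Commute.conj_iff _).1 hyx,
    mt (Commute.conj_iff _).1 hya⟩

theorem not_commute_of_commute (hM : Min p D) {x c y : G} (hx : x ∈ D) (hc : c ∈ D) (hy : y ∈ D)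
    (hxc : Commute c x) (hyx : ¬ Commute y x) : ¬ Commute y c := by
  intro hyc
  obtain ⟨a, ha, y', hy', hxa, hne, hyx', hya'⟩ := hM.exists_partner hx
  have hb := hM.mem_of_witness hx ha hy' hxa hne hyx' hya'
  have htw := hM.twin_of_triple hx ha hb hxa
  have hya : ¬ Commute y a := fun h => hyx ((htw y hy).2 h)
  have htw' := hM.twin_of_triple hb ha (by rw [mul_assoc, hM.sq a ha, mul_one]; exact hx)
    (hxa.mul_left (Commute.refl a))
  have hgen := hM.gen_triple hx ha hy hxa hb hyx hya fun h => hya ((htw' y hy).1 h)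
  exact hM.ne_one c hc (hM.eq_one_of_commute_three hgen hxc ((htw c hc).1 hxc) hyc.symm)

theorem exists_noncommute (hM : Min p D) {x : G} (hx : x ∈ D) : ∃ y ∈ D, ¬ Commute y x := by
  obtain ⟨a, -, y, hy, -, -, h, -⟩ := hM.exists_partner hx
  exact ⟨y, hy, h⟩

theorem mul_mem (hM : Min p D) {x c : G} (hx : x ∈ D) (hc : c ∈ D) (hxc : Commute x c)
    (hne : x ≠ c) : x * c ∈ D := by
  obtain ⟨y, hy, hyx⟩ := hM.exists_noncommute hx
  exact hM.mem_of_witness hx hc hy hxc hne hyx
    (hM.not_commute_of_commute hx hc hy hxc.symm hyx)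

theorem commute_trans (hM : Min p D) {x a c : G} (hx : x ∈ D) (ha : a ∈ D) (hc : c ∈ D)
    (hxa : Commute x a) (hxc : Commute x c) : Commute a c := by
  rcases eq_or_ne x a with rfl | hne
  · exact hxc
  exact ((hM.twin_of_triple hx ha (hM.mul_mem hx ha hxa hne) hxa c hc).1 hxc.symm).symm

theorem generates (hM : Min p D) {x a y : G} (hx : x ∈ D) (ha : a ∈ D) (hy : y ∈ D)
    (hxa : Commute x a) (hne : x ≠ a) (hyx : ¬ Commute y x) : Generates x a y :=
  hM.gen_triple hx ha hy hxa (hM.mul_mem hx ha hxa hne) hyx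
    (hM.not_commute_of_commute hx ha hy hxa.symm hyx)
    (hM.not_commute_of_commute hx (hM.mul_mem hx ha hxa hne) hy
      ((Commute.refl x).mul_right hxa).symm hyx)

end Min

end CfsgLib.PrimeTransp
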