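import Cfsg.Agent.Lib.Golay.PrimeTranspCases

/-!
A minimal non-solvable group generated by involutions with products of order at most two or a fixed
prime `p ≥ 5` does not exist: the classes of commuting involutions have `p` members each, a product of
order `p` fixing a class fixes a number of classes that is `1` or `2` modulo `p`, and some such
product fixes none.
-/

set_option autoImplicit false

namespace CfsgLib.PrimeTransp

open Subgroup

variable {G : Type*} [Group G]

/-- The members of `D` commuting with `x`. -/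
def cls (D : Set G) (x : G) : Set G := {c | c ∈ D ∧ Commute c x}

/-- The classes of commuting members. -/
def blocks (D : Set G) : Set (Set G) := cls D '' D

/-- Conjugation of sets. -/
def act (g : G) (S : Set G) : Set G := (fun c => g * c * g⁻¹) '' S

theorem act_mul (g h : G) (S : Set G) : act (g * h) S = act g (act h S) := by
  simp only [act, Set.image_image]
  exact Set.image_congr fun c _ => by group

theorem act_one (S : Set G) : act 1 S = S := by simp [act]

/-- Members moving the class of `x` to that of `z`. -/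
def swaps (D : Set G) (x z : G) : Set G := {w | w ∈ D ∧ Commute (w * x * w) z}

theorem ncard_modEq_fixed {α : Type*} {p : ℕ} [Fact p.Prime] {f : α → α} {s : Set α}
    (hs : s.Finite) (hmap : Set.MapsTo f s s) (hper : ∀ a ∈ s, f^[p] a = a) :
    s.ncard ≡ {a | a ∈ s ∧ f a = a}.ncard [MOD p] := by
  classical
  have := hs.fintype
  let F : Function.End s := hmap.restrict f s s
  have hF : F ^ p ^ 1 = 1 := by
    funext a
    apply Subtype.ext
    have e : ∀ n, ((F ^ n) a).1 = f^[n] a.1 := fun n => by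
      induction n with
      | zero => rfl
      | succ n ih =>
        rw [pow_succ', Function.iterate_succ_apply', ← ih]
        rfl
    rw [pow_one, e p, hper a.1 a.2]
    rfl
  have h := Equiv.Perm.card_fixedPoints_modEq hF
  have h1 : Fintype.card s = s.ncard := by rw [← Nat.card_eq_fintype_card, Nat.card_coe_set_eq]
  have h2 : Fintype.card F.fixedPoints = {a | a ∈ s ∧ f a = a}.ncard := by
    rw [← Nat.card_eq_fintype_card, ← Nat.card_coe_set_eq]
    exact Nat.card_congr
      { toFun := fun a => ⟨a.1.1, a.1.2, congrArg Subtype.val a.2⟩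
        invFun := fun a => ⟨⟨a.1, a.2.1⟩, Subtype.ext a.2.2⟩ }
  rwa [h1, h2] at h

namespace Min

variable {p : ℕ} {D : Set G} [Finite G]

theorem conj_mem_iff (hM : Min p D) {g d : G} : g * d * g⁻¹ ∈ D ↔ d ∈ D := by
  refine ⟨fun h => ?_, hM.conj g d⟩
  have := hM.conj g⁻¹ _ h
  rwa [show g⁻¹ * (g * d * g⁻¹) * g⁻¹⁻¹ = d by group] at this

theorem act_cls (hM : Min p D) (g x : G) : act g (cls D x) = cls D (g * x * g⁻¹) := by
  ext c
  constructor
  · rintro ⟨d, ⟨hd, hc⟩, rfl⟩
    exact ⟨hM.conj g d hd, (Commute.conj_iff g).2 hc⟩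
  · rintro ⟨hc, hcx⟩
    have e : c = g * (g⁻¹ * c * g) * g⁻¹ := by group
    refine ⟨g⁻¹ * c * g, ⟨?_, ?_⟩, e.symm⟩
    · rwa [e, hM.conj_mem_iff] at hc
    · rwa [e, Commute.conj_iff] at hcx

theorem cls_eq_iff (hM : Min p D) {x y : G} (hx : x ∈ D) (hy : y ∈ D) :
    cls D x = cls D y ↔ Commute x y := by
  constructor
  · intro e
    exact ((show x ∈ cls D y by rw [← e]; exact ⟨hx, Commute.refl x⟩)).2
  · intro h
    ext c
    exact ⟨fun hc => ⟨hc.1, hM.commute_trans hx hc.1 hy hc.2.symm h⟩,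
      fun hc => ⟨hc.1, hM.commute_trans hy hc.1 hx hc.2.symm h.symm⟩⟩

theorem cls_ncard_eq (hM : Min p D) {x y : G} (hx : x ∈ D) (hy : y ∈ D) :
    (cls D x).ncard = (cls D y).ncard := by
  obtain ⟨g, rfl⟩ := hM.single_class hx hy
  rw [← hM.act_cls g x, act,
    Set.ncard_image_of_injective _ fun a b e => mul_left_cancel (mul_right_cancel e)]

theorem swaps_not_commute (hM : Min p D) {x z w : G} (hxz : ¬ Commute x z)
    (hw : w ∈ swaps D x z) : ¬ Commute x w := fun h =>
  hxz (by have := hw.2; rwa [hM.conj_fixed hw.1 h] at this)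

theorem swaps_ncard (hM : Min p D) {x z : G} (hx : x ∈ D) (hz : z ∈ D) (hxz : ¬ Commute x z) :
    (swaps D x z).ncard = (cls D z).ncard := by
  refine Set.ncard_congr (fun w _ => w * x * w) (fun w hw => ⟨hM.conj_self hw.1 hx, hw.2⟩)
    (fun w w' hw hw' e => hM.conj_injective hM.odd hx hw.1 hw'.1 (hM.swaps_not_commute hxz hw) e)
    fun c hc => ?_
  have hxc : ¬ Commute x c := fun h => hxz (hM.commute_trans hc.1 hx hz h.symm hc.2)
  obtain ⟨m, hm, e, -⟩ := hM.exists_midpoint hM.odd hx hc.1 hxc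
  exact ⟨m, ⟨hm, by rw [e]; exact hc.2⟩, e⟩

theorem swaps_pairwise (hM : Min p D) {x z w w' : G} (hx : x ∈ D) (hz : z ∈ D)
    (hxz : ¬ Commute x z) (hw : w ∈ swaps D x z) (hw' : w' ∈ swaps D x z) (hne : w ≠ w') :
    ¬ Commute w w' := by
  intro h
  have hb := hM.mul_mem hw.1 hw'.1 h hne
  have h1 : Commute (w * x * w) (w' * x * w') :=
    hM.commute_trans hz (hM.conj_self hw.1 hx) (hM.conj_self hw'.1 hx) hw.2.symm hw'.2.symm
  have h2 : Commute x (w * w' * x * (w * w')) := by
    have h3 := (Commute.conj_iff w).2 h1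
    rw [inv_eq_self (hM.sq w hw.1)] at h3
    convert h3 using 1
    · calc x = w * w * x * (w * w) := by rw [hM.sq w hw.1, one_mul, mul_one]
        _ = _ := by group
    · nth_rewrite 2 [h.eq]
      group
  by_cases h4 : Commute x (w * w')
  · exact hM.swaps_not_commute hxz hw
      (hM.commute_trans hb hx hw.1 h4.symm ((Commute.refl w).mul_right h).symm)
  · exact hM.not_commute_conj hM.odd hx hb h4 h2

theorem swaps_closed (hM : Min p D) {x z w w' : G} (hx : x ∈ D) (hz : z ∈ D)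
    (hw : w ∈ swaps D x z) (hw' : w' ∈ swaps D x z) : w * w' * w ∈ swaps D x z := by
  refine ⟨hM.conj_self hw.1 hw'.1, ?_⟩
  have hwi := inv_eq_self (hM.sq w hw.1)
  have hw'i := inv_eq_self (hM.sq w' hw'.1)
  have h0 : Commute (w * z * w) x := by
    have := (Commute.conj_iff w).2 hw.2.symm
    rw [hwi, show w * (w * x * w) * w = w * w * x * (w * w) by group, hM.sq w hw.1, one_mul,
      mul_one] at this
    exact this
  have h1 : Commute (w * x * w) (w' * x * w') :=
    hM.commute_trans hz (hM.conj_self hw.1 hx) (hM.conj_self hw'.1 hx) hw.2.symm hw'.2.symm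
  have h2 : Commute (w' * (w * x * w) * w') x := by
    have := (Commute.conj_iff w').2 h1
    rwa [hw'i, show w' * (w' * x * w') * w' = w' * w' * x * (w' * w') by group,
      hM.sq w' hw'.1, one_mul, mul_one] at this
  have h3 : Commute (w * w' * w * x * (w * w' * w)) (w * x * w) := by
    have := (Commute.conj_iff w).2 h2
    rwa [hwi, show w * (w' * (w * x * w) * w') * w = w * w' * w * x * (w * w' * w) by group] at this
  exact hM.commute_trans (hM.conj_self hw.1 hx) (hM.conj_self (hM.conj_self hw.1 hw'.1) hx) hz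
    h3.symm hw.2

/-- A set of pairwise non-commuting members stable under conjugation by its members has prime
power cardinality. -/
theorem exists_ncard_eq_pow (hM : Min p D) {J : Set G} (hJ : J ⊆ D)
    (hpair : ∀ w ∈ J, ∀ w' ∈ J, w ≠ w' → ¬ Commute w w')
    (hcl : ∀ w ∈ J, ∀ w' ∈ J, w * w' * w ∈ J) {w₀ : G} (hw₀ : w₀ ∈ J) :
    ∃ k, J.ncard = p ^ k := by
  have := Fact.mk hM.prime
  let H := Subgroup.closure J
  have hconj : ∀ h ∈ H, ∀ w ∈ J, h * w * h⁻¹ ∈ J := by
    intro h hh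
    induction hh using Subgroup.closure_induction_left with
    | one => simp
    | mul_left d hd h _ ih =>
      intro w hw
      have := hcl d hd _ (ih w hw)
      nth_rewrite 2 [← inv_eq_self (hM.sq d (hJ hd))] at this
      rwa [show d * (h * w * h⁻¹) * d⁻¹ = d * h * w * (d * h)⁻¹ by group] at this
    | inv_mul_cancel d hd h _ ih =>
      intro w hw
      have := hcl d hd _ (ih w hw)
      nth_rewrite 2 [← inv_eq_self (hM.sq d (hJ hd))] at this
      rw [show d * (h * w * h⁻¹) * d⁻¹ = d * h * w * (d * h)⁻¹ by group] at this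
      rwa [inv_eq_self (hM.sq d (hJ hd))]
  let w' : H := ⟨w₀, Subgroup.subset_closure hw₀⟩
  have hord : orderOf w' = 2 := orderOf_eq_prime
    (Subtype.ext (hM.pow_two_eq (hJ hw₀))) fun e => hM.ne_one w₀ (hJ hw₀) (congrArg Subtype.val e)
  have hprod : ∀ j ∈ J, w₀ ≠ j → (w₀ * j) ^ p = 1 := fun j hj h =>
    hM.prod w₀ (hJ hw₀) j (hJ hj) (hpair w₀ hw₀ j hj h)
  have hcore := CfsgLib.Perm.InvolProd.products_mem_pCore hM.prime
    (by have := hM.five; omega) w' hord fun g => by
      have hj := hconj g.1 g.2 w₀ hw₀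
      by_cases e : w₀ = g.1 * w₀ * g.1⁻¹
      · refine ⟨0, ?_⟩
        rw [show g * w' * g⁻¹ = w' from Subtype.ext e.symm,
          show w' * w' = 1 from Subtype.ext (hM.sq w₀ (hJ hw₀)), orderOf_one, pow_zero]
      · refine ⟨1, ?_⟩
        rw [pow_one]
        exact orderOf_eq_prime (Subtype.ext (hprod _ hj e))
          fun h => hM.mul_ne_one (hJ hj) (hpair w₀ hw₀ _ hj e) (congrArg Subtype.val h)
  let P : Subgroup G := (Cfsg.pCore p H).map H.subtype
  have hP : IsPGroup p P := (CfsgLib.Solvable.pCore_isPGroup p).map _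
  let _ : MulAction P G := MulAction.compHom G ((ConjAct.toConjAct (G := G)).toMonoidHom.comp P.subtype)
  have horb : MulAction.orbit P w₀ = J := by
    ext j
    constructor
    · rintro ⟨⟨n, hn⟩, rfl⟩
      obtain ⟨n', -, rfl⟩ := hn
      show ConjAct.toConjAct (n' : G) • w₀ ∈ J
      rw [ConjAct.toConjAct_smul]
      exact hconj n' n'.2 w₀ hw₀
    · intro hj
      by_cases e : w₀ = j
      · subst e; exact MulAction.mem_orbit_self w₀
      -- `j` is conjugate to `w₀` inside `H`, so their product lies in the core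
      obtain ⟨m, hm, hmj, k, hk⟩ :=
        hM.exists_midpoint hM.odd (hJ hw₀) (hJ hj) (hpair w₀ hw₀ j hj e)
      have hmH : m ∈ H := hk ▸ H.mul_mem (Subgroup.subset_closure hw₀) (pow_mem
        (H.mul_mem (Subgroup.subset_closure hw₀) (Subgroup.subset_closure hj)) k)
      have hc := hcore ⟨m, hmH⟩
      have hjP : w₀ * j ∈ P := ⟨_, hc, by
        show w₀ * (m * w₀ * m⁻¹) = w₀ * j
        rw [inv_eq_self (hM.sq m hm), hmj]⟩
      obtain ⟨i, hi⟩ : ∃ i, i = (p + 1) / 2 := ⟨_, rfl⟩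
      refine ⟨⟨((w₀ * j) ^ i)⁻¹, inv_mem (pow_mem hjP i)⟩, ?_⟩
      show ConjAct.toConjAct ((w₀ * j) ^ i)⁻¹ • w₀ = j
      rw [ConjAct.toConjAct_smul, inv_inv, ← mul_pow_conj (hM.sq w₀ (hJ hw₀)) (hM.sq j (hJ hj)) i]
      calc w₀ * (w₀ * j) ^ i * w₀ * w₀ * (w₀ * j) ^ i
          = w₀ * (w₀ * j) ^ i * (w₀ * w₀) * (w₀ * j) ^ i := by group
        _ = w₀ * (w₀ * j) ^ (i + i) := by
            rw [hM.sq w₀ (hJ hw₀), mul_one, mul_assoc, ← pow_add]
        _ = j := by
            rw [hi, half_add_half hM.odd, pow_succ, hprod j hj e, one_mul,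
              hM.mul_self_cancel (hJ hw₀)]
  obtain ⟨k, hk⟩ := hP.card_orbit w₀
  exact ⟨k, by rw [← hk, horb, Nat.card_coe_set_eq]⟩

theorem cls_ncard (hM : Min p D) {x : G} (hx : x ∈ D) : (cls D x).ncard = p := by
  obtain ⟨z, hz, hzx⟩ := hM.exists_noncommute hx
  have hxz : ¬ Commute x z := fun h => hzx h.symm
  obtain ⟨m, hm, hmz, -⟩ := hM.exists_midpoint hM.odd hx hz hxz
  obtain ⟨k, hk⟩ := hM.exists_ncard_eq_pow (J := swaps D x z) (fun w hw => hw.1)
    (fun w hw w' hw' => hM.swaps_pairwise hx hz hxz hw hw') (fun w hw w' hw' =>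
      hM.swaps_closed hx hz hw hw') (w₀ := m) ⟨hm, by rw [hmz]⟩
  rw [hM.swaps_ncard hx hz hxz, hM.cls_ncard_eq hz hx] at hk
  obtain ⟨a, ha, -, -, hxa, hne, -, -⟩ := hM.exists_partner hx
  have hk0 : k ≠ 0 := by
    rintro rfl
    rw [pow_zero] at hk
    have h2 : 1 < (cls D x).ncard := (Set.one_lt_ncard (Set.toFinite _)).2
      ⟨x, ⟨hx, Commute.refl x⟩, a, ⟨ha, hxa.symm⟩, hne⟩
    omega
  -- the class with the identity is an elementary abelian group
  let F : Subgroup G :=
    { carrier := insert 1 (cls D x)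
      one_mem' := Set.mem_insert _ _
      inv_mem' := fun {g} hg => by
        rcases Set.mem_insert_iff.1 hg with rfl | hg'
        · simp
        · rwa [inv_eq_self (hM.sq g hg'.1)]
      mul_mem' := fun {g h} hg hh => by
        rcases Set.mem_insert_iff.1 hg with rfl | hg'
        · rwa [one_mul]
        rcases Set.mem_insert_iff.1 hh with rfl | hh'
        · rwa [mul_one]
        rcases eq_or_ne g h with rfl | hne'
        · rw [hM.sq g hg'.1]; exact Set.mem_insert _ _
        · exact Set.mem_insert_of_mem _ ⟨hM.mul_mem hg'.1 hh'.1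
            (hM.commute_trans hx hg'.1 hh'.1 hg'.2.symm hh'.2.symm) hne',
            hg'.2.mul_left hh'.2⟩ }
  have := Fact.mk Nat.prime_two
  have hF : IsPGroup 2 F := fun g => ⟨1, by
    rcases Set.mem_insert_iff.1 g.2 with e | hg
    · exact Subtype.ext (by simp [e])
    · exact Subtype.ext (hM.pow_two_eq hg.1)⟩
  obtain ⟨f, hf⟩ := IsPGroup.iff_card.1 hF
  have hcard : Nat.card F = (cls D x).ncard + 1 := by
    rw [← Set.ncard_insert_of_notMem (fun h => hM.ne_one 1 h.1 rfl) (Set.toFinite _),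
      ← Nat.card_coe_set_eq]
    rfl
  rw [hcard, hk] at hf
  rw [hk]
  -- a Mersenne prime power is a prime
  obtain ⟨i, rfl⟩ : ∃ i, k = i + 1 := ⟨k - 1, by omega⟩
  have hp5 := hM.five
  have hp2 : p % 2 = 1 := Nat.odd_iff.1 hM.odd
  rcases Nat.even_or_odd (i + 1) with ⟨j, hj⟩ | hodd
  · exfalso
    rw [hj, ← two_mul, pow_mul] at hf
    have h8 : (p ^ 2) ^ j % 4 = 1 := by
      rw [Nat.pow_mod, show p ^ 2 % 4 = 1 by
        rw [Nat.pow_mod]
        have : p % 4 = 1 ∨ p % 4 = 3 := by omega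
        rcases this with e | e <;> simp [e]]
      simp
    rcases f with _ | _ | f
    · have : 0 < (p ^ 2) ^ j := pow_pos (by positivity) j
      simp at hf; omega
    · simp at hf; omega
    · rw [pow_succ, pow_succ] at hf; omega
  · obtain ⟨S, hS⟩ : ∃ S : ℤ, ((p : ℤ) ^ (i + 1) + 1 = ((p : ℤ) + 1) * S) ∧ Odd S := by
      obtain ⟨j, hj⟩ := hodd
      obtain rfl : i = 2 * j := by omega
      clear hk hf hk0
      induction j with
      | zero => exact ⟨1, by simp, odd_one⟩
      | succ j ih =>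
        obtain ⟨S, hS, hodd⟩ := ih (by omega)
        refine ⟨(p : ℤ) ^ 2 * S - ((p : ℤ) - 1), ?_, ?_⟩
        · linear_combination (p : ℤ) ^ 2 * hS
        · obtain ⟨q, hq⟩ := hM.odd
          obtain ⟨r, hr⟩ := hodd
          exact ⟨(4 * (q : ℤ) * q + 4 * q) * r + 2 * (q : ℤ) * q + q + r, by subst hr hq; push_cast; ring⟩
    obtain ⟨hS, hSodd⟩ := hS
    have hdvd : S ∣ (2 : ℤ) ^ f := ⟨(p : ℤ) + 1, by
      have : ((p ^ (i + 1) + 1 : ℕ) : ℤ) = ((2 ^ f : ℕ) : ℤ) := by rw [hf]
      push_cast at this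
      rw [← this, hS, mul_comm]⟩
    have hS1 : S.natAbs = 1 := by
      have h1 : S.natAbs ∣ 2 ^ f := by
        simpa [Int.natAbs_pow] using Int.natAbs_dvd_natAbs.2 hdvd
      have h2 : Odd S.natAbs := Int.natAbs_odd.2 hSodd
      obtain ⟨r, -, hr⟩ := (Nat.dvd_prime_pow Nat.prime_two).1 h1
      rcases r with _ | r
      · simpa using hr
      · rw [hr, pow_succ] at h2
        exact absurd h2 (by rw [Nat.not_odd_iff_even]; exact even_two.mul_left _)
    have hSpos : 0 < S := by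
      have : (0 : ℤ) < (p : ℤ) ^ (i + 1) + 1 := by positivity
      rw [hS] at this
      exact pos_of_mul_pos_right this (by positivity)
    have hSone : S = 1 := by omega
    rw [hSone, mul_one] at hS
    have : (p : ℤ) ^ (i + 1) = p := by linarith
    exact_mod_cast this

theorem fix_cls (hM : Min p D) {v x c : G} (hv : v ^ p = 1) (hx : x ∈ D) (h : Commute v x)
    (hc : c ∈ cls D x) : Commute v c := by
  have := Fact.mk hM.prime
  have hvx : v * x * v⁻¹ = x := by rw [h.eq, mul_inv_cancel_right]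
  have hper : ∀ (n : ℕ) (a : G), (fun a => v * a * v⁻¹)^[n] a = v ^ n * a * (v ^ n)⁻¹ := by
    intro n a
    induction n with
    | zero => simp
    | succ n ih => rw [Function.iterate_succ_apply', ih, pow_succ']; group
  have hmod := ncard_modEq_fixed (p := p) (f := fun a => v * a * v⁻¹) (s := cls D x) (Set.toFinite _)
    (fun a ha => ⟨hM.conj v a ha.1, by
      have := (Commute.conj_iff v).2 ha.2
      rwa [hvx] at this⟩)
    (fun a _ => by rw [hper, hv]; simp)
  rw [hM.cls_ncard hx] at hmod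
  have hsub : {a | a ∈ cls D x ∧ v * a * v⁻¹ = a} ⊆ cls D x := fun a ha => ha.1
  have hpos : 0 < {a | a ∈ cls D x ∧ v * a * v⁻¹ = a}.ncard :=
    (Set.ncard_pos (Set.toFinite _)).2 ⟨x, ⟨hx, Commute.refl x⟩, hvx⟩
  have hdvd : p ∣ {a | a ∈ cls D x ∧ v * a * v⁻¹ = a}.ncard :=
    Nat.modEq_zero_iff_dvd.1 (hmod.symm.trans (Nat.modEq_zero_iff_dvd.2 dvd_rfl))
  have heq := Set.eq_of_subset_of_ncard_le hsub
    (by rw [hM.cls_ncard hx]; exact Nat.le_of_dvd hpos hdvd) (Set.toFinite _)
  rw [← heq] at hc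
  exact mul_inv_eq_iff_eq_mul.1 hc.2

theorem rigid (hM : Min p D) {v w w' : G} (hv : v ^ p = 1) (hw : w ∈ D) (hw' : w' ∈ D)
    (hww : ¬ Commute w w') (h1 : Commute v w) (h2 : Commute v w') : v = 1 := by
  obtain ⟨a, ha, -, -, hwa, hne, -, -⟩ := hM.exists_partner hw
  exact hM.eq_one_of_commute_three
    (hM.generates hw ha hw' hwa hne fun h => hww h.symm) h1
    (hM.fix_cls hv hw h1 ⟨ha, hwa.symm⟩) h2

/-- An element of order `p` fixing two classes is inverted by the members exchanging them. -/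
theorem inverts (hM : Min p D) {u x z w : G} (hu : u ^ p = 1) (hx : x ∈ D) (hz : z ∈ D)
    (hxz : ¬ Commute x z) (hux : Commute (u * x * u⁻¹) x) (huz : Commute (u * z * u⁻¹) z)
    (hw : w ∈ swaps D x z) : w * u * w = u⁻¹ := by
  have := Fact.mk hM.prime
  have hcard : (swaps D x z).ncard = p := by
    rw [hM.swaps_ncard hx hz hxz, hM.cls_ncard hz]
  have hp5 := hM.five
  have hmapI : ∀ w' ∈ swaps D x z, u * w' * u⁻¹ ∈ swaps D x z := by
    intro w' hw'
    refine ⟨hM.conj u w' hw'.1, ?_⟩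
    have e1 : Commute (u⁻¹ * x * u) x := by
      have := (Commute.conj_iff u⁻¹).2 hux
      rw [inv_inv, show u⁻¹ * (u * x * u⁻¹) * u = x by group] at this
      exact this.symm
    have hmem : u⁻¹ * x * u ∈ D := by
      have := hM.conj u⁻¹ x hx
      rwa [inv_inv] at this
    have e2 : Commute (w' * (u⁻¹ * x * u) * w') (w' * x * w') := by
      have := (Commute.conj_iff w').2 e1
      rwa [inv_eq_self (hM.sq w' hw'.1)] at this
    have e3 : Commute (w' * (u⁻¹ * x * u) * w') z :=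
      hM.commute_trans (hM.conj_self hw'.1 hx) (hM.conj_self hw'.1 hmem) hz e2.symm hw'.2
    have e4 := (Commute.conj_iff u).2 e3
    rw [show u * (w' * (u⁻¹ * x * u) * w') * u⁻¹ = u * w' * u⁻¹ * x * (u * w' * u⁻¹) by group] at e4
    exact hM.commute_trans (hM.conj u z hz) (hM.conj_self (hM.conj u w' hw'.1) hx) hz e4.symm huz
  obtain ⟨w₁, hw₁, hne⟩ := Set.exists_ne_of_one_lt_ncard (s := swaps D x z) (by omega) w
  have hww : ¬ Commute w w₁ := hM.swaps_pairwise hx hz hxz hw hw₁ hne.symm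
  obtain ⟨g, hgdef⟩ : ∃ g, g = w * w₁ := ⟨_, rfl⟩
  have hw2 := hM.sq w hw.1
  have hg : g ^ p = 1 := hgdef ▸ hM.prod w hw.1 w₁ hw₁.1 hww
  have hg1 : g ≠ 1 := hgdef ▸ hM.mul_ne_one hw₁.1 hww
  have hgord : orderOf g = p := orderOf_eq_prime hg hg1
  have hinv : ∀ j : ℕ, w * g ^ j * w = (g ^ j)⁻¹ := fun j =>
    hgdef ▸ mul_pow_conj hw2 (hM.sq w₁ hw₁.1) j
  have hmem : ∀ j : ℕ, w * g ^ j ∈ swaps D x z := by
    intro j
    induction j using Nat.twoStepInduction with
    | zero => simpa using hw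
    | one => rw [pow_one, hgdef, hM.mul_self_cancel hw.1]; exact hw₁
    | more j ih _ =>
      have := hM.swaps_closed hx hz hw₁ (hM.swaps_closed hx hz hw ih)
      have e : w * g ^ (j + 2) = w₁ * (w * (w * g ^ j) * w) * w₁ := by
        have hgi : g⁻¹ = w₁ * w := by
          rw [hgdef, mul_inv_rev, inv_eq_self hw2, inv_eq_self (hM.sq w₁ hw₁.1)]
        calc w * g ^ (j + 2) = w * g * w * (w * g ^ j) * g := by
              rw [show j + 2 = 1 + j + 1 by omega, pow_succ, pow_add, pow_one]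
              calc w * (g * g ^ j * g) = w * g * (w * w) * g ^ j * g := by rw [hw2]; group
                _ = _ := by group
          _ = g⁻¹ * (w * g ^ j) * g := by
              rw [show w * g * w = g⁻¹ by simpa using hinv 1]
          _ = w₁ * (w * (w * g ^ j) * w) * w₁ := by rw [hgi, hgdef]; group
      rw [e]; exact this
  have heq : (fun j => w * g ^ j) '' Set.Iio p = swaps D x z := by
    refine Set.eq_of_subset_of_ncard_le (fun _ ⟨j, _, e⟩ => e ▸ hmem j) ?_ (Set.toFinite _)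
    rw [hcard, Set.InjOn.ncard_image fun a ha b hb e => ?_, Set.ncard_eq_toFinset_card']
    · simp
    · exact pow_injOn_Iio_orderOf (by rwa [hgord]) (by rwa [hgord]) (mul_left_cancel e)
  have hrep : ∀ w' ∈ swaps D x z, ∃ l, w' = w * g ^ l := fun w' hw' => by
    rw [← heq] at hw'
    obtain ⟨l, -, e⟩ := hw'
    exact ⟨l, e.symm⟩
  obtain ⟨l, hl⟩ := hrep _ (hmapI w hw)
  obtain ⟨l', hl'⟩ := hrep _ (hmapI w₁ hw₁)
  obtain ⟨i, hi⟩ : ∃ i, u * g * u⁻¹ = g ^ i := by
    refine ⟨(p - 1) * l + l', ?_⟩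
    have e : g ^ ((p - 1) * l) = (g ^ l)⁻¹ := eq_inv_of_mul_eq_one_left (by
      rw [← pow_add, ← Nat.succ_mul, show (p - 1).succ = p by omega, pow_mul, hg, one_pow])
    rw [pow_add, e]
    calc u * g * u⁻¹ = u * w * u⁻¹ * (u * w₁ * u⁻¹) := by rw [hgdef]; group
      _ = w * g ^ l * (w * g ^ l') := by rw [hl, hl']
      _ = w * g ^ l * w * g ^ l' := by group
      _ = (g ^ l)⁻¹ * g ^ l' := by rw [hinv l]
  have hpow : ∀ n : ℕ, u ^ n * g * (u ^ n)⁻¹ = g ^ (i ^ n) := by
    intro n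
    induction n with
    | zero => simp
    | succ n ih =>
      calc u ^ (n + 1) * g * (u ^ (n + 1))⁻¹ = u * (u ^ n * g * (u ^ n)⁻¹) * u⁻¹ := by
            rw [pow_succ']; group
        _ = (u * g * u⁻¹) ^ (i ^ n) := by rw [ih, conj_pow]
        _ = g ^ (i ^ (n + 1)) := by rw [hi, ← pow_mul, pow_succ']
  have hug : Commute u g := by
    have h1 : g ^ (i ^ p) = g := by rw [← hpow p, hu]; simp
    have h2 : g ^ i = g ^ (i ^ p) := by
      rw [pow_eq_pow_iff_modEq, hgord, ← ZMod.natCast_eq_natCast_iff]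
      push_cast
      rw [ZMod.pow_card]
    rw [h2, h1] at hi
    exact mul_inv_eq_iff_eq_mul.1 hi
  obtain ⟨j, hj⟩ : ∃ j, g ^ (j + j) = g ^ l := ⟨l * ((p + 1) / 2), by
    rw [← mul_add, half_add_half hM.odd, mul_add, mul_one, pow_add, mul_comm l p, pow_mul, hg,
      one_pow, one_mul]⟩
  obtain ⟨v, hvdef⟩ : ∃ v, v = u * g ^ j := ⟨_, rfl⟩
  have hwg : ∀ n : ℕ, g ^ n * w = w * (g ^ n)⁻¹ := fun n => by
    rw [← hinv n, ← mul_assoc, ← mul_assoc, hw2, one_mul]
  have hvw : Commute v w := by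
    have e : v * w * v⁻¹ = w := by
      calc v * w * v⁻¹ = u * (g ^ j * w) * (g ^ j)⁻¹ * u⁻¹ := by rw [hvdef]; group
        _ = u * w * u⁻¹ * (u * ((g ^ j)⁻¹ * (g ^ j)⁻¹) * u⁻¹) := by rw [hwg j]; group
        _ = u * w * u⁻¹ * (g ^ (j + j))⁻¹ := by
            rw [← mul_inv_rev, ← pow_add, ((hug.pow_right (j + j)).inv_right).eq,
              mul_inv_cancel_right]
        _ = w := by rw [hl, hj, mul_inv_cancel_right]
    exact mul_inv_eq_iff_eq_mul.1 e
  have hvg : Commute v g := hvdef ▸ hug.mul_left (Commute.pow_self g j)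
  have hvp : v ^ p = 1 := by
    rw [hvdef, (hug.pow_right j).mul_pow, hu, one_mul, ← pow_mul, mul_comm, pow_mul, hg, one_pow]
  have hv1 : v = 1 := hM.rigid hvp hw.1 hw₁.1 hww hvw (by
    rw [← hM.mul_self_cancel hw.1 w₁, ← hgdef]; exact hvw.mul_right hvg)
  have hue : u = (g ^ j)⁻¹ := eq_inv_of_mul_eq_one_left (hvdef ▸ hv1)
  rw [hue, inv_inv]
  calc w * (g ^ j)⁻¹ * w = (w * g ^ j * w)⁻¹ := by
        rw [mul_inv_rev, mul_inv_rev, inv_eq_self hw2]; group
    _ = g ^ j := by rw [hinv j, inv_inv]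

theorem act_invol (hM : Min p D) {w : G} (hw : w ∈ D) (S : Set G) : act w (act w S) = S := by
  rw [← act_mul, hM.sq w hw, act_one]

theorem act_mem_blocks (hM : Min p D) (g : G) {S : Set G} (hS : S ∈ blocks D) :
    act g S ∈ blocks D := by
  obtain ⟨z, hz, rfl⟩ := hS
  exact ⟨g * z * g⁻¹, hM.conj g z hz, (hM.act_cls g z).symm⟩

theorem blocks_modEq (hM : Min p D) {u : G} (hu : u ^ p = 1) :
    (blocks D).ncard ≡ {S | S ∈ blocks D ∧ act u S = S}.ncard [MOD p] := by
  have := Fact.mk hM.prime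
  have hit : ∀ (n : ℕ) (S : Set G), (act u)^[n] S = act (u ^ n) S := by
    intro n S
    induction n with
    | zero => rw [pow_zero, act_one]; rfl
    | succ n ih => rw [Function.iterate_succ_apply', ih, pow_succ', act_mul]
  exact ncard_modEq_fixed (Set.toFinite _) (fun S hS => hM.act_mem_blocks u hS)
    fun S _ => by rw [hit, hu, act_one]

/-- A product of two non-commuting members fixing a class: the number of classes modulo `p`. -/
theorem blocks_mod_ne_zero (hM : Min p D) {x y S : _} (hx : x ∈ D) (hy : y ∈ D)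
    (hxy : ¬ Commute x y) (hS : S ∈ blocks D) (hfix : act (x * y) S = S) :
    ¬ p ∣ (blocks D).ncard := by
  classical
  obtain ⟨a, ha, rfl⟩ := hS
  obtain ⟨u, hudef⟩ : ∃ u, u = x * y := ⟨_, rfl⟩
  rw [← hudef] at hfix
  have hu : u ^ p = 1 := hudef ▸ hM.prod x hx y hy hxy
  have hua : Commute (u * a * u⁻¹) a := by
    rw [hM.act_cls, hM.cls_eq_iff (hM.conj u a ha) ha] at hfix
    exact hfix
  let J : Set G := {w | w ∈ D ∧ w * u * w = u⁻¹}
  have hxJ : x ∈ J := ⟨hx, by simpa [hudef] using mul_pow_conj (hM.sq x hx) (hM.sq y hy) 1⟩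
  have hJp : ∀ w ∈ J, ∀ w' ∈ J, w ≠ w' → ¬ Commute w w' := by
    rintro w ⟨hw, ew⟩ w' ⟨hw', ew'⟩ hne hc
    have hb := hM.mul_mem hw hw' hc hne
    have hcu : Commute (w * w') u := by
      have e : w * w' * u * (w * w') = u := by
        nth_rewrite 2 [hc.eq]
        calc w * w' * u * (w' * w) = w * (w' * u * w') * w := by group
          _ = (w * u * w)⁻¹ := by
              rw [ew', mul_inv_rev, mul_inv_rev, inv_eq_self (hM.sq w hw)]; group
          _ = u := by rw [ew, inv_inv]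
      exact (commute_of_conj_eq (hM.sq _ hb) e).symm
    rw [hudef] at hcu
    obtain ⟨h1, h2⟩ := hM.commute_of_commute_prod hM.odd hx hy hb hxy hcu
    exact hxy (hM.commute_trans hb hx hy h1 h2)
  have hJc : ∀ w ∈ J, ∀ w' ∈ J, w * w' * w ∈ J := by
    rintro w ⟨hw, ew⟩ w' ⟨hw', ew'⟩
    refine ⟨hM.conj_self hw hw', ?_⟩
    calc w * w' * w * u * (w * w' * w) = w * w' * (w * u * w) * w' * w := by group
      _ = w * (w' * u * w')⁻¹ * w := by
          rw [ew, mul_inv_rev, mul_inv_rev, inv_eq_self (hM.sq w' hw')]; group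
      _ = u⁻¹ := by rw [ew', inv_inv, ew]
  obtain ⟨k, hk⟩ := hM.exists_ncard_eq_pow (J := J) (fun w hw => hw.1) hJp hJc hxJ
  let α := cls D a
  let Φ : Set (Set G) := {S | S ∈ blocks D ∧ act u S = S}
  have hnofix : ∀ w ∈ J, ¬ Commute a w := by
    rintro w ⟨hw, ew⟩ hc
    have h1 : Commute (u * a * u⁻¹) (u * w * u⁻¹) := (Commute.conj_iff u).2 hc
    have hwD := hM.conj u w hw
    have h2 : Commute a (u * w * u⁻¹) :=
      hM.commute_trans (hM.conj u a ha) ha hwD hua h1
    have hne : w ≠ u * w * u⁻¹ := by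
      intro e
      have e1 : u = u⁻¹ := by
        rw [← ew]
        calc u = w * (w * u) := (hM.mul_self_cancel hw u).symm
          _ = w * (u * w) := by rw [(mul_inv_eq_iff_eq_mul.1 e.symm).symm]
          _ = w * u * w := (mul_assoc _ _ _).symm
      have : u = 1 := eq_one_of_pow_two hM.odd
        (by rw [pow_two]; nth_rewrite 2 [e1]; exact mul_inv_cancel u) hu
      exact hM.mul_ne_one hy hxy (hudef ▸ this)
    refine hJp w ⟨hw, ew⟩ _ ⟨hwD, ?_⟩ hne (hM.commute_trans ha hw hwD hc h2)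
    calc u * w * u⁻¹ * u * (u * w * u⁻¹) = u * (w * u * w) * u⁻¹ := by group
      _ = u⁻¹ := by rw [ew]; group
  have hmap : ∀ w ∈ J, act w α ∈ Φ \ {α} := by
    rintro w ⟨hw, ew⟩
    refine ⟨⟨hM.act_mem_blocks w ⟨a, ha, rfl⟩, ?_⟩, fun e => ?_⟩
    · have e1 : u * w = w * u⁻¹ := by rw [← ew, mul_assoc w u w, hM.mul_self_cancel hw]
      rw [← act_mul, e1, act_mul]
      congr 1
      conv_lhs => rw [show α = act u α from hfix.symm]
      rw [← act_mul, inv_mul_cancel, act_one]
    · rw [Set.mem_singleton_iff, hM.act_cls, hM.cls_eq_iff (hM.conj w a ha) ha,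
        inv_eq_self (hM.sq w hw)] at e
      exact hM.not_commute_conj hM.odd ha hw (hnofix w ⟨hw, ew⟩) e.symm
  have hfib : ∀ S ∈ Φ \ {α}, {w | w ∈ J ∧ act w α = S}.ncard = p := by
    rintro S ⟨⟨⟨z, hz, rfl⟩, hSu⟩, hSα⟩
    have haz : ¬ Commute a z := fun h => hSα ((hM.cls_eq_iff hz ha).2 h.symm)
    rw [hM.act_cls, hM.cls_eq_iff (hM.conj u z hz) hz] at hSu
    have e : {w | w ∈ J ∧ act w α = cls D z} = swaps D a z := by
      ext w
      constructor
      · rintro ⟨⟨hw, -⟩, h⟩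
        rw [hM.act_cls, hM.cls_eq_iff (hM.conj w a ha) hz, inv_eq_self (hM.sq w hw)] at h
        exact ⟨hw, h⟩
      · intro hw
        refine ⟨⟨hw.1, hM.inverts hu ha hz haz hua hSu hw⟩, ?_⟩
        rw [hM.act_cls, hM.cls_eq_iff (hM.conj w a ha) hz, inv_eq_self (hM.sq w hw.1)]
        exact hw.2
    rw [e, hM.swaps_ncard ha hz haz, hM.cls_ncard hz]
  have hJcard : J.ncard = p * (Φ \ {α}).ncard := by
    have hJf := Set.toFinite J
    have hΦf := Set.toFinite (Φ \ {α})
    rw [Set.ncard_eq_toFinset_card J hJf, Set.ncard_eq_toFinset_card _ hΦf,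
      Finset.card_eq_sum_card_fiberwise (f := fun w => act w α) (t := hΦf.toFinset)
        (fun w hw => hΦf.mem_toFinset.2 (hmap w (hJf.mem_toFinset.1 hw)))]
    rw [Finset.sum_const_nat (m := p), mul_comm]
    intro S hS
    rw [← hfib S (hΦf.mem_toFinset.1 hS), ← Set.ncard_coe_finset]
    congr 1
    ext w
    simp
  have hαΦ : α ∈ Φ := ⟨⟨a, ha, rfl⟩, hfix⟩
  have hΦ : Φ.ncard = (Φ \ {α}).ncard + 1 :=
    (Set.ncard_sdiff_singleton_add_one hαΦ (Set.toFinite _)).symm
  intro hdvd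
  have hmod : p ∣ Φ.ncard :=
    Nat.modEq_zero_iff_dvd.1 ((hM.blocks_modEq hu).symm.trans (Nat.modEq_zero_iff_dvd.2 hdvd))
  have hp5 := hM.five
  rw [hk] at hJcard
  rw [hΦ] at hmod
  rcases k with _ | _ | k
  · rw [pow_zero] at hJcard
    have : p ≤ 1 := Nat.le_of_dvd one_pos ⟨_, hJcard⟩
    omega
  · rw [zero_add, pow_one] at hJcard
    have : (Φ \ {α}).ncard = 1 :=
      (Nat.eq_of_mul_eq_mul_left (show 0 < p by omega) (by rw [mul_one]; exact hJcard)).symm
    rw [this] at hmod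
    exact absurd (Nat.le_of_dvd (by norm_num) hmod) (by omega)
  · rw [pow_succ', pow_succ'] at hJcard
    have : (Φ \ {α}).ncard = p * p ^ k := (Nat.eq_of_mul_eq_mul_left (by omega) hJcard).symm
    rw [this] at hmod
    have : p ∣ 1 := (Nat.dvd_add_iff_right (dvd_mul_right p _)).2 hmod
    exact absurd (Nat.le_of_dvd one_pos this) (by omega)

theorem exists_free_product (hM : Min p D) :
    ∃ x ∈ D, ∃ y ∈ D, ¬ Commute x y ∧ ∀ S ∈ blocks D, act (x * y) S ≠ S := by
  classical
  by_contra hno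
  push Not at hno
  obtain ⟨x, hx⟩ := hM.nonempty
  let α := cls D x
  let A : Set G := {y | y ∈ D ∧ ¬ Commute y x}
  have hαmem : α ∈ blocks D := ⟨x, hx, rfl⟩
  have hBf := Set.toFinite (blocks D \ {α})
  have hAf := Set.toFinite A
  have hxα : act x α = α := by rw [hM.act_cls, mul_inv_cancel_right]
  -- the non-commuting members, class by class
  have hAcard : A.ncard = p * (blocks D \ {α}).ncard := by
    rw [Set.ncard_eq_toFinset_card A hAf, Set.ncard_eq_toFinset_card _ hBf,
      Finset.card_eq_sum_card_fiberwise (f := fun y => cls D y) (t := hBf.toFinset) (fun y hy =>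
        hBf.mem_toFinset.2 ⟨⟨y, (hAf.mem_toFinset.1 hy).1, rfl⟩, fun e => (hAf.mem_toFinset.1 hy).2
          ((hM.cls_eq_iff (hAf.mem_toFinset.1 hy).1 hx).1 e)⟩)]
    rw [Finset.sum_const_nat (m := p), mul_comm]
    intro S hS
    obtain ⟨⟨z, hz, rfl⟩, hzα⟩ := hBf.mem_toFinset.1 hS
    rw [← hM.cls_ncard hz, ← Set.ncard_coe_finset]
    congr 1
    ext y
    simp only [Finset.coe_filter, Set.Finite.mem_toFinset, Set.mem_ofPred_eq]
    constructor
    · rintro ⟨hy, e⟩
      exact ⟨hy.1, (hM.cls_eq_iff hy.1 hz).1 e⟩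
    · rintro ⟨hy, hyz⟩
      refine ⟨⟨hy, fun h => hzα ?_⟩, (hM.cls_eq_iff hy hz).2 hyz⟩
      exact (hM.cls_eq_iff hz hx).2 (hM.commute_trans hy hz hx hyz h)
  let C : Set G → Finset G := fun S => hAf.toFinset.filter fun y => act y S = act x S
  have hcover : hAf.toFinset ⊆ hBf.toFinset.biUnion C := by
    intro y hy
    obtain ⟨hyD, hyx⟩ := hAf.mem_toFinset.1 hy
    obtain ⟨S, hS, hfix⟩ := hno x hx y hyD fun h => hyx h.symm
    rw [act_mul] at hfix
    have hyS : act y S = act x S := by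
      have := congrArg (act x) hfix
      rwa [hM.act_invol hx] at this
    refine Finset.mem_biUnion.2 ⟨S, hBf.mem_toFinset.2 ⟨hS, ?_⟩, Finset.mem_filter.2 ⟨hy, hyS⟩⟩
    intro e
    rw [Set.mem_singleton_iff] at e
    rw [e, hxα, hM.act_cls, hM.cls_eq_iff (hM.conj y x hx) hx, inv_eq_self (hM.sq y hyD)] at hyS
    exact hM.not_commute_conj hM.odd hx hyD (fun h => hyx h.symm) hyS.symm
  have hbound : ∀ S ∈ hBf.toFinset, (C S).card ≤ p - 1 := by
    intro S hS
    obtain ⟨⟨z, hz, rfl⟩, hzα⟩ := hBf.mem_toFinset.1 hS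
    have hzx : ¬ Commute z x := fun h => hzα ((hM.cls_eq_iff hz hx).2 h)
    have hz' := hM.conj_self hx hz
    have hne : ¬ Commute z (x * z * x) := hM.not_commute_conj hM.odd hz hx hzx
    have hsub : (↑(C (cls D z)) : Set G) ⊆ swaps D z (x * z * x) \ {x} := by
      intro y hy
      obtain ⟨hyA, hyS⟩ := Finset.mem_filter.1 hy
      obtain ⟨hyD, hyx⟩ := hAf.mem_toFinset.1 hyA
      rw [hM.act_cls, hM.act_cls, hM.cls_eq_iff (hM.conj y z hz) (hM.conj x z hz),
        inv_eq_self (hM.sq y hyD), inv_eq_self (hM.sq x hx)] at hyS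
      exact ⟨⟨hyD, hyS⟩, fun e => hyx (by rw [Set.mem_singleton_iff.1 e])⟩
    have h1 : (swaps D z (x * z * x) \ {x}).ncard = p - 1 := by
      rw [Set.ncard_sdiff_singleton_of_mem (show x ∈ swaps D z (x * z * x) from ⟨hx, Commute.refl _⟩),
        hM.swaps_ncard hz hz' hne,
        hM.cls_ncard hz']
    rw [← Set.ncard_coe_finset, ← h1]
    exact Set.ncard_le_ncard hsub (Set.toFinite _)
  have h := (Finset.card_le_card hcover).trans Finset.card_biUnion_le
  have h2 := h.trans (Finset.sum_le_card_nsmul _ _ _ hbound)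
  rw [← Set.ncard_eq_toFinset_card A hAf, ← Set.ncard_eq_toFinset_card _ hBf, hAcard,
    smul_eq_mul] at h2
  have hp5 := hM.five
  have hpos : 0 < (blocks D \ {α}).ncard := by
    obtain ⟨y, hy, hyx⟩ := hM.exists_noncommute hx
    exact (Set.ncard_pos hBf).2
      ⟨cls D y, ⟨y, hy, rfl⟩, fun e => hyx ((hM.cls_eq_iff hy hx).1 e)⟩
  generalize (blocks D \ {α}).ncard = n at h2 hpos
  have h3 : n * p ≤ n * (p - 1) := by rw [mul_comm n p]; exact h2
  exact absurd (Nat.le_of_mul_le_mul_left h3 hpos) (by omega)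

theorem false (hM : Min p D) : False := by
  obtain ⟨x, hx, y, hy, hxy, hfree⟩ := hM.exists_free_product
  have hu := hM.prod x hx y hy hxy
  have h0 : p ∣ (blocks D).ncard := by
    refine Nat.modEq_zero_iff_dvd.1 ((hM.blocks_modEq hu).trans ?_)
    rw [show {S | S ∈ blocks D ∧ act (x * y) S = S} = (∅ : Set (Set G)) from
      Set.eq_empty_iff_forall_notMem.2 fun S hS => hfree S hS.1 hS.2, Set.ncard_empty]
  -- a product of two members exchanging two classes fixes both
  obtain ⟨m, hm, hmy, -⟩ := hM.exists_midpoint hM.odd hx hy hxy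
  have hcard : (swaps D x y).ncard = p := by rw [hM.swaps_ncard hx hy hxy, hM.cls_ncard hy]
  have hp5 := hM.five
  obtain ⟨m', hm', hne⟩ := Set.exists_ne_of_one_lt_ncard (s := swaps D x y) (by omega) m
  have hmS : m ∈ swaps D x y := ⟨hm, by rw [hmy]⟩
  refine hM.blocks_mod_ne_zero hm hm'.1 (hM.swaps_pairwise hx hy hxy hmS hm' hne.symm)
    (S := cls D x) ⟨x, hx, rfl⟩ ?_ h0
  rw [hM.act_cls, hM.cls_eq_iff (hM.conj _ x hx) hx, mul_inv_rev, inv_eq_self (hM.sq m' hm'.1),
    inv_eq_self (hM.sq m hm)]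
  have h1 := (Commute.conj_iff m).2 hm'.2
  rw [inv_eq_self (hM.sq m hm), ← hmy,
    show m * (m * x * m) * m = m * m * x * (m * m) by group, hM.sq m hm, one_mul, mul_one] at h1
  rw [show m * m' * x * (m' * m) = m * (m' * x * m') * m by group]
  exact h1

end Min

end CfsgLib.PrimeTransp
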