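import Cfsg.Agent.Lib.Golay.PrimeTranspCount

/-!
A group generated by a conjugation-closed set of involutions whose products have order at most two or
a fixed prime `p ≥ 5` is solvable.
-/

set_option autoImplicit false

namespace CfsgLib.PrimeTransp

universe u

theorem isSolvable_closure {p : ℕ} (hp : p.Prime) (h5 : 5 ≤ p) {G : Type u} [Group G] [Finite G]
    {D : Set G} (hD : IsPTransp p D) : Group.IsSolvable (Subgroup.closure D) := by
  suffices key : ∀ n : ℕ, ∀ (X : Type u) [Group X] [Finite X], Nat.card X = n → ∀ D : Set X,
      IsPTransp p D → Group.IsSolvable (Subgroup.closure D) from key _ G rfl D hD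
  intro n
  induction n using Nat.strong_induction_on with
  | _ n ih =>
  intro X _ _ hn D hD
  -- subgroups
  have hsub : ∀ H : Subgroup X, H ≠ ⊤ → Group.IsSolvable (Subgroup.closure (D ∩ (H : Set X))) := by
    intro H hH
    have hlt : Nat.card H < n := by
      rw [← hn]
      exact lt_of_le_of_ne (Subgroup.card_le_card_group H)
        fun e => hH (Subgroup.eq_top_of_card_eq H e)
    have := ih _ hlt H rfl _ (hD.preimage H)
    have e : (Subgroup.closure {h : H | (h : X) ∈ D}).map H.subtype =
        Subgroup.closure (D ∩ (H : Set X)) := by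
      rw [MonoidHom.map_closure]
      congr 1
      ext x
      exact ⟨fun ⟨h, hh, e⟩ => e ▸ ⟨hh, h.2⟩, fun ⟨h1, h2⟩ => ⟨⟨x, h2⟩, h1, rfl⟩⟩
    rw [← e]
    have eqv := Subgroup.equivMapOfInjective (Subgroup.closure {h : H | (h : X) ∈ D}) H.subtype
      H.subtype_injective
    exact Group.isSolvable_of_surjective (f := eqv.toMonoidHom) eqv.surjective
  by_cases htop : Subgroup.closure D = ⊤
  swap
  · have := hsub _ htop
    rwa [Set.inter_eq_left.2 Subgroup.subset_closure] at this
  rw [htop]
  suffices Group.IsSolvable X from inferInstance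
  by_contra hns
  have hrad : ∀ N : Subgroup X, N.Normal → Group.IsSolvable N → N = ⊥ := by
    intro N hN hsol
    by_contra hne
    have hlt : Nat.card (X ⧸ N) < n := by
      rw [← hn, Subgroup.card_eq_card_quotient_mul_card_subgroup N]
      exact lt_mul_of_one_lt_right Nat.card_pos ((Subgroup.one_lt_card_iff_ne_bot N).2 hne)
    have hq := ih _ hlt (X ⧸ N) rfl _ (hD.image _ (QuotientGroup.mk'_surjective N))
    have e : Subgroup.closure ((QuotientGroup.mk' N '' D) \ {1}) = ⊤ := by
      rw [Subgroup.closure_sdiff_one, ← MonoidHom.map_closure, htop,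
        Subgroup.map_top_of_surjective _ (QuotientGroup.mk'_surjective N)]
    rw [e] at hq
    have : Group.IsSolvable (X ⧸ N) := Group.isSolvable_of_surjective
      (f := (Subgroup.topEquiv (G := X ⧸ N)).toMonoidHom) (Subgroup.topEquiv (G := X ⧸ N)).surjective
    exact hns ((Group.isSolvable_iff_subgroup_quotient N).2 ⟨hsol, this⟩)
  have hne : D.Nonempty := by
    rcases Set.eq_empty_or_nonempty D with e | e
    · exfalso
      rw [e, Subgroup.closure_empty] at htop
      exact hns (Group.isSolvable_of_top_eq_bot X htop.symm)
    · exact e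
  exact Min.false (p := p) (D := D)
    { toIsPTransp := hD, prime := hp, five := h5, nonempty := hne, gen := htop, rad := hrad,
      proper := hsub }

end CfsgLib.PrimeTransp
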