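import Cfsg.Agent.Lib.Golay.Stab

/-! Pointwise stabilisers of masks. -/

set_option autoImplicit false
set_option maxRecDepth 100000

namespace CfsgLib.Golay

open Cfsg
open scoped Pointwise

/-- The one-bit masks of the points of a mask. -/
def bitsList (m : ℕ) : List ℕ :=
  ((List.range 24).filter fun i => m.testBit i).map fun i => Nat.shiftLeft 1 i

theorem mem_fixMasks_bitsList {m : ℕ} {X : List ℕ} {σ : Equiv.Perm GolayPt} :
    σ ∈ fixMasks (bitsList m ++ X) ↔ σ ∈ fixMasks X ∧ ∀ p ∈ mset m, σ p = p := by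
  simp only [mem_fixMasks, List.forall_mem_append, bitsList, List.forall_mem_map,
    List.mem_filter, List.mem_range]
  constructor
  · rintro ⟨h, hb, hX⟩
    refine ⟨⟨h, hX⟩, fun p hp => ?_⟩
    have := hb (idx p) ⟨idx_lt p, mem_mset.1 hp⟩
    rwa [smul_mset_bit σ (idx_lt p), pt_idx] at this
  · rintro ⟨⟨h, hX⟩, hp⟩
    refine ⟨h, fun i hi => ?_, hX⟩
    have hq := hp (pt i) (mem_mset.2 (by rw [idx_pt hi.1]; exact hi.2))
    have := (smul_mset_bit σ hi.1 (q := pt i)).2 hq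
    rwa [idx_pt hi.1] at this

theorem mem_fix_pointwise {m : ℕ} {σ : Equiv.Perm GolayPt} :
    σ ∈ fixMasks (bitsList m) ↔ σ ∈ M24 ⊓ fixingSubgroup (Equiv.Perm GolayPt) (mset m : Set GolayPt) := by
  rw [← List.append_nil (bitsList m), mem_fixMasks_bitsList, fixMasks_nil, Subgroup.mem_inf,
    mem_fixingSubgroup_iff]
  rfl

/-- Every element is one of the transversal elements when only one level is present. -/
theorem eq_transversal {X : List ℕ} {lv : Level} {fin : List (ℕ × ℕ × ℕ)}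
    (h : chainOK X [lv] fin = true) {σ : Equiv.Perm GolayPt} (hσ : σ ∈ fixMasks X) :
    ∃ g ∈ lv.2.1, σ = permOf g := by
  have h' := h
  simp only [chainOK, Bool.and_eq_true] at h'
  obtain ⟨hb, -, hT, horb⟩ := levelOK_unpack h'.1
  have hq := (horb (σ (pt lv.1))).1 ⟨σ, hσ, rfl⟩
  rw [mem_mset, testBit_orbMask] at hq
  obtain ⟨g, hg, hgq⟩ := hq
  have h1 : Nat.card (fixMasks (Nat.shiftLeft 1 lv.1 :: X)) = 1 := by
    rw [card_fixMasks (L := []) (fin := fin)]
    · rfl
    · simp only [chainOK, Bool.and_eq_true]; exact h'.2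
  have hm : (permOf g)⁻¹ * σ ∈ fixMasks (Nat.shiftLeft 1 lv.1 :: X) :=
    (mem_fixMasks_cons hb).2 ⟨Subgroup.mul_mem _ (Subgroup.inv_mem _ (inFix_mem (hT g hg))) hσ, by
      rw [Equiv.Perm.mul_apply, Equiv.Perm.inv_eq_iff_eq, permOf_pt (inFix_valid (hT g hg)) hb,
        hgq, pt_idx]⟩
  rw [Subgroup.card_eq_one.1 h1, Subgroup.mem_bot, inv_mul_eq_one] at hm
  exact ⟨g, hg, hm.symm⟩

end CfsgLib.Golay
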