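import Cfsg.Agent.Lib.Golay.PrimeTranspSolvable
import Cfsg.Agent.Lib.Invol.BaerSuzuki
import Cfsg.Prelude.Def_SporadicB

/-!
A generating class of involutions on which a group without solvable normal subgroups acts with
rank three is a class of 3-transpositions, given that its odd core is solvable.
-/

set_option autoImplicit false

namespace CfsgLib.PrimeTransp

open Subgroup

variable {G : Type*} [Group G]

theorem orderOf_conj_eq (g a : G) : orderOf (g * a * g⁻¹) = orderOf a :=
  orderOf_injective (MulAut.conj g).toMonoidHom (MulAut.conj g).injective a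

/-- Two involutions with product of order dividing four generate a 2-group. -/
theorem isPGroup_pair {x y : G} (hx : x * x = 1) (hy : y * y = 1) (h : (x * y) ^ 4 = 1) :
    IsPGroup 2 (Subgroup.closure ({x, y} : Set G)) := by
  have hinv : ∀ i : ℤ, x * (x * y) ^ i * x = ((x * y) ^ i)⁻¹ := by
    intro i
    have h1 : x * (x * y) * x⁻¹ = (x * y)⁻¹ := by
      rw [mul_inv_rev, inv_eq_self hx, inv_eq_self hy, ← mul_assoc, hx, one_mul]
    have e := conj_zpow (a := x) (b := x * y) (i := i)
    rw [h1, inv_zpow, inv_eq_self hx] at e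
    exact e.symm
  have hxr : ∀ i : ℤ, x * (x * y) ^ i = (x * y) ^ (-i) * x := fun i => by
    rw [zpow_neg, ← hinv i, mul_assoc (x * (x * y) ^ i), hx, mul_one]
  have key : ∀ g ∈ Subgroup.closure ({x, y} : Set G),
      ∃ i : ℤ, g = (x * y) ^ i ∨ g = (x * y) ^ i * x := by
    intro g hg
    induction hg using Subgroup.closure_induction with
    | mem z hz =>
      rcases hz with rfl | rfl
      · exact ⟨0, Or.inr (by simp)⟩
      · refine ⟨-1, Or.inr ?_⟩
        rw [zpow_neg_one, mul_inv_rev, inv_eq_self hx, inv_eq_self hy, mul_assoc, hx, mul_one]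
    | one => exact ⟨0, Or.inl (by simp)⟩
    | mul a b _ _ ha hb =>
      obtain ⟨i, rfl | rfl⟩ := ha <;> obtain ⟨j, rfl | rfl⟩ := hb
      · exact ⟨i + j, Or.inl (zpow_add _ _ _).symm⟩
      · exact ⟨i + j, Or.inr (by rw [zpow_add, mul_assoc])⟩
      · exact ⟨i - j, Or.inr (by
          rw [mul_assoc, hxr j, ← mul_assoc, ← zpow_add, ← sub_eq_add_neg])⟩
      · refine ⟨i - j, Or.inl ?_⟩
        rw [mul_assoc, ← mul_assoc x, hxr j, mul_assoc _ x x, hx, mul_one, ← zpow_add,
          ← sub_eq_add_neg]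
    | inv a _ ha =>
      obtain ⟨i, rfl | rfl⟩ := ha
      · exact ⟨-i, Or.inl (zpow_neg _ _).symm⟩
      · exact ⟨i, Or.inr (by rw [mul_inv_rev, inv_eq_self hx, ← zpow_neg, hxr (-i), neg_neg])⟩
  intro g
  refine ⟨2, Subtype.ext ?_⟩
  show (g.1) ^ 2 ^ 2 = 1
  obtain ⟨i, e | e⟩ := key g.1 g.2 <;> rw [e]
  · rw [← zpow_natCast, zpow_comm, zpow_natCast, show (2 : ℕ) ^ 2 = 4 by norm_num, h, one_zpow]
  · have e2 : (x * y) ^ i * x * ((x * y) ^ i * x) = 1 := by
      rw [mul_assoc, ← mul_assoc x, hxr i, mul_assoc _ x x, hx, mul_one, ← zpow_add, add_neg_cancel,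
        zpow_zero]
    rw [show (2 : ℕ) ^ 2 = 2 * 2 by norm_num, pow_mul, pow_two ((x * y) ^ i * x), e2, one_pow]

theorem three_transpositions [Finite G] (hsol : ∀ N : Subgroup G, N.Normal → Group.IsSolvable N → N = ⊥)
    {D : Set G} (hinv : ∀ d ∈ D, orderOf d = 2) (hconj : ∃ d ∈ D, D = conjugatesOf d)
    (hgen : Subgroup.closure D = ⊤)
    (hrank : ∀ x ∈ D, ∃ m n : ℕ, ∀ w ∈ D, w ≠ x → orderOf (x * w) = m ∨ orderOf (x * w) = n)
    (hodd : Group.IsSolvable (Cfsg.oddCore G)) :
    Cfsg.IsThreeTranspositionSet D := by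
  obtain ⟨d, hd, hDd⟩ := hconj
  have hsq : ∀ a ∈ D, a * a = 1 := fun a ha => by rw [← pow_two, ← hinv a ha, pow_orderOf_eq_one]
  have hclosed : ∀ g : G, ∀ a ∈ D, g * a * g⁻¹ ∈ D := by
    intro g a ha
    rw [hDd] at ha ⊢
    exact (show IsConj d a from ha).trans (isConj_iff.2 ⟨g, rfl⟩)
  obtain ⟨m, n, hmn⟩ := hrank d hd
  have hpair : ∀ a ∈ D, ∀ b ∈ D, b ≠ a → orderOf (a * b) = m ∨ orderOf (a * b) = n := by
    intro a ha b hb hne
    rw [hDd] at ha
    obtain ⟨g, rfl⟩ := isConj_iff.1 (show IsConj d a from ha)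
    have e : g * d * g⁻¹ * b = g * (d * (g⁻¹ * b * g⁻¹⁻¹)) * g⁻¹ := by group
    rw [e, orderOf_conj_eq]
    refine hmn _ (hclosed g⁻¹ b hb) fun e => hne ?_
    calc b = g * (g⁻¹ * b * g⁻¹⁻¹) * g⁻¹ := by group
      _ = g * d * g⁻¹ := by rw [e]
  have htop : Group.IsSolvable (⊤ : Subgroup G) → False := fun h => by
    have hbot := hsol ⊤ inferInstance h
    have : d = 1 := Subgroup.mem_bot.1 (hbot ▸ Subgroup.mem_top d)
    exact absurd (hinv d hd) (by rw [this, orderOf_one]; norm_num)
  have hcent : ∀ a ∈ D, (∀ g : G, Commute a g) → False := fun a ha h => by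
    have hbot := hsol (Subgroup.center G) inferInstance
      (Group.isSolvable_of_comm fun u v => Subtype.ext (Subgroup.mem_center_iff.1 v.2 u.1))
    have h1 : a = 1 :=
      Subgroup.mem_bot.1 (hbot ▸ Subgroup.mem_center_iff.2 fun g => (h g).symm.eq)
    exact absurd (hinv a ha) (by rw [h1, orderOf_one]; norm_num)
  have htwo : ∀ a ∈ D, ∀ b ∈ D, a * b * (a * b) = 1 → Commute a b := fun a ha b hb h => by
    show a * b = b * a
    rw [(mul_eq_one_iff_eq_inv.1 h), mul_inv_rev, inv_eq_self (hsq a ha), inv_eq_self (hsq b hb)]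
  by_cases hc : ∃ a ∈ D, ∃ b ∈ D, b ≠ a ∧ Commute a b
  swap
  · push Not at hc
    exfalso
    refine hcent d hd fun g => ?_
    have hiso : Cfsg.IsIsolatedInvolution d := ⟨hinv d hd, fun g h => by
      by_contra hne
      exact hc d hd _ (hclosed g d hd) hne h⟩
    have h := CfsgLib.Invol.zstar G hiso g
    have hb := hsol (Cfsg.oddCore G) (CfsgLib.Solvable.pPrimeCore_normal 2 G) hodd
    rw [hb, Subgroup.mem_bot] at h
    exact mul_inv_eq_iff_eq_mul.1 (mul_inv_eq_one.1 h)
  obtain ⟨a, ha, b, hb, hab, hcomm⟩ := hc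
  have hord2 : orderOf (a * b) = 2 := by
    have := Fact.mk Nat.prime_two
    refine orderOf_eq_prime ?_ fun e => hab ((mul_eq_one_iff_eq (hsq b hb)).1 e).symm
    rw [hcomm.mul_pow, pow_two, pow_two, hsq a ha, hsq b hb, one_mul]
  obtain ⟨k, hk⟩ : ∃ k, ∀ a ∈ D, ∀ b ∈ D, b ≠ a → orderOf (a * b) = 2 ∨ orderOf (a * b) = k := by
    rcases hpair a ha b hb hab with e | e
    · exact ⟨n, fun a ha b hb hne => by have := hpair a ha b hb hne; omega⟩
    · exact ⟨m, fun a ha b hb hne => by have := hpair a ha b hb hne; omega⟩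
  by_cases hall : ∀ a ∈ D, ∀ b ∈ D, b ≠ a → orderOf (a * b) = 2
  · exfalso
    refine htop ?_
    rw [← hgen]
    have hle : D ⊆ Subgroup.centralizer (D : Set G) := fun x hx =>
      Subgroup.mem_centralizer_iff.2 fun y hy => by
        rcases eq_or_ne x y with rfl | hne
        · rfl
        exact (htwo y hy x hx (by rw [← pow_two, ← hall y hy x hx hne, pow_orderOf_eq_one])).eq
    refine Group.isSolvable_of_comm fun u v => Subtype.ext ?_
    have hu : u.1 ∈ Subgroup.centralizer (D : Set G) := (Subgroup.closure_le _).2 hle u.2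
    exact Subgroup.closure_induction (p := fun y _ => u.1 * y = y * u.1)
      (fun w hw => (Subgroup.mem_centralizer_iff.1 hu w hw).symm) (by simp)
      (fun p q _ _ hp hq => by rw [← mul_assoc, hp, mul_assoc, hq, mul_assoc])
      (fun p _ hp => (Commute.inv_right (show Commute u.1 p from hp)).eq) v.2
  push Not at hall
  obtain ⟨a, ha, b, hb, hab, hne2⟩ := hall
  have hkab : orderOf (a * b) = k := (hk a ha b hb hab).resolve_left hne2
  have hk1 : k ≠ 1 := fun e => hab ((mul_eq_one_iff_eq (hsq b hb)).1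
    (orderOf_eq_one_iff.1 (hkab.trans e))).symm
  have hk0 : 0 < k := hkab ▸ orderOf_pos _
  have hk2 : k ≠ 2 := fun e => hne2 (hkab.trans e)
  rcases Nat.even_or_odd k with ⟨i, hi⟩ | hodd'
  · exfalso
    have hc : b * a * b ∈ D := by
      have := hclosed b a ha
      rwa [inv_eq_self (hsq b hb)] at this
    have e : a * (b * a * b) = (a * b) ^ 2 := by rw [pow_two]; group
    have ho : orderOf (a * (b * a * b)) = i := by
      rw [e, orderOf_pow' _ (by norm_num : (2 : ℕ) ≠ 0), hkab, hi,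
        Nat.gcd_eq_right ⟨i, by omega⟩]
      omega
    have hne' : b * a * b ≠ a := fun h => by
      rw [h, hsq a ha, orderOf_one] at ho
      omega
    have hk4 : k = 4 := by
      rcases hk a ha _ hc hne' with h | h <;> rw [ho] at h <;> omega
    have hmem : d ∈ Cfsg.pCore 2 G := by
      have := Fact.mk Nat.prime_two
      refine CfsgLib.Invol.baer_suzuki_mem_pCore fun g => isPGroup_pair (hsq d hd)
        (hsq _ (hclosed g d hd)) ?_
      by_cases h : g * d * g⁻¹ = d
      · rw [h, hsq d hd, one_pow]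
      rcases hk d hd _ (hclosed g d hd) h with h' | h'
      · rw [show 4 = 2 * 2 from rfl, pow_mul, ← h', pow_orderOf_eq_one, one_pow]
      · rw [← hk4, ← h', pow_orderOf_eq_one]
    have hbot : Cfsg.pCore 2 G = ⊥ := by
      refine hsol _ (CfsgLib.Solvable.pCore_normal 2 G) ?_
      have := Fact.mk Nat.prime_two
      have := (CfsgLib.Solvable.pCore_isPGroup (G := G) 2).isNilpotent
      infer_instance
    rw [hbot, Subgroup.mem_bot] at hmem
    exact absurd (hinv d hd) (by rw [hmem, orderOf_one]; norm_num)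
  -- `k` is an odd prime
  have hkp : k.Prime := by
    obtain ⟨e, he⟩ := Nat.minFac_dvd k
    by_contra hnp
    have hlt : k.minFac < k := lt_of_le_of_ne (Nat.minFac_le hk0) fun h =>
      hnp (h ▸ Nat.minFac_prime hk1)
    have hq := Nat.minFac_prime hk1
    have hqk : (a * b) ^ k = 1 := hkab ▸ pow_orderOf_eq_one _
    obtain ⟨f, hf⟩ : ∃ f, f = e * ((k + 1) / 2) := ⟨_, rfl⟩
    have hff : (a * b) ^ (f + f) = (a * b) ^ e := by
      rw [hf, ← mul_add, half_add_half hodd', mul_add, mul_one, pow_add, mul_comm e k, pow_mul,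
        hqk, one_pow, one_mul]
    have hc : a * (a * b) ^ e ∈ D := by
      have h1 := hclosed ((a * b) ^ f)⁻¹ a ha
      rw [inv_inv, ← mul_pow_conj (hsq a ha) (hsq b hb) f,
        mul_assoc (a * (a * b) ^ f) a a, hsq a ha, mul_one, mul_assoc, ← pow_add, hff] at h1
      exact h1
    have e1 : a * (a * (a * b) ^ e) = (a * b) ^ e := by rw [← mul_assoc, hsq a ha, one_mul]
    have ho : orderOf (a * (a * (a * b) ^ e)) = k.minFac := by
      have he0 : e ≠ 0 := by rintro rfl; rw [mul_zero] at he; omega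
      rw [e1, orderOf_pow' _ he0, hkab, Nat.gcd_eq_right (Dvd.intro_left _ he.symm)]
      nth_rewrite 1 [he]
      exact Nat.mul_div_cancel _ (Nat.pos_of_ne_zero he0)
    have hne' : a * (a * b) ^ e ≠ a := fun h => by
      rw [h, hsq a ha, orderOf_one] at ho
      exact hq.ne_one ho.symm
    rcases hk a ha _ hc hne' with h | h <;> rw [ho] at h
    · have h2 : 2 ∣ k := h ▸ Nat.minFac_dvd k
      exact Nat.not_even_iff_odd.2 hodd' (even_iff_two_dvd.2 h2)
    · omega
  refine ⟨hinv, fun x hx y hy => ?_⟩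
  rcases eq_or_ne y x with rfl | hne
  · left; rw [hsq y hy, one_pow]
  rcases hk x hx y hy hne with h | h
  · left; rw [← h, pow_orderOf_eq_one]
  by_cases h3 : k = 3
  · right; rw [← h3, ← h, pow_orderOf_eq_one]
  exfalso
  have h5 : 5 ≤ k := by
    rcases hodd' with ⟨i, hi⟩
    omega
  refine htop ?_
  rw [← hgen]
  refine isSolvable_closure hkp h5 ⟨hclosed, hsq, fun a ha e => ?_, fun a ha b hb hnc => ?_⟩
  · have := hinv a ha
    rw [e, orderOf_one] at this
    omega
  · have hne : b ≠ a := fun e => hnc (e ▸ Commute.refl a)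
    rcases hk a ha b hb hne with h | h
    · exact absurd (htwo a ha b hb (by rw [← pow_two, ← h, pow_orderOf_eq_one])) hnc
    · rw [← h, pow_orderOf_eq_one]

end CfsgLib.PrimeTransp
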