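import Mathlib

/-! Even lattices of rank 24 without roots: congruence classes modulo 2 of short vectors. -/

set_option autoImplicit false

namespace CfsgLib.Golay

/-- An even lattice of rank 24 without vectors of norm 2. -/
structure Rootless (L : Type*) [AddCommGroup L] where
  /-- the bilinear form -/
  b : L →+ L →+ ℤ
  /-- coordinates -/
  crd : L ≃+ (Fin 24 → ℤ)
  symm : ∀ x y, b x y = b y x
  pos : ∀ x, x ≠ 0 → 0 < b x x
  even : ∀ x, 2 ∣ b x x
  noRoot : ∀ x, b x x ≠ 2

namespace Rootless

variable {L : Type*} [AddCommGroup L] (R : Rootless L)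

/-- The norm. -/
def q (x : L) : ℤ := R.b x x

theorem q_zero : R.q 0 = 0 := by simp [q]

theorem q_neg (x : L) : R.q (-x) = R.q x := by simp [q]

theorem q_add (x y : L) : R.q (x + y) = R.q x + 2 * R.b x y + R.q y := by
  simp [q, R.symm y x]; ring

theorem q_sub (x y : L) : R.q (x - y) = R.q x - 2 * R.b x y + R.q y := by
  simp [q, R.symm y x]; ring

theorem q_two (x : L) : R.q (x + x) = 4 * R.q x := by
  rw [q_add]; simp [q]; ring

theorem q_nonneg (x : L) : 0 ≤ R.q x := by
  by_cases h : x = 0
  · simp [h, q_zero]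
  · exact le_of_lt (R.pos x h)

theorem q_ge_four {x : L} (h : x ≠ 0) : 4 ≤ R.q x := by
  obtain ⟨k, hk⟩ := R.even x
  have h1 := R.pos x h
  have h2 := R.noRoot x
  simp only [q]
  omega

theorem eq_zero_of_q {x : L} (h : R.q x = 0) : x = 0 := by
  by_contra hne
  have := R.q_ge_four hne
  omega

/-- Reduction modulo `2L`. -/
def cls (x : L) : Fin 24 → ZMod 2 := fun i => (R.crd x i : ZMod 2)

theorem cls_eq_iff {x y : L} : R.cls x = R.cls y ↔ ∃ z, x = y + (z + z) := by
  constructor
  · intro h
    have hd : ∀ i, (2 : ℤ) ∣ R.crd x i - R.crd y i := fun i => by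
      have := congrFun h i
      simp only [cls] at this
      exact (ZMod.intCast_zmod_eq_zero_iff_dvd _ 2).1 (by rw [Int.cast_sub, this, sub_self])
    choose w hw using hd
    refine ⟨R.crd.symm w, R.crd.injective ?_⟩
    rw [map_add, map_add, AddEquiv.apply_symm_apply]
    funext i
    have := hw i
    simp only [Pi.add_apply]
    omega
  · rintro ⟨z, rfl⟩
    funext i
    simp only [cls, map_add, Pi.add_apply, Int.cast_add]
    rw [show ∀ a b : ZMod 2, a + (b + b) = a from by decide]

theorem cls_neg (x : L) : R.cls (-x) = R.cls x :=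
  R.cls_eq_iff.2 ⟨-x, by abel⟩

/-- Two congruent vectors of norm at most 8. -/
theorem short_congr {x y : L} (h : R.cls x = R.cls y) (hx : R.q x ≤ 8) (hy : R.q y ≤ 8) :
    y = x ∨ y = -x ∨ (R.q x = 8 ∧ R.q y = 8 ∧ R.b x y = 0) := by
  obtain ⟨z, rfl⟩ := R.cls_eq_iff.1 h
  by_cases hz : z = 0
  · subst hz; simp
  by_cases hz' : y + z = 0
  · right; left
    rw [eq_neg_of_add_eq_zero_left hz']; abel
  right; right
  have h1 := R.q_ge_four hz
  have h2 := R.q_ge_four hz'
  have e1 : R.q (y + (z + z) - y) = 4 * R.q z := by rw [add_sub_cancel_left, q_two]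
  have e2 : R.q (y + (z + z) + y) = 4 * R.q (y + z) := by
    rw [← q_two]; congr 1; abel
  rw [q_sub] at e1
  rw [q_add] at e2
  omega

theorem orth_card_le {ι : Type*} [Fintype ι] (f : ι → L) (hne : ∀ i, R.q (f i) ≠ 0)
    (ho : ∀ i j, i ≠ j → R.b (f i) (f j) = 0) : Fintype.card ι ≤ 24 := by
  have hli : LinearIndependent ℤ (fun i => R.crd (f i)) := by
    rw [Fintype.linearIndependent_iff]
    intro g hg i
    have h0 : ∑ j, g j • f j = 0 := R.crd.injective (by simpa [map_sum, map_zsmul] using hg)
    have := congrArg (fun v => R.b v (f i)) h0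
    simp only [map_sum, map_zsmul, AddMonoidHom.finset_sum_apply, AddMonoidHom.smul_apply,
      map_zero, AddMonoidHom.zero_apply, smul_eq_mul] at this
    rw [Finset.sum_eq_single i (fun j _ hj => by rw [ho j i hj, mul_zero]) (by simp)] at this
    exact (mul_eq_zero.1 this).resolve_right (hne i)
  simpa using hli.fintype_card_le_finrank

/-- An orthogonal set of representatives of the norm 8 vectors of a class. -/
theorem class_reps (T : Finset L) (hT : ∀ x ∈ T, R.q x = 8)
    (hc : ∀ x ∈ T, ∀ y ∈ T, R.cls x = R.cls y) :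
    ∃ S : Finset L, S ⊆ T ∧ T.card ≤ 2 * S.card ∧ S.card ≤ 24 ∧
      ∀ x ∈ S, ∀ y ∈ S, x ≠ y → R.b x y = 0 := by
  classical
  induction T using Finset.strongInduction with
  | _ T ih =>
    rcases T.eq_empty_or_nonempty with rfl | ⟨x, hx⟩
    · exact ⟨∅, by simp⟩
    let T' := (T.erase x).erase (-x)
    have hlt : T' ⊂ T := lt_of_le_of_lt (Finset.erase_subset _ _) (Finset.erase_ssubset hx)
    obtain ⟨S, hS, hcard, -, hor⟩ := ih T' hlt
      (fun y hy => hT y (hlt.subset hy)) (fun y hy z hz => hc y (hlt.subset hy) z (hlt.subset hz))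
    have horth : ∀ y ∈ S, R.b x y = 0 := by
      intro y hy
      have hy' := hS hy
      simp only [T', Finset.mem_erase] at hy'
      rcases R.short_congr (hc x hx y hy'.2.2) (hT x hx).le (hT y hy'.2.2).le with h | h | h
      · exact absurd h hy'.2.1
      · exact absurd h hy'.1
      · exact h.2.2
    have hxS : x ∉ S := fun h => by
      have := hS h
      simp [T'] at this
    have hsub : insert x S ⊆ T := Finset.insert_subset_iff.2 ⟨hx, hS.trans hlt.subset⟩
    have hor' : ∀ u ∈ insert x S, ∀ v ∈ insert x S, u ≠ v → R.b u v = 0 := by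
      intro u hu v hv huv
      rw [Finset.mem_insert] at hu hv
      rcases hu with rfl | hu <;> rcases hv with rfl | hv
      · exact absurd rfl huv
      · exact horth v hv
      · rw [R.symm]; exact horth u hu
      · exact hor u hu v hv huv
    refine ⟨insert x S, hsub, ?_, ?_, hor'⟩
    · have h1 := Finset.card_erase_add_one hx
      have h2 : (T.erase x).card ≤ T'.card + 1 := by
        have := Finset.pred_card_le_card_erase (s := T.erase x) (a := -x)
        simp only [T']
        omega
      rw [Finset.card_insert_of_notMem hxS]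
      omega
    · have := R.orth_card_le (fun u : (insert x S : Finset L) => u.1)
        (fun u => by rw [hT _ (hsub u.2)]; norm_num)
        (fun u v huv => hor' _ u.2 _ v.2 fun e => huv (Subtype.ext e))
      simpa using this

theorem class_card_le (T : Finset L) (hT : ∀ x ∈ T, R.q x = 8)
    (hc : ∀ x ∈ T, ∀ y ∈ T, R.cls x = R.cls y) : T.card ≤ 48 := by
  obtain ⟨S, -, h1, h2, -⟩ := R.class_reps T hT hc
  omega

/-- The vector counts of the rank-24 lattice. -/
structure Counts : Prop where
  c4 : {x : L | R.q x = 4}.ncard = 196560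
  c6 : {x : L | R.q x = 6}.ncard = 16773120
  c8 : {x : L | R.q x = 8}.ncard = 398034000

variable {R}

theorem Counts.structure (h : R.Counts) :
    (∀ c : Fin 24 → ZMod 2, ∃ x, R.cls x = c ∧ R.q x ≤ 8) ∧
    ∀ x, R.q x = 8 → {y : L | R.q y = 8 ∧ R.cls y = R.cls x}.ncard = 48 := by
  classical
  have f4 : {x : L | R.q x = 4}.Finite := Set.finite_of_ncard_pos (by rw [h.c4]; norm_num)
  have f6 : {x : L | R.q x = 6}.Finite := Set.finite_of_ncard_pos (by rw [h.c6]; norm_num)
  have f8 : {x : L | R.q x = 8}.Finite := Set.finite_of_ncard_pos (by rw [h.c8]; norm_num)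
  have k4 : f4.toFinset.card = 196560 := by rw [← Set.ncard_eq_toFinset_card _ f4, h.c4]
  have k6 : f6.toFinset.card = 16773120 := by rw [← Set.ncard_eq_toFinset_card _ f6, h.c6]
  have k8 : f8.toFinset.card = 398034000 := by rw [← Set.ncard_eq_toFinset_card _ f8, h.c8]
  have hpair : ∀ (A : Finset L) (n : ℤ), n < 8 → (∀ x, x ∈ A ↔ R.q x = n) →
      A.card ≤ (A.image R.cls).card * 2 := by
    intro A n hn hA
    rw [Finset.card_eq_sum_card_image R.cls A]
    refine Finset.sum_le_card_nsmul _ _ 2 fun c hc => ?_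
    obtain ⟨x, hx, rfl⟩ := Finset.mem_image.1 hc
    refine le_trans (Finset.card_le_card (t := {x, -x}) fun y hy => ?_) (Finset.card_le_two)
    rw [Finset.mem_filter, hA] at hy
    rw [hA] at hx
    rcases R.short_congr hy.2.symm (by omega) (by omega) with e | e | e
    · simp [e]
    · simp [e]
    · omega
  have h4 := hpair f4.toFinset 4 (by norm_num) (fun x => by simp)
  have h6 := hpair f6.toFinset 6 (by norm_num) (fun x => by simp)
  have hfib : ∀ c ∈ f8.toFinset.image R.cls, (f8.toFinset.filter fun y => R.cls y = c).card ≤ 48 :=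
    fun c _ => R.class_card_le _ (fun y hy => by simpa using (Finset.mem_filter.1 hy).1)
      (fun y hy z hz => by rw [(Finset.mem_filter.1 hy).2, (Finset.mem_filter.1 hz).2])
  have h8 : f8.toFinset.card ≤ (f8.toFinset.image R.cls).card * 48 := by
    rw [Finset.card_eq_sum_card_image R.cls f8.toFinset]
    exact Finset.sum_le_card_nsmul _ _ 48 hfib
  have hne : ∀ (m n : ℤ) (x y : L), R.q x = m → R.q y = n → m ≠ n → m ≤ 8 → n ≤ 8 →
      R.cls x ≠ R.cls y := by
    intro m n x y hx hy hmn hm hn e
    rcases R.short_congr e (by omega) (by omega) with e | e | e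
    · rw [e] at hy; omega
    · rw [e, q_neg] at hy; omega
    · omega
  let U := ({R.cls 0} : Finset (Fin 24 → ZMod 2)) ∪ f4.toFinset.image R.cls ∪
    f6.toFinset.image R.cls ∪ f8.toFinset.image R.cls
  have hU : U.card = 1 + (f4.toFinset.image R.cls).card + (f6.toFinset.image R.cls).card +
      (f8.toFinset.image R.cls).card := by
    simp only [U]
    rw [Finset.card_union_of_disjoint, Finset.card_union_of_disjoint,
      Finset.card_union_of_disjoint, Finset.card_singleton]
    all_goals
      rw [Finset.disjoint_left]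
      simp only [Finset.mem_union, Finset.mem_singleton, Finset.mem_image, Set.Finite.mem_toFinset,
        Set.mem_setOf_eq]
    · rintro c rfl ⟨y, hy, e⟩
      exact hne 4 0 y 0 hy R.q_zero (by norm_num) (by norm_num) (by norm_num) e
    · rintro c (rfl | ⟨x, hx, rfl⟩) ⟨y, hy, e⟩
      · exact hne 6 0 y 0 hy R.q_zero (by norm_num) (by norm_num) (by norm_num) e
      · exact hne 6 4 y x hy hx (by norm_num) (by norm_num) (by norm_num) e
    · rintro c ((rfl | ⟨x, hx, rfl⟩) | ⟨x, hx, rfl⟩) ⟨y, hy, e⟩
      · exact hne 8 0 y 0 hy R.q_zero (by norm_num) (by norm_num) (by norm_num) e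
      · exact hne 8 4 y x hy hx (by norm_num) (by norm_num) (by norm_num) e
      · exact hne 8 6 y x hy hx (by norm_num) (by norm_num) (by norm_num) e
  have htot : Fintype.card (Fin 24 → ZMod 2) = 16777216 := by simp
  have hle : U.card ≤ 16777216 := htot ▸ Finset.card_le_univ U
  have huniv : U = Finset.univ := Finset.eq_univ_of_card _ (by rw [htot]; omega)
  have hcard8 : (f8.toFinset.image R.cls).card = 8292375 := by omega
  refine ⟨fun c => ?_, fun x hx => ?_⟩
  · have hc : c ∈ U := huniv ▸ Finset.mem_univ c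
    simp only [U, Finset.mem_union, Finset.mem_singleton, Finset.mem_image,
      Set.Finite.mem_toFinset, Set.mem_setOf_eq] at hc
    rcases hc with ((rfl | ⟨y, hy, rfl⟩) | ⟨y, hy, rfl⟩) | ⟨y, hy, rfl⟩
    · exact ⟨0, rfl, by rw [q_zero]; norm_num⟩
    all_goals exact ⟨y, rfl, by omega⟩
  · have hx' : R.cls x ∈ f8.toFinset.image R.cls := Finset.mem_image.2 ⟨x, by simpa using hx, rfl⟩
    have he : (f8.toFinset.filter fun y => R.cls y = R.cls x).card = 48 := by
      by_contra hn
      have hlt : ∑ c ∈ f8.toFinset.image R.cls, (f8.toFinset.filter fun y => R.cls y = c).card <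
          ∑ _c ∈ f8.toFinset.image R.cls, 48 :=
        Finset.sum_lt_sum hfib ⟨_, hx', lt_of_le_of_ne (hfib _ hx') hn⟩
      rw [← Finset.card_eq_sum_card_image, Finset.sum_const, smul_eq_mul, k8, hcard8] at hlt
      omega
    rw [← he, ← Set.ncard_coe_finset]
    congr 1
    ext y
    simp

/-- A frame through a norm 8 vector. -/
theorem Counts.exists_frame (h : R.Counts) {x : L} (hx : R.q x = 8) :
    ∃ f : Fin 24 → L, (∀ i, R.q (f i) = 8) ∧ (∀ i j, i ≠ j → R.b (f i) (f j) = 0) ∧
      (∀ i, R.cls (f i) = R.cls x) ∧ f 0 = x := by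
  classical
  have h48 := h.structure.2 x hx
  have hfin : {y : L | R.q y = 8 ∧ R.cls y = R.cls x}.Finite :=
    Set.finite_of_ncard_pos (by rw [h48]; norm_num)
  rw [Set.ncard_eq_toFinset_card _ hfin] at h48
  have hT : ∀ y ∈ hfin.toFinset, R.q y = 8 ∧ R.cls y = R.cls x := fun y hy => by simpa using hy
  obtain ⟨S, hS, h1, h2, hor⟩ := R.class_reps hfin.toFinset (fun y hy => (hT y hy).1)
    (fun y hy z hz => by rw [(hT y hy).2, (hT z hz).2])
  have hcard : S.card = 24 := by omega
  let g : Fin 24 ≃ S := (S.equivFinOfCardEq hcard).symm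
  -- some member is `x` or `-x`
  obtain ⟨k, hk⟩ : ∃ k, (g k).1 = x ∨ (g k).1 = -x := by
    by_contra hne
    push Not at hne
    have := R.orth_card_le (fun o : Option (Fin 24) => o.elim x fun i => (g i).1) ?_ ?_
    · simp at this
    · rintro (_ | i)
      · simp [hx]
      · simp [(hT _ (hS (g i).2)).1]
    · have hxg : ∀ i, R.b x (g i).1 = 0 := by
        intro i
        obtain ⟨hq, hc⟩ := hT _ (hS (g i).2)
        rcases R.short_congr hc.symm hx.le hq.le with e | e | e
        · exact absurd e (hne i).1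
        · exact absurd e (hne i).2
        · exact e.2.2
      rintro (_ | i) (_ | j) hij
      · exact absurd rfl hij
      · exact hxg j
      · show R.b (g i).1 x = 0
        rw [R.symm]; exact hxg i
      · exact hor _ (g i).2 _ (g j).2 fun e => hij (by rw [g.injective (Subtype.ext e)])
  let f₀ : Fin 24 → L := fun i => if i = k then x else (g i).1
  have hf : ∀ i, f₀ i = (g i).1 ∨ (i = k ∧ f₀ i = -(g i).1) := by
    intro i
    by_cases hi : i = k
    · subst hi
      rcases hk with e | e
      · left; simp [f₀, e]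
      · right; exact ⟨rfl, by simp [f₀, e]⟩
    · left; simp [f₀, hi]
  refine ⟨fun i => f₀ (Equiv.swap 0 k i), fun i => ?_, fun i j hij => ?_, fun i => ?_, by simp [f₀]⟩
  · rcases hf (Equiv.swap 0 k i) with e | ⟨-, e⟩ <;> simp only [e] <;> simp [q_neg, (hT _ (hS (g _).2)).1]
  · have hne : Equiv.swap 0 k i ≠ Equiv.swap 0 k j := fun e => hij ((Equiv.swap 0 k).injective e)
    have h0 := hor _ (g (Equiv.swap 0 k i)).2 _ (g (Equiv.swap 0 k j)).2
      fun e => hne (g.injective (Subtype.ext e))
    rcases hf (Equiv.swap 0 k i) with e | ⟨-, e⟩ <;> rcases hf (Equiv.swap 0 k j) with e' | ⟨-, e'⟩ <;>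
      simp only [e, e'] <;> simp [h0]
  · rcases hf (Equiv.swap 0 k i) with e | ⟨-, e⟩ <;> simp only [e] <;>
      simp [cls_neg, (hT _ (hS (g _).2)).2]

end Rootless

end CfsgLib.Golay
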