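import Cfsg.Agent.Lib.Golay.RuMinSimple

/-!
A subgroup of the Rudvalis group with the order of a point stabiliser fixes one of the 4060 lines.

For an invariant set of lines the number of orthogonal pairs is a multiple of 1755 and that of the other
pairs a multiple of 2304; with two quadratic inequalities this forces the size of an orbit to be 1 or a
multiple of 9, and 4060 is not a multiple of 9.
-/

set_option autoImplicit false
set_option maxRecDepth 100000
set_option Elab.async false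

namespace CfsgLib.Ru

open Cfsg.Spor MulAction

/-- A word leading to the line of the second base vector. -/
def toL1W : List ℤ := [2, 1, 1, 2, 1, 2]

/-- A word leading to a line not orthogonal to the first. -/
def toLNW : List ℤ := [1, 2, 1, 2, 0, 1, 2, 2]

/-- Orthogonality of a line to the first line. -/
def orth0 (f : ℕ) : Bool := sameKeys 1 (bIx 1) (4 * f)

/-- The line pulled back by a word. -/
def pullF (w : List ℤ) (f : ℕ) : ℕ := applyW (winv w) (4 * f) / 4

theorem out_facts : applyW toL1W 0 / 4 = bIx 1 / 4 ∧ applyW toLNW 0 / 4 = treeN.1 ∧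
    orth0 (pullF toL1W 0) = true ∧ orth0 treeN.1 = false ∧ orth0 (bIx 1 / 4) = true ∧
    orth0 0 = false ∧ treeN.1 ≠ 0 := by
  decide +kernel

theorem common1 : (List.range 4060).countP (fun f => orth0 f && orth0 (pullF toL1W f)) = 730 := by
  decide +kernel

theorem common2 : (List.range 4060).countP (fun f => orth0 f && orth0 (pullF toLNW f)) = 780 := by
  decide +kernel

/-- The arithmetic condition on an orbit size. -/
def sizeOK (a : ℕ) : Bool :=
  !(Nat.beq (35942400 % a) 0) || Nat.beq a 1 || Nat.beq (a % 9) 0 ||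
    (let d := 80 * 4060 * 1755
     let t := a * a - a
     let lo := (145600 * a * a - 21112000 * a) / d
     let hi := (139200 * a * a + 4872000 * a) / d
     Nat.blt hi (lo + 200) && (List.range 200).all fun i =>
       let l := lo + i
       Nat.blt hi l || Nat.blt t (1755 * l) || !(Nat.beq ((t - 1755 * l) % 2304) 0))

theorem sizes_ok : ((List.range 4061).all fun a => Nat.beq a 0 || sizeOK a) = true := by
  decide +kernel

attribute [local irreducible] minV img keyOf hipX applyW sameKeys orth0 pullF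

/-- A lattice automorphism as a permutation of the lines. -/
noncomputable def toH : fourRu →* H := psi.rangeRestrict

theorem toH_smul (g : fourRu) (f : Fin 4060) : toH g • f = g • f := rfl

theorem toH_surj (h : H) : ∃ g, toH g = h := psi.rangeRestrict_surjective h

theorem toH_autI : toH autI = 1 := Subtype.ext (Equiv.ext fun f => autI_line f)

instance : IsPretransitive H (Fin 4060) := H_pretransitive

theorem card_stab' (x : Fin 4060) : Nat.card (stabilizer H x) = 35942400 := by
  have h := Subgroup.index_mul_card (stabilizer H x)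
  rw [index_stabilizer_of_transitive, Nat.card_fin, card_H] at h
  omega

/-- The representative of the lines not orthogonal to the first. -/
def LN : Fin 4060 := ⟨treeN.1, root_lt⟩

theorem L1_val : (L1 : Fin 4060).val = bIx 1 / 4 := by
  show (bF 1).val / 4 = _
  rw [bF_val (by norm_num)]

theorem L0_val : (L0 : Fin 4060).val = 0 := by rw [L0_eq]; rfl

theorem word_L1 : wordE toL1W • L0 = L1 :=
  Fin.ext (by rw [word_line, L0_val, L1_val]; exact out_facts.1)

theorem word_LN : wordE toLNW • L0 = LN :=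
  Fin.ext (by rw [word_line, L0_val]; exact out_facts.2.1)

theorem orth0_smul {g : fourRu} (hg : g • L0 = L0) (f : Fin 4060) :
    orth0 (g • f).val = orth0 f.val := by
  obtain ⟨r, hr⟩ : ∃ r : ℕ, g • bF 0 = autI ^ r • bF 0 := by
    refine ⟨(g • bF 0).val % 4 + 4 - (bF 0).val % 4, Fin.ext ?_⟩
    have h := congrArg Fin.val hg
    rw [L0, smul_lineOf] at h
    simp only [lineOf] at h
    rw [autI_pow_val]
    omega
  have hg' : (autI ^ r)⁻¹ * g ∈ St 1 := mem_St.2 fun i hi => by
    obtain rfl : i = 0 := by omega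
    rw [mul_smul, hr, inv_smul_smul]
  have hk := sameKeys_smul (n := 1) (by norm_num) (mem_St.1 hg') (repOf f)
  have hline : lineOf (((autI ^ r)⁻¹ * g) • repOf f) = g • f := by
    show _ = lineOf (g • repOf f)
    rw [mul_smul]
    refine Fin.ext ?_
    show ((autI ^ r)⁻¹ • g • repOf f : Fin 16240).val / 4 = (g • repOf f).val / 4
    have h4 : autI ^ r • ((autI ^ r)⁻¹ • g • repOf f) = g • repOf f := smul_inv_smul _ _
    have h5 := congrArg Fin.val h4
    rw [autI_pow_val] at h5
    omega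
  unfold orth0
  rw [← hline, orth_iff, Bool.eq_iff_iff, sameKeys_iff, sameKeys_iff]
  rw [sameKeys_iff] at hk
  refine forall₂_congr fun i hi => ?_
  rw [hk i hi]
  rfl

theorem stab_line {h : H} (hh : h • L0 = L0) (f : Fin 4060) : orth0 (h • f).val = orth0 f.val := by
  obtain ⟨g, rfl⟩ := toH_surj h
  rw [toH_smul] at hh ⊢
  exact orth0_smul hh f

theorem reach_orth {f : Fin 4060} (hf : orth0 f.val = true) : ∃ h : H, h • L0 = L0 ∧ h • L1 = f := by
  unfold orth0 at hf
  obtain ⟨g, hg, e⟩ := orth_line f hf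
  exact ⟨toH g, by rw [toH_smul]; exact T0_L0 hg, by rw [toH_smul, e]⟩

theorem reach_other {f : Fin 4060} (h0 : f ≠ L0) (hf : orth0 f.val = false) :
    ∃ h : H, h • L0 = L0 ∧ h • LN = f := by
  unfold orth0 at hf
  obtain ⟨g, hg, e⟩ := other_line f h0 hf
  exact ⟨toH g, by rw [toH_smul]; exact T0_L0 hg, by rw [toH_smul]; exact e⟩

theorem LN_ne : LN ≠ L0 := fun h => out_facts.2.2.2.2.2.2 (by
  have := congrArg Fin.val h
  rw [L0_val] at this
  exact this)

theorem count_fin (p : ℕ → Bool) {s : Set (Fin 4060)} (h : ∀ f, f ∈ s ↔ p f.val = true) {m : ℕ}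
    (hm : (List.range 4060).countP p = m) : s.ncard = m := by
  rw [show s = {f : Fin 4060 | p f.val = true} from Set.ext h, ncard_cond, hm]

theorem orth_ncard : {f : Fin 4060 | orth0 f.val = true}.ncard = 1755 := by
  unfold orth0
  exact count_fin _ (fun f => Iff.rfl) orth_count

theorem other_ncard : {f : Fin 4060 | f ≠ L0 ∧ orth0 f.val = false}.ncard = 2304 := by
  refine count_fin (fun f => decide (cls3 f = 2)) (fun f => ?_) (cls3_count 2)
  have hc := cls3_class f
  rw [decide_eq_true_eq]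
  refine ⟨fun ⟨h1, h2⟩ => ?_, fun h => ?_⟩
  · rcases (show cls3 f.val = 0 ∨ cls3 f.val = 1 ∨ cls3 f.val = 2 by
      generalize cls3 f.val = c; revert c; decide) with h | h | h
    · exact absurd (hc.1.1 h) h1
    · unfold orth0 at h2
      rw [hc.2.1 h] at h2
      simp at h2
    · exact h
  · unfold orth0
    exact hc.2.2 h

theorem orbit_stab_L0 {f : Fin 4060} :
    (orbit (stabilizer H L0) f).ncard =
      if orth0 f.val then 1755 else if f = L0 then 1 else 2304 := by
  split_ifs with h h0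
  · rw [show orbit (stabilizer H L0) f = {f' : Fin 4060 | orth0 f'.val = true} from
      Set.Subset.antisymm (fun f' ⟨k, hk⟩ => by
        show orth0 f'.val = true
        rw [← hk, ← h]
        exact stab_line k.2 f) fun f' hf' => ?_]
    · exact orth_ncard
    · obtain ⟨a, ha, ea⟩ := reach_orth h
      obtain ⟨b, hb, eb⟩ := reach_orth hf'
      refine ⟨⟨b * a⁻¹, ?_⟩, ?_⟩
      · rw [mem_stabilizer_iff, mul_smul, inv_smul_eq_iff.2 ha.symm, hb]
      · show (b * a⁻¹) • f = f'
        rw [mul_smul, ← ea, inv_smul_smul, eb]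
  · subst h0
    rw [show orbit (stabilizer H L0) L0 = {L0} from Set.eq_singleton_iff_unique_mem.2
      ⟨mem_orbit_self L0, fun f' ⟨k, hk⟩ => hk ▸ k.2⟩, Set.ncard_singleton]
  · simp only [Bool.not_eq_true] at h
    rw [show orbit (stabilizer H L0) f = {f' : Fin 4060 | f' ≠ L0 ∧ orth0 f'.val = false} from
      Set.Subset.antisymm (fun f' ⟨k, hk⟩ => ⟨fun e => h0 ?_, by
        rw [← hk, ← h]; exact stab_line k.2 f⟩) fun f' hf' => ?_]
    · exact other_ncard
    · have : (k : H) • f = (k : H) • L0 := (hk.trans e).trans k.2.symm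
      exact MulAction.injective (k : H) this
    · obtain ⟨a, ha, ea⟩ := reach_other h0 h
      obtain ⟨b, hb, eb⟩ := reach_other hf'.1 hf'.2
      refine ⟨⟨b * a⁻¹, ?_⟩, ?_⟩
      · rw [mem_stabilizer_iff, mul_smul, inv_smul_eq_iff.2 ha.symm, hb]
      · show (b * a⁻¹) • f = f'
        rw [mul_smul, ← ea, inv_smul_smul, eb]

/-- Orthogonality of lines. -/
def Adj (x y : Fin 4060) : Prop := (orbit (stabilizer H x) y).ncard = 1755

theorem orbit_translate (h : H) (x y : Fin 4060) :
    orbit (stabilizer H (h • x)) (h • y) = (h • ·) '' orbit (stabilizer H x) y := by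
  ext z
  constructor
  · rintro ⟨k, rfl⟩
    refine ⟨(h⁻¹ * k * h) • y, ⟨⟨h⁻¹ * k * h, ?_⟩, rfl⟩, ?_⟩
    · rw [mem_stabilizer_iff, mul_smul, mul_smul, mem_stabilizer_iff.1 k.2, inv_smul_smul]
    · show h • (h⁻¹ * k * h) • y = (k : H) • h • y
      simp only [mul_smul, smul_inv_smul]
  · rintro ⟨_, ⟨k, rfl⟩, rfl⟩
    refine ⟨⟨h * k * h⁻¹, ?_⟩, ?_⟩
    · rw [mem_stabilizer_iff, mul_smul, inv_smul_smul, mul_smul, mem_stabilizer_iff.1 k.2]
    · show (h * k * h⁻¹) • h • y = h • (k : H) • y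
      simp only [mul_smul, inv_smul_smul]

theorem adj_smul (h : H) {x y : Fin 4060} : Adj (h • x) (h • y) ↔ Adj x y := by
  unfold Adj
  rw [orbit_translate, Set.ncard_image_of_injective _ (MulAction.injective h)]

theorem adj_L0 {f : Fin 4060} : Adj L0 f ↔ orth0 f.val = true := by
  unfold Adj
  rw [orbit_stab_L0]
  cases orth0 f.val <;> simp
  split_ifs <;> simp

theorem adj_of_L0 {w : List ℤ} {r : Fin 4060} (hw : wordE w • L0 = r) (f : Fin 4060) :
    Adj r f ↔ orth0 (pullF w f.val) = true := by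
  have e : (toH (wordE w))⁻¹ • r = L0 := by rw [inv_smul_eq_iff, toH_smul, hw]
  rw [← adj_smul (toH (wordE w))⁻¹, e, adj_L0, ← map_inv, toH_smul, ← wordE_winv]
  unfold pullF
  rw [word_line]

theorem L1_L0 : Adj L1 L0 := by
  rw [adj_of_L0 word_L1, L0_val]
  exact out_facts.2.2.1

theorem adj_symm {x y : Fin 4060} (h : Adj x y) : Adj y x := by
  obtain ⟨a, ha⟩ := exists_smul_eq H x L0
  have h1 := (adj_smul a).2 h
  rw [ha] at h1
  obtain ⟨b, hb, eb⟩ := reach_orth (adj_L0.1 h1)
  have h2 := (adj_smul b).2 L1_L0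
  rw [hb, eb, ← ha, adj_smul] at h2
  exact h2

theorem not_adj_self (x : Fin 4060) : ¬ Adj x x := by
  intro h
  obtain ⟨a, ha⟩ := exists_smul_eq H x L0
  have h1 := (adj_smul a).2 h
  rw [ha, adj_L0, L0_val, out_facts.2.2.2.2.2.1] at h1
  simp at h1

theorem pair_to {x y : Fin 4060} :
    (Adj x y → ∃ h : H, h • L0 = x ∧ h • L1 = y) ∧
      (x ≠ y → ¬ Adj x y → ∃ h : H, h • L0 = x ∧ h • LN = y) := by
  obtain ⟨a, ha⟩ := exists_smul_eq H L0 x
  refine ⟨fun h => ?_, fun hne h => ?_⟩
  · rw [← ha, ← smul_inv_smul a y, adj_smul] at h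
    obtain ⟨b, hb, eb⟩ := reach_orth (adj_L0.1 h)
    exact ⟨a * b, by rw [mul_smul, hb, ha], by rw [mul_smul, eb, smul_inv_smul]⟩
  · rw [← ha, ← smul_inv_smul a y, adj_smul, adj_L0, Bool.not_eq_true] at h
    obtain ⟨b, hb, eb⟩ := reach_other (fun e => hne (by rw [← ha, ← e, smul_inv_smul])) h
    exact ⟨a * b, by rw [mul_smul, hb, ha], by rw [mul_smul, eb, smul_inv_smul]⟩

theorem adj_ncard (x : Fin 4060) : {y | Adj x y}.ncard = 1755 := by
  obtain ⟨a, ha⟩ := exists_smul_eq H L0 x
  have e : {y | Adj x y} = (a • ·) '' {f : Fin 4060 | orth0 f.val = true} := by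
    ext y
    constructor
    · intro h
      refine ⟨a⁻¹ • y, ?_, smul_inv_smul a y⟩
      show orth0 (a⁻¹ • y).val = true
      rw [← adj_L0, ← adj_smul a, ha, smul_inv_smul]
      exact h
    · rintro ⟨f, hf, rfl⟩
      show Adj x (a • f)
      rw [← ha, adj_smul, adj_L0]
      exact hf
  rw [e, Set.ncard_image_of_injective _ (MulAction.injective a), orth_ncard]

theorem common_ncard {x y : Fin 4060} :
    (Adj x y → {z | Adj x z ∧ Adj y z}.ncard = 730) ∧
      (x ≠ y → ¬ Adj x y → {z | Adj x z ∧ Adj y z}.ncard = 780) := by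
  have key : ∀ (h : H) (r : Fin 4060) (w : List ℤ) (m : ℕ), wordE w • L0 = r →
      (List.range 4060).countP (fun f => orth0 f && orth0 (pullF w f)) = m → h • L0 = x → h • r = y →
      {z | Adj x z ∧ Adj y z}.ncard = m := by
    intro h r w m hw hm hx hy
    have e : {z | Adj x z ∧ Adj y z} = (h • ·) '' {f | Adj L0 f ∧ Adj r f} := by
      ext z
      constructor
      · rintro ⟨h1, h2⟩
        refine ⟨h⁻¹ • z, ⟨?_, ?_⟩, smul_inv_smul h z⟩
        · rw [← adj_smul h, hx, smul_inv_smul]; exact h1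
        · rw [← adj_smul h, hy, smul_inv_smul]; exact h2
      · rintro ⟨f, ⟨h1, h2⟩, rfl⟩
        exact ⟨by rw [← hx, adj_smul]; exact h1, by rw [← hy, adj_smul]; exact h2⟩
    rw [e, Set.ncard_image_of_injective _ (MulAction.injective h)]
    refine count_fin _ (fun f => ?_) hm
    rw [Bool.and_eq_true]
    exact and_congr adj_L0 (adj_of_L0 hw f)
  refine ⟨fun h => ?_, fun hne h => ?_⟩
  · obtain ⟨a, hx, hy⟩ := pair_to.1 h
    exact key a L1 toL1W 730 word_L1 common1 hx hy
  · obtain ⟨a, hx, hy⟩ := pair_to.2 hne h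
    exact key a LN toLNW 780 word_LN common2 hx hy

/-! ### Pairs in an invariant set -/

theorem card_stab_pair (r : Fin 4060) {m : ℕ} (hm : (orbit (stabilizer H L0) r).ncard = m)
    (hpos : 0 < m) :
    Nat.card ↥(stabilizer H L0 ⊓ stabilizer H r) = 35942400 / m := by
  have h := Subgroup.index_mul_card (stabilizer (stabilizer H L0) r)
  rw [index_stabilizer, hm, card_stab'] at h
  rw [show Nat.card ↥(stabilizer H L0 ⊓ stabilizer H r) =
      Nat.card (stabilizer (stabilizer H L0) r) from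
    Nat.card_congr
      { toFun := fun g => ⟨⟨g.1, (Subgroup.mem_inf.1 g.2).1⟩, (Subgroup.mem_inf.1 g.2).2⟩
        invFun := fun g => ⟨g.1.1, Subgroup.mem_inf.2 ⟨g.1.2, g.2⟩⟩
        left_inv := fun _ => rfl
        right_inv := fun _ => rfl }, ← h, Nat.mul_div_cancel_left _ hpos]

theorem pairs_dvd {K : Subgroup H} {O : Set (Fin 4060)} (hO : ∀ k ∈ K, ∀ x ∈ O, k • x ∈ O)
    (r : Fin 4060) {P : Set (Fin 4060 × Fin 4060)}
    (hP : ∀ x y, (x, y) ∈ P ↔ x ∈ O ∧ y ∈ O ∧ ∃ h : H, h • L0 = x ∧ h • r = y) :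
    Nat.card K ∣ P.ncard * Nat.card ↥(stabilizer H L0 ⊓ stabilizer H r) := by
  classical
  let S : Set H := {h | h⁻¹ • L0 ∈ O ∧ h⁻¹ • r ∈ O}
  have hS : S = QuotientGroup.mk ⁻¹' ((QuotientGroup.mk : H → H ⧸ K) '' S) := by
    refine Set.Subset.antisymm (Set.subset_preimage_image _ _) ?_
    rintro g ⟨s, ⟨h1, h2⟩, e⟩
    have hk := QuotientGroup.eq.1 e
    have e' : g⁻¹ = (s⁻¹ * g)⁻¹ * s⁻¹ := by simp [mul_inv_rev]
    refine ⟨?_, ?_⟩
    · rw [e', mul_smul]; exact hO _ (inv_mem hk) _ h1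
    · rw [e', mul_smul]; exact hO _ (inv_mem hk) _ h2
  have h1 : Nat.card K ∣ Nat.card S := by
    rw [Nat.card_congr ((Equiv.setCongr hS).trans
      (QuotientGroup.preimageMkEquivSubgroupProdSet K _)), Nat.card_prod]
    exact dvd_mul_right _ _
  suffices Nat.card S = P.ncard * Nat.card ↥(stabilizer H L0 ⊓ stabilizer H r) from this ▸ h1
  choose a ha1 ha2 using fun p : P => ((hP p.1.1 p.1.2).1 p.2).2.2
  let f : P × ↥(stabilizer H L0 ⊓ stabilizer H r) → S := fun q =>
    ⟨(a q.1 * q.2.1)⁻¹, by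
      obtain ⟨hx, hy, -⟩ := (hP q.1.1.1 q.1.1.2).1 q.1.2
      obtain ⟨hg1, hg2⟩ := Subgroup.mem_inf.1 q.2.2
      refine ⟨?_, ?_⟩
      · rw [inv_inv, mul_smul, mem_stabilizer_iff.1 hg1, ha1]; exact hx
      · rw [inv_inv, mul_smul, mem_stabilizer_iff.1 hg2, ha2]; exact hy⟩
  rw [← Nat.card_coe_set_eq, ← Nat.card_prod]
  refine (Nat.card_congr (Equiv.ofBijective f ⟨?_, ?_⟩)).symm
  · rintro ⟨p, g⟩ ⟨q, k⟩ e
    have e1 : a p * g.1 = a q * k.1 := inv_injective (congrArg Subtype.val e)
    have hpq : p = q := by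
      refine Subtype.ext (Prod.ext ?_ ?_)
      · have := congrArg (· • L0) e1
        simp only [mul_smul, mem_stabilizer_iff.1 (Subgroup.mem_inf.1 g.2).1,
          mem_stabilizer_iff.1 (Subgroup.mem_inf.1 k.2).1, ha1] at this
        exact this
      · have := congrArg (· • r) e1
        simp only [mul_smul, mem_stabilizer_iff.1 (Subgroup.mem_inf.1 g.2).2,
          mem_stabilizer_iff.1 (Subgroup.mem_inf.1 k.2).2, ha2] at this
        exact this
    subst hpq
    exact Prod.ext rfl (Subtype.ext (mul_left_cancel e1))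
  · rintro ⟨s, hx, hy⟩
    have hp : (s⁻¹ • L0, s⁻¹ • r) ∈ P := (hP _ _).2 ⟨hx, hy, s⁻¹, rfl, rfl⟩
    refine ⟨(⟨_, hp⟩, ⟨(a ⟨_, hp⟩)⁻¹ * s⁻¹, Subgroup.mem_inf.2 ⟨?_, ?_⟩⟩), Subtype.ext ?_⟩
    · rw [mem_stabilizer_iff, mul_smul, inv_smul_eq_iff, ha1]
    · rw [mem_stabilizer_iff, mul_smul, inv_smul_eq_iff, ha2]
    · show (a ⟨_, hp⟩ * ((a ⟨_, hp⟩)⁻¹ * s⁻¹))⁻¹ = s
      rw [mul_inv_cancel_left, inv_inv]

/-! ### Orbit sizes -/

open scoped Classical in
/-- The orthogonal pairs in a set. -/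
noncomputable def P1 (O : Finset (Fin 4060)) : Finset (Fin 4060 × Fin 4060) :=
  (O ×ˢ O).filter fun p => Adj p.1 p.2

open scoped Classical in
/-- The other pairs in a set. -/
noncomputable def P2 (O : Finset (Fin 4060)) : Finset (Fin 4060 × Fin 4060) :=
  (O ×ˢ O).filter fun p => p.1 ≠ p.2 ∧ ¬ Adj p.1 p.2

open scoped Classical in
/-- The number of neighbours in a set. -/
noncomputable def deg (O : Finset (Fin 4060)) (u : Fin 4060) : ℤ :=
  ∑ o ∈ O, if Adj o u then 1 else 0

theorem dvd_P1 {K : Subgroup H} (hK : Nat.card K = 35942400) {O : Finset (Fin 4060)}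
    (hinv : ∀ k ∈ K, ∀ y ∈ (O : Set (Fin 4060)), k • y ∈ (O : Set (Fin 4060))) :
    1755 ∣ (P1 O).card := by
  have h := pairs_dvd hinv L1 (P := (P1 O : Set (Fin 4060 × Fin 4060))) fun u v => by
    simp only [P1, Finset.mem_coe, Finset.coe_filter, Set.mem_ofPred_eq, Finset.mem_product]
    exact ⟨fun ⟨⟨h1, h2⟩, h3⟩ => ⟨h1, h2, pair_to.1 h3⟩,
      fun ⟨h1, h2, g, e1, e2⟩ => ⟨⟨h1, h2⟩, by
        rw [← e1, ← e2, adj_smul, adj_L0, L1_val]; exact out_facts.2.2.2.2.1⟩⟩
  rw [hK, Set.ncard_coe_finset, card_stab_pair L1 (m := 1755) ?_ (by norm_num)] at h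
  · obtain ⟨c, hc⟩ := h
    norm_num at hc
    exact ⟨c, by omega⟩
  · exact adj_L0.2 (by rw [L1_val]; exact out_facts.2.2.2.2.1)

theorem dvd_P2 {K : Subgroup H} (hK : Nat.card K = 35942400) {O : Finset (Fin 4060)}
    (hinv : ∀ k ∈ K, ∀ y ∈ (O : Set (Fin 4060)), k • y ∈ (O : Set (Fin 4060))) :
    2304 ∣ (P2 O).card := by
  have h := pairs_dvd hinv LN (P := (P2 O : Set (Fin 4060 × Fin 4060))) fun u v => by
    simp only [P2, Finset.mem_coe, Finset.coe_filter, Set.mem_ofPred_eq, Finset.mem_product]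
    exact ⟨fun ⟨⟨h1, h2⟩, h3, h4⟩ => ⟨h1, h2, pair_to.2 h3 h4⟩,
      fun ⟨h1, h2, g, e1, e2⟩ => ⟨⟨h1, h2⟩, fun e => LN_ne (MulAction.injective g
        (e2.trans (e.symm.trans e1.symm))), by
        rw [← e1, ← e2, adj_smul, adj_L0]
        show ¬ (orth0 treeN.1 = true)
        rw [out_facts.2.2.2.1]
        simp⟩⟩
  rw [hK, Set.ncard_coe_finset, card_stab_pair LN (m := 2304) ?_ (by norm_num)] at h
  · obtain ⟨c, hc⟩ := h
    norm_num at hc
    exact ⟨c, by omega⟩
  · rw [orbit_stab_L0, if_neg (by show ¬ (orth0 treeN.1 = true); rw [out_facts.2.2.2.1]; simp),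
      if_neg LN_ne]

theorem card_pairs (O : Finset (Fin 4060)) :
    (P1 O).card + (P2 O).card + O.card = O.card * O.card := by
  classical
  have e2 : P2 O = O.offDiag.filter fun p => ¬ Adj p.1 p.2 := by
    ext ⟨u, v⟩; simp [P2, Finset.mem_offDiag]; tauto
  have e1 : P1 O = O.offDiag.filter fun p => Adj p.1 p.2 := by
    ext ⟨u, v⟩
    simp only [P1, Finset.mem_filter, Finset.mem_product, Finset.mem_offDiag]
    exact ⟨fun ⟨⟨h1, h2⟩, h3⟩ => ⟨⟨h1, h2, fun e => not_adj_self _ (e ▸ h3)⟩, h3⟩,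
      fun ⟨⟨h1, h2, _⟩, h3⟩ => ⟨⟨h1, h2⟩, h3⟩⟩
  rw [e1, e2, Finset.card_filter_add_card_filter_not, Finset.offDiag_card]
  have := Nat.le_mul_self O.card
  omega

theorem sum_deg (O : Finset (Fin 4060)) : ∑ u, deg O u = 1755 * (O.card : ℤ) := by
  classical
  simp only [deg]
  rw [Finset.sum_comm, Finset.sum_congr rfl fun o _ => show _ = (1755 : ℤ) by
    rw [Finset.sum_boole, ← Set.ncard_coe_finset]
    simp only [Finset.coe_filter, Finset.mem_univ, true_and]
    rw [adj_ncard]; rfl]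
  simp [mul_comm]

theorem sum_deg_in (O : Finset (Fin 4060)) :
    ∑ u, (if u ∈ O then 1 else 0 : ℤ) * deg O u = (P1 O).card := by
  classical
  simp only [deg, ite_mul, one_mul, zero_mul, Finset.sum_ite_mem, Finset.univ_inter]
  rw [P1, Finset.card_filter, Nat.cast_sum, Finset.sum_product]
  refine Finset.sum_congr rfl fun u _ => Finset.sum_congr rfl fun o _ => ?_
  rw [show Adj o u ↔ Adj u o from ⟨adj_symm, adj_symm⟩]
  split_ifs <;> rfl

theorem sum_deg_sq (O : Finset (Fin 4060)) :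
    ∑ u, deg O u * deg O u =
      1755 * (O.card : ℤ) + 730 * (P1 O).card + 780 * (P2 O).card := by
  classical
  have e : ∀ o o' : Fin 4060,
      (∑ u, (if Adj o u then 1 else 0 : ℤ) * (if Adj o' u then 1 else 0)) =
        (if o = o' then 1755 else 0) + (if Adj o o' then 730 else 0) +
          (if o ≠ o' ∧ ¬ Adj o o' then 780 else 0) := by
    intro o o'
    have e0 : (∑ u, (if Adj o u then 1 else 0 : ℤ) * (if Adj o' u then 1 else 0)) =
        ({z | Adj o z ∧ Adj o' z}.ncard : ℤ) := by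
      rw [Set.ncard_eq_toFinset_card', Finset.card_eq_sum_ones, Nat.cast_sum,
        Set.toFinset_ofPred, Finset.sum_filter]
      exact Finset.sum_congr rfl fun u _ => by split_ifs <;> simp_all
    rw [e0]
    by_cases h : o = o'
    · subst h
      simp only [and_self, adj_ncard]
      simp [not_adj_self]
    · by_cases h' : Adj o o'
      · rw [common_ncard.1 h']; simp [h, h']
      · rw [common_ncard.2 h h']; simp [h, h']
  simp only [deg, Finset.sum_mul_sum]
  rw [Finset.sum_comm]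
  simp only [fun o : Fin 4060 => Finset.sum_comm (s := (Finset.univ : Finset (Fin 4060))) (t := O)
    (f := fun u o' => (if Adj o u then 1 else 0 : ℤ) * (if Adj o' u then 1 else 0)), e,
    Finset.sum_add_distrib]
  simp only [P1, P2, Finset.card_filter, Nat.cast_sum, Finset.sum_product, Finset.mul_sum]
  congr 1
  congr 1
  · rw [Finset.sum_congr rfl fun o ho => by rw [Finset.sum_ite_eq, if_pos ho]]
    simp [mul_comm]
  · exact Finset.sum_congr rfl fun o _ => Finset.sum_congr rfl fun o' _ => by split_ifs <;> simp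
  · exact Finset.sum_congr rfl fun o _ => Finset.sum_congr rfl fun o' _ => by split_ifs <;> simp

theorem quad (d χ : Fin 4060 → ℤ) {a p q : ℤ} (s0 : ∑ u, χ u = a) (s0' : ∑ u, χ u * χ u = a)
    (s1 : ∑ u, d u = 1755 * a) (s2 : ∑ u, χ u * d u = p)
    (s3 : ∑ u, d u * d u = 1755 * a + 730 * p + 780 * q) (r : ℤ) :
    0 ≤ 4060 * (1755 * a + 730 * p + 780 * q - 2 * r * p + r * r * a) -
      a * a * (1755 - r) * (1755 - r) := by
  have h0 : 0 ≤ ∑ u, (4060 * d u - 4060 * r * χ u - a * (1755 - r)) ^ 2 :=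
    Finset.sum_nonneg fun u _ => sq_nonneg _
  have e : ∀ u, (4060 * d u - 4060 * r * χ u - a * (1755 - r)) ^ 2 =
      4060 * 4060 * (d u * d u) - 2 * 4060 * 4060 * r * (χ u * d u) +
        4060 * 4060 * r * r * (χ u * χ u) - 2 * 4060 * a * (1755 - r) * d u +
        2 * 4060 * r * a * (1755 - r) * χ u + (a * (1755 - r)) * (a * (1755 - r)) := fun u => by ring
  rw [Finset.sum_congr rfl fun u _ => e u] at h0
  simp only [Finset.sum_add_distrib, Finset.sum_sub_distrib, ← Finset.mul_sum, s0, s0', s1, s2, s3,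
    Finset.sum_const, Finset.card_univ, Fintype.card_fin, nsmul_eq_mul] at h0
  push_cast at h0
  nlinarith

theorem size_arith {a l m : ℕ} (ha : 0 < a) (hle : a ≤ 4060) (hdvd : a ∣ 35942400)
    (hsum : 1755 * l + 2304 * m + a = a * a)
    (hlo : 145600 * a * a ≤ 80 * 4060 * 1755 * l + 21112000 * a)
    (hhi : 80 * 4060 * 1755 * l ≤ 139200 * a * a + 4872000 * a) : a = 1 ∨ 9 ∣ a := by
  by_contra hcon
  simp only [not_or] at hcon
  have hok := List.all_eq_true.1 sizes_ok a (List.mem_range.2 (by omega))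
  simp only [Bool.or_eq_true, Nat.beq_eq, sizeOK, Bool.not_eq_true', Bool.and_eq_true,
    List.all_eq_true, List.mem_range, Nat.blt_eq] at hok
  rcases hok with h | ((h | h) | h) | ⟨hw, hall⟩
  · omega
  · rw [← Bool.not_eq_true, Nat.beq_eq] at h
    exact h (Nat.dvd_iff_mod_eq_zero.1 hdvd)
  · exact hcon.1 h
  · exact hcon.2 (Nat.dvd_of_mod_eq_zero h)
  · generalize hlod : (145600 * a * a - 21112000 * a) / (80 * 4060 * 1755) = lo at hw hall
    generalize hhid : (139200 * a * a + 4872000 * a) / (80 * 4060 * 1755) = hi at hw hall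
    have h1 : lo ≤ l := by
      rw [← hlod]
      refine Nat.div_le_of_le_mul ?_
      omega
    have h2 : l ≤ hi := by
      rw [← hhid, Nat.le_div_iff_mul_le (by norm_num), mul_comm]
      omega
    have := hall (l - lo) (by omega)
    rw [Nat.add_sub_cancel' h1, ← Bool.not_eq_true, Nat.beq_eq] at this
    rcases this with (h | h) | h
    · omega
    · omega
    · apply h
      omega

theorem orbit_size {K : Subgroup H} (hK : Nat.card K = 35942400) (x : Fin 4060) :
    (orbit K x).ncard = 1 ∨ 9 ∣ (orbit K x).ncard := by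
  classical
  set O := (orbit K x).toFinset with hOdef
  have hcard : (orbit K x).ncard = O.card := Set.ncard_eq_toFinset_card' _
  have hdvd : O.card ∣ 35942400 := by
    rw [← hcard, ← hK, ← index_stabilizer]
    exact Subgroup.index_dvd_card _
  have hinv : ∀ k ∈ K, ∀ y ∈ (O : Set (Fin 4060)), k • y ∈ (O : Set (Fin 4060)) := fun k hk y hy => by
    rw [hOdef, Set.coe_toFinset] at hy ⊢
    obtain ⟨g, rfl⟩ := hy
    exact ⟨⟨k, hk⟩ * g, mul_smul _ _ _⟩
  obtain ⟨l, hl⟩ := dvd_P1 hK hinv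
  obtain ⟨m, hm⟩ := dvd_P2 hK hinv
  have hsum := card_pairs O
  rw [hl, hm] at hsum
  have q := quad (deg O) (fun u => if u ∈ O then 1 else 0) (a := (O.card : ℤ))
    (by simp) (by simp) (sum_deg O) (sum_deg_in O) (sum_deg_sq O)
  have hr := q 15
  have hs := q (-65)
  rw [hl, hm] at hr hs
  push_cast at hr hs
  have hsumZ : (1755 * l + 2304 * m + O.card : ℤ) = O.card * O.card := by exact_mod_cast hsum
  rw [hcard]
  refine size_arith (Nat.pos_of_dvd_of_pos hdvd (by norm_num))
    (le_trans (Finset.card_le_univ O) (by simp)) hdvd hsum ?_ ?_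
  · have : (145600 * O.card * O.card : ℤ) ≤ 80 * 4060 * 1755 * l + 21112000 * O.card := by nlinarith
    exact_mod_cast this
  · have : (80 * 4060 * 1755 * l : ℤ) ≤ 139200 * O.card * O.card + 4872000 * O.card := by nlinarith
    exact_mod_cast this

theorem exists_fixed {K : Subgroup H} (hK : Nat.card K = 35942400) :
    ∃ x : Fin 4060, K = stabilizer H x := by
  classical
  by_contra hne
  simp only [not_exists] at hne
  have h9 : ∀ x : Fin 4060, 9 ∣ (orbit K x).ncard := fun x => by
    refine (orbit_size hK x).resolve_left fun h => hne x ?_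
    obtain ⟨y, hy⟩ := Set.ncard_eq_one.1 h
    refine Subgroup.eq_of_le_of_card_ge (fun k hk => ?_) (by rw [hK, card_stab'])
    have h1 : k • x ∈ orbit K x := ⟨⟨k, hk⟩, rfl⟩
    have h2 : x ∈ orbit K x := mem_orbit_self x
    rw [hy, Set.mem_singleton_iff] at h1 h2
    exact h1.trans h2.symm
  have hsum := Nat.card_congr (selfEquivSigmaOrbits K (Fin 4060))
  rw [Nat.card_fin, Nat.card_sigma] at hsum
  have : 9 ∣ 4060 := hsum ▸ Finset.dvd_sum fun q _ => by
    rw [Nat.card_coe_set_eq]
    exact h9 _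
  norm_num at this

end CfsgLib.Ru
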