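import Cfsg.Agent.Lib.Golay.RuOutData
import Cfsg.Agent.Lib.Golay.RuOutCount

/-!
The signature of a line: fixedness under a group of order twenty and numbers of neighbours in a few sets.
-/

set_option autoImplicit false
set_option maxRecDepth 100000

namespace CfsgLib.Ru

/-- The element of order five on lines. -/
def tp (x : ℕ) : ℕ := (pTab >>> (16 * x)) &&& 65535

/-- The element of order four on lines. -/
def tc (x : ℕ) : ℕ := (cTab >>> (16 * x)) &&& 65535

/-- Powers of the element of order five. -/
def pPow : ℕ → ℕ → ℕ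
  | 0, x => x
  | n + 1, x => tp (pPow n x)

/-- Powers of the element of order four. -/
def cPow : ℕ → ℕ → ℕ
  | 0, x => x
  | n + 1, x => tc (cPow n x)

/-- One bit. -/
def bitB (b : Bool) (i : ℕ) : ℕ := bif b then 2 ^ i else 0

/-- The colour of a line. -/
def colour (x : ℕ) : ℕ :=
  bitB (Nat.beq (tp x) x) 0 +
  ((List.range 5).foldr (fun i s =>
    let y := pPow i x
    bitB (Nat.beq (tc y) y) (1 + 2 * i) + bitB (Nat.beq (tc (tc y)) y) (2 + 2 * i) + s) 0) +
  bitB (Nat.beq x 0) 11 + bitB (Nat.beq x (bIx 1 / 4)) 12 + bitB (Nat.beq x 42) 13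

/-- The number of neighbours in a separating set. -/
def cnt (j x : ℕ) : ℕ := (rowSets.getD j []).countP fun e => e.2.2.testBit x

/-- The signature from the first sets. -/
def sigUp : ℕ → ℕ → ℕ
  | 0, x => colour x
  | n + 1, x => sigUp n x + (cnt n x <<< (14 + 2 * n))

/-- The stored neighbours are correct. -/
def rowCheck (j : ℕ) : Bool :=
  (rowSets.getD j []).all fun e =>
    Nat.blt e.1 4060 && Nat.beq (applyW e.2.1 0 / 4) e.1 &&
      (List.range 4060).all fun f => e.2.2.testBit f == orth0 (pullF e.2.1 f)

/-- A separating set consists of all lines with one signature. -/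
def stepCheck (j : ℕ) : Bool :=
  let S := rowSets.getD j []
  let t := sigUp j (S.headD (0, [], 0)).1
  distinctB (S.map fun e => e.1) 0 && !S.isEmpty &&
    (List.range 4060).all fun x => Nat.beq (sigUp j x) t == S.any fun e => Nat.beq e.1 x

/-- The sorted lines. -/
def ordF (i : ℕ) : ℕ := (ordTab >>> (16 * i)) &&& 65535

/-- The signatures increase strictly along the sorted lines. -/
def sortCheck (lo len : ℕ) : Bool :=
  (List.range len).all fun i => Nat.blt (ordF (lo + i)) 4060 &&
    (Nat.ble 4059 (lo + i) || Nat.blt (sigUp 20 (ordF (lo + i))) (sigUp 20 (ordF (lo + i + 1))))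

end CfsgLib.Ru
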