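import Cfsg.Agent.Lib.Golay.RuOutDef

/-! Kernel checks of the separation of the lines and of the group of order twenty. -/

set_option autoImplicit false
set_option maxRecDepth 100000
set_option Elab.async false

namespace CfsgLib.Ru

theorem tab_p : ((List.range 4060).all fun f =>
    Nat.beq (tp f) (applyW w5 (4 * f) / 4)) = true := by decide +kernel

theorem tab_c : ((List.range 4060).all fun f =>
    Nat.beq (tc f) (applyW w4 (4 * f) / 4)) = true := by decide +kernel

theorem rels : ((List.range 4060).all fun f =>
    Nat.beq (pPow 5 f) f && Nat.beq (cPow 4 f) f && Nat.beq (tc (tp f)) (tp (tp (tc f)))) = true := by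
  decide +kernel

theorem small_facts :
    (∀ x ∈ [0, bIx 1 / 4, 42], tp x = x ∧ tc x = x) ∧ regPt < 4060 ∧
    ((List.range 20).map fun n => pPow (n % 5) (cPow (n / 5) regPt)).Nodup ∧
    (∀ n < 15, (fun x => pPow (n % 5) (cPow (n / 5 + 1) x))^[5] regPt ≠ regPt) := by decide +kernel

theorem second_class : ((List.range 4060).all fun f =>
    !(orth0 f && !(orth0 (pullF toL1W f)) && !(Nat.beq f (bIx 1 / 4))) || (maskS 3).testBit f) = true := by
  decide +kernel

theorem second_root : (subTrees.getD 3 (0, 0, 0)).1 = 42 ∧
    orth0 42 = true ∧ orth0 (pullF toL1W 42) = false ∧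
    (List.range 4060).countP (maskS 3).testBit = 1024 := by decide +kernel

theorem sort0 : sortCheck 0 2030 = true := by decide +kernel

theorem sort1 : sortCheck 2030 2030 = true := by decide +kernel

theorem sepStep0 : stepCheck 0 = true := by decide +kernel

theorem sepStep1 : stepCheck 1 = true := by decide +kernel

theorem sepStep2 : stepCheck 2 = true := by decide +kernel

theorem sepStep3 : stepCheck 3 = true := by decide +kernel

theorem sepStep4 : stepCheck 4 = true := by decide +kernel

theorem sepStep5 : stepCheck 5 = true := by decide +kernel

theorem sepStep6 : stepCheck 6 = true := by decide +kernel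

theorem sepStep7 : stepCheck 7 = true := by decide +kernel

theorem sepStep8 : stepCheck 8 = true := by decide +kernel

theorem sepStep9 : stepCheck 9 = true := by decide +kernel

theorem sepStep10 : stepCheck 10 = true := by decide +kernel

theorem sepStep11 : stepCheck 11 = true := by decide +kernel

theorem sepStep12 : stepCheck 12 = true := by decide +kernel

theorem sepStep13 : stepCheck 13 = true := by decide +kernel

theorem sepStep14 : stepCheck 14 = true := by decide +kernel

theorem sepStep15 : stepCheck 15 = true := by decide +kernel

theorem sepStep16 : stepCheck 16 = true := by decide +kernel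

theorem sepStep17 : stepCheck 17 = true := by decide +kernel

theorem sepStep18 : stepCheck 18 = true := by decide +kernel

theorem sepStep19 : stepCheck 19 = true := by decide +kernel

end CfsgLib.Ru
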