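import Cfsg.Agent.Lib.Golay.RuOutRows
import Cfsg.Agent.Lib.Golay.RuOutSteps
import Cfsg.Agent.Lib.Comp.PComponentEquiv
import Cfsg.Prelude.Def_KGroupFacts

/-!
Every automorphism of the Rudvalis group is inner.

An automorphism permutes the point stabilisers, hence gives a permutation of the 4060 lines preserving
orthogonality. After composing with inner automorphisms it fixes three lines and centralises their common
stabiliser, a group of order twenty, and then signatures of lines show that it fixes every line.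
-/

set_option autoImplicit false
set_option maxRecDepth 100000
set_option Elab.async false

namespace CfsgLib.Ru

open Cfsg.Spor MulAction

theorem row_all : ∀ j < 20, rowCheck j = true := by
  intro j hj
  interval_cases j
  exacts [row0, row1, row2, row3, row4, row5, row6, row7, row8, row9, row10, row11, row12, row13,
    row14, row15, row16, row17, row18, row19]

theorem step_all : ∀ j < 20, stepCheck j = true := by
  intro j hj
  interval_cases j
  exacts [sepStep0, sepStep1, sepStep2, sepStep3, sepStep4, sepStep5, sepStep6, sepStep7, sepStep8, sepStep9, sepStep10, sepStep11,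
    sepStep12, sepStep13, sepStep14, sepStep15, sepStep16, sepStep17, sepStep18, sepStep19]

theorem exists_power : ∀ i < 5, i ≠ 0 → ∃ j < 4, 2 ^ j * i % 5 = 1 := by decide

theorem second_ne : (42 : ℕ) ≠ bIx 1 / 4 := by decide +kernel

theorem two_power : ∀ b < 4, 2 ^ b % 5 = 2 → b = 1 := by decide

attribute [local irreducible] minV img keyOf hipX applyW sameKeys orth0 pullF tp tc colour sigUp cnt
  maskS ordF

/-! ### The permutation of the lines -/

theorem exists_intertwiner {G X : Type*} [Group G] [MulAction G X] [Finite X]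
    (hinj : ∀ x y : X, stabilizer G x = stabilizer G y → x = y)
    (hall : ∀ (x : X) (K : Subgroup G), Nat.card K = Nat.card (stabilizer G x) →
      ∃ y : X, K = stabilizer G y) (φ : MulAut G) :
    ∃ π : Equiv.Perm X, ∀ (g : G) (x : X), π (g • x) = φ g • π x := by
  have h : ∀ x, ∃ y, (stabilizer G x).map φ.toMonoidHom = stabilizer G y :=
    fun x => hall x _ (Nat.card_congr
      ((stabilizer G x).equivMapOfInjective _ φ.injective).toEquiv).symm
  choose f hf using h
  have hmem : ∀ x k, φ k • f x = f x ↔ k • x = x := by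
    intro x k
    rw [← mem_stabilizer_iff, ← hf x, ← mem_stabilizer_iff, Subgroup.mem_map_equiv]
    simp
  have hfi : Function.Injective f := fun x y e => hinj x y (Subgroup.ext fun k => by
    rw [mem_stabilizer_iff, mem_stabilizer_iff, ← hmem x k, ← hmem y k, e])
  refine ⟨Equiv.ofBijective f (Finite.injective_iff_bijective.1 hfi), fun g x => ?_⟩
  refine hinj _ _ (Subgroup.ext fun h => ?_)
  obtain ⟨k, rfl⟩ := φ.surjective h
  rw [mem_stabilizer_iff, mem_stabilizer_iff, smul_smul, ← map_mul,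
    Equiv.ofBijective_apply, Equiv.ofBijective_apply, hmem, smul_smul]
  constructor
  · intro e
    have e' : (g⁻¹ * (k * g)) • x = x := by rw [mul_smul, e, inv_smul_smul]
    have := (hmem x _).2 e'
    rwa [map_mul, map_inv, mul_smul, inv_smul_eq_iff] at this
  · intro e
    have e' : φ (g⁻¹ * (k * g)) • f x = f x := by
      rw [map_mul, map_inv, mul_smul, e, inv_smul_smul]
    have := (hmem x _).1 e'
    rwa [mul_smul, inv_smul_eq_iff] at this

theorem stab_inj {x y : Fin 4060} (h : stabilizer H x = stabilizer H y) : x = y := by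
  obtain ⟨a, ha⟩ := exists_smul_eq H L0 x
  have hfix : orbit (stabilizer H L0) (a⁻¹ • y) = {a⁻¹ • y} := by
    refine Set.eq_singleton_iff_unique_mem.2 ⟨mem_orbit_self _, fun z hz => ?_⟩
    obtain ⟨k, rfl⟩ := hz
    have hk : a * k * a⁻¹ ∈ stabilizer H x := by
      rw [mem_stabilizer_iff, mul_smul, mul_smul, ← ha, inv_smul_smul, mem_stabilizer_iff.1 k.2]
    rw [h, mem_stabilizer_iff, mul_smul, mul_smul] at hk
    show (k : H) • a⁻¹ • y = a⁻¹ • y
    rw [eq_inv_smul_iff, hk]
  have hn := orbit_stab_L0 (f := a⁻¹ • y)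
  rw [hfix, Set.ncard_singleton] at hn
  by_cases h2 : a⁻¹ • y = L0
  · rw [← ha, ← smul_inv_smul a y, h2]
  · rw [if_neg h2] at hn
    split_ifs at hn <;> omega

/-- A compatible pair of an automorphism and a permutation of the lines. -/
structure Compat (φ : MulAut H) (π : Equiv.Perm (Fin 4060)) : Prop where
  smul : ∀ (g : H) (x : Fin 4060), π (g • x) = φ g • π x
  adj : ∀ x y, Adj (π x) (π y) ↔ Adj x y

theorem exists_compat (φ : MulAut H) : ∃ π, Compat φ π := by
  obtain ⟨π, hπ⟩ := exists_intertwiner (fun x y => stab_inj)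
    (fun x K hK => exists_fixed (K := K) (by rw [hK, card_stab'])) φ
  refine ⟨π, hπ, fun x y => ?_⟩
  have e : orbit (stabilizer H (π x)) (π y) = π '' orbit (stabilizer H x) y := by
    ext z
    constructor
    · rintro ⟨k, rfl⟩
      refine ⟨φ.symm k.1 • y, ⟨⟨φ.symm k.1, ?_⟩, rfl⟩, ?_⟩
      · rw [mem_stabilizer_iff]
        apply π.injective
        rw [hπ, MulEquiv.apply_symm_apply]
        exact k.2
      · rw [hπ, MulEquiv.apply_symm_apply]
        rfl
    · rintro ⟨_, ⟨k, rfl⟩, rfl⟩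
      refine ⟨⟨φ k.1, ?_⟩, (hπ k.1 y).symm⟩
      rw [mem_stabilizer_iff, ← hπ, mem_stabilizer_iff.1 k.2]
  unfold Adj
  rw [e, Set.ncard_image_of_injective _ π.injective]

theorem Compat.conj {φ : MulAut H} {π : Equiv.Perm (Fin 4060)} (hc : Compat φ π) (h : H) :
    Compat (MulAut.conj h * φ) (π.trans (MulAction.toPerm h)) := by
  refine ⟨fun g x => ?_, fun x y => ?_⟩
  · show h • π (g • x) = (h * φ g * h⁻¹) • h • π x
    rw [hc.smul, mul_smul, mul_smul, inv_smul_smul]
  · show Adj (h • π x) (h • π y) ↔ Adj x y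
    rw [adj_smul, hc.adj]

/-- The third line. -/
def L2 : Fin 4060 := ⟨42, by norm_num⟩

theorem L2_facts : Adj L0 L2 ∧ ¬ Adj L1 L2 ∧ L2 ≠ L1 := by
  refine ⟨adj_L0.2 second_root.2.1, ?_, ?_⟩
  · rw [adj_of_L0 word_L1]
    show ¬ orth0 (pullF toL1W 42) = true
    rw [second_root.2.2.1]
    simp
  · intro e
    have := congrArg Fin.val e
    rw [L1_val] at this
    exact second_ne this

theorem class_reach {z : Fin 4060} (h0 : Adj L0 z) (h1 : ¬ Adj L1 z) (hne : z ≠ L1) :
    (maskS 3).testBit z.val = true := by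
  have h := List.all_eq_true.1 second_class z.val (List.mem_range.2 z.isLt)
  rw [adj_L0] at h0
  rw [adj_of_L0 word_L1, Bool.not_eq_true] at h1
  have hb : Nat.beq z.val (bIx 1 / 4) = false := by
    rw [← Bool.not_eq_true, Nat.beq_eq]
    exact fun e => hne (Fin.ext (by rw [L1_val, e]))
  simpa [h0, h1, hb] using h

theorem move_second {z : ℕ} (hz : (maskS 3).testBit z = true) :
    ∃ h : H, h • L0 = L0 ∧ h • L1 = L1 ∧ (h • L2).val = z := by
  obtain ⟨g, hg, hl, e⟩ := sub_orbit hz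
  exact ⟨toH g, by rw [toH_smul]; exact T0_L0 hg, by rw [toH_smul]; exact hl,
    by rw [toH_smul]; exact e L2 second_root.1.symm⟩

/-! ### The group of order twenty -/

/-- The element of order five. -/
noncomputable def pH : H := toH (wordE w5)

/-- The element of order four. -/
noncomputable def cH : H := toH (wordE w4)

theorem pH_val (f : Fin 4060) : (pH • f).val = tp f.val := by
  have h := List.all_eq_true.1 tab_p f.val (List.mem_range.2 f.isLt)
  rw [pH, toH_smul, word_line, Nat.eq_of_beq_eq_true h]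

theorem cH_val (f : Fin 4060) : (cH • f).val = tc f.val := by
  have h := List.all_eq_true.1 tab_c f.val (List.mem_range.2 f.isLt)
  rw [cH, toH_smul, word_line, Nat.eq_of_beq_eq_true h]

theorem pH_pow (n : ℕ) (f : Fin 4060) : (pH ^ n • f).val = pPow n f.val := by
  induction n with
  | zero => simp [pPow]
  | succ n ih => rw [pow_succ', mul_smul, pH_val, ih, pPow]

theorem cH_pow (n : ℕ) (f : Fin 4060) : (cH ^ n • f).val = cPow n f.val := by
  induction n with
  | zero => simp [cPow]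
  | succ n ih => rw [pow_succ', mul_smul, cH_val, ih, cPow]

theorem H_ext {a b : H} (h : ∀ f : Fin 4060, (a • f).val = (b • f).val) : a = b :=
  Subtype.ext (Equiv.ext fun f => Fin.ext (h f))

theorem rel_spec (f : Fin 4060) :
    pPow 5 f.val = f.val ∧ cPow 4 f.val = f.val ∧ tc (tp f.val) = tp (tp (tc f.val)) := by
  have h := List.all_eq_true.1 rels f.val (List.mem_range.2 f.isLt)
  simp only [Bool.and_eq_true, Nat.beq_eq] at h
  exact ⟨h.1.1, h.1.2, h.2⟩

theorem p_five : pH ^ 5 = 1 := H_ext fun f => by rw [pH_pow, (rel_spec f).1, one_smul]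

theorem c_four : cH ^ 4 = 1 := H_ext fun f => by rw [cH_pow, (rel_spec f).2.1, one_smul]

theorem c_p : cH * pH = pH ^ 2 * cH := H_ext fun f => by
  rw [mul_smul, mul_smul, cH_val, pH_val, pow_two, mul_smul, pH_val, pH_val, cH_val]
  exact (rel_spec f).2.2

theorem c_p_pow (m : ℕ) : cH * pH ^ m = pH ^ (2 * m) * cH := by
  induction m with
  | zero => simp
  | succ m ih =>
    rw [pow_succ, ← mul_assoc, ih, mul_assoc, c_p, ← mul_assoc, ← pow_add, mul_add, mul_one]

theorem c_pow_p (j m : ℕ) : cH ^ j * pH ^ m = pH ^ (2 ^ j * m) * cH ^ j := by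
  induction j with
  | zero => simp
  | succ j ih =>
    rw [pow_succ', mul_assoc, ih, ← mul_assoc, c_p_pow, mul_assoc, ← mul_assoc 2, ← pow_succ']

theorem p_mod (m : ℕ) : pH ^ m = pH ^ (m % 5) := pow_eq_pow_mod m p_five

theorem c_mod (m : ℕ) : cH ^ m = cH ^ (m % 4) := pow_eq_pow_mod m c_four

/-- The twenty elements. -/
noncomputable def elK (n : Fin 20) : H := pH ^ (n.val % 5) * cH ^ (n.val / 5)

/-- The common stabiliser of three lines. -/
noncomputable def St3H : Subgroup H := stabilizer H L0 ⊓ stabilizer H L1 ⊓ stabilizer H L2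

theorem mem_St3H {g : H} : g ∈ St3H ↔ g • L0 = L0 ∧ g • L1 = L1 ∧ g • L2 = L2 := by
  simp [St3H, Subgroup.mem_inf, mem_stabilizer_iff, and_assoc]

theorem gens_fix {g : H} (hg : g = pH ∨ g = cH) : g ∈ St3H := by
  have key : ∀ (x : Fin 4060), x.val ∈ [0, bIx 1 / 4, 42] → g • x = x := fun x hx => by
    obtain ⟨h1, h2⟩ := small_facts.1 x.val hx
    refine Fin.ext ?_
    rcases hg with rfl | rfl
    · rw [pH_val, h1]
    · rw [cH_val, h2]
  exact mem_St3H.2 ⟨key _ (by simp [L0_val]), key _ (by simp [L1_val]), key _ (by simp [L2])⟩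

theorem elK_mem (n : Fin 20) : elK n ∈ St3H :=
  mul_mem (pow_mem (gens_fix (Or.inl rfl)) _) (pow_mem (gens_fix (Or.inr rfl)) _)

theorem elK_injective : Function.Injective elK := by
  intro a b h
  have hx : ∀ n : Fin 20, ((elK n • (⟨regPt, small_facts.2.1⟩ : Fin 4060)) : Fin 4060).val =
      pPow (n.val % 5) (cPow (n.val / 5) regPt) := fun n => by
    rw [elK, mul_smul, pH_pow, cH_pow]
  have he := congrArg (fun g : H => (g • (⟨regPt, small_facts.2.1⟩ : Fin 4060)).val) h
  simp only [hx] at he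
  exact Fin.ext (List.inj_on_of_nodup_map small_facts.2.2.1 (List.mem_range.2 a.isLt)
    (List.mem_range.2 b.isLt) he)

theorem card_St3H : Nat.card St3H ≤ 20 := by
  set K := stabilizer H L0 ⊓ stabilizer H L1 with hK
  have hc : Nat.card K = 20480 := by
    rw [hK, card_stab_pair L1 (m := 1755) ?_ (by norm_num)]
    exact adj_L0.2 (by rw [L1_val]; exact out_facts.2.2.2.2.1)
  have h := Subgroup.index_mul_card (stabilizer K L2)
  rw [index_stabilizer, hc] at h
  have horb : 1024 ≤ (orbit K L2).ncard := by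
    rw [← second_root.2.2.2, ← ncard_cond]
    refine Set.ncard_le_ncard (fun z hz => ?_) (Set.toFinite _)
    obtain ⟨a, h0, h1, e⟩ := move_second hz
    exact ⟨⟨a, Subgroup.mem_inf.2 ⟨h0, h1⟩⟩, Fin.ext e⟩
  have e : Nat.card St3H = Nat.card (stabilizer K L2) := Nat.card_congr
    { toFun := fun g => ⟨⟨g.1, (Subgroup.mem_inf.1 g.2).1⟩, (Subgroup.mem_inf.1 g.2).2⟩
      invFun := fun g => ⟨g.1.1, Subgroup.mem_inf.2 ⟨g.1.2, g.2⟩⟩
      left_inv := fun _ => rfl
      right_inv := fun _ => rfl }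
  rw [e]
  nlinarith

theorem exists_elK {g : H} (hg : g ∈ St3H) : ∃ i < 5, ∃ j < 4, g = pH ^ i * cH ^ j := by
  let f : Fin 20 → St3H := fun n => ⟨elK n, elK_mem n⟩
  have hf : Function.Injective f := fun a b h => elK_injective (congrArg Subtype.val h)
  have h20 : Nat.card (Fin 20) = Nat.card St3H :=
    le_antisymm (Nat.card_le_card_of_injective f hf) (card_St3H.trans_eq (Nat.card_fin 20).symm)
  obtain ⟨n, hn⟩ := ((Nat.bijective_iff_injective_and_card f).2 ⟨hf, h20⟩).2 ⟨g, hg⟩
  exact ⟨n.val % 5, Nat.mod_lt _ (by norm_num), n.val / 5, by omega,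
    (congrArg Subtype.val hn).symm⟩

theorem p_pow_inj {a b : ℕ} (ha : a < 5) (hb : b < 5) (h : pH ^ a = pH ^ b) : a = b := by
  have e : elK ⟨a, by omega⟩ = elK ⟨b, by omega⟩ := by
    simp only [elK, Nat.mod_eq_of_lt ha, Nat.mod_eq_of_lt hb, Nat.div_eq_of_lt ha,
      Nat.div_eq_of_lt hb, h]
  exact congrArg Fin.val (elK_injective e)

theorem pow_five_smul (g : H) (F : ℕ → ℕ) (hF : ∀ f : Fin 4060, (g • f).val = F f.val) (n : ℕ)
    (f : Fin 4060) : (g ^ n • f).val = F^[n] f.val := by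
  induction n with
  | zero => simp
  | succ n ih => rw [pow_succ', mul_smul, hF, ih, Function.iterate_succ_apply']

theorem image_p {φ : MulAut H} (h : ∀ g ∈ St3H, φ g ∈ St3H) :
    ∃ i, i < 5 ∧ i ≠ 0 ∧ φ pH = pH ^ i := by
  obtain ⟨i, hi, j, hj, e⟩ := exists_elK (h _ (gens_fix (Or.inl rfl)))
  have h5 : (pH ^ i * cH ^ j) ^ 5 = 1 := by rw [← e, ← map_pow, p_five, map_one]
  rcases Nat.eq_zero_or_pos j with rfl | hj0
  · refine ⟨i, hi, fun hi0 => ?_, by rw [e, pow_zero, mul_one]⟩
    subst hi0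
    rw [pow_zero, pow_zero, one_mul, map_eq_one_iff _ φ.injective] at e
    exact absurd (p_pow_inj (a := 1) (b := 0) (by norm_num) (by norm_num)
      (by rw [pow_one, e, pow_zero])) one_ne_zero
  · exfalso
    refine small_facts.2.2.2 (i + 5 * (j - 1)) (by omega) ?_
    rw [show (i + 5 * (j - 1)) % 5 = i by omega, show (i + 5 * (j - 1)) / 5 + 1 = j by omega]
    have := pow_five_smul (pH ^ i * cH ^ j) (fun x => pPow i (cPow j x))
      (fun f => by rw [mul_smul, pH_pow, cH_pow]) 5 ⟨regPt, small_facts.2.1⟩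
    rw [h5, one_smul] at this
    exact this.symm

theorem image_c {φ : MulAut H} (h : ∀ g ∈ St3H, φ g ∈ St3H) (hp : φ pH = pH) :
    ∃ a < 5, φ cH = pH ^ a * cH := by
  obtain ⟨a, ha, b, hb, e⟩ := exists_elK (h _ (gens_fix (Or.inr rfl)))
  have hr := congrArg φ c_p
  rw [map_mul, map_mul, map_pow, hp, e, mul_assoc, ← pow_one pH, c_pow_p, pow_one, mul_one,
    ← mul_assoc, ← mul_assoc, ← pow_add, ← pow_add, mul_left_inj, p_mod, p_mod (2 + a)] at hr
  have hab := p_pow_inj (Nat.mod_lt _ (by norm_num)) (Nat.mod_lt _ (by norm_num)) hr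
  have hb1 : b = 1 := two_power b hb (by omega)
  exact ⟨a, ha, by rw [e, hb1, pow_one]⟩

/-! ### Rigidity -/

theorem colour_congr {φ : MulAut H} {π : Equiv.Perm (Fin 4060)} (hc : Compat φ π)
    (h0 : π L0 = L0) (h1 : π L1 = L1) (h2 : π L2 = L2) (hp : φ pH = pH) (hq : φ cH = cH)
    (x : Fin 4060) : colour (π x).val = colour x.val := by
  have hbeq : ∀ u v u' v' : Fin 4060, (u = v ↔ u' = v') →
      Nat.beq u.val v.val = Nat.beq u'.val v'.val := fun u v u' v' h => by
    rw [Bool.eq_iff_iff, Nat.beq_eq, Nat.beq_eq, ← Fin.ext_iff, ← Fin.ext_iff, h]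
  have comm : ∀ g : H, φ g = g → ∀ u, π (g • u) = g • π u := fun g hg u => by rw [hc.smul, hg]
  have hfix : ∀ g : H, φ g = g → ∀ u, (g • π u = π u ↔ g • u = u) := fun g hg u => by
    rw [← comm g hg, π.injective.eq_iff]
  have b0 : Nat.beq (tp (π x).val) (π x).val = Nat.beq (tp x.val) x.val := by
    rw [← pH_val, ← pH_val]
    exact hbeq _ _ _ _ (hfix pH hp x)
  have b1 : ∀ i, Nat.beq (tc (pPow i (π x).val)) (pPow i (π x).val) =
      Nat.beq (tc (pPow i x.val)) (pPow i x.val) := fun i => by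
    rw [← pH_pow, ← pH_pow, ← cH_val, ← cH_val, ← comm (pH ^ i) (by rw [map_pow, hp])]
    exact hbeq _ _ _ _ (hfix cH hq _)
  have b2 : ∀ i, Nat.beq (tc (tc (pPow i (π x).val))) (pPow i (π x).val) =
      Nat.beq (tc (tc (pPow i x.val))) (pPow i x.val) := fun i => by
    rw [← pH_pow, ← pH_pow, ← cH_val, ← cH_val, ← cH_val, ← cH_val, ← mul_smul cH cH,
      ← mul_smul cH cH, ← comm (pH ^ i) (by rw [map_pow, hp])]
    exact hbeq _ _ _ _ (hfix (cH * cH) (by rw [map_mul, hq]) _)
  have hid : ∀ u, π u = u → Nat.beq (π x).val u.val = Nat.beq x.val u.val := fun u hu =>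
    hbeq _ _ _ _ (by conv_lhs => rw [← hu, π.injective.eq_iff])
  have c0 : Nat.beq (π x).val 0 = Nat.beq x.val 0 := by
    have := hid L0 h0; rwa [L0_val] at this
  have c1 : Nat.beq (π x).val (bIx 1 / 4) = Nat.beq x.val (bIx 1 / 4) := by
    have := hid L1 h1; rwa [L1_val] at this
  have c2 : Nat.beq (π x).val 42 = Nat.beq x.val 42 := hid L2 h2
  unfold colour
  simp only [b0, b1, b2, c0, c1, c2]

/-- The members of a separating set. -/
def setF (j : ℕ) : Set (Fin 4060) :=
  {s | ((rowSets.getD j []).any fun e => Nat.beq e.1 s.val) = true}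

theorem cnt_eq {j : ℕ} (hj : j < 20) (x : Fin 4060) :
    cnt j x.val = {s | s ∈ setF j ∧ Adj s x}.ncard := by
  classical
  have hr := row_all j hj
  have hs := step_all j hj
  simp only [rowCheck, List.all_eq_true, Bool.and_eq_true, Nat.blt_eq, Nat.beq_eq,
    List.mem_range, beq_iff_eq] at hr
  simp only [stepCheck, Bool.and_eq_true] at hs
  have hnd : ((rowSets.getD j []).map fun e => e.1).Nodup := (distinctB_spec _ _ hs.1.1).1
  set S := rowSets.getD j [] with hS
  have hadj : ∀ e ∈ S, ∀ h : e.1 < 4060, (e.2.2.testBit x.val = true ↔ Adj ⟨e.1, h⟩ x) := by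
    intro e he h
    obtain ⟨⟨-, hw⟩, hrow⟩ := hr e he
    rw [hrow x.val x.isLt]
    exact (adj_of_L0 (r := ⟨e.1, h⟩)
      (Fin.ext (by rw [word_line, L0_val]; exact hw)) x).symm
  rw [show cnt j x.val = S.countP fun e => e.2.2.testBit x.val from by unfold cnt; rw [hS],
    List.countP_eq_length_filter,
    ← List.length_map (f := fun e : ℕ × List ℤ × ℕ => e.1),
    ← List.toFinset_card_of_nodup (hnd.sublist (List.filter_sublist.map _)),
    Set.ncard_eq_toFinset_card', ← Finset.card_map Fin.valEmbedding (s := Set.toFinset _)]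
  congr 1
  ext v
  simp only [List.mem_toFinset, List.mem_map, List.mem_filter, Finset.mem_map, Set.mem_toFinset,
    Set.mem_ofPred_eq, Fin.valEmbedding_apply, setF, List.any_eq_true, Nat.beq_eq, ← hS]
  constructor
  · rintro ⟨e, ⟨he, hb⟩, rfl⟩
    have hlt := (hr e he).1.1
    exact ⟨⟨e.1, hlt⟩, ⟨⟨e, he, rfl⟩, (hadj e he hlt).1 hb⟩, rfl⟩
  · rintro ⟨s, ⟨⟨e, he, hes⟩, ha⟩, rfl⟩
    have hlt := (hr e he).1.1
    have hs' : (⟨e.1, hlt⟩ : Fin 4060) = s := Fin.ext hes
    exact ⟨e, ⟨he, (hadj e he hlt).2 (hs' ▸ ha)⟩, hes⟩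

theorem sig_congr_perm {φ : MulAut H} {π : Equiv.Perm (Fin 4060)} (hc : Compat φ π)
    (h0 : π L0 = L0) (h1 : π L1 = L1) (h2 : π L2 = L2) (hp : φ pH = pH) (hq : φ cH = cH) :
    ∀ n ≤ 20, ∀ x : Fin 4060, sigUp n (π x).val = sigUp n x.val := by
  intro n
  induction n with
  | zero => intro _ x; unfold sigUp; exact colour_congr hc h0 h1 h2 hp hq x
  | succ n ih =>
    intro hn x
    have hset : ∀ s, π s ∈ setF n ↔ s ∈ setF n := by
      intro s
      have hs := step_all n (by omega)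
      simp only [stepCheck, Bool.and_eq_true, List.all_eq_true, List.mem_range, beq_iff_eq] at hs
      simp only [setF, Set.mem_ofPred_eq]
      rw [← hs.2 s.val s.isLt, ← hs.2 (π s).val (π s).isLt, ih (by omega)]
    have hcnt : cnt n (π x).val = cnt n x.val := by
      rw [cnt_eq (by omega), cnt_eq (by omega),
        ← Set.ncard_image_of_injective {s | s ∈ setF n ∧ Adj s x} π.injective]
      congr 1
      ext z
      constructor
      · rintro ⟨hz, ha⟩
        refine ⟨π.symm z, ⟨(hset _).1 (by rwa [π.apply_symm_apply]), ?_⟩, π.apply_symm_apply z⟩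
        rwa [← hc.adj, π.apply_symm_apply]
      · rintro ⟨s, ⟨hs, ha⟩, rfl⟩
        exact ⟨(hset s).2 hs, (hc.adj s x).2 ha⟩
    unfold sigUp
    rw [hcnt, ih (by omega)]

theorem sig_injective (x y : Fin 4060) (h : sigUp 20 x.val = sigUp 20 y.val) : x = y := by
  have hchk : ∀ i, i < 4060 → ordF i < 4060 ∧
      (i + 1 < 4060 → sigUp 20 (ordF i) < sigUp 20 (ordF (i + 1))) := by
    intro i hi
    have key : ∀ lo, sortCheck lo 2030 = true → lo ≤ i → i < lo + 2030 → ordF i < 4060 ∧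
        (i + 1 < 4060 → sigUp 20 (ordF i) < sigUp 20 (ordF (i + 1))) := fun lo hc h1 h2 => by
      simp only [sortCheck, List.all_eq_true, List.mem_range, Bool.and_eq_true, Bool.or_eq_true,
        Nat.blt_eq, Nat.ble_eq] at hc
      have := hc (i - lo) (by omega)
      rw [show lo + (i - lo) = i by omega] at this
      exact ⟨this.1, fun h => this.2.resolve_left (by omega)⟩
    by_cases hlo : i < 2030
    · exact key 0 sort0 (by omega) (by omega)
    · exact key 2030 sort1 (by omega) (by omega)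
  let o : Fin 4060 → Fin 4060 := fun i => ⟨ordF i.val, (hchk i.val i.isLt).1⟩
  have hmono : StrictMono fun i : Fin 4060 => sigUp 20 (o i).val := by
    refine Fin.strictMono_iff_lt_succ.2 fun i => ?_
    exact (hchk i.val (by omega)).2 (by omega)
  have hinj : Function.Injective o := fun a b e => hmono.injective (by simp only [e])
  obtain ⟨a, rfl⟩ := (Finite.injective_iff_bijective.1 hinj).2 x
  obtain ⟨b, rfl⟩ := (Finite.injective_iff_bijective.1 hinj).2 y
  rw [hmono.injective h]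

theorem inner_of_fixed {φ : MulAut H} {π : Equiv.Perm (Fin 4060)} (hc : Compat φ π)
    (h0 : π L0 = L0) (h1 : π L1 = L1) (h2 : π L2 = L2) (hp : φ pH = pH) (hq : φ cH = cH) :
    φ = 1 := by
  have hid : ∀ x, π x = x := fun x =>
    sig_injective _ _ (sig_congr_perm hc h0 h1 h2 hp hq 20 le_rfl x)
  refine MulEquiv.ext fun g => H_ext fun f => ?_
  have h := hc.smul g f
  rw [hid, hid] at h
  show (φ g • f).val = (g • f).val
  rw [← h]

theorem inner_of_compat {φ : MulAut H} {π : Equiv.Perm (Fin 4060)} (hc : Compat φ π)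
    (h0 : π L0 = L0) (h1 : π L1 = L1) (h2 : π L2 = L2) : φ ∈ Cfsg.Inn H := by
  have hSt : ∀ (ψ : MulAut H) (σ : Equiv.Perm (Fin 4060)), Compat ψ σ → σ L0 = L0 → σ L1 = L1 →
      σ L2 = L2 → ∀ g ∈ St3H, ψ g ∈ St3H := fun ψ σ hh e0 e1 e2 g hg => by
    obtain ⟨g0, g1, g2⟩ := mem_St3H.1 hg
    refine mem_St3H.2 ⟨?_, ?_, ?_⟩
    · rw [← e0, ← hh.smul, g0]
    · rw [← e1, ← hh.smul, g1]
    · rw [← e2, ← hh.smul, g2]
  have hfix : ∀ {σ : Equiv.Perm (Fin 4060)} {h : H}, h ∈ St3H → σ L0 = L0 → σ L1 = L1 → σ L2 = L2 →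
      σ.trans (MulAction.toPerm h) L0 = L0 ∧ σ.trans (MulAction.toPerm h) L1 = L1 ∧
        σ.trans (MulAction.toPerm h) L2 = L2 := fun {σ h} hh e0 e1 e2 => by
    obtain ⟨a, b, c⟩ := mem_St3H.1 hh
    exact ⟨by show h • σ L0 = L0; rw [e0, a], by show h • σ L1 = L1; rw [e1, b],
      by show h • σ L2 = L2; rw [e2, c]⟩
  obtain ⟨i, hi, hi0, ei⟩ := image_p (hSt φ π hc h0 h1 h2)
  obtain ⟨j, -, hji⟩ := exists_power i hi hi0
  have hc2 := hc.conj (cH ^ j)
  obtain ⟨f0, f1, f2⟩ := hfix (pow_mem (gens_fix (Or.inr rfl)) j) h0 h1 h2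
  set ψ := MulAut.conj (cH ^ j) * φ with hψ
  have hp : ψ pH = pH := by
    rw [hψ, MulAut.mul_apply, ei, MulAut.conj_apply, c_pow_p, mul_inv_cancel_right, p_mod, hji,
      pow_one]
  obtain ⟨a, -, ea⟩ := image_c (hSt ψ _ hc2 f0 f1 f2) hp
  have hc3 := hc2.conj (pH ^ a)
  obtain ⟨k0, k1, k2⟩ := hfix (pow_mem (gens_fix (Or.inl rfl)) a) f0 f1 f2
  have hp' : (MulAut.conj (pH ^ a) * ψ) pH = pH := by
    rw [MulAut.mul_apply, hp, MulAut.conj_apply, ← pow_succ, pow_succ', mul_inv_cancel_right]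
  have hq' : (MulAut.conj (pH ^ a) * ψ) cH = cH := by
    rw [MulAut.mul_apply, ea, MulAut.conj_apply, mul_inv_eq_iff_eq_mul, c_p_pow, ← mul_assoc,
      ← pow_add, two_mul]
  have h1' := inner_of_fixed hc3 k0 k1 k2 hp' hq'
  rw [hψ, ← mul_assoc] at h1'
  rw [eq_inv_of_mul_eq_one_right h1', ← map_mul, ← map_inv]
  exact ⟨_, rfl⟩

theorem inn_left {φ : MulAut H} {h : H} (hm : MulAut.conj h * φ ∈ Cfsg.Inn H) : φ ∈ Cfsg.Inn H := by
  have : (MulAut.conj h)⁻¹ ∈ Cfsg.Inn H := inv_mem ⟨h, rfl⟩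
  simpa using mul_mem this hm

theorem all_inner (φ : MulAut H) : φ ∈ Cfsg.Inn H := by
  obtain ⟨π, hc⟩ := exists_compat φ
  obtain ⟨a, ha⟩ := exists_smul_eq H (π L0) L0
  refine inn_left (h := a) ?_
  have hc1 := hc.conj a
  set π1 := π.trans (MulAction.toPerm a) with hπ1
  have e0 : π1 L0 = L0 := ha
  have hadj : Adj L0 (π1 L1) := by
    rw [← e0, hc1.adj, adj_L0, L1_val]
    exact out_facts.2.2.2.2.1
  obtain ⟨b, hb0, hb1⟩ := reach_orth (adj_L0.1 hadj)
  refine inn_left (h := b⁻¹) ?_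
  have hc2 := hc1.conj b⁻¹
  set π2 := π1.trans (MulAction.toPerm b⁻¹) with hπ2
  have f0 : π2 L0 = L0 := by show b⁻¹ • π1 L0 = L0; rw [e0, inv_smul_eq_iff, hb0]
  have f1 : π2 L1 = L1 := by show b⁻¹ • π1 L1 = L1; rw [inv_smul_eq_iff, hb1]
  obtain ⟨q1, q2, q3⟩ := L2_facts
  obtain ⟨c, c0, c1, c2⟩ := move_second (class_reach (z := π2 L2)
    (by rw [← f0, hc2.adj]; exact q1) (by rw [← f1, hc2.adj]; exact q2)
    (fun e => q3 (π2.injective (e.trans f1.symm))))
  refine inn_left (h := c⁻¹) ?_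
  refine inner_of_compat (hc2.conj c⁻¹) ?_ ?_ ?_
  · show c⁻¹ • π2 L0 = L0
    rw [f0, inv_smul_eq_iff, c0]
  · show c⁻¹ • π2 L1 = L1
    rw [f1, inv_smul_eq_iff, c1]
  · show c⁻¹ • π2 L2 = L2
    rw [inv_smul_eq_iff]
    exact (Fin.ext c2).symm

theorem card_out_H : Nat.card (Cfsg.Out H) = 1 := by
  have : Cfsg.Inn H = ⊤ := (Subgroup.eq_top_iff' _).2 all_inner
  show Nat.card (MulAut H ⧸ Cfsg.Inn H) = 1
  rw [← Subgroup.index, this, Subgroup.index_top]

theorem card_out_Ru : Nat.card (Cfsg.Out Ru) = 1 := by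
  obtain ⟨e⟩ := CfsgLib.Comp.out_congr ruEquivH
  rw [Nat.card_congr e.toEquiv, card_out_H]

end CfsgLib.Ru
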