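import Cfsg.Agent.Lib.Golay.RuOutDef

/-! Kernel checks of the stored neighbours. -/

set_option autoImplicit false
set_option maxRecDepth 100000
set_option Elab.async false

namespace CfsgLib.Ru

theorem row0 : rowCheck 0 = true := by decide +kernel

theorem row1 : rowCheck 1 = true := by decide +kernel

theorem row2 : rowCheck 2 = true := by decide +kernel

theorem row3 : rowCheck 3 = true := by decide +kernel

theorem row4 : rowCheck 4 = true := by decide +kernel

theorem row5 : rowCheck 5 = true := by decide +kernel

theorem row6 : rowCheck 6 = true := by decide +kernel

theorem row7 : rowCheck 7 = true := by decide +kernel

theorem row8 : rowCheck 8 = true := by decide +kernel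

theorem row9 : rowCheck 9 = true := by decide +kernel

theorem row10 : rowCheck 10 = true := by decide +kernel

theorem row11 : rowCheck 11 = true := by decide +kernel

theorem row12 : rowCheck 12 = true := by decide +kernel

theorem row13 : rowCheck 13 = true := by decide +kernel

theorem row14 : rowCheck 14 = true := by decide +kernel

theorem row15 : rowCheck 15 = true := by decide +kernel

theorem row16 : rowCheck 16 = true := by decide +kernel

theorem row17 : rowCheck 17 = true := by decide +kernel

theorem row18 : rowCheck 18 = true := by decide +kernel

theorem row19 : rowCheck 19 = true := by decide +kernel

end CfsgLib.Ru
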