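import Mathlib.Combinatorics.SimpleGraph.StronglyRegular
import Mathlib.Algebra.BigOperators.Pi
import Mathlib.Algebra.Order.BigOperators.Group.Finset
import Mathlib.Data.ZMod.Basic
import Mathlib.Tactic

/-! Strongly regular graphs with parameters `(77, 16, 0, 4)`: the Gram identity and the blocks
seen from a vertex. -/

set_option autoImplicit false

namespace CfsgLib.Golay.SRG77

open Finset

variable {V : Type*} [Fintype V] [DecidableEq V] {G : SimpleGraph V} [DecidableRel G.Adj]

/-- The adjacency indicator. -/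
def ad (G : SimpleGraph V) [DecidableRel G.Adj] (u v : V) : ℤ := if G.Adj u v then 1 else 0

/-- The scaled Gram matrix of the projection on the eigenspace of `-6`. -/
def gm (G : SimpleGraph V) [DecidableRel G.Adj] (u v : V) : ℤ :=
  (if u = v then 22 else 0) - 11 * ad G u v + 2

theorem ad_comm (u v : V) : ad G u v = ad G v u := by simp [ad, G.adj_comm]

theorem ad_self (u : V) : ad G u u = 0 := by simp [ad]

theorem gm_comm (u v : V) : gm G u v = gm G v u := by
  simp [gm, eq_comm, ad_comm]

variable (hG : G.IsSRGWith 77 16 0 4)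
include hG

theorem common_card {v w : V} : (G.neighborFinset v ∩ G.neighborFinset w).card =
    if v = w then 16 else if G.Adj v w then 0 else 4 := by
  split_ifs with h1 h2
  · subst h1
    rw [Finset.inter_self, SimpleGraph.card_neighborFinset_eq_degree, hG.regular v]
  · rw [← hG.of_adj v w h2, ← Set.toFinset_card]
    congr 1
    ext x
    rw [Set.mem_toFinset]; simp [SimpleGraph.commonNeighbors]
  · rw [← hG.of_not_adj h1 h2, ← Set.toFinset_card]
    congr 1
    ext x
    rw [Set.mem_toFinset]; simp [SimpleGraph.commonNeighbors]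

theorem no_tri {u v w : V} (h1 : G.Adj u v) (h2 : G.Adj u w) : ¬G.Adj v w := fun h => by
  have h0 := common_card hG (v := u) (w := v)
  rw [if_neg h1.ne, if_pos h1, Finset.card_eq_zero] at h0
  have : w ∈ G.neighborFinset u ∩ G.neighborFinset v := by simp [h2, h]
  rw [h0] at this; simp at this

theorem sum_ad (u : V) : ∑ v, ad G v u = 16 := by
  simp only [ad, Finset.sum_boole]
  have : (univ.filter fun v => G.Adj v u) = G.neighborFinset u := by
    ext v; simp [G.adj_comm]
  rw [this, SimpleGraph.card_neighborFinset_eq_degree, hG.regular u]; norm_num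

theorem sum_ad_ad (u w : V) :
    ∑ v, ad G v u * ad G v w = if u = w then 16 else if G.Adj u w then 0 else 4 := by
  have h : ∀ v, ad G v u * ad G v w = if G.Adj v u ∧ G.Adj v w then 1 else 0 := fun v => by
    by_cases h1 : G.Adj v u <;> by_cases h2 : G.Adj v w <;> simp [ad, h1, h2]
  simp only [h, Finset.sum_boole]
  have : (univ.filter fun v => G.Adj v u ∧ G.Adj v w) =
      G.neighborFinset u ∩ G.neighborFinset w := by
    ext v; simp [G.adj_comm]
  rw [this, common_card hG]
  split_ifs <;> norm_num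

theorem gm_mul (u w : V) : ∑ v, gm G v u * gm G v w = 88 * gm G u w := by
  have e : ∀ v, gm G v u * gm G v w =
      (if v = u then 22 * gm G v w else 0) + (if v = w then 22 * (-11 * ad G v u + 2) else 0)
        + (121 * (ad G v u * ad G v w) - 22 * ad G v u - 22 * ad G v w + 4) := fun v => by
    unfold gm
    split_ifs <;> ring
  rw [Finset.sum_congr rfl fun v _ => e v]
  simp only [Finset.sum_add_distrib, Finset.sum_sub_distrib, Finset.sum_ite_eq', Finset.mem_univ,
    if_true, ← Finset.mul_sum, sum_ad hG, sum_ad_ad hG, Finset.sum_const, Finset.card_univ, hG.card]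
  rw [gm]
  by_cases h : u = w
  · subst h; simp [ad_self]
  · by_cases h2 : G.Adj u w
    · simp [h, ad, h2, h2.symm]
    · simp [h, ad, h2, G.adj_comm w u]

omit hG in
/-- The image of an integral combination. -/
def gz (G : SimpleGraph V) [DecidableRel G.Adj] (z : V → ℤ) (v : V) : ℤ := ∑ u, gm G v u * z u

theorem gz_sq (z : V → ℤ) : ∑ v, gz G z v * gz G z v = 88 * ∑ u, z u * gz G z u := by
  simp only [gz, Finset.sum_mul, Finset.mul_sum]
  rw [Finset.sum_comm]
  refine Finset.sum_congr rfl fun u _ => ?_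
  rw [Finset.sum_comm]
  refine Finset.sum_congr rfl fun w _ => ?_
  rw [show 88 * (z u * (gm G u w * z w)) = (88 * gm G u w) * (z u * z w) by ring, ← gm_mul hG,
    Finset.sum_mul]
  exact Finset.sum_congr rfl fun v _ => by ring

theorem quad_nonneg (z : V → ℤ) : 0 ≤ ∑ u, z u * gz G z u := by
  have h := gz_sq hG z
  have h2 : 0 ≤ ∑ v, gz G z v * gz G z v := Finset.sum_nonneg fun v _ => mul_self_nonneg _
  omega

theorem quad_null {z : V → ℤ} (h : ∑ u, z u * gz G z u = 0) (v : V) : gz G z v = 0 := by
  have h1 := gz_sq hG z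
  rw [h, mul_zero] at h1
  exact mul_self_eq_zero.1
    ((Finset.sum_eq_zero_iff_of_nonneg fun v _ => mul_self_nonneg _).1 h1 v (mem_univ v))

omit hG

/-! ### The blocks seen from a vertex -/

/-- The vertices at distance two from `x`. -/
def Far (G : SimpleGraph V) (x b : V) : Prop := b ≠ x ∧ ¬G.Adj x b

instance (x : V) : DecidablePred (Far G x) := fun _ => inferInstanceAs (Decidable (_ ∧ _))

/-- The block of a vertex. -/
def blk (G : SimpleGraph V) [DecidableRel G.Adj] (x b : V) : Finset V :=
  G.neighborFinset x ∩ G.neighborFinset b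

theorem mem_blk {x b p : V} : p ∈ blk G x b ↔ G.Adj x p ∧ G.Adj b p := by simp [blk]

/-- The Gram matrix of the blocks orthogonal to a vertex and its neighbours. -/
def kap (G : SimpleGraph V) [DecidableRel G.Adj] (x b c : V) : ℤ :=
  (if b = c then 12 else 0) - 6 * ad G b c - 3 * ((blk G x b ∩ blk G x c).card : ℤ) + 4

theorem kap_comm (x b c : V) : kap G x b c = kap G x c b := by
  simp [kap, eq_comm, ad_comm, Finset.inter_comm]

/-- The class of a block. -/
def row (G : SimpleGraph V) [DecidableRel G.Adj] (x b : V) : {c // Far G x c} → ℤ :=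
  fun c => kap G x b c

/-- The combination attached to a block. -/
def zv (G : SimpleGraph V) [DecidableRel G.Adj] (x b : V) (v : V) : ℤ :=
  (if v = b then 6 else 0) + (if v = x then 4 else 0) + (if v ∈ blk G x b then 3 else 0)

theorem sum_zv_mul (x b : V) (f : V → ℤ) :
    ∑ v, zv G x b v * f v = 6 * f b + 4 * f x + 3 * ∑ p ∈ blk G x b, f p := by
  simp [zv, add_mul, Finset.sum_add_distrib, Finset.mul_sum, Finset.sum_ite_mem]

theorem gz_zv_eq (x b v : V) : gz G (zv G x b) v =
    6 * gm G v b + 4 * gm G v x + 3 * ∑ p ∈ blk G x b, gm G v p := by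
  unfold gz
  rw [Finset.sum_congr rfl fun u _ => mul_comm (gm G v u) _, sum_zv_mul]

variable {x : V}
include hG

theorem blk_card {b : V} (hb : Far G x b) : (blk G x b).card = 4 := by
  rw [blk, common_card hG, if_neg (Ne.symm hb.1), if_neg hb.2]

theorem gz_zv_near {b v : V} (hb : Far G x b) (hv : ¬Far G x v) : gz G (zv G x b) v = 0 := by
  rw [gz_zv_eq]
  rcases (not_and_or.1 hv).imp not_not.1 not_not.1 with e | e
  · subst e
    have h : ∀ p ∈ blk G v b, gm G v p = -9 := fun p hp => by
      obtain ⟨h1, -⟩ := mem_blk.1 hp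
      simp [gm, ad, h1, h1.ne]
    rw [Finset.sum_congr rfl h, Finset.sum_const, blk_card hG hb]
    simp [gm, ad, hb.2, Ne.symm hb.1]
  · have h : ∀ p ∈ blk G x b, gm G v p = (if v = p then 22 else 0) + 2 := fun p hp => by
      obtain ⟨h1, -⟩ := mem_blk.1 hp
      simp [gm, ad, no_tri hG e h1]
    rw [Finset.sum_congr rfl h, Finset.sum_add_distrib, Finset.sum_ite_eq, Finset.sum_const,
      blk_card hG hb]
    have hvb : v ≠ b := fun h => hb.2 (h ▸ e)
    by_cases hm : G.Adj v b
    · have : v ∈ blk G x b := mem_blk.2 ⟨e, hm.symm⟩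
      simp [gm, ad, hvb, hm, e.symm, e.symm.ne, this]
    · have : v ∉ blk G x b := fun h => hm (mem_blk.1 h).2.symm
      simp [gm, ad, hvb, hm, e.symm, e.symm.ne, this]

theorem gz_zv_far {b c : V} (hb : Far G x b) (hc : Far G x c) :
    gz G (zv G x b) c = 11 * kap G x b c := by
  rw [gz_zv_eq]
  have h : ∀ p ∈ blk G x b, gm G c p = (if p ∈ blk G x c then -11 else 0) + 2 := fun p hp => by
    obtain ⟨h1, -⟩ := mem_blk.1 hp
    have hne : c ≠ p := fun e => hc.2 (e ▸ h1)
    simp only [gm, ad, if_neg hne, mem_blk, h1, true_and]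
    split_ifs <;> ring
  rw [Finset.sum_congr rfl h, Finset.sum_add_distrib, Finset.sum_ite_mem, Finset.sum_const,
    Finset.sum_const, blk_card hG hb]
  simp only [gm, kap, ad, G.adj_comm b c, eq_comm (a := b) (b := c), if_neg hc.1,
    G.adj_comm c x, if_neg hc.2]
  split_ifs <;> simp <;> ring

theorem quad_zv {b c : V} (hb : Far G x b) (hc : Far G x c) :
    ∑ v, zv G x c v * gz G (zv G x b) v = 66 * kap G x b c := by
  rw [sum_zv_mul, gz_zv_far hG hb hc, gz_zv_near hG hb (fun h => h.1 rfl),
    Finset.sum_eq_zero fun p hp => gz_zv_near hG hb (fun h => h.2 (mem_blk.1 hp).1)]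
  ring

theorem kap_diag {b : V} (hb : Far G x b) : kap G x b b = 4 := by
  simp [kap, ad_self, blk_card hG hb]

omit hG in
theorem gz_sub (z z' : V → ℤ) (v : V) : gz G (z - z') v = gz G z v - gz G z' v := by
  simp [gz, mul_sub, Finset.sum_sub_distrib]

omit hG in
theorem gz_add (z z' : V → ℤ) (v : V) : gz G (z + z') v = gz G z v + gz G z' v := by
  simp [gz, mul_add, Finset.sum_add_distrib]

theorem kap_ge {b c : V} (hb : Far G x b) (hc : Far G x c) : -4 ≤ kap G x b c := by
  have h := quad_nonneg hG (zv G x b + zv G x c)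
  simp only [Pi.add_apply, gz_add, add_mul, mul_add, Finset.sum_add_distrib,
    quad_zv hG hb hb, quad_zv hG hb hc, quad_zv hG hc hb, quad_zv hG hc hc, kap_diag hG hb,
    kap_diag hG hc, kap_comm x c b] at h
  omega

theorem row_eq {b c : V} (hb : Far G x b) (hc : Far G x c) (h : kap G x b c = 4) :
    row G x b = row G x c := by
  have h0 : ∑ v, (zv G x b - zv G x c) v * gz G (zv G x b - zv G x c) v = 0 := by
    simp only [Pi.sub_apply, gz_sub, sub_mul, mul_sub, Finset.sum_sub_distrib,
      quad_zv hG hb hb, quad_zv hG hb hc, quad_zv hG hc hb, quad_zv hG hc hc, kap_diag hG hb,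
      kap_diag hG hc, kap_comm x c b, h]
    ring
  funext d
  have e := quad_null hG h0 d
  rw [gz_sub, gz_zv_far hG hb d.2, gz_zv_far hG hc d.2] at e
  show kap G x b d = kap G x c d
  omega

theorem row_sum {b c d : V} (hb : Far G x b) (hc : Far G x c) (hd : Far G x d)
    (h1 : kap G x b c = -2) (h2 : kap G x b d = -2) (h3 : kap G x c d = -2) :
    row G x b + row G x c + row G x d = 0 := by
  have h0 : ∑ v, (zv G x b + zv G x c + zv G x d) v *
      gz G (zv G x b + zv G x c + zv G x d) v = 0 := by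
    simp only [Pi.add_apply, gz_add, add_mul, mul_add, Finset.sum_add_distrib,
      quad_zv hG hb hb, quad_zv hG hb hc, quad_zv hG hc hb, quad_zv hG hc hc, quad_zv hG hb hd,
      quad_zv hG hd hb, quad_zv hG hc hd, quad_zv hG hd hc, quad_zv hG hd hd, kap_diag hG hb,
      kap_diag hG hc, kap_diag hG hd, kap_comm x c b, kap_comm x d b, kap_comm x d c, h1, h2, h3]
    ring
  funext e
  have e' := quad_null hG h0 e
  rw [gz_add, gz_add, gz_zv_far hG hb e.2, gz_zv_far hG hc e.2, gz_zv_far hG hd e.2] at e'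
  show kap G x b e + kap G x c e + kap G x d e = 0
  omega

theorem row_eq_iff {b c : V} (hb : Far G x b) (hc : Far G x c) :
    row G x b = row G x c ↔ kap G x b c = 4 :=
  ⟨fun h => by
    have e := congrFun h ⟨c, hc⟩
    exact e.trans (kap_diag hG hc), row_eq hG hb hc⟩

theorem adj_disjoint {b c : V} (h : G.Adj b c) : Disjoint (blk G x b) (blk G x c) := by
  rw [Finset.disjoint_left]
  intro p hp hq
  exact no_tri hG h (mem_blk.1 hp).2 (mem_blk.1 hq).2

theorem inter_le {b c : V} (hb : Far G x b) (hc : Far G x c) (hne : b ≠ c) :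
    (blk G x b ∩ blk G x c).card ≤ 2 := by
  have h := kap_ge hG hb hc
  simp only [kap, if_neg hne, ad] at h
  split_ifs at h with hA
  · rw [Finset.disjoint_iff_inter_eq_empty.1 (adj_disjoint hG hA)]; simp
  · omega

theorem kap_cases {b c : V} (hb : Far G x b) (hc : Far G x c) (hne : b ≠ c) :
    (G.Adj b c ∧ Disjoint (blk G x b) (blk G x c) ∧ kap G x b c = -2) ∨
      (¬G.Adj b c ∧ ((Disjoint (blk G x b) (blk G x c) ∧ kap G x b c = 4) ∨
        ((blk G x b ∩ blk G x c).card = 1 ∧ kap G x b c = 1) ∨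
        ((blk G x b ∩ blk G x c).card = 2 ∧ kap G x b c = -2))) := by
  by_cases hA : G.Adj b c
  · left
    have h := adj_disjoint hG (x := x) hA
    refine ⟨hA, h, ?_⟩
    rw [Finset.disjoint_iff_inter_eq_empty] at h
    simp [kap, hne, ad, hA, h]
  · right
    refine ⟨hA, ?_⟩
    have h2 := inter_le hG hb hc hne
    rw [Finset.disjoint_iff_inter_eq_empty, ← Finset.card_eq_zero]
    simp only [kap, if_neg hne, ad, if_neg hA]
    omega

theorem blk_inj {b c : V} (hb : Far G x b) (hc : Far G x c) (h : blk G x b = blk G x c) :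
    b = c := by
  by_contra hne
  have := inter_le hG hb hc hne
  rw [h, Finset.inter_self, blk_card hG hc] at this
  omega

theorem row_disjoint {b c : V} (hb : Far G x b) (hc : Far G x c) (hne : b ≠ c)
    (h : row G x b = row G x c) : Disjoint (blk G x b) (blk G x c) ∧ ¬G.Adj b c := by
  have hk := (row_eq_iff hG hb hc).1 h
  rcases kap_cases hG hb hc hne with ⟨-, -, e⟩ | ⟨hA, ⟨hd, -⟩ | ⟨-, e⟩ | ⟨-, e⟩⟩ <;>
    first | exact ⟨hd, hA⟩ | omega

/-! ### Counting -/

theorem card_far : (univ.filter (Far G x)).card = 60 := by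
  have e : univ.filter (Far G x) = (insert x (G.neighborFinset x))ᶜ := by
    ext v; simp [Far]
  rw [e, Finset.card_compl, hG.card, Finset.card_insert_of_notMem (by simp),
    SimpleGraph.card_neighborFinset_eq_degree, hG.regular x]

theorem pt_far {p q : V} (hp : G.Adj x p) (hq : G.Adj x q) :
    (univ.filter fun c => Far G x c ∧ p ∈ blk G x c ∧ q ∈ blk G x c).card =
      if p = q then 15 else 3 := by
  have e : (univ.filter fun c => Far G x c ∧ p ∈ blk G x c ∧ q ∈ blk G x c) =
      (G.neighborFinset p ∩ G.neighborFinset q).erase x := by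
    ext c
    simp only [mem_filter, mem_univ, true_and, mem_blk, mem_erase, mem_inter,
      SimpleGraph.mem_neighborFinset, Far]
    constructor
    · rintro ⟨⟨h1, -⟩, ⟨-, h2⟩, -, h3⟩; exact ⟨h1, h2.symm, h3.symm⟩
    · rintro ⟨h1, h2, h3⟩
      exact ⟨⟨h1, fun h => no_tri hG hp h h2⟩, ⟨hp, h2.symm⟩, hq, h3.symm⟩
  rw [e, card_erase_of_mem (by simp [hp.symm, hq.symm]), common_card hG, if_neg (no_tri hG hp hq)]
  split_ifs <;> rfl

theorem far_nbr {b : V} (hb : Far G x b) :
    (univ.filter fun c => Far G x c ∧ G.Adj b c).card = 12 := by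
  have e : (univ.filter fun c => Far G x c ∧ G.Adj b c) = G.neighborFinset b \ blk G x b := by
    ext c
    rw [Finset.mem_filter]
    simp only [mem_univ, true_and, Far, mem_sdiff, SimpleGraph.mem_neighborFinset, mem_blk]
    constructor
    · rintro ⟨⟨-, h2⟩, h3⟩; exact ⟨h3, fun h => h2 h.1⟩
    · rintro ⟨h1, h2⟩
      exact ⟨⟨fun e => hb.2 (e ▸ h1).symm, fun h => h2 ⟨h, h1⟩⟩, h1⟩
  rw [e, Finset.card_sdiff_of_subset (show blk G x b ⊆ G.neighborFinset b from inter_subset_right),
    SimpleGraph.card_neighborFinset_eq_degree, hG.regular b, blk_card hG hb]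

theorem parallel_card {b : V} (hb : Far G x b) :
    (univ.filter fun c => Far G x c ∧ row G x c = row G x b).card = 4 := by
  classical
  let i : V → ℤ := fun c => ((blk G x b ∩ blk G x c).card : ℤ)
  let F := univ.filter (Far G x)
  have key : ∀ c ∈ F, 2 * (if row G x c = row G x b then (1 : ℤ) else 0) =
      2 - 2 * ad G b c - 3 * i c + i c * i c - (if c = b then 4 else 0) := by
    intro c hc
    have hc' : Far G x c := (mem_filter.1 hc).2
    by_cases hne : c = b
    · subst hne
      simp [i, ad_self, blk_card hG hb]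
    · simp only [i, row_eq_iff hG hc' hb, kap_comm x c b, if_neg hne, ad]
      rcases kap_cases hG hb hc' (Ne.symm hne) with ⟨hA, hd, e⟩ |
          ⟨hA, ⟨hd, e⟩ | ⟨hd, e⟩ | ⟨hd, e⟩⟩
      · rw [Finset.disjoint_iff_inter_eq_empty] at hd; simp [hA, hd, e]
      · rw [Finset.disjoint_iff_inter_eq_empty] at hd; simp [hA, hd, e]
      · simp [hA, hd, e]
      · simp [hA, hd, e]
  have h1 : ∑ c ∈ F, ad G b c = 12 := by
    simp only [ad, F, Finset.sum_boole, Finset.filter_filter, far_nbr hG hb]; norm_num
  have hi : ∀ c, i c = ∑ p ∈ blk G x b, (if p ∈ blk G x c then 1 else 0) := fun c => by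
    simp [i, Finset.filter_mem_eq_inter]
  have hcnt : ∀ p ∈ blk G x b, ∀ q ∈ blk G x b,
      ∑ c ∈ F, (if p ∈ blk G x c ∧ q ∈ blk G x c then (1 : ℤ) else 0) =
        if p = q then 15 else 3 := by
    intro p hp q hq
    simp only [F, Finset.sum_boole, Finset.filter_filter,
      pt_far hG (mem_blk.1 hp).1 (mem_blk.1 hq).1]
    split_ifs <;> norm_num
  have h2 : ∑ c ∈ F, i c = 60 := by
    simp only [hi]
    rw [Finset.sum_comm, Finset.sum_congr rfl (g := fun _ => (15 : ℤ)) fun p hp => ?_,
      Finset.sum_const, blk_card hG hb]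
    · norm_num
    · simpa using hcnt p hp p hp
  have h3 : ∑ c ∈ F, i c * i c = 96 := by
    simp only [hi, Finset.sum_mul, Finset.mul_sum]
    rw [Finset.sum_comm, Finset.sum_congr rfl (g := fun _ => (24 : ℤ)) fun p hp => ?_,
      Finset.sum_const, blk_card hG hb]
    · norm_num
    rw [Finset.sum_comm]
    simp only [ite_mul, one_mul, zero_mul, ← ite_and]
    rw [Finset.sum_congr rfl fun q hq => hcnt q hq p hp, ← Finset.add_sum_erase _ _ hp, if_pos rfl,
      Finset.sum_congr rfl (g := fun _ => (3 : ℤ)) fun q hq => if_neg (Finset.mem_erase.1 hq).1,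
      Finset.sum_const, card_erase_of_mem hp, blk_card hG hb]
    norm_num
  have h4 : ∑ c ∈ F, 2 * (if row G x c = row G x b then (1 : ℤ) else 0) = 8 := by
    rw [Finset.sum_congr rfl key]
    simp only [Finset.sum_sub_distrib, Finset.sum_add_distrib, ← Finset.mul_sum, h1, h2, h3,
      Finset.sum_const, Finset.sum_ite_eq', F, Finset.mem_filter, Finset.mem_univ, true_and, hb,
      if_true]
    rw [card_far hG]; norm_num
  rw [← Finset.mul_sum, Finset.sum_boole] at h4
  simp only [F, Finset.filter_filter] at h4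
  omega

/-- Every neighbour of `x` lies on exactly one block of each class. -/
theorem exists_at {b p : V} (hb : Far G x b) (hp : G.Adj x p) :
    ∃ c, Far G x c ∧ row G x c = row G x b ∧ p ∈ blk G x c := by
  classical
  let P := univ.filter fun c => Far G x c ∧ row G x c = row G x b
  have hP : ∀ {c}, c ∈ P ↔ Far G x c ∧ row G x c = row G x b := by intro c; simp [P]
  have hcard : (P.biUnion (blk G x)).card = 16 := by
    rw [Finset.card_biUnion fun c hc d hd hne => (row_disjoint hG (hP.1 hc).1 (hP.1 hd).1 hne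
        ((hP.1 hc).2.trans (hP.1 hd).2.symm)).1,
      Finset.sum_congr rfl fun c hc => blk_card hG (hP.1 hc).1, Finset.sum_const,
      show P.card = 4 from parallel_card hG hb]
    rfl
  have e : P.biUnion (blk G x) = G.neighborFinset x := by
    refine Finset.eq_of_subset_of_card_le (fun v hv => ?_) ?_
    · obtain ⟨c, -, h⟩ := mem_biUnion.1 hv
      simp [(mem_blk.1 h).1]
    · rw [hcard, SimpleGraph.card_neighborFinset_eq_degree, hG.regular x]
  have : p ∈ P.biUnion (blk G x) := by rw [e]; simp [hp]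
  obtain ⟨c, hc, h⟩ := mem_biUnion.1 this
  exact ⟨c, (hP.1 hc).1, (hP.1 hc).2, h⟩

theorem at_unique {b c p : V} (hb : Far G x b) (hc : Far G x c) (h : row G x b = row G x c)
    (h1 : p ∈ blk G x b) (h2 : p ∈ blk G x c) : b = c := by
  by_contra hne
  exact Finset.disjoint_left.1 (row_disjoint hG hb hc hne h).1 h1 h2

theorem two_le_of {b c p q : V} (hne : b ≠ c) (hb : Far G x b) (hc : Far G x c) (hpq : p ≠ q)
    (p1 : p ∈ blk G x b) (p2 : p ∈ blk G x c) (q1 : q ∈ blk G x b) (q2 : q ∈ blk G x c) :
    blk G x b ∩ blk G x c = {p, q} ∧ kap G x b c = -2 := by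
  have hsub : ({p, q} : Finset V) ⊆ blk G x b ∩ blk G x c := by
    intro v hv
    rcases Finset.mem_insert.1 hv with rfl | hv
    · exact mem_inter.2 ⟨p1, p2⟩
    · rw [Finset.mem_singleton.1 hv]; exact mem_inter.2 ⟨q1, q2⟩
  have h2 := inter_le hG hb hc hne
  have he := (Finset.eq_of_subset_of_card_le hsub (by rw [card_pair hpq]; exact h2)).symm
  refine ⟨he, ?_⟩
  have hA : ¬G.Adj b c := fun h => Finset.disjoint_left.1 (adj_disjoint hG h) p1 p2
  simp [kap, hne, ad, hA, he, card_pair hpq]

end CfsgLib.Golay.SRG77
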