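import Cfsg.Agent.Lib.Golay.SRG77

/-! Strongly regular graphs with parameters `(77, 16, 0, 4)`: the symplectic affine space on the
neighbourhood of a vertex, and uniqueness. -/

set_option autoImplicit false

namespace CfsgLib.Golay.SRG77

open Finset

variable {V : Type*} [Fintype V] [DecidableEq V] {G : SimpleGraph V} [DecidableRel G.Adj] {x : V}

/-- Two pairs of neighbours of `x` lie in parallel blocks. -/
def Sd (G : SimpleGraph V) [DecidableRel G.Adj] (x s t a c : V) : Prop :=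
  ∃ d e, Far G x d ∧ Far G x e ∧ row G x d = row G x e ∧
    s ∈ blk G x d ∧ t ∈ blk G x d ∧ a ∈ blk G x e ∧ c ∈ blk G x e

theorem sd_symm {s t a c : V} (h : Sd G x s t a c) : Sd G x a c s t := by
  obtain ⟨d, e, hd, he, h, h1, h2, h3, h4⟩ := h
  exact ⟨e, d, he, hd, h.symm, h3, h4, h1, h2⟩

theorem sd_swap {s t a c : V} (h : Sd G x s t a c) : Sd G x s t c a := by
  obtain ⟨d, e, hd, he, h, h1, h2, h3, h4⟩ := h
  exact ⟨d, e, hd, he, h, h1, h2, h4, h3⟩

/-- The third class on the line of two classes. -/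
def thr {α : Type*} (C D : α → ℤ) : α → ℤ := -(C + D)

theorem thr_thr {α : Type*} (C D : α → ℤ) : thr C (thr C D) = D := by simp [thr]

theorem thr_comm {α : Type*} (C D : α → ℤ) : thr C D = thr D C := by simp [thr, add_comm]

/-- Two classes meet. -/
def Mt (G : SimpleGraph V) [DecidableRel G.Adj] (x : V) (C D : {c // Far G x c} → ℤ) : Prop :=
  ∃ b d, Far G x b ∧ Far G x d ∧ row G x b = C ∧ row G x d = D ∧ kap G x b d = -2

/-- Two neighbours of `x` lie on a common block of the line of two classes. -/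
def Rel (G : SimpleGraph V) [DecidableRel G.Adj] (x : V) (C D : {c // Far G x c} → ℤ)
    (a c : V) : Prop :=
  ∃ g, Far G x g ∧ (row G x g = C ∨ row G x g = D ∨ row G x g = thr C D) ∧
    a ∈ blk G x g ∧ c ∈ blk G x g

theorem rel_swap {C D : {c // Far G x c} → ℤ} {a c : V} :
    Rel G x C D a c ↔ Rel G x D C a c := by
  unfold Rel
  simp only [thr_comm D C, or_left_comm]

theorem rel_thr {C D : {c // Far G x c} → ℤ} {a c : V} :
    Rel G x C D a c ↔ Rel G x C (thr C D) a c := by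
  unfold Rel
  simp only [thr_thr, or_comm (a := row G x _ = D)]

theorem rel_symm {C D : {c // Far G x c} → ℤ} {a c : V} (h : Rel G x C D a c) :
    Rel G x C D c a := by
  obtain ⟨g, hg, h, h1, h2⟩ := h
  exact ⟨g, hg, h, h2, h1⟩

theorem mt_symm {C D : {c // Far G x c} → ℤ} (h : Mt G x C D) : Mt G x D C := by
  obtain ⟨b, d, hb, hd, e1, e2, k⟩ := h
  exact ⟨d, b, hd, hb, e2, e1, by rwa [kap_comm]⟩

variable (hG : G.IsSRGWith 77 16 0 4)
include hG

theorem kap_congr {b b' d d' : V} (hb : Far G x b) (hb' : Far G x b') (hd' : Far G x d')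
    (e1 : row G x b = row G x b') (e2 : row G x d = row G x d') :
    kap G x b d' = kap G x b' d' ∧ kap G x b' d' = kap G x b' d := by
  refine ⟨congrFun e1 ⟨d', hd'⟩, ?_⟩
  rw [kap_comm x b' d', kap_comm x b' d]
  exact (congrFun e2 ⟨b', hb'⟩).symm

theorem mt_kap {C D : {c // Far G x c} → ℤ} (h : Mt G x C D) {b d : V} (hb : Far G x b)
    (hd : Far G x d) (e1 : row G x b = C) (e2 : row G x d = D) : kap G x b d = -2 := by
  obtain ⟨b₀, d₀, hb₀, hd₀, f1, f2, k⟩ := h
  obtain ⟨h1, h2⟩ := kap_congr hG hb hb₀ hd (e1.trans f1.symm) (f2.trans e2.symm)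
  rw [h1, h2, k]

theorem exists_block {a c : V} (ha : G.Adj x a) (hc : G.Adj x c) :
    ∃ d, Far G x d ∧ a ∈ blk G x d ∧ c ∈ blk G x d := by
  have h := pt_far hG ha hc
  have h0 : 0 < (univ.filter fun d => Far G x d ∧ a ∈ blk G x d ∧ c ∈ blk G x d).card := by
    rw [h]; split_ifs <;> norm_num
  obtain ⟨d, hd⟩ := Finset.card_pos.1 h0
  exact ⟨d, (mem_filter.1 hd).2⟩

theorem sd_diag {s t a : V} (hs : G.Adj x s) (ht : G.Adj x t) (ha : G.Adj x a) :
    Sd G x s t a a := by
  obtain ⟨d, hd, h1, h2⟩ := exists_block hG hs ht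
  obtain ⟨e, he, h3, h4⟩ := exists_at hG hd ha
  exact ⟨d, e, hd, he, h3.symm, h1, h2, h4, h4⟩

/-- The three blocks on a pair. -/
theorem pair_three {p q : V} (hp : G.Adj x p) (hq : G.Adj x q) (hpq : p ≠ q) {d : V}
    (hd : Far G x d) (pd : p ∈ blk G x d) (qd : q ∈ blk G x d) :
    ∃ e f, Far G x e ∧ Far G x f ∧ p ∈ blk G x e ∧ q ∈ blk G x e ∧ p ∈ blk G x f ∧ q ∈ blk G x f ∧
      kap G x d e = -2 ∧ row G x f = thr (row G x d) (row G x e) ∧
      ∀ g, Far G x g → p ∈ blk G x g → q ∈ blk G x g → g = d ∨ g = e ∨ g = f := by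
  have h := pt_far hG hp hq
  rw [if_neg hpq] at h
  have hmem : d ∈ univ.filter fun g => Far G x g ∧ p ∈ blk G x g ∧ q ∈ blk G x g :=
    mem_filter.2 ⟨mem_univ _, hd, pd, qd⟩
  have h2 := Finset.card_erase_of_mem hmem
  rw [h] at h2
  obtain ⟨e, f, hef, he⟩ := Finset.card_eq_two.1 h2
  have hm : ∀ g, g = e ∨ g = f → g ≠ d ∧ Far G x g ∧ p ∈ blk G x g ∧ q ∈ blk G x g := by
    intro g hg
    have : g ∈ ({e, f} : Finset V) := by simpa using hg
    rw [← he, mem_erase, mem_filter] at this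
    exact ⟨this.1, this.2.2⟩
  obtain ⟨ne, hfe, pe, qe⟩ := hm e (Or.inl rfl)
  obtain ⟨nf, hff, pf, qf⟩ := hm f (Or.inr rfl)
  have k1 := (two_le_of hG ne.symm hd hfe hpq pd pe qd qe).2
  have k2 := (two_le_of hG nf.symm hd hff hpq pd pf qd qf).2
  have k3 := (two_le_of hG hef hfe hff hpq pe pf qe qf).2
  refine ⟨e, f, hfe, hff, pe, qe, pf, qf, k1, ?_, fun g hg pg qg => ?_⟩
  · exact eq_neg_of_add_eq_zero_right (row_sum hG hd hfe hff k1 k2 k3)
  · by_cases hgd : g = d
    · exact Or.inl hgd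
    · right
      have : g ∈ ({e, f} : Finset V) := by
        rw [← he]; exact mem_erase.2 ⟨hgd, mem_filter.2 ⟨mem_univ _, hg, pg, qg⟩⟩
      simpa using this

theorem card_two {b d : V} (hb : Far G x b) (hd : Far G x d) (k : kap G x b d = -2)
    (hnd : ¬Disjoint (blk G x b) (blk G x d)) : (blk G x b ∩ blk G x d).card = 2 := by
  have hne : b ≠ d := fun e => by rw [e, kap_diag hG hd] at k; norm_num at k
  rcases kap_cases hG hb hd hne with ⟨-, h, -⟩ | ⟨-, ⟨h, -⟩ | ⟨-, e⟩ | ⟨h, -⟩⟩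
  · exact absurd h hnd
  · exact absurd h hnd
  · omega
  · exact h

theorem adj_of_disjoint {b d : V} (hb : Far G x b) (hd : Far G x d) (k : kap G x b d = -2)
    (h : Disjoint (blk G x b) (blk G x d)) : G.Adj b d := by
  have hne : b ≠ d := fun e => by rw [e, kap_diag hG hd] at k; norm_num at k
  rcases kap_cases hG hb hd hne with ⟨hA, -⟩ | ⟨-, ⟨-, e⟩ | ⟨-, e⟩ | ⟨e, -⟩⟩
  · exact hA
  · omega
  · omega
  · rw [Finset.disjoint_iff_inter_eq_empty.1 h] at e; simp at e

/-- The blocks of two meeting classes at a point, with the third one. -/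
theorem meet_three {b d a : V} (hb : Far G x b) (hd : Far G x d) (k : kap G x b d = -2)
    (ab : a ∈ blk G x b) (ad : a ∈ blk G x d) :
    ∃ q f, Far G x f ∧ row G x f = thr (row G x b) (row G x d) ∧ q ≠ a ∧
      blk G x b ∩ blk G x d = {a, q} ∧ blk G x b ∩ blk G x f = {a, q} ∧
      blk G x d ∩ blk G x f = {a, q} ∧ kap G x b f = -2 := by
  have hne : b ≠ d := fun e => by rw [e, kap_diag hG hd] at k; norm_num at k
  have h2 := card_two hG hb hd k (Finset.not_disjoint_iff.2 ⟨a, ab, ad⟩)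
  have ha : a ∈ blk G x b ∩ blk G x d := mem_inter.2 ⟨ab, ad⟩
  obtain ⟨q, hq⟩ := Finset.card_pos.1
    (show 0 < ((blk G x b ∩ blk G x d).erase a).card by rw [card_erase_of_mem ha, h2]; norm_num)
  obtain ⟨hqa, hq⟩ := mem_erase.1 hq
  obtain ⟨qb, qd⟩ := mem_inter.1 hq
  obtain ⟨e, f, he, hf, ae, qe, af, qf, -, hr, hall⟩ :=
    pair_three hG (mem_blk.1 ab).1 (mem_blk.1 qb).1 hqa.symm hb ab qb
  have hrs : row G x f = thr (row G x b) (row G x d) ∨ row G x e = thr (row G x b) (row G x d) := by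
    rcases hall d hd ad qd with h | h | h
    · exact absurd h.symm hne
    · exact Or.inl (h ▸ hr)
    · right; rw [h, hr, thr_thr]
  obtain ⟨g, hg, ag, qg, hgr⟩ : ∃ g, Far G x g ∧ a ∈ blk G x g ∧ q ∈ blk G x g ∧
      row G x g = thr (row G x b) (row G x d) := by
    rcases hrs with h | h
    · exact ⟨f, hf, af, qf, h⟩
    · exact ⟨e, he, ae, qe, h⟩
  have hrow := kap_congr hG hb hb hd rfl rfl
  have hgb : b ≠ g := fun e => by
    subst e
    have := congrFun hgr ⟨b, hb⟩
    simp only [thr, row, Pi.neg_apply, Pi.add_apply, kap_diag hG hb, kap_comm x d b, k] at this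
    omega
  have hgd : d ≠ g := fun e => by
    subst e
    have := congrFun hgr ⟨d, hd⟩
    simp only [thr, row, Pi.neg_apply, Pi.add_apply, kap_diag hG hd, k] at this
    omega
  exact ⟨q, g, hg, hgr, hqa, (two_le_of hG hne hb hd hqa.symm ab ad qb qd).1,
    (two_le_of hG hgb hb hg hqa.symm ab ag qb qg).1,
    (two_le_of hG hgd hd hg hqa.symm ad ag qd qg).1,
    (two_le_of hG hgb hb hg hqa.symm ab ag qb qg).2⟩

theorem mt_thr {C D : {c // Far G x c} → ℤ} (h : Mt G x C D) : Mt G x C (thr C D) := by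
  obtain ⟨b, d, hb, hd, e1, e2, k⟩ := h
  obtain ⟨a, ha⟩ := Finset.card_pos.1 (show 0 < (blk G x b).card by rw [blk_card hG hb]; norm_num)
  obtain ⟨d', hd', e2', ad⟩ := exists_at hG hd (mem_blk.1 ha).1
  have k' := mt_kap hG ⟨b, d, hb, hd, e1, e2, k⟩ hb hd' e1 (e2'.trans e2)
  obtain ⟨q, f, hf, hfr, -, -, -, -, kf⟩ := meet_three hG hb hd' k' ha ad
  exact ⟨b, f, hb, hf, e1, by rw [hfr, e1, e2'.trans e2], kf⟩

/-- The four blocks of a class seen from a meeting block. -/
theorem split_four {b : V} {D : {c // Far G x c} → ℤ} (hb : Far G x b)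
    (h : Mt G x (row G x b) D) {a : V} (ab : a ∈ blk G x b) :
    ∃ d d' d3 d4, Far G x d ∧ Far G x d' ∧ Far G x d3 ∧ Far G x d4 ∧
      row G x d = D ∧ row G x d' = D ∧ row G x d3 = D ∧ row G x d4 = D ∧ d3 ≠ d4 ∧ d ≠ d' ∧
      a ∈ blk G x d ∧ ¬Disjoint (blk G x b) (blk G x d') ∧
      blk G x b ⊆ blk G x d ∪ blk G x d' ∧
      Disjoint (blk G x b) (blk G x d3) ∧ Disjoint (blk G x b) (blk G x d4) ∧
      ∀ g, Far G x g → row G x g = D → g = d ∨ g = d' ∨ g = d3 ∨ g = d4 := by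
  obtain ⟨b₀, d₀, -, hd₀, -, r₀, -⟩ := id h
  obtain ⟨d, hd, rd, ad⟩ := exists_at hG hd₀ (mem_blk.1 ab).1
  rw [r₀] at rd
  have k := mt_kap hG h hb hd rfl rd
  have h2 := card_two hG hb hd k (Finset.not_disjoint_iff.2 ⟨a, ab, ad⟩)
  obtain ⟨a', ha'⟩ := Finset.card_pos.1 (show 0 < (blk G x b \ blk G x d).card by
    rw [Finset.card_sdiff, Finset.inter_comm, h2, blk_card hG hb]; norm_num)
  obtain ⟨a'b, a'd⟩ := mem_sdiff.1 ha'
  obtain ⟨d', hd', rd', a'd'⟩ := exists_at hG hd₀ (mem_blk.1 a'b).1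
  rw [r₀] at rd'
  have hne : d ≠ d' := fun e => a'd (e ▸ a'd')
  have hdis := (row_disjoint hG hd hd' hne (rd.trans rd'.symm)).1
  have hnd : ¬Disjoint (blk G x b) (blk G x d') := Finset.not_disjoint_iff.2 ⟨a', a'b, a'd'⟩
  have h2' := card_two hG hb hd' (mt_kap hG h hb hd' rfl rd') hnd
  have hcov : blk G x b ⊆ blk G x d ∪ blk G x d' := by
    have hu : ((blk G x b ∩ blk G x d) ∪ (blk G x b ∩ blk G x d')).card = 4 := by
      rw [card_union_of_disjoint (hdis.mono inter_subset_right inter_subset_right), h2, h2']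
    have := Finset.eq_of_subset_of_card_le (t := blk G x b)
      (union_subset inter_subset_left inter_subset_left) (by rw [hu, blk_card hG hb])
    rw [← this, ← Finset.inter_union_distrib_left]
    exact inter_subset_right
  have hP := parallel_card hG hd
  set P := univ.filter fun c => Far G x c ∧ row G x c = row G x d with hPdef
  have hm : ∀ {c}, c ∈ P ↔ Far G x c ∧ row G x c = D := by intro c; simp [hPdef, rd]
  have h34 : ((P.erase d).erase d').card = 2 := by
    rw [card_erase_of_mem (mem_erase.2 ⟨hne.symm, hm.2 ⟨hd', rd'⟩⟩),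
      card_erase_of_mem (hm.2 ⟨hd, rd⟩), hP]
  obtain ⟨d3, d4, h34', he⟩ := Finset.card_eq_two.1 h34
  have hmem : ∀ c, c = d3 ∨ c = d4 → c ≠ d' ∧ c ≠ d ∧ Far G x c ∧ row G x c = D := by
    intro c hc
    have : c ∈ ({d3, d4} : Finset V) := by simpa using hc
    rw [← he, mem_erase, mem_erase, hm] at this
    exact this
  have hdj : ∀ c, c = d3 ∨ c = d4 → Disjoint (blk G x b) (blk G x c) := by
    intro c hc
    obtain ⟨n', n, hcF, rc⟩ := hmem c hc
    have e1 := (row_disjoint hG hcF hd n (rc.trans rd.symm)).1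
    have e2 := (row_disjoint hG hcF hd' n' (rc.trans rd'.symm)).1
    exact (disjoint_union_left.2 ⟨e1.symm, e2.symm⟩).mono_left hcov
  refine ⟨d, d', d3, d4, hd, hd', (hmem d3 (Or.inl rfl)).2.2.1, (hmem d4 (Or.inr rfl)).2.2.1,
    rd, rd', (hmem d3 (Or.inl rfl)).2.2.2, (hmem d4 (Or.inr rfl)).2.2.2, h34', hne, ad, hnd, hcov,
    hdj d3 (Or.inl rfl), hdj d4 (Or.inr rfl), fun g hg rg => ?_⟩
  by_cases g1 : g = d
  · exact Or.inl g1
  by_cases g2 : g = d'
  · exact Or.inr (Or.inl g2)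
  have : g ∈ ({d3, d4} : Finset V) := by
    rw [← he]; exact mem_erase.2 ⟨g2, mem_erase.2 ⟨g1, hm.2 ⟨hg, rg⟩⟩⟩
  simp only [mem_insert, mem_singleton] at this
  tauto

/-- A block of the third class avoiding `b` lies in the blocks of the second class avoiding `b`. -/
theorem compat {b e g v : V} {D : {c // Far G x c} → ℤ} (hb : Far G x b) (he : Far G x e)
    (hg : Far G x g) (h : Mt G x (row G x b) D) (re : row G x e = thr (row G x b) D)
    (rg : row G x g = D) (ve : v ∈ blk G x e) (vg : v ∈ blk G x g)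
    (hdj : Disjoint (blk G x b) (blk G x e)) : Disjoint (blk G x b) (blk G x g) := by
  obtain ⟨a, ha⟩ := Finset.card_pos.1 (show 0 < (blk G x b).card by rw [blk_card hG hb]; norm_num)
  obtain ⟨d, d', d3, d4, hd, hd', h3, h4, rd, rd', r3, r4, ne34, -, -, -, -, j3, j4, -⟩ :=
    split_four hG hb h ha
  have hMt : Mt G x D (row G x e) := by
    rw [re, thr_comm]; exact mt_thr hG (mt_symm h)
  have kbe : kap G x b e = -2 := mt_kap hG (re ▸ mt_thr hG h) hb he rfl rfl
  have hcard : ∀ c, Far G x c → row G x c = D → Disjoint (blk G x b) (blk G x c) →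
      (blk G x e ∩ blk G x c).card = 2 := by
    intro c hc rc hjc
    have kce := mt_kap hG hMt hc he rc rfl
    refine card_two hG he hc (by rwa [kap_comm]) fun hj => ?_
    exact no_tri hG (adj_of_disjoint hG hb hc (mt_kap hG h hb hc rfl rc) hjc)
      (adj_of_disjoint hG hb he kbe hdj) (adj_of_disjoint hG hc he kce hj.symm)
  have hdis := (row_disjoint hG h3 h4 ne34 (r3.trans r4.symm)).1
  have hu : ((blk G x e ∩ blk G x d3) ∪ (blk G x e ∩ blk G x d4)).card = 4 := by
    rw [card_union_of_disjoint (hdis.mono inter_subset_right inter_subset_right),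
      hcard d3 h3 r3 j3, hcard d4 h4 r4 j4]
  have := Finset.eq_of_subset_of_card_le (t := blk G x e)
    (union_subset inter_subset_left inter_subset_left) (by rw [hu, blk_card hG he])
  rw [← this, mem_union] at ve
  rcases ve with ve | ve
  · rw [at_unique hG hg h3 (rg.trans r3.symm) vg (mem_inter.1 ve).2]; exact j3
  · rw [at_unique hG hg h4 (rg.trans r4.symm) vg (mem_inter.1 ve).2]; exact j4

/-- The side of a point on a line, read off from one class. -/
theorem rel_iff {C D : {c // Far G x c} → ℤ} (h : Mt G x C D) {b a v : V} (hb : Far G x b)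
    (rb : row G x b = C) (ab : a ∈ blk G x b) (hv : G.Adj x v) :
    Rel G x C D a v ↔
      ∃ g, Far G x g ∧ row G x g = D ∧ v ∈ blk G x g ∧ ¬Disjoint (blk G x b) (blk G x g) := by
  subst rb
  obtain ⟨d, d', d3, d4, hd, hd', h3, h4, rd, rd', r3, r4, -, hne, ad, hnd, hcov, j3, j4, hall⟩ :=
    split_four hG hb h ab
  constructor
  · rintro ⟨g, hg, rg, ag, vg⟩
    obtain ⟨g', hg', rg', vg'⟩ := exists_at hG hd hv
    rw [rd] at rg'
    refine ⟨g', hg', rg', vg', ?_⟩
    rcases rg with rg | rg | rg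
    · have e := at_unique hG hg hb rg ag ab
      subst e
      exact Finset.not_disjoint_iff.2 ⟨v, vg, vg'⟩
    · have e := at_unique hG hg hg' (rg.trans rg'.symm) vg vg'
      subst e
      exact Finset.not_disjoint_iff.2 ⟨a, ab, ag⟩
    · intro hj
      have h' : Mt G x (row G x b) (thr (row G x b) D) := mt_thr hG h
      have := compat hG hb hg' hg h' (by rw [rg', thr_thr]) rg vg' vg hj
      exact Finset.disjoint_left.1 this ab ag
  · rintro ⟨g, hg, rg, vg, hj⟩
    have k := mt_kap hG h hb hd rfl rd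
    obtain ⟨q, f, hf, rf, hqa, i1, i2, i3, kf⟩ := meet_three hG hb hd k ab ad
    have af : a ∈ blk G x f :=
      (mem_inter.1 (show a ∈ blk G x b ∩ blk G x f by rw [i2]; simp)).2
    rw [rd] at rf
    rcases hall g hg rg with e | e | e | e
    · exact ⟨d, hd, Or.inr (Or.inl rd), ad, e ▸ vg⟩
    · subst e
      by_cases hvb : v ∈ blk G x b
      · exact ⟨b, hb, Or.inl rfl, ab, hvb⟩
      refine ⟨f, hf, Or.inr (Or.inr rf), af, ?_⟩
      -- the two remaining points of `f` lie in `g`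
      have hdis := (row_disjoint hG hd hg hne (rd.trans rg.symm)).1
      have hsub : blk G x f \ {a, q} ⊆ blk G x g \ blk G x b := by
        intro w hw
        obtain ⟨wf, wn⟩ := mem_sdiff.1 hw
        have wb : w ∉ blk G x b := fun hwb => wn (i2 ▸ mem_inter.2 ⟨hwb, wf⟩)
        have wd : w ∉ blk G x d := fun hwd => wn (i3 ▸ mem_inter.2 ⟨hwd, wf⟩)
        obtain ⟨w', hw', rw', ww'⟩ := exists_at hG hd (mem_blk.1 wf).1
        rw [rd] at rw'
        have hmeet : ¬Disjoint (blk G x b) (blk G x w') := fun hj' => by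
          have := compat hG hb hw' hf (mt_thr hG h) (by rw [rw', thr_thr]) rf ww' wf hj'
          exact Finset.disjoint_left.1 this ab af
        refine mem_sdiff.2 ⟨?_, wb⟩
        rcases hall w' hw' rw' with e | e | e | e <;> subst e
        · exact absurd ww' wd
        · exact ww'
        · exact absurd j3 hmeet
        · exact absurd j4 hmeet
      have heq : blk G x f \ {a, q} = blk G x g \ blk G x b := by
        refine Finset.eq_of_subset_of_card_le hsub ?_
        have hsubq : ({a, q} : Finset V) ⊆ blk G x f := by rw [← i2]; exact inter_subset_right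
        rw [Finset.card_sdiff, Finset.card_sdiff_of_subset hsubq, blk_card hG hf, card_pair hqa.symm,
          card_two hG hb hg (mt_kap hG h hb hg rfl rg) hj, blk_card hG hg]
      have : v ∈ blk G x f \ {a, q} := heq ▸ mem_sdiff.2 ⟨vg, hvb⟩
      exact (mem_sdiff.1 this).1
    · subst e; exact absurd j3 hj
    · subst e; exact absurd j4 hj

theorem rel_class_C {C D : {c // Far G x c} → ℤ} (h : Mt G x C D) {b a c v : V}
    (hb : Far G x b) (rb : row G x b = C) (ab : a ∈ blk G x b) (cb : c ∈ blk G x b)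
    (hv : G.Adj x v) : Rel G x C D a v ↔ Rel G x C D c v := by
  rw [rel_iff hG h hb rb ab hv, rel_iff hG h hb rb cb hv]

theorem rel_trans {C D : {c // Far G x c} → ℤ} (h : Mt G x C D) {a c v : V}
    (hv : G.Adj x v) (hac : Rel G x C D a c) : Rel G x C D a v ↔ Rel G x C D c v := by
  obtain ⟨g, hg, rg, ag, cg⟩ := hac
  rcases rg with rg | rg | rg
  · exact rel_class_C hG h hg rg ag cg hv
  · rw [rel_swap, rel_swap (C := C)]
    exact rel_class_C hG (mt_symm h) hg rg ag cg hv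
  · rw [rel_thr, rel_swap, rel_thr (C := C), rel_swap (C := C)]
    exact rel_class_C hG (mt_symm (mt_thr hG h)) hg rg ag cg hv

theorem rel_two {C D : {c // Far G x c} → ℤ} (h : Mt G x C D) {a c v : V}
    (ha : G.Adj x a) (hc : G.Adj x c) (hv : G.Adj x v) (n1 : ¬Rel G x C D a c)
    (n2 : ¬Rel G x C D a v) : Rel G x C D c v := by
  obtain ⟨b₀, d₀, hb₀, hd₀, rb₀, -, -⟩ := id h
  obtain ⟨b, hb, rb, ab⟩ := exists_at hG hb₀ ha
  obtain ⟨g, hg, rg, cg⟩ := exists_at hG hb₀ hc
  rw [rb₀] at rb rg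
  obtain ⟨d, d', d3, d4, hd, hd', h3, h4, rd, rd', r3, r4, ne34, hne, ad, hnd, hcov, j3, j4,
    hall⟩ := split_four hG hb (rb.symm ▸ h) ab
  have hout : ∀ {w}, G.Adj x w → ¬Rel G x C D a w → ∀ {k}, Far G x k → row G x k = D →
      w ∈ blk G x k → k = d3 ∨ k = d4 := by
    intro w hw hn k hk rk wk
    rcases hall k hk rk with e | e | e | e
    · exact absurd ((rel_iff hG h hb rb ab hw).2 ⟨k, hk, rk, wk,
        e ▸ Finset.not_disjoint_iff.2 ⟨a, ab, ad⟩⟩) hn
    · exact absurd ((rel_iff hG h hb rb ab hw).2 ⟨k, hk, rk, wk, e ▸ hnd⟩) hn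
    · exact Or.inl e
    · exact Or.inr e
  have hgmem : ∀ w ∈ blk G x g, ∃ k, Far G x k ∧ row G x k = D ∧ w ∈ blk G x k ∧
      (k = d3 ∨ k = d4) := by
    intro w hw
    have hwN := (mem_blk.1 hw).1
    obtain ⟨k, hk, rk, wk⟩ := exists_at hG hd hwN
    rw [rd] at rk
    refine ⟨k, hk, rk, wk, hout hwN (fun hr => n1 ?_) hk rk wk⟩
    exact (rel_trans hG h hc hr).2 ⟨g, hg, Or.inl rg, hw, cg⟩
  obtain ⟨k, hk, rk, vk⟩ := exists_at hG hd hv
  rw [rd] at rk
  refine (rel_iff hG h hg rg cg hv).2 ⟨k, hk, rk, vk, fun hj => ?_⟩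
  have hsub : ∀ k', (k' = d3 ∨ k' = d4) → k' ≠ k → blk G x g ⊆ blk G x k' := by
    intro k' hk' hne' w hw
    obtain ⟨j, -, -, wj, hj'⟩ := hgmem w hw
    have hjk : j ≠ k := fun e => Finset.disjoint_left.1 hj hw (e ▸ wj)
    have hk34 := hout hv n2 hk rk vk
    have : j = k' := by
      rcases hj' with e | e <;> rcases hk' with e' | e' <;> rcases hk34 with e'' | e'' <;>
        subst_vars <;> first | rfl | contradiction
    exact this ▸ wj
  have hone : ∀ k', Far G x k' → row G x k' = D → ¬blk G x g ⊆ blk G x k' := by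
    intro k' hk' rk' hs
    have := card_two hG hg hk' (mt_kap hG h hg hk' rg rk')
      (Finset.not_disjoint_iff.2 ⟨c, cg, hs cg⟩)
    rw [Finset.inter_eq_left.2 hs, blk_card hG hg] at this
    omega
  by_cases e : d3 = k
  · exact hone d4 h4 r4 (hsub d4 (Or.inr rfl) (e ▸ ne34.symm))
  · exact hone d3 h3 r3 (hsub d3 (Or.inl rfl) e)

theorem rel_ne_all {C D : {c // Far G x c} → ℤ} (h : Mt G x C D) {a : V} (ha : G.Adj x a) :
    ∃ v, G.Adj x v ∧ ¬Rel G x C D a v := by
  obtain ⟨b₀, -, hb₀, -, rb₀, -, -⟩ := id h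
  obtain ⟨b, hb, rb, ab⟩ := exists_at hG hb₀ ha
  rw [rb₀] at rb
  obtain ⟨d, d', d3, d4, hd, hd', h3, h4, rd, rd', r3, r4, -, -, -, -, -, j3, -, -⟩ :=
    split_four hG hb (rb.symm ▸ h) ab
  obtain ⟨v, hv⟩ := Finset.card_pos.1
    (show 0 < (blk G x d3).card by rw [blk_card hG h3]; norm_num)
  refine ⟨v, (mem_blk.1 hv).1, fun hr => ?_⟩
  obtain ⟨g, hg, rg, vg, hj⟩ := (rel_iff hG h hb rb ab (mem_blk.1 hv).1).1 hr
  exact hj (at_unique hG hg h3 (rg.trans r3.symm) vg hv ▸ j3)

theorem sd_rel {s t : V} (hs : G.Adj x s) (ht : G.Adj x t) (hst : s ≠ t) :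
    ∃ C D, Mt G x C D ∧ ∀ a c, Sd G x s t a c ↔ Rel G x C D a c := by
  obtain ⟨d, hd, sd, td⟩ := exists_block hG hs ht
  obtain ⟨e, f, he, hf, se, te, sf, tf, k, rf, hall⟩ := pair_three hG hs ht hst hd sd td
  refine ⟨row G x d, row G x e, ⟨d, e, hd, he, rfl, rfl, k⟩, fun a c => ⟨?_, ?_⟩⟩
  · rintro ⟨g, g', hg, hg', r, sg, tg, ag, cg⟩
    refine ⟨g', hg', ?_, ag, cg⟩
    rcases hall g hg sg tg with e | e | e <;> subst e
    · exact Or.inl r.symm
    · exact Or.inr (Or.inl r.symm)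
    · exact Or.inr (Or.inr (r.symm.trans rf))
  · rintro ⟨g', hg', r | r | r, ag, cg⟩
    · exact ⟨d, g', hd, hg', r.symm, sd, td, ag, cg⟩
    · exact ⟨e, g', he, hg', r.symm, se, te, ag, cg⟩
    · exact ⟨f, g', hf, hg', rf.trans r.symm, sf, tf, ag, cg⟩

/-- Every pair is parallel to a pair through a given point. -/
theorem exists_move {p q a : V} (hp : G.Adj x p) (hq : G.Adj x q) (hpq : p ≠ q)
    (ha : G.Adj x a) : ∃ r, G.Adj x r ∧ r ≠ a ∧ ∀ s t, Sd G x s t p q ↔ Sd G x s t a r := by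
  obtain ⟨d, hd, pd, qd⟩ := exists_block hG hp hq
  obtain ⟨e, f, he, hf, pe, qe, pf, qf, k, rf, hall⟩ := pair_three hG hp hq hpq hd pd qd
  obtain ⟨d', hd', rd', ad⟩ := exists_at hG hd ha
  obtain ⟨e', he', re', ae⟩ := exists_at hG he ha
  have k' : kap G x d' e' = -2 := mt_kap hG ⟨d, e, hd, he, rfl, rfl, k⟩ hd' he' rd' re'
  obtain ⟨r, f', hf', rf', hra, i1, i2, i3, -⟩ := meet_three hG hd' he' k' ad ae
  have rd := (mem_inter.1 (show r ∈ blk G x d' ∩ blk G x e' by rw [i1]; simp))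
  have rff := (mem_inter.1 (show r ∈ blk G x d' ∩ blk G x f' by rw [i2]; simp)).2
  have af : a ∈ blk G x f' :=
    (mem_inter.1 (show a ∈ blk G x d' ∩ blk G x f' by rw [i2]; simp)).2
  have rff' : row G x f' = row G x f := by rw [rf', rf, rd', re']
  refine ⟨r, (mem_blk.1 rd.1).1, hra, fun s t => ⟨?_, ?_⟩⟩
  · rintro ⟨g, g', hg, hg', er, sg, tg, pg, qg⟩
    rcases hall g' hg' pg qg with e1 | e1 | e1 <;> subst e1
    · exact ⟨g, d', hg, hd', er.trans rd'.symm, sg, tg, ad, rd.1⟩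
    · exact ⟨g, e', hg, he', er.trans re'.symm, sg, tg, ae, rd.2⟩
    · exact ⟨g, f', hg, hf', er.trans rff'.symm, sg, tg, af, rff⟩
  · rintro ⟨g, g', hg, hg', er, sg, tg, ag, rg⟩
    have hne : d' ≠ e' := fun e1 => by rw [e1, kap_diag hG he'] at k'; norm_num at k'
    have hneq : row G x d' ≠ row G x f' := fun e1 => by
      have := at_unique hG hd' hf' e1 ad af
      subst this
      rw [Finset.inter_self] at i2
      have := blk_card hG hd'
      rw [i2, card_pair hra.symm] at this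
      omega
    have hne2 : e' ≠ f' := fun e1 => by
      subst e1
      rw [Finset.inter_self] at i3
      have := blk_card hG he'
      rw [i3, card_pair hra.symm] at this
      omega
    have h3 := pt_far hG ha (mem_blk.1 rd.1).1
    rw [if_neg hra.symm] at h3
    have hset : (univ.filter fun c => Far G x c ∧ a ∈ blk G x c ∧ r ∈ blk G x c) = {d', e', f'} := by
      refine (Finset.eq_of_subset_of_card_le ?_ ?_).symm
      · intro c hc
        simp only [mem_insert, mem_singleton] at hc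
        refine mem_filter.2 ⟨mem_univ _, ?_⟩
        rcases hc with e1 | e1 | e1 <;> subst e1
        · exact ⟨hd', ad, rd.1⟩
        · exact ⟨he', ae, rd.2⟩
        · exact ⟨hf', af, rff⟩
      · rw [h3, Finset.card_eq_three.2 ⟨d', e', f', hne, fun e1 => hneq (e1 ▸ rfl), hne2, rfl⟩]
    have hmem : g' ∈ ({d', e', f'} : Finset V) := by
      rw [← hset]; exact mem_filter.2 ⟨mem_univ _, hg', ag, rg⟩
    simp only [mem_insert, mem_singleton] at hmem
    rcases hmem with e1 | e1 | e1 <;> subst e1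
    · exact ⟨g, d, hg, hd, er.trans rd', sg, tg, pd, qd⟩
    · exact ⟨g, e, hg, he, er.trans re', sg, tg, pe, qe⟩
    · exact ⟨g, f, hg, hf, er.trans rff', sg, tg, pf, qf⟩

omit hG

/-- Separation of a pair by a pair. -/
noncomputable def sep (G : SimpleGraph V) [DecidableRel G.Adj] (x s t a c : V) : ZMod 2 :=
  open Classical in if Sd G x s t a c then 0 else 1

theorem sep_eq_zero {s t a c : V} : sep G x s t a c = 0 ↔ Sd G x s t a c := by
  unfold sep
  split_ifs with h <;> simp [h]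

theorem sep_symm (s t a c : V) : sep G x s t a c = sep G x a c s t := by
  classical
  unfold sep
  simp only [show Sd G x s t a c ↔ Sd G x a c s t from ⟨sd_symm, sd_symm⟩]

theorem sep_swap (s t a c : V) : sep G x s t a c = sep G x s t c a := by
  classical
  unfold sep
  simp only [show Sd G x s t a c ↔ Sd G x s t c a from ⟨sd_swap, sd_swap⟩]

include hG

theorem sep_add {s t a c e : V} (hs : G.Adj x s) (ht : G.Adj x t) (ha : G.Adj x a)
    (hc : G.Adj x c) (he : G.Adj x e) :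
    sep G x s t a c + sep G x s t c e = sep G x s t a e := by
  classical
  by_cases hst : s = t
  · subst hst
    have h : ∀ u w, G.Adj x u → G.Adj x w → sep G x s s u w = 0 := fun u w hu hw => by
      rw [sep_symm, sep_eq_zero]
      exact sd_diag hG hu hw hs
    rw [h _ _ ha hc, h _ _ hc he, h _ _ ha he, add_zero]
  obtain ⟨C, D, hM, h⟩ := sd_rel hG hs ht hst
  simp only [sep, h]
  by_cases h1 : Rel G x C D a c <;> by_cases h2 : Rel G x C D c e
  · rw [if_pos h1, if_pos h2, if_pos ((rel_trans hG hM he h1).2 h2)]; rfl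
  · rw [if_pos h1, if_neg h2, if_neg fun h3 => h2 ((rel_trans hG hM he h1).1 h3)]; rfl
  · rw [if_neg h1, if_pos h2,
      if_neg fun h3 => h1 (rel_symm ((rel_trans hG hM ha (rel_symm h2)).1 (rel_symm h3)))]
    rfl
  · have h3 : Rel G x C D a e :=
      rel_two hG hM hc ha he (fun k => h1 (rel_symm k)) h2
    rw [if_neg h1, if_neg h2, if_pos h3]; rfl

/-- Symplectic coordinates on the neighbourhood. -/
theorem exists_coords : ∃ ψ : V → Fin 4 → ZMod 2,
    (∀ p q, G.Adj x p → G.Adj x q → ψ p = ψ q → p = q) ∧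
    (∀ y, ∃ p, G.Adj x p ∧ ψ p = y) ∧
    ∀ s t a c, G.Adj x s → G.Adj x t → G.Adj x a → G.Adj x c →
      sep G x s t a c = (fun u v : Fin 4 → ZMod 2 => u 0 * v 1 + u 1 * v 0 + u 2 * v 3 + u 3 * v 2)
        (ψ s + ψ t) (ψ a + ψ c) := by
  classical
  obtain ⟨p0, hp0⟩ : ∃ p, G.Adj x p := by
    obtain ⟨p, hp⟩ := Finset.card_pos.1 (show 0 < (G.neighborFinset x).card by
      rw [SimpleGraph.card_neighborFinset_eq_degree, hG.regular x]; norm_num)
    exact ⟨p, by simpa using hp⟩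
  let B : V → V → ZMod 2 := fun m r => sep G x p0 m p0 r
  have Bsymm : ∀ m r, B m r = B r m := fun m r => sep_symm _ _ _ _
  have Bself : ∀ m, G.Adj x m → B m m = 0 := fun m hm => by
    obtain ⟨d, hd, h1, h2⟩ := exists_block hG hp0 hm
    exact sep_eq_zero.2 ⟨d, d, hd, hd, rfl, h1, h2, h1, h2⟩
  have Bzero : ∀ m, G.Adj x m → B m p0 = 0 := fun m hm => sep_eq_zero.2 (sd_diag hG hp0 hm hp0)
  have plus : ∀ p q, G.Adj x p → G.Adj x q → ∃ r, G.Adj x r ∧ (p ≠ q → r ≠ p0) ∧
      ∀ m, G.Adj x m → B m r = B m p + B m q := by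
    intro p q hp hq
    by_cases hpq : p = q
    · subst hpq
      exact ⟨p0, hp0, fun h => absurd rfl h, fun m hm => by rw [Bzero m hm, CharTwo.add_self_eq_zero]⟩
    obtain ⟨r, hr, hne, h⟩ := exists_move hG hp hq hpq hp0
    refine ⟨r, hr, fun _ => hne, fun m hm => ?_⟩
    show sep G x p0 m p0 r = _
    have e : sep G x p0 m p0 r = sep G x p0 m p q := by unfold sep; simp only [h p0 m]
    rw [e, ← sep_add hG hp0 hm hp hp0 hq, sep_swap _ _ p p0]
  have nondeg : ∀ p, G.Adj x p → p ≠ p0 → ∃ m, G.Adj x m ∧ B p m = 1 := by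
    intro p hp hne
    obtain ⟨C, D, hM, h⟩ := sd_rel hG hp0 hp (Ne.symm hne)
    obtain ⟨v, hv, hn⟩ := rel_ne_all hG hM hp0
    exact ⟨v, hv, if_neg fun hs => hn ((h p0 v).1 hs)⟩
  have inj : ∀ p q, G.Adj x p → G.Adj x q → (∀ m, G.Adj x m → B m p = B m q) → p = q := by
    intro p q hp hq h
    by_contra hpq
    obtain ⟨r, hr, hne, hm⟩ := plus p q hp hq
    obtain ⟨m, hmN, h1⟩ := nondeg r hr (hne hpq)
    rw [Bsymm, hm m hmN, h m hmN, CharTwo.add_self_eq_zero] at h1
    exact zero_ne_one h1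
  have comb : ∀ p q, G.Adj x p → G.Adj x q → ∀ k l : ZMod 2,
      ∃ r, G.Adj x r ∧ ∀ m, G.Adj x m → B m r = k * B m p + l * B m q := by
    intro p q hp hq k l
    have hk : ∀ a : ZMod 2, a = 0 ∨ a = 1 := by decide
    rcases hk k with rfl | rfl <;> rcases hk l with rfl | rfl
    · exact ⟨p0, hp0, fun m hm => by simp [Bzero m hm]⟩
    · exact ⟨q, hq, fun m _ => by simp⟩
    · exact ⟨p, hp, fun m _ => by simp⟩
    · obtain ⟨r, hr, -, h⟩ := plus p q hp hq
      exact ⟨r, hr, fun m hm => by simp [h m hm]⟩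
  obtain ⟨a, haN, hane⟩ : ∃ a, G.Adj x a ∧ a ≠ p0 := by
    obtain ⟨a, ha⟩ := Finset.card_pos.1 (show 0 < ((G.neighborFinset x).erase p0).card by
      rw [card_erase_of_mem (by simpa using hp0), SimpleGraph.card_neighborFinset_eq_degree,
        hG.regular x]; norm_num)
    exact ⟨a, by simpa using (mem_erase.1 ha).2, (mem_erase.1 ha).1⟩
  obtain ⟨b, hbN, hab⟩ := nondeg a haN hane
  obtain ⟨u, huN, w, hwN, huw, heq⟩ : ∃ u ∈ G.neighborFinset x, ∃ w ∈ G.neighborFinset x,
      u ≠ w ∧ (fun v => (B a v, B b v)) u = (fun v => (B a v, B b v)) w := by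
    refine Finset.exists_ne_map_eq_of_card_lt_of_maps_to (t := univ) ?_ fun v _ => by simp
    rw [SimpleGraph.card_neighborFinset_eq_degree, hG.regular x]
    decide
  rw [SimpleGraph.mem_neighborFinset] at huN hwN
  simp only [Prod.mk.injEq] at heq
  obtain ⟨c, hcN, hcne, hcm⟩ := plus u w huN hwN
  have hac : B a c = 0 := by rw [hcm a haN, heq.1, CharTwo.add_self_eq_zero]
  have hbc : B b c = 0 := by rw [hcm b hbN, heq.2, CharTwo.add_self_eq_zero]
  obtain ⟨m, hmN, hcm1⟩ := nondeg c hcN (hcne huw)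
  obtain ⟨k, hkN, hk⟩ := comb a b haN hbN (B b m) (B a m)
  obtain ⟨d, hdN, -, hd⟩ := plus m k hmN hkN
  have had : B a d = 0 := by
    rw [hd a haN, hk a haN, Bself a haN, hab, mul_zero, zero_add, mul_one, CharTwo.add_self_eq_zero]
  have hbd : B b d = 0 := by
    rw [hd b hbN, hk b hbN, Bself b hbN, Bsymm b a, hab, mul_zero, add_zero, mul_one,
      CharTwo.add_self_eq_zero]
  have hcd : B c d = 1 := by
    rw [hd c hcN, hk c hcN, Bsymm c a, hac, Bsymm c b, hbc, mul_zero, mul_zero, add_zero, add_zero,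
      hcm1]
  let ψ : V → Fin 4 → ZMod 2 := fun v => ![B b v, B a v, B d v, B c v]
  have surj : ∀ y : Fin 4 → ZMod 2, ∃ p, G.Adj x p ∧ ψ p = y ∧
      ∀ m, G.Adj x m → B m p = y 0 * B m a + y 1 * B m b + (y 2 * B m c + y 3 * B m d) := by
    intro y
    obtain ⟨r1, hr1, h1⟩ := comb a b haN hbN (y 0) (y 1)
    obtain ⟨r2, hr2, h2⟩ := comb c d hcN hdN (y 2) (y 3)
    obtain ⟨r, hr, -, h⟩ := plus r1 r2 hr1 hr2
    have hm : ∀ m, G.Adj x m → B m r = y 0 * B m a + y 1 * B m b + (y 2 * B m c + y 3 * B m d) :=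
      fun m hm => by rw [h m hm, h1 m hm, h2 m hm]
    refine ⟨r, hr, ?_, hm⟩
    funext i
    fin_cases i <;>
      simp [ψ, hm _ haN, hm _ hbN, hm _ hcN, hm _ hdN, Bself _ haN, Bself _ hbN, Bself _ hcN,
        Bself _ hdN, hab, Bsymm b a, Bsymm c a, Bsymm d a, Bsymm c b, Bsymm d b, Bsymm d c, hac,
        hbc, had, hbd, hcd]
  choose P hPN hPψ hPB using surj
  have hbij : Function.Bijective fun y : Fin 4 → ZMod 2 => (⟨P y, hPN y⟩ : {p // G.Adj x p}) := by
    rw [Fintype.bijective_iff_injective_and_card]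
    refine ⟨fun y y' h => ?_, ?_⟩
    · rw [← hPψ y, ← hPψ y', show P y = P y' from congrArg Subtype.val h]
    · have e : Fintype.card {p // G.Adj x p} = 16 := by
        rw [← hG.regular x, ← SimpleGraph.card_neighborFinset_eq_degree, ← Fintype.card_coe]
        exact Fintype.card_congr (Equiv.subtypeEquivRight fun v => by simp)
      rw [e]; simp
  have hB : ∀ m p, G.Adj x m → G.Adj x p → B m p =
      ψ p 0 * ψ m 1 + ψ p 1 * ψ m 0 + ψ p 2 * ψ m 3 + ψ p 3 * ψ m 2 := by
    intro m p hm hp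
    obtain ⟨y, hy⟩ := hbij.2 ⟨p, hp⟩
    have e : P y = p := congrArg Subtype.val hy
    subst e
    rw [hPB y m hm, hPψ, Bsymm m a, Bsymm m b, Bsymm m c, Bsymm m d]
    simp [ψ]; ring
  refine ⟨ψ, fun p q hp hq h => inj p q hp hq fun m hm => by rw [hB m p hm hp, hB m q hm hq, h],
    fun y => ⟨P y, hPN y, hPψ y⟩, fun s t a' c' hs ht ha' hc' => ?_⟩
  have hpair : ∀ u, G.Adj x u → sep G x s t p0 u = B u s + B u t := by
    intro u hu
    rw [sep_symm, ← sep_add hG hp0 hu hs hp0 ht, sep_swap _ _ s p0]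
  rw [← sep_add hG hs ht ha' hp0 hc', sep_swap _ _ a' p0, hpair a' ha', hpair c' hc',
    hB a' s ha' hs, hB a' t ha' ht, hB c' s hc' hs, hB c' t hc' ht]
  simp only [Pi.add_apply]
  ring

theorem triple_block {a b c : V} (h : Sd G x a b a c) :
    ∃ d, Far G x d ∧ a ∈ blk G x d ∧ b ∈ blk G x d ∧ c ∈ blk G x d := by
  obtain ⟨d, e, hd, he, r, ad, bd, ae, ce⟩ := h
  exact ⟨d, hd, ad, bd, at_unique hG hd he r ad ae ▸ ce⟩

/-- A four-set all of whose triples lie on blocks is a block. -/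
theorem exists_blk_eq {S : Finset V} (hcard : S.card = 4)
    (h : ∀ a ∈ S, ∀ b ∈ S, ∀ c ∈ S, Sd G x a b a c) : ∃ d, Far G x d ∧ blk G x d = S := by
  obtain ⟨f1, f2, f3, f4, h12, h13, h14, h23, h24, h34, rfl⟩ := Finset.card_eq_four.1 hcard
  obtain ⟨d, hd, d1, d2, d3⟩ :=
    triple_block hG (h f1 (by simp) f2 (by simp) f3 (by simp))
  obtain ⟨e, he, e1, e2, e4⟩ :=
    triple_block hG (h f1 (by simp) f2 (by simp) f4 (by simp))
  obtain ⟨g, hg, g1, g3, g4⟩ :=
    triple_block hG (h f1 (by simp) f3 (by simp) f4 (by simp))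
  by_cases hde : d = e
  · subst hde
    refine ⟨d, hd, (Finset.eq_of_subset_of_card_le ?_ (by rw [hcard, blk_card hG hd])).symm⟩
    intro v hv
    simp only [mem_insert, mem_singleton] at hv
    rcases hv with rfl | rfl | rfl | rfl <;> assumption
  exfalso
  have ide := (two_le_of hG hde hd he h12 d1 e1 d2 e2).1
  have hdg : d ≠ g := fun e' => by
    have : f4 ∈ blk G x d ∩ blk G x e := mem_inter.2 ⟨e' ▸ g4, e4⟩
    rw [ide] at this; simp [h14.symm, h24.symm] at this
  have heg : e ≠ g := fun e' => by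
    have : f3 ∈ blk G x d ∩ blk G x e := mem_inter.2 ⟨d3, e' ▸ g3⟩
    rw [ide] at this; simp [h13.symm, h23.symm] at this
  have idg := two_le_of hG hdg hd hg h13 d1 g1 d3 g3
  have ieg := two_le_of hG heg he hg h14 e1 g1 e4 g4
  have kde := (two_le_of hG hde hd he h12 d1 e1 d2 e2).2
  obtain ⟨q, f, hf, rf, -, i1, i2, -, -⟩ := meet_three hG hd he kde d1 e1
  have hrg : row G x g = row G x f := by
    rw [rf]; exact eq_neg_of_add_eq_zero_right (row_sum hG hd he hg kde idg.2 ieg.2)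
  have f1f : f1 ∈ blk G x f :=
    (mem_inter.1 (show f1 ∈ blk G x d ∩ blk G x f by rw [i2]; simp)).2
  have e' := at_unique hG hg hf hrg g1 f1f
  subst e'
  have h2g : f2 ∈ blk G x d ∩ blk G x g := by rw [i2, ← i1, ide]; simp
  rw [idg.1] at h2g
  simp [h12.symm, h23] at h2g

/-- Parallelism in terms of pairs. -/
theorem parallel_iff {b c : V} (hb : Far G x b) (hc : Far G x c)
    (hd : Disjoint (blk G x b) (blk G x c)) :
    (¬G.Adj b c) ↔ ∀ a ∈ blk G x b, ∀ a' ∈ blk G x b, ∀ u ∈ blk G x c, ∀ u' ∈ blk G x c,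
      Sd G x a a' u u' := by
  have hne : b ≠ c := fun e => by
    subst e
    have := blk_card hG hb
    rw [disjoint_self] at hd
    rw [hd] at this; simp at this
  rcases kap_cases hG hb hc hne with ⟨hA, -, k⟩ | ⟨hA, ⟨-, k⟩ | ⟨e, -⟩ | ⟨e, -⟩⟩
  · simp only [hA, not_true, false_iff]
    intro h
    -- choose pairs off the line of the two classes
    have pick : ∀ {b c : V}, Far G x b → Far G x c → kap G x b c = -2 →
        ∃ a ∈ blk G x b, ∃ a' ∈ blk G x b, a ≠ a' ∧
          ∀ g, Far G x g → row G x g = thr (row G x b) (row G x c) → a ∈ blk G x g →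
            a' ∉ blk G x g := by
      intro b c hb hc k
      obtain ⟨a, ha⟩ := Finset.card_pos.1
        (show 0 < (blk G x b).card by rw [blk_card hG hb]; norm_num)
      obtain ⟨c', hc', rc', ac⟩ := exists_at hG hc (mem_blk.1 ha).1
      obtain ⟨q, f, hf, rf, hqa, -, i2, -, -⟩ :=
        meet_three hG hb hc' (mt_kap hG ⟨b, c, hb, hc, rfl, rfl, k⟩ hb hc' rfl rc') ha ac
      have af : a ∈ blk G x f :=
        (mem_inter.1 (show a ∈ blk G x b ∩ blk G x f by rw [i2]; simp)).2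
      obtain ⟨a', ha'⟩ := Finset.card_pos.1 (show 0 < (blk G x b \ {a, q}).card by
        have : ({a, q} : Finset V) ⊆ blk G x b := by rw [← i2]; exact inter_subset_left
        rw [card_sdiff_of_subset this, blk_card hG hb, card_pair hqa.symm]; norm_num)
      obtain ⟨a'b, a'n⟩ := mem_sdiff.1 ha'
      refine ⟨a, ha, a', a'b, fun e => a'n (by simp [e]), fun g hg rg ag a'g => ?_⟩
      have e := at_unique hG hg hf (by rw [rg, rf, rc']) ag af
      subst e
      exact a'n (i2 ▸ mem_inter.2 ⟨a'b, a'g⟩)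
    obtain ⟨a, ha, a', ha', naa, hT⟩ := pick hb hc k
    obtain ⟨u, hu, u', hu', nuu, hT'⟩ := pick hc hb (by rwa [kap_comm])
    obtain ⟨d, e, hdF, heF, r, ad, a'd, ue, u'e⟩ := h a ha a' ha' u hu u' hu'
    have key : ∀ {b c d : V}, Far G x b → Far G x c → Far G x d → row G x d = row G x c → ∀ {a a' : V},
        a ≠ a' → a ∈ blk G x b → a' ∈ blk G x b → a ∈ blk G x d → a' ∈ blk G x d → d ≠ b →
        ∃ g, Far G x g ∧ row G x g = thr (row G x b) (row G x c) ∧ a ∈ blk G x g ∧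
          a' ∈ blk G x g := by
      intro b c d hb hc hd rd a a' naa ab a'b ad a'd hne
      have k' := two_le_of hG hne.symm hb hd naa ab ad a'b a'd
      obtain ⟨q, f, hf, rf, -, i1, i2, -, -⟩ := meet_three hG hb hd k'.2 ab ad
      have h2 : a' ∈ blk G x b ∩ blk G x f := by rw [i2, ← i1, k'.1]; simp
      have h1 : a ∈ blk G x b ∩ blk G x f := by rw [i2]; simp
      exact ⟨f, hf, by rw [rf, rd], (mem_inter.1 h1).2, (mem_inter.1 h2).2⟩
    by_cases hdb : d = b
    · subst hdb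
      have hec : e ≠ c := fun e' => by
        rw [e'] at r
        have := (row_eq_iff hG hdF hc).1 r
        omega
      obtain ⟨g, hg, rg, ug, u'g⟩ := key hc hb heF r.symm nuu hu hu' ue u'e hec
      exact hT' g hg rg ug u'g
    by_cases hec : e = c
    · rw [hec] at r
      obtain ⟨g, hg, rg, ag, a'g⟩ := key hb hc hdF r naa ha ha' ad a'd hdb
      exact hT g hg rg ag a'g
    have k1 := (two_le_of hG hdb hdF hb naa ad ha a'd ha').2
    have k2 := (two_le_of hG hec heF hc nuu ue hu u'e hu').2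
    have k3 : kap G x c d = -2 := by
      have := congrFun r ⟨c, hc⟩
      rw [kap_comm]; exact this.trans k2
    refine hT d hdF ?_ ad a'd
    exact eq_neg_of_add_eq_zero_right (row_sum hG hb hc hdF k (by rwa [kap_comm]) k3)
  · simp only [hA, not_false_iff, true_iff]
    intro a ha a' ha' u hu u' hu'
    exact ⟨b, c, hb, hc, row_eq hG hb hc k, ha, ha', hu, hu'⟩
  · rw [Finset.disjoint_iff_inter_eq_empty.1 hd] at e; simp at e
  · rw [Finset.disjoint_iff_inter_eq_empty.1 hd] at e; simp at e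

end CfsgLib.Golay.SRG77
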