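import Cfsg.Agent.Lib.Golay.SRG77Geom

/-! The strongly regular graph with parameters `(77, 16, 0, 4)` is unique. -/

set_option autoImplicit false

namespace CfsgLib.Golay.SRG77

open Finset

variable {V W : Type*} [Fintype V] [DecidableEq V] {G : SimpleGraph V} [DecidableRel G.Adj]
  [Fintype W] [DecidableEq W] {H : SimpleGraph W} [DecidableRel H.Adj]

/-- A correspondence of the neighbourhoods respecting parallelism of pairs. -/
theorem exists_nbr_map (hG : G.IsSRGWith 77 16 0 4) (hH : H.IsSRGWith 77 16 0 4) (x : V) (y : W) :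
    ∃ φ : V → W, (∀ p, G.Adj x p → H.Adj y (φ p)) ∧
      (∀ p q, G.Adj x p → G.Adj x q → φ p = φ q → p = q) ∧
      ∀ s t a c, G.Adj x s → G.Adj x t → G.Adj x a → G.Adj x c →
        (Sd G x s t a c ↔ Sd H y (φ s) (φ t) (φ a) (φ c)) := by
  obtain ⟨ψ, injψ, -, sψ⟩ := exists_coords hG (x := x)
  obtain ⟨χ, -, surjχ, sχ⟩ := exists_coords hH (x := y)
  choose Q hQN hQ using surjχ
  refine ⟨fun p => Q (ψ p), fun p _ => hQN _, fun p q hp hq h => injψ p q hp hq ?_,
    fun s t a c hs ht ha hc => ?_⟩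
  · rw [← hQ (ψ p), ← hQ (ψ q)]; exact congrArg χ h
  · rw [← sep_eq_zero, ← sep_eq_zero, sψ s t a c hs ht ha hc,
      sχ _ _ _ _ (hQN _) (hQN _) (hQN _) (hQN _)]
    simp only [hQ]

theorem srg77_iso (hG : G.IsSRGWith 77 16 0 4) (hH : H.IsSRGWith 77 16 0 4) :
    Nonempty (G ≃g H) := by
  classical
  obtain ⟨x⟩ : Nonempty V := Fintype.card_pos_iff.1 (by rw [hG.card]; norm_num)
  obtain ⟨y⟩ : Nonempty W := Fintype.card_pos_iff.1 (by rw [hH.card]; norm_num)
  obtain ⟨φ, hN, hinj, hSd⟩ := exists_nbr_map hG hH x y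
  have himg : ∀ b, Far G x b → ∃ c, Far H y c ∧ blk H y c = (blk G x b).image φ := by
    intro b hb
    refine exists_blk_eq hH ?_ ?_
    · rw [card_image_of_injOn fun p hp q hq h => hinj p q (mem_blk.1 (Finset.mem_coe.1 hp)).1
        (mem_blk.1 (Finset.mem_coe.1 hq)).1 h, blk_card hG hb]
    · intro a' ha' b'' hb'' c' hc'
      obtain ⟨a, ha, rfl⟩ := mem_image.1 ha'
      obtain ⟨b', hb', rfl⟩ := mem_image.1 hb''
      obtain ⟨c, hc, rfl⟩ := mem_image.1 hc'
      exact (hSd _ _ _ _ (mem_blk.1 ha).1 (mem_blk.1 hb').1 (mem_blk.1 ha).1 (mem_blk.1 hc).1).1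
        ⟨b, b, hb, hb, rfl, ha, hb', ha, hc⟩
  choose F hF hFb using himg
  let f : V → W := fun v => if h : Far G x v then F v h else if v = x then y else φ v
  have fx : f x = y := by simp [f, Far]
  have fp : ∀ p, G.Adj x p → f p = φ p := fun p hp => by
    simp [f, Far, hp, hp.ne']
  have fb : ∀ b (hb : Far G x b), f b = F b hb := fun b hb => by simp [f, hb]
  have hcase : ∀ v, v = x ∨ G.Adj x v ∨ Far G x v := fun v => by
    unfold Far; tauto
  have hFinj : ∀ b c (hb : Far G x b) (hc : Far G x c), F b hb = F c hc → b = c := by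
    intro b c hb hc h
    refine blk_inj hG hb hc (Finset.Subset.antisymm ?_ ?_)
    all_goals
      intro p hp
      have hmem : φ p ∈ (blk G x _).image φ := mem_image_of_mem φ hp
      first
        | (rw [← hFb b hb, h, hFb c hc, mem_image] at hmem)
        | (rw [← hFb c hc, ← h, hFb b hb, mem_image] at hmem)
      obtain ⟨q, hq, e⟩ := hmem
      rwa [hinj p q (mem_blk.1 hp).1 (mem_blk.1 hq).1 e.symm]
  have finj : Function.Injective f := by
    intro u v h
    rcases hcase u with hu | hu | hu <;> rcases hcase v with hv | hv | hv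
    · rw [hu, hv]
    · subst hu; rw [fx, fp v hv] at h; exact absurd (h ▸ hN v hv) (H.loopless.irrefl y)
    · subst hu; rw [fx, fb v hv] at h; exact absurd h.symm (hF v hv).1
    · subst hv; rw [fx, fp u hu] at h; exact absurd (h.symm ▸ hN u hu) (H.loopless.irrefl y)
    · rw [fp u hu, fp v hv] at h; exact hinj u v hu hv h
    · rw [fp u hu, fb v hv] at h; exact absurd (h ▸ hN u hu) (hF v hv).2
    · subst hv; rw [fx, fb u hu] at h; exact absurd h (hF u hu).1
    · rw [fb u hu, fp v hv] at h; exact absurd (h.symm ▸ hN v hv) (hF u hu).2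
    · rw [fb u hu, fb v hv] at h; exact hFinj u v hu hv h
  have hpb : ∀ p b, G.Adj x p → Far G x b → (H.Adj (f p) (f b) ↔ G.Adj p b) := by
    intro p b hp hb
    rw [fp p hp, fb b hb]
    constructor
    · intro h
      have : φ p ∈ blk H y (F b hb) := mem_blk.2 ⟨hN p hp, h.symm⟩
      rw [hFb, mem_image] at this
      obtain ⟨q, hq, e⟩ := this
      rw [hinj p q hp (mem_blk.1 hq).1 e.symm]
      exact (mem_blk.1 hq).2.symm
    · intro h
      have : φ p ∈ blk H y (F b hb) := by
        rw [hFb]; exact mem_image_of_mem _ (mem_blk.2 ⟨hp, h.symm⟩)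
      exact (mem_blk.1 this).2.symm
  have hbb : ∀ b c, Far G x b → Far G x c → (H.Adj (f b) (f c) ↔ G.Adj b c) := by
    intro b c hb hc
    rw [fb b hb, fb c hc]
    by_cases hd : Disjoint (blk G x b) (blk G x c)
    · have hd' : Disjoint (blk H y (F b hb)) (blk H y (F c hc)) := by
        rw [hFb, hFb, Finset.disjoint_left]
        rintro _ hp hq
        obtain ⟨p, hp', rfl⟩ := mem_image.1 hp
        obtain ⟨q, hq', e⟩ := mem_image.1 hq
        exact Finset.disjoint_left.1 hd hp'
          (hinj q p (mem_blk.1 hq').1 (mem_blk.1 hp').1 e ▸ hq')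
      have h1 := parallel_iff hG hb hc hd
      have h2 := parallel_iff hH (hF b hb) (hF c hc) hd'
      rw [← not_iff_not, h1, h2, hFb, hFb]
      simp only [Finset.forall_mem_image]
      constructor
      · intro h a ha a' ha' u hu u' hu'
        exact (hSd _ _ _ _ (mem_blk.1 ha).1 (mem_blk.1 ha').1 (mem_blk.1 hu).1
          (mem_blk.1 hu').1).2 (h ha ha' hu hu')
      · intro h a ha a' ha' u hu u' hu'
        exact (hSd _ _ _ _ (mem_blk.1 ha).1 (mem_blk.1 ha').1 (mem_blk.1 hu).1
          (mem_blk.1 hu').1).1 (h a ha a' ha' u hu u' hu')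
    · obtain ⟨p, hp, hq⟩ := Finset.not_disjoint_iff.1 hd
      refine iff_of_false (fun h => ?_) fun h => Finset.disjoint_left.1 (adj_disjoint hG h) hp hq
      have e1 : φ p ∈ blk H y (F b hb) := by rw [hFb]; exact mem_image_of_mem _ hp
      have e2 : φ p ∈ blk H y (F c hc) := by rw [hFb]; exact mem_image_of_mem _ hq
      exact Finset.disjoint_left.1 (adj_disjoint hH h) e1 e2
  have hadj : ∀ u v, H.Adj (f u) (f v) ↔ G.Adj u v := by
    intro u v
    rcases hcase u with hu | hu | hu <;> rcases hcase v with hv | hv | hv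
    · subst hu; subst hv; simp
    · subst hu; rw [fx, fp v hv]; exact iff_of_true (hN v hv) hv
    · subst hu; rw [fx, fb v hv]; exact iff_of_false (hF v hv).2 hv.2
    · subst hv; rw [fx, fp u hu]; exact iff_of_true (hN u hu).symm hu.symm
    · rw [fp u hu, fp v hv]
      exact iff_of_false (no_tri hH (hN u hu) (hN v hv)) (no_tri hG hu hv)
    · exact hpb u v hu hv
    · subst hv; rw [fx, fb u hu]
      exact iff_of_false (fun h => (hF u hu).2 h.symm) fun h => hu.2 h.symm
    · rw [H.adj_comm, G.adj_comm]; exact hpb v u hv hu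
    · exact hbb u v hu hv
  exact ⟨⟨Equiv.ofBijective f ((Fintype.bijective_iff_injective_and_card f).2
    ⟨finj, by rw [hG.card, hH.card]⟩), fun {u v} => hadj u v⟩⟩

end CfsgLib.Golay.SRG77
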