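import Cfsg.Agent.Lib.Golay.SelfOrbitData
import Cfsg.Agent.Lib.Golay.Maximal
import Cfsg.Agent.Lib.Golay.CosetLeaders
import Cfsg.Agent.Lib.Mathieu.StabOrbits

/-! Orbits of sextet stabilisers on sextets and of trio stabilisers on trios; maximality. -/

set_option autoImplicit false
set_option maxRecDepth 100000
set_option maxHeartbeats 1000000

namespace CfsgLib.Golay

open Cfsg CfsgLib.Mathieu
open scoped Pointwise

/-- Maximality of a stabiliser from a decomposition into suborbits of distinct lengths. -/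
theorem isCoatom_of_suborbits {G β : Type*} [Group G] [MulAction G β] [Finite G] {A : Set β}
    (hA : A.Finite) {x : β} (hsub : ∀ g : G, g • x ∈ A) (htrans : ∀ y ∈ A, ∃ g : G, g • x = y)
    {r : ℕ} (rep : Fin (r + 1) → β) (h0 : rep 0 = x) (n : Fin (r + 1) → ℕ)
    (hn : ∀ i, rep i ∈ A ∧ (MulAction.orbit (MulAction.stabilizer G x) (rep i)).ncard = n i)
    (hcov : ∀ y ∈ A, ∃ i, y ∈ MulAction.orbit (MulAction.stabilizer G x) (rep i))
    (hinj : Function.Injective n) (hr : 1 < A.ncard)
    (hdiv : ∀ T : Finset (Fin (r + 1)), 0 ∈ T → T ≠ {0} → T ≠ Finset.univ →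
      ¬ (∑ i ∈ T, n i) ∣ A.ncard) :
    IsCoatom (MulAction.stabilizer G x) := by
  classical
  let H := MulAction.stabilizer G x
  let f : β → Fin (r + 1) := fun y =>
    if h : ∃ i, y ∈ MulAction.orbit H (rep i) then h.choose else 0
  have huniq : ∀ {y : β} {i : Fin (r + 1)}, y ∈ MulAction.orbit H (rep i) → f y = i := by
    intro y i hy
    have h : ∃ i, y ∈ MulAction.orbit H (rep i) := ⟨i, hy⟩
    simp only [f, dif_pos h]
    apply hinj
    rw [← (hn h.choose).2, ← (hn i).2]
    congr 1
    exact (MulAction.orbit_eq_iff.2 h.choose_spec).symm.trans (MulAction.orbit_eq_iff.2 hy)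
  have hmem : ∀ y ∈ A, ∀ i, f y = i ↔ y ∈ MulAction.orbit H (rep i) := by
    intro y hy i
    refine ⟨?_, huniq⟩
    rintro rfl
    obtain ⟨j, hj⟩ := hcov y hy
    rw [huniq hj]; exact hj
  have hinA : ∀ i, ∀ y ∈ MulAction.orbit H (rep i), y ∈ A := by
    rintro i _ ⟨k, rfl⟩
    obtain ⟨g, hg⟩ := htrans _ (hn i).1
    have e : k • rep i = ((k : G) * g) • x := by
      rw [Subgroup.smul_def, mul_smul, hg]
    show k • rep i ∈ A
    rw [e]; exact hsub _
  refine isCoatom_stabilizer_of_classes hA hsub htrans f (fun y hy => ?_) (fun y hy z hz h => ?_)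
    n (fun i => ?_) hr hdiv
  · rw [hmem y hy, h0]
    constructor
    · rintro ⟨⟨k, hk⟩, rfl⟩; exact hk
    · rintro rfl; exact MulAction.mem_orbit_self _
  · obtain ⟨a, ha⟩ := (hmem y hy _).1 h
    obtain ⟨b, hb⟩ := (hmem z hz _).1 rfl
    refine ⟨(b * a⁻¹ : H), ((b * a⁻¹ : H)).2, ?_⟩
    show (b * a⁻¹ : H) • y = z
    rw [← ha]
    show (b * a⁻¹) • a • rep _ = z
    rw [mul_smul, inv_smul_smul]; exact hb
  · rw [← (hn i).2]
    congr 1
    ext y
    exact ⟨fun h => (hmem y h.1 i).1 h.2, fun h => ⟨hinA i y h, huniq h⟩⟩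

/-- The standard sextet, as masks. -/
def sextMasks : List ℕ := [8388615, 147496, 268544, 1082880, 2621632, 4268048]

/-- The standard trio, as masks. -/
def trioMasks : List ℕ := [1302533, 6295992, 9178690]

theorem sS_ok : orbCertB sextList sextMasks sTGens sSReps sSCert [1, 90, 240, 1440] = true := by
  decide +kernel

theorem tT_ok : orbCertB (trioLit.map trioList) trioMasks tSGens tTReps tTCert
    [1, 42, 56, 1008, 2688] = true := by decide +kernel

theorem sextet_std (S : Finset (Finset GolayPt)) (hS : S ∈ sextets) :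
    ∃ c : M24, c • sextSet sextMasks = S :=
  sextet_move ((by
    obtain ⟨h1, -⟩ := orbit_facts sextets_listing sS_ok
    have := (h1 0 (by decide)).1
    rwa [show sextSet (sSReps.getD 0 []) = sextSet sextMasks from
      sameB_spec (by decide +kernel)] at this)) hS

theorem sextet_orbits {S : Finset (Finset GolayPt)} (hS : S ∈ sextets) :
    ∃ X₁ ∈ sextets, ∃ X₂ ∈ sextets, ∃ X₃ ∈ sextets,
      (MulAction.orbit ↥(MulAction.stabilizer M24 S) X₁).ncard = 90 ∧
      (MulAction.orbit ↥(MulAction.stabilizer M24 S) X₂).ncard = 240 ∧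
      (MulAction.orbit ↥(MulAction.stabilizer M24 S) X₃).ncard = 1440 ∧
      sextets = {S} ∪ MulAction.orbit ↥(MulAction.stabilizer M24 S) X₁ ∪
        MulAction.orbit ↥(MulAction.stabilizer M24 S) X₂ ∪
        MulAction.orbit ↥(MulAction.stabilizer M24 S) X₃ ∧
      IsCoatom (MulAction.stabilizer M24 S) := by
  obtain ⟨c, hc⟩ := sextet_std S hS
  obtain ⟨h1, h2⟩ := orbits_transport sextets_listing sS_ok c hc
  set x := fun i => c • sextSet (sSReps.getD i []) with hx
  have hlen : sSReps.length = 4 := by decide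
  rw [hlen] at h1 h2
  have e0 : x 0 = S := by
    rw [← hc, hx]; exact congrArg (c • ·) (sameB_spec (by decide +kernel))
  have hself : MulAction.orbit ↥(MulAction.stabilizer M24 S) S = {S} := by
    ext y
    exact ⟨fun ⟨g, hg⟩ => hg ▸ g.2, fun h => h ▸ MulAction.mem_orbit_self _⟩
  have hcov : ∀ X ∈ sextets, ∃ i : Fin 4, X ∈ MulAction.orbit ↥(MulAction.stabilizer M24 S)
      (x i.val) := fun X hX => by
    rw [h2] at hX
    obtain ⟨i, hi, hX⟩ := hX
    exact ⟨⟨i, hi⟩, hX⟩
  refine ⟨x 1, (h1 1 (by norm_num)).1, x 2, (h1 2 (by norm_num)).1, x 3, (h1 3 (by norm_num)).1,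
    (h1 1 (by norm_num)).2, (h1 2 (by norm_num)).2, (h1 3 (by norm_num)).2, ?_, ?_⟩
  · ext X
    simp only [Set.mem_union, ← hself]
    constructor
    · intro hX
      obtain ⟨⟨k, hk⟩, hi⟩ := hcov X hX
      interval_cases k
      · refine Or.inl (Or.inl (Or.inl ?_))
        have hi0 : X ∈ MulAction.orbit _ (x 0) := hi
        rwa [e0] at hi0
      · exact Or.inl (Or.inl (Or.inr hi))
      · exact Or.inl (Or.inr hi)
      · exact Or.inr hi
    · intro h
      have key : ∀ i < 4, X ∈ MulAction.orbit ↥(MulAction.stabilizer M24 S) (x i) → X ∈ sextets := by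
        intro i hi hX
        rw [h2]
        exact ⟨i, hi, hX⟩
      rcases h with ((h | h) | h) | h
      · rw [hself, Set.mem_singleton_iff] at h
        subst h; exact hS
      · exact key 1 (by norm_num) h
      · exact key 2 (by norm_num) h
      · exact key 3 (by norm_num) h
  · refine isCoatom_of_suborbits (A := sextets) (Set.toFinite _) (fun g => smul_sextet g.2 hS)
      (fun y hy => sextet_move hS hy) (fun i : Fin 4 => x i.val) e0 ![1, 90, 240, 1440]
      (fun i => ⟨(h1 i.val i.2).1, ?_⟩) hcov (by decide) ?_ ?_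
    · rw [(h1 i.val i.2).2]; fin_cases i <;> rfl
    · rw [sextets_ncard]; norm_num
    · rw [sextets_ncard]; decide +kernel

theorem trio_std (T : Finset (Finset GolayPt)) (hT : T ∈ trios) :
    ∃ c : M24, c • sextSet trioMasks = T := trio_move hT

theorem trio_orbits {T : Finset (Finset GolayPt)} (hT : T ∈ trios) :
    ∃ X₁ ∈ trios, ∃ X₂ ∈ trios, ∃ X₃ ∈ trios, ∃ X₄ ∈ trios,
      (MulAction.orbit ↥(MulAction.stabilizer M24 T) X₁).ncard = 42 ∧
      (MulAction.orbit ↥(MulAction.stabilizer M24 T) X₂).ncard = 56 ∧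
      (MulAction.orbit ↥(MulAction.stabilizer M24 T) X₃).ncard = 1008 ∧
      (MulAction.orbit ↥(MulAction.stabilizer M24 T) X₄).ncard = 2688 ∧
      trios = {T} ∪ MulAction.orbit ↥(MulAction.stabilizer M24 T) X₁ ∪
        MulAction.orbit ↥(MulAction.stabilizer M24 T) X₂ ∪
        MulAction.orbit ↥(MulAction.stabilizer M24 T) X₃ ∪
        MulAction.orbit ↥(MulAction.stabilizer M24 T) X₄ ∧
      IsCoatom (MulAction.stabilizer M24 T) := by
  obtain ⟨c, hc⟩ := trio_std T hT
  obtain ⟨h1, h2⟩ := orbits_transport trios_listing tT_ok c hc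
  set x := fun i => c • sextSet (tTReps.getD i []) with hx
  have hlen : tTReps.length = 5 := by decide
  rw [hlen] at h1 h2
  have e0 : x 0 = T := by
    rw [← hc, hx]; exact congrArg (c • ·) (sameB_spec (by decide +kernel))
  have hself : MulAction.orbit ↥(MulAction.stabilizer M24 T) T = {T} := by
    ext y
    exact ⟨fun ⟨g, hg⟩ => hg ▸ g.2, fun h => h ▸ MulAction.mem_orbit_self _⟩
  have hcov : ∀ X ∈ trios, ∃ i : Fin 5, X ∈ MulAction.orbit ↥(MulAction.stabilizer M24 T)
      (x i.val) := fun X hX => by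
    rw [h2] at hX
    obtain ⟨i, hi, hX⟩ := hX
    exact ⟨⟨i, hi⟩, hX⟩
  refine ⟨x 1, (h1 1 (by norm_num)).1, x 2, (h1 2 (by norm_num)).1, x 3, (h1 3 (by norm_num)).1,
    x 4, (h1 4 (by norm_num)).1, (h1 1 (by norm_num)).2, (h1 2 (by norm_num)).2,
    (h1 3 (by norm_num)).2, (h1 4 (by norm_num)).2, ?_, ?_⟩
  · ext X
    simp only [Set.mem_union, ← hself]
    constructor
    · intro hX
      obtain ⟨⟨k, hk⟩, hi⟩ := hcov X hX
      interval_cases k
      · refine Or.inl (Or.inl (Or.inl (Or.inl ?_)))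
        have hi0 : X ∈ MulAction.orbit _ (x 0) := hi
        rwa [e0] at hi0
      · exact Or.inl (Or.inl (Or.inl (Or.inr hi)))
      · exact Or.inl (Or.inl (Or.inr hi))
      · exact Or.inl (Or.inr hi)
      · exact Or.inr hi
    · intro h
      have key : ∀ i < 5, X ∈ MulAction.orbit ↥(MulAction.stabilizer M24 T) (x i) → X ∈ trios := by
        intro i hi hX
        rw [h2]
        exact ⟨i, hi, hX⟩
      rcases h with (((h | h) | h) | h) | h
      · rw [hself, Set.mem_singleton_iff] at h
        subst h; exact hT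
      · exact key 1 (by norm_num) h
      · exact key 2 (by norm_num) h
      · exact key 3 (by norm_num) h
      · exact key 4 (by norm_num) h
  · refine isCoatom_of_suborbits (A := trios) (Set.toFinite _) (fun g => smul_trio g.2 hT)
      (fun y hy => ?_) (fun i : Fin 5 => x i.val) e0 ![1, 42, 56, 1008, 2688]
      (fun i => ⟨(h1 i.val i.2).1, ?_⟩) hcov (by decide) ?_ ?_
    · obtain ⟨d, hd⟩ := trio_std y hy
      exact ⟨d * c⁻¹, by rw [mul_smul, ← hc, inv_smul_smul, hd]⟩
    · rw [(h1 i.val i.2).2]; fin_cases i <;> rfl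
    · rw [trios_ncard]; norm_num
    · rw [trios_ncard]; decide +kernel

end CfsgLib.Golay
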