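import Cfsg.Agent.Lib.Golay.StabU35Data
import Cfsg.Agent.Lib.Golay.SuborbitCoA
import Cfsg.Agent.Lib.ClassK.UThreeFiveMain

/-!
The stabiliser of the standard pair on 352 minimal vectors and the identification of a point stabiliser
with `PSU(3, 5)`.
-/

set_option autoImplicit false
set_option maxRecDepth 100000

namespace CfsgLib.Golay.OrbitTree

open Cfsg CfsgLib.Golay CfsgLib.Classical
open scoped Pointwise

/-- A packed lattice vector. -/
def rootV35 (n : ℕ) (h : inLat (decV n) = true) : leechLattice := ⟨decV n, inLat_mem h⟩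

theorem rootV_coe35 (n : ℕ) (h : inLat (decV n) = true) : (rootV35 n h : GolayPt → ℤ) = decV n := rfl

/-- The 352 vectors of the standard pair. -/
def hs352 : Set leechLattice :=
  {y | sqNorm (y : GolayPt → ℤ) = 32 ∧ dotInt (fiveV : GolayPt → ℤ) y = 16 ∧
    dotInt (whs : GolayPt → ℤ) y = -24}

theorem dot_whs_eq (y : GolayPt → ℤ) :
    dotInt (whs : GolayPt → ℤ) y = -(dotInt (fiveV : GolayPt → ℤ) y + dotInt (xhs : GolayPt → ℤ) y) := by
  simp [dotInt, whs, Finset.sum_add_distrib, add_mul]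

theorem dot_neg_right (u y : GolayPt → ℤ) : dotInt u (-y) = -dotInt u y := by
  simp [dotInt]

theorem hs352_finite : hs352.Finite := shell_finite _

theorem hs352_count :
    (∑ t ∈ Finset.Icc (-5 : ℤ) 3, markCase [(23, t), (0, t + 2)] 8 (16 - 4 * t)) = 352 := by
  decide +kernel

theorem mem_hs352 {y : leechLattice} : y ∈ hs352 ↔ sqNorm (y : GolayPt → ℤ) = 32 ∧
    (y : GolayPt → ℤ) pz = (y : GolayPt → ℤ) pinf + 2 ∧
    ∑ i, (y : GolayPt → ℤ) i = 16 - 4 * (y : GolayPt → ℤ) pinf := by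
  have hx : dotInt (xhs : GolayPt → ℤ) y = -4 * (y : GolayPt → ℤ) pinf + 4 * (y : GolayPt → ℤ) pz := by
    rw [dotInt_comm, show (xhs : GolayPt → ℤ) = Pi.single pinf (-4) + Pi.single pz 4 from rfl, dotInt_pair]
  simp only [hs352, Set.mem_setOf_eq, dot_whs_eq, dot_five, hx]
  constructor
  · rintro ⟨a, b, c⟩
    exact ⟨a, by omega, by omega⟩
  · rintro ⟨a, b, c⟩
    exact ⟨a, by omega, by omega⟩

theorem ncard_hs352 : hs352.ncard = 352 := by
  classical
  rw [Set.ncard_eq_toFinset_card _ hs352_finite,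
    Finset.card_eq_sum_card_fiberwise (f := fun y : leechLattice => (y : GolayPt → ℤ) pinf)
      (t := Finset.Icc (-5) 3) (fun y hy => by
        rw [Finset.mem_coe, Set.Finite.mem_toFinset, mem_hs352] at hy
        show (y : GolayPt → ℤ) pinf ∈ Finset.Icc (-5 : ℤ) 3
        have h1 := abs_entry_le (B := 5) (by norm_num) (by norm_num) hy.1 pinf
        have h2 := abs_entry_le (B := 5) (by norm_num) (by norm_num) hy.1 pz
        have := hy.2.1
        exact Finset.mem_Icc.2 ⟨h1.1, by omega⟩)]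
  refine (Finset.sum_congr rfl fun t ht => ?_).trans hs352_count
  rw [Finset.mem_Icc] at ht
  rw [← ncard_two t (t + 2) (Finset.mem_Icc.2 ⟨ht.1, by omega⟩)
    (Finset.mem_Icc.2 ⟨by omega, by omega⟩) (by omega) 8 (by norm_num), ← Set.ncard_coe_finset,
    ← ncard_subtype_leech fun y => sqNorm y = 4 * ((8 : ℕ) : ℤ) ∧ y pinf = t ∧
      y (pt 0) = t + 2 ∧ ∑ i, y i = 16 - 4 * t]
  congr 1
  ext y
  simp only [Finset.coe_filter, Set.Finite.mem_toFinset, Set.mem_setOf_eq, mem_hs352]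
  constructor
  · rintro ⟨⟨a, b, c⟩, d⟩
    exact ⟨by rw [a]; norm_num, d, show (y : GolayPt → ℤ) pz = t + 2 by omega, by omega⟩
  · rintro ⟨a, b, c, d⟩
    have c' : (y : GolayPt → ℤ) pz = t + 2 := c
    exact ⟨⟨by rw [a]; norm_num, by omega, by omega⟩, b⟩

/-- The pair stabiliser on the 352 points. -/
def coH35 : Subgroup Co0 := hsGroup

theorem coH35_perm (σ : M24) (h1 : σ • pinf = pinf) (h2 : σ • pz = pz) :
    monoCo0 σ σ.2 ∅ empty_code ∈ coH35 :=
  mem_hsGroup.2 ⟨(perm_fix_hs h1 h2).1, (perm_fix_hs h1 h2).2.1⟩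

theorem matHS_fix35 : matFun matHS (fiveV : GolayPt → ℤ) = (fiveV : GolayPt → ℤ) ∧
    matFun matHS (xhs : GolayPt → ℤ) = (xhs : GolayPt → ℤ) := by decide +kernel

theorem coH35_orbit_le {R : leechLattice} (hR : R ∈ hs352) (h : Co0) (hh : h ∈ coH35) : h • R ∈ hs352 := by
  obtain ⟨h0, h1, h2⟩ := hR
  obtain ⟨g1, g2⟩ := hh
  refine ⟨(co0_sq h R).trans h0, ?_, ?_⟩
  · show dotInt (fiveV : GolayPt → ℤ) (h • R : leechLattice) = 16
    rw [← MulAction.mem_stabilizer_iff.1 g1, co0_dot]; exact h1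
  · show dotInt (whs : GolayPt → ℤ) (h • R : leechLattice) = -24
    rw [← MulAction.mem_stabilizer_iff.1 g2, co0_dot]; exact h2

/-- The negated root of the certificate. -/
def root35 : leechLattice := -rootV35 coARoot (by decide +kernel)

theorem root35_mem : root35 ∈ hs352 := by
  show sqNorm (root35 : GolayPt → ℤ) = 32 ∧ dotInt (fiveV : GolayPt → ℤ) root35 = 16 ∧
    dotInt (whs : GolayPt → ℤ) root35 = -24
  decide +kernel

theorem root35_orbit : MulAction.orbit coH35 root35 = hs352 := by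
  have hsub : MulAction.orbit coH35 root35 ⊆ hs352 := by
    rintro _ ⟨⟨h, hh⟩, rfl⟩
    exact coH35_orbit_le root35_mem h hh
  refine Set.eq_of_subset_of_ncard_le hsub ?_ hs352_finite
  rw [ncard_hs352]
  let R : leechLattice := rootV35 coARoot (by decide +kernel)
  have himg : MulAction.orbit coH35 root35 = (fun y : leechLattice => -y) '' MulAction.orbit coH35 R := by
    ext y
    constructor
    · rintro ⟨⟨h, hh⟩, rfl⟩
      exact ⟨h • R, ⟨⟨h, hh⟩, rfl⟩, (co0_neg h R).symm⟩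
    · rintro ⟨_, ⟨⟨h, hh⟩, rfl⟩, rfl⟩
      exact ⟨⟨h, hh⟩, co0_neg h R⟩
  have hfin : (MulAction.orbit coH35 R).Finite := by
    have := hs352_finite.subset hsub
    rw [himg] at this
    exact this.of_finite_image neg_injective.injOn
  have n := size_le_orbit m22Gens_ok coH35 coH35_perm (m := matCo0 matHS matHS_ok)
    (mem_hsGroup.2 ⟨Subtype.ext matHS_fix35.1, Subtype.ext matHS_fix35.2⟩) (matCo0_smul matHS matHS_ok)
    coA0_ok coA_incr.1 (rootV_coe35 coARoot _) hfin
  rw [coA_incr.2] at n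
  rw [himg, Set.ncard_image_of_injective _ neg_injective]
  exact n

theorem hs352_trans {x x' : leechLattice} (hx : x ∈ hs352) (hx' : x' ∈ hs352) :
    ∃ h ∈ coH35, h • x = x' := by
  rw [← root35_orbit] at hx hx'
  obtain ⟨⟨a, ha⟩, rfl⟩ := hx
  obtain ⟨⟨b, hb⟩, rfl⟩ := hx'
  refine ⟨b * a⁻¹, mul_mem hb (inv_mem ha), ?_⟩
  show (b * a⁻¹) • a • root35 = b • root35
  rw [smul_smul, inv_mul_cancel_right]

/-- The chosen one of the 352 vectors. -/
def x35 : leechLattice := rootV35 42255020007608211866070461098 (by decide +kernel)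

theorem x35_mem : x35 ∈ hs352 := by
  show sqNorm (x35 : GolayPt → ℤ) = 32 ∧ dotInt (fiveV : GolayPt → ℤ) x35 = 16 ∧
    dotInt (whs : GolayPt → ℤ) x35 = -24
  decide +kernel

theorem coH_orbit352 : MulAction.orbit coH35 x35 = hs352 := by
  refine Set.Subset.antisymm ?_ fun y hy => ?_
  · rintro _ ⟨⟨h, hh⟩, rfl⟩
    exact coH35_orbit_le x35_mem h hh
  · obtain ⟨h, hh, e⟩ := hs352_trans x35_mem hy
    exact ⟨⟨h, hh⟩, e⟩

/-- The point stabiliser of the standard pair. -/
abbrev H35 : Subgroup Co0 :=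
  MulAction.stabilizer Co0 fiveV ⊓ MulAction.stabilizer Co0 whs ⊓ MulAction.stabilizer Co0 x35

theorem card_H35 : Nat.card H35 = 126000 := by
  have h := card_inf_stab (A := coH35) x35 352 (by rw [coH_orbit352, ncard_hs352])
  rw [coH35] at h
  change Nat.card H35 * 352 = _ at h
  rw [card_hsGroup] at h
  omega

theorem h35_iso_psu (F : Type) [Field F] [Fintype F] (hF : Fintype.card F = 25) :
    Nonempty (H35 ≃* Cfsg.PSU 3 F 5) := by
  obtain ⟨hchar, s, hs⟩ : CharP F 5 ∧ ∃ s : F, s * s = 2 := CfsgLib.ClassK.UFive.exists_root hF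
  have h5 : (5 : F) = 0 := by exact_mod_cast CharP.cast_eq_zero F 5
  have hsp : s ^ 5 = -s := by
    rw [show s ^ 5 = s * (s * s) * (s * s) by ring, hs]
    linear_combination s * h5
  have hV := StabU35.valid
  obtain ⟨hlen, hcs, hvec, hsets⟩ := StabU35.sizes
  haveI : CharP F StabU35.par.p := hchar
  obtain ⟨ψ, b, hψ, hb, hab⟩ := QuadModel.exists_model (F := F) (P := StabU35.par) hV
    (s := s) (show s * s = ((2 : ℕ) : F) by push_cast; exact hs) hsp (show Fintype.card F = 5 ^ 2 by rw [hF]; norm_num)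
  haveI : Finite H35 := Nat.finite_of_card_ne_zero (by rw [card_H35]; norm_num)
  have hg : ∀ g : Fin StabU35.dat.cs.length, (g : ℕ) < 3 := fun g => hcs ▸ g.2
  refine nonempty_iso_of_perm (G := Co0) (Ω := Set leechLattice) H35
    (fun i : Fin StabU35.dat.pts.length => vecSet StabU35.vecs (StabU35.sets.getD i []))
    (vecSet_injective StabU35.vecs_ok StabU35.sets_ok (hsets.trans hlen.symm))
    (fun g : Fin StabU35.dat.cs.length => matCo0 (StabU35.mat g) (StabU35.mat_ok g (hg g))) (fun g => ?_) b hb ψ hψ (fun g i => ?_) ?_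
  · obtain ⟨f1, f2, f3⟩ := StabU35.mats_fix g (hg g)
    have e1 : matCo0 (StabU35.mat g) (StabU35.mat_ok g (hg g)) • fiveV = fiveV := Subtype.ext f1
    have e2 : matCo0 (StabU35.mat g) (StabU35.mat_ok g (hg g)) • xhs = xhs := Subtype.ext f2
    exact ⟨mem_hsGroup.2 ⟨e1, e2⟩, Subtype.ext f3⟩
  · have hi : (i : ℕ) < 126 := hlen ▸ i.2
    show _ = vecSet StabU35.vecs (StabU35.sets.getD (ψ (b g) i : ℕ) [])
    rw [hab g i]
    exact smul_vecSet _ StabU35.vecs_ok StabU35.sets_ok (fun k hk => StabU35.perm_ok g (hg g) k (by rwa [hvec] at hk))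
      (by rw [hsets]; exact hi) (StabU35.image_ok g (hg g) i hi)
  · rw [card_H35]; exact (CfsgLib.ClassK.UFive.card_psu_five hF).symm

/-- The three properties at a general pair. -/
theorem hs352_at {v w : leechLattice} (hv : sqNorm (v : GolayPt → ℤ) = 48)
    (hw : sqNorm (w : GolayPt → ℤ) = 48) (hvw : dotInt (v : GolayPt → ℤ) w = -32)
    (P : leechLattice → Prop)
    (hP : ∀ x, P x ↔ sqNorm (x : GolayPt → ℤ) = 32 ∧ dotInt (v : GolayPt → ℤ) x = 16 ∧
      dotInt (w : GolayPt → ℤ) x = -24) :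
    {x | P x}.ncard = 352 ∧
    (∀ x x', P x → P x' → ∃ g : Co0, g • v = v ∧ g • w = w ∧ g • x = x') ∧
    ∀ (F : Type) [Field F] [Fintype F], Fintype.card F = 25 → ∀ x, P x →
      Nonempty (↥(MulAction.stabilizer Co0 v ⊓ MulAction.stabilizer Co0 w ⊓
        MulAction.stabilizer Co0 x) ≃* Cfsg.PSU 3 F 5) := by
  obtain ⟨g, g1, g2⟩ := normal_hs hv hw hvw
  have hm : ∀ x, g • x ∈ hs352 ↔ P x := fun x => by
    simp only [hs352, Set.mem_setOf_eq, ← g1, ← g2, co0_sq, co0_dot, hP]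
  refine ⟨?_, fun x x' hx hx' => ?_, fun F _ _ hF x hx => ?_⟩
  · rw [← ncard_hs352, ← Set.ncard_image_of_injective hs352 (MulAction.injective g⁻¹)]
    refine congrArg Set.ncard (Set.ext fun x => ⟨fun h => ⟨g • x, (hm x).2 h, inv_smul_smul g x⟩, ?_⟩)
    rintro ⟨y, hy, rfl⟩
    exact (hm _).1 (by rwa [smul_inv_smul])
  · obtain ⟨k, hk, e⟩ := hs352_trans ((hm x).2 hx) ((hm x').2 hx')
    obtain ⟨k1, k2⟩ := hk
    refine ⟨g⁻¹ * k * g, ?_, ?_, ?_⟩
    · rw [mul_smul, g1, mul_smul, MulAction.mem_stabilizer_iff.1 k1, ← g1, inv_smul_smul]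
    · rw [mul_smul, g2, mul_smul, MulAction.mem_stabilizer_iff.1 k2, ← g2, inv_smul_smul]
    · rw [mul_smul, mul_smul, e, inv_smul_smul]
  · obtain ⟨k, hk, e⟩ := hs352_trans ((hm x).2 hx) x35_mem
    obtain ⟨k1, k2⟩ := hk
    obtain ⟨e1⟩ := stab3_iso (u := v) (v := w) (x := x) (u' := fiveV) (v' := whs) (k * g)
      (by rw [mul_smul, g1]; exact MulAction.mem_stabilizer_iff.1 k1)
      (by rw [mul_smul, g2]; exact MulAction.mem_stabilizer_iff.1 k2) (by rw [mul_smul, e])
    obtain ⟨e2⟩ := h35_iso_psu F hF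
    exact ⟨e1.trans e2⟩

end CfsgLib.Golay.OrbitTree
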