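import Cfsg.Agent.Lib.Golay.StabU43Data
import Cfsg.Agent.Lib.Classical.SUCenter

/-!
A point stabiliser of the standard pair on the 275 points is `PSU(4, 3)`.
-/

set_option autoImplicit false
set_option maxRecDepth 100000

namespace CfsgLib.Golay.OrbitTree

open Cfsg CfsgLib.Golay CfsgLib.Classical
open scoped Pointwise

/-- The point stabiliser. -/
abbrev H43 : Subgroup Co0 :=
  MulAction.stabilizer Co0 fiveV ⊓ MulAction.stabilizer Co0 min44 ⊓ MulAction.stabilizer Co0 pv

theorem mclGroup_orbit : MulAction.orbit mclGroup pv = mclPoints := by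
  have hpv : pv ∈ mclPoints := by
    rw [mem_mclPoints]
    decide +kernel
  have hm : ∀ g ∈ mclGroup, ∀ x, g • x ∈ mclPoints ↔ x ∈ mclPoints := fun g hg x => by
    rw [mcl_mem_smul g fiveV_norm hg.1 hg.2]
    exact (mcl_mem_smul 1 fiveV_norm (one_smul _ _) (one_smul _ _) x).symm.trans (by rw [one_smul])
  refine Set.Subset.antisymm ?_ fun y hy => ?_
  · rintro _ ⟨⟨h, hh⟩, rfl⟩
    exact (hm h hh pv).2 hpv
  · obtain ⟨g, g1, g2, g3⟩ := mcl_trans hpv hy
    exact ⟨⟨g, g1, g2⟩, g3⟩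

theorem card_H43 : Nat.card H43 = 3265920 := by
  have h := card_inf_stab (A := mclGroup) pv 275 (by rw [mclGroup_orbit, ncard_mclPoints])
  rw [card_mclGroup] at h
  change Nat.card H43 * 275 = _ at h
  omega

variable {F : Type} [Field F] [Fintype F]

theorem card_psu_four_three (hF : Fintype.card F = 9) : Nat.card (Cfsg.PSU 4 F 3) = 3265920 := by
  have hF' : Fintype.card F = 3 ^ 2 := by rw [hF]; norm_num
  have h1 := CfsgLib.Classical.card_psu_mul hF' (n := 4) (by norm_num)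
  rw [CfsgLib.Classical.card_gu hF'] at h1
  simp [Finset.prod_range_succ, Nat.even_iff] at h1
  omega

theorem h43_iso_psu (hF : Fintype.card F = 9) : Nonempty (H43 ≃* Cfsg.PSU 4 F 3) := by
  have hchar : CharP F 3 := by
    obtain ⟨p, hp⟩ := CharP.exists F
    obtain ⟨n, hn, hn'⟩ := FiniteField.card F p
    have h3 : (3 : ℕ) ∣ p := (by norm_num : Nat.Prime 3).dvd_of_dvd_pow (m := p) (n := n)
      (by rw [← hn', hF]; norm_num)
    obtain rfl : (3 : ℕ) = p := (Nat.prime_dvd_prime_iff_eq (by norm_num) hn).1 h3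
    exact hp
  have h3 : (3 : F) = 0 := by exact_mod_cast CharP.cast_eq_zero F 3
  obtain ⟨s, hs⟩ : IsSquare (-1 : F) := by
    rw [FiniteField.isSquare_neg_one_iff, hF]
    norm_num
  have hs2 : s * s = 2 := by linear_combination -hs - h3
  have hsp : s ^ 3 = -s := by
    rw [show s ^ 3 = s * (s * s) by ring, hs2]
    linear_combination s * h3
  obtain ⟨hlen, hcs, hvec, hsets⟩ := StabU43.sizes
  haveI : CharP F StabU43.par.p := hchar
  obtain ⟨ψ, b, hψ, hb, hab⟩ := QuadModel.exists_model (F := F) (P := StabU43.par) StabU43.valid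
    (s := s) (show s * s = ((2 : ℕ) : F) by push_cast; exact hs2) hsp
    (show Fintype.card F = 3 ^ 2 by rw [hF]; norm_num)
  haveI : Finite H43 := Nat.finite_of_card_ne_zero (by rw [card_H43]; norm_num)
  have hg : ∀ g : Fin StabU43.dat.cs.length, (g : ℕ) < 4 := fun g => hcs ▸ g.2
  refine nonempty_iso_of_perm (G := Co0) (Ω := Set leechLattice) H43
    (fun i : Fin StabU43.dat.pts.length => vecSet StabU43.vecs (StabU43.sets.getD i []))
    (vecSet_injective StabU43.vecs_ok StabU43.sets_ok (hsets.trans hlen.symm))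
    (fun g : Fin StabU43.dat.cs.length => matCo0 (StabU43.mat g) (StabU43.mat_ok g (hg g))) (fun g => ?_) b hb ψ hψ (fun g i => ?_) ?_
  · obtain ⟨f1, f2, f3⟩ := StabU43.mats_fix g (hg g)
    exact ⟨⟨Subtype.ext f1, Subtype.ext f2⟩, Subtype.ext f3⟩
  · have hi : (i : ℕ) < 280 := hlen ▸ i.2
    show _ = vecSet StabU43.vecs (StabU43.sets.getD (ψ (b g) i : ℕ) [])
    rw [hab g i]
    exact smul_vecSet _ StabU43.vecs_ok StabU43.sets_ok (fun k hk => StabU43.perm_ok g (hg g) k (by rwa [hvec] at hk))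
      (by rw [hsets]; exact hi) (StabU43.image_ok g (hg g) i hi)
  · rw [card_H43]; exact (card_psu_four_three hF).symm

/-- The statement at a general configuration. -/
theorem mcl_point_iso {u v x : leechLattice} (hu : sqNorm (u : GolayPt → ℤ) = 48)
    (hv : sqNorm (v : GolayPt → ℤ) = 32 ∧ sqNorm ((u - v) : GolayPt → ℤ) = 32)
    (hx : sqNorm (x : GolayPt → ℤ) = 32 ∧ sqNorm ((u - x) : GolayPt → ℤ) = 32 ∧
      dotInt (v : GolayPt → ℤ) x = 16) (hF : Fintype.card F = 9) :
    Nonempty (↥(MulAction.stabilizer Co0 u ⊓ MulAction.stabilizer Co0 v ⊓ MulAction.stabilizer Co0 x) ≃*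
      Cfsg.PSU 4 F 3) := by
  obtain ⟨g, g1, g2⟩ := normal_mcl hu hv.1
    (by rw [dotInt_comm]; exact (dot_of_diff hu hv.1).1 hv.2)
  obtain ⟨k, k1, k2, k3⟩ := mcl_to_pv ((mcl_mem_smul g hu g1 g2 x).2 hx)
  obtain ⟨e1⟩ := stab3_iso (u := u) (v := v) (x := x) (u' := fiveV) (v' := min44) (k * g) (by rw [mul_smul, g1, k1])
    (by rw [mul_smul, g2, k2]) (by rw [mul_smul, k3])
  obtain ⟨e2⟩ := h43_iso_psu (F := F) hF
  exact ⟨e1.trans e2⟩

end CfsgLib.Golay.OrbitTree
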