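import Cfsg.Agent.Lib.Golay.StabU62Check
import Cfsg.Agent.Lib.Golay.PermIso
import Cfsg.Agent.Lib.Golay.Co0Normal
import Cfsg.Agent.Lib.Golay.Co0Census
import Cfsg.Agent.Lib.InvChar.SporFi22U6
import Cfsg.Agent.Lib.Classical.UnitaryFieldEquiv
import Cfsg.Agent.Lib.Trans3.Fi.U6Count

/-!
The stabiliser of two minimal vectors with inner product `-16` is `PSU(6, 2)`.
-/

set_option autoImplicit false
set_option maxRecDepth 100000

namespace CfsgLib.Golay.OrbitTree

open Cfsg CfsgLib.Golay CfsgLib.InvChar CfsgLib.InvChar.Coset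
open scoped Pointwise

/-- The second vector of the pair. -/
def w62 : leechLattice := ⟨decV 42255020007607646716556773444, inLat_mem (by decide +kernel)⟩

theorem w62_spec : sqNorm (w62 : GolayPt → ℤ) = 32 ∧ dotInt (min44 : GolayPt → ℤ) w62 = -16 := by
  decide +kernel

/-- The pair stabiliser. -/
abbrev H62 : Subgroup Co0 := MulAction.stabilizer Co0 min44 ⊓ MulAction.stabilizer Co0 w62

theorem card_H62 : Nat.card H62 = 9196830720 := by
  have horb : MulAction.orbit (MulAction.stabilizer Co0 min44) w62 =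
      {w : leechLattice | sqNorm (w : GolayPt → ℤ) = 32 ∧ dotInt (min44 : GolayPt → ℤ) w = -16} := by
    ext y
    constructor
    · rintro ⟨⟨g, hg⟩, rfl⟩
      refine ⟨(co0_sq g w62).trans w62_spec.1, ?_⟩
      show dotInt (min44 : GolayPt → ℤ) (g • w62 : leechLattice) = -16
      rw [← MulAction.mem_stabilizer_iff.1 hg, co0_dot]
      exact w62_spec.2
    · rintro ⟨h1, h2⟩
      obtain ⟨g, g1, g2⟩ := co0_trans_m16 min44_norm w62_spec.1 h1 w62_spec.2 h2
      exact ⟨⟨g, g1⟩, g2⟩
  have h := card_inf_stab (A := MulAction.stabilizer Co0 min44) w62 4600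
    (by rw [horb]; exact (census32 min44_norm).1)
  rw [card_stab32 min44_norm] at h
  change Nat.card H62 * 4600 = _ at h
  omega

namespace StabU62

/-- The 27-set of a point. -/
def pointSet (i : Fin 693) : Set leechLattice :=
  {y | ∃ k, (setMask i).testBit k = true ∧ (y : GolayPt → ℤ) = decV (vecN k)}

theorem setN_lt {i t : ℕ} (hi : i < 693) (ht : t < 27) : setN i t < 891 :=
  Nat.le_of_ble_eq_true (upTo_get _ set_lt (27 * i + t) (by omega))

theorem mask_mem {i k : ℕ} (hi : i < 693) (h : (setMask i).testBit k = true) : k < 891 := by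
  obtain ⟨t, ht, rfl⟩ := (testBit_maskN _ _ _).1 h
  exact setN_lt hi ht

theorem vecN_lt (k : ℕ) : vecN k < 2 ^ 96 := by
  rw [vecN, field, force_eq]
  exact Nat.mod_lt _ (by positivity)

theorem vecN_inj {a b : ℕ} (ha : a < 891) (hb : b < 891) (h : decV (vecN a) = decV (vecN b)) : a = b := by
  have hmono : ∀ d a, a + d + 1 < 891 → vecN a < vecN (a + d + 1) := by
    intro d
    induction d with
    | zero => exact fun a ha => Nat.le_of_ble_eq_true (upTo_get _ vec_incr a (by omega))
    | succ d ih =>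
      intro a ha
      exact (ih a (by omega)).trans (Nat.le_of_ble_eq_true (upTo_get _ vec_incr (a + d + 1) (by omega)))
  have e := decV_inj (vecN_lt a) (vecN_lt b) h
  rcases lt_trichotomy a b with h' | h' | h'
  · obtain ⟨d, rfl⟩ : ∃ d, b = a + d + 1 := ⟨b - a - 1, by omega⟩
    exact absurd e (hmono d a hb).ne
  · exact h'
  · obtain ⟨d, rfl⟩ : ∃ d, a = b + d + 1 := ⟨a - b - 1, by omega⟩
    exact absurd e.symm (hmono d b ha).ne

theorem pointSet_inj : Function.Injective pointSet := by
  intro i j h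
  have key : ∀ i j : Fin 693, pointSet i ⊆ pointSet j → ∀ k, (setMask i).testBit k = true →
      (setMask j).testBit k = true := by
    intro i j hsub k hk
    have hk' := mask_mem i.2 hk
    obtain ⟨l, hl, e⟩ := hsub (show (⟨_, inLat_mem (upTo_get _ vec_lat k hk')⟩ : leechLattice) ∈ pointSet i
      from ⟨k, hk, rfl⟩)
    rw [vecN_inj hk' (mask_mem j.2 hl) e]
    exact hl
  have e : setMask i = setMask j := Nat.eq_of_testBit_eq fun k => by
    rw [Bool.eq_iff_iff]; exact ⟨key i j h.le k, key j i h.ge k⟩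
  have hr : ∀ i : Fin 693, field rankT 64 10 i < 693 ∧ field ordT 64 10 (field rankT 64 10 i) = i := fun i => by
    have h := upTo_get _ ord_rank i i.2
    rw [Bool.and_eq_true] at h
    exact ⟨Nat.le_of_ble_eq_true h.1, Nat.eq_of_beq_eq_true h.2⟩
  have hmono : ∀ d a, a + d + 1 < 693 →
      setMask (field ordT 64 10 a) < setMask (field ordT 64 10 (a + d + 1)) := by
    intro d
    induction d with
    | zero => exact fun a ha => Nat.le_of_ble_eq_true (upTo_get _ ord_incr a (by omega))
    | succ d ih =>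
      intro a ha
      exact (ih a (by omega)).trans (Nat.le_of_ble_eq_true (upTo_get _ ord_incr (a + d + 1) (by omega)))
  obtain ⟨a1, a2⟩ := hr i
  obtain ⟨b1, b2⟩ := hr j
  rw [← a2, ← b2] at e
  refine Fin.ext ?_
  rw [← a2, ← b2]
  congr 1
  rcases lt_trichotomy (field rankT 64 10 i) (field rankT 64 10 j) with h' | h' | h'
  · obtain ⟨d, hd⟩ : ∃ d, field rankT 64 10 j = field rankT 64 10 i + d + 1 :=
      ⟨field rankT 64 10 j - field rankT 64 10 i - 1, by omega⟩
    rw [hd] at e b1
    exact absurd e (hmono d _ b1).ne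
  · exact h'
  · obtain ⟨d, hd⟩ : ∃ d, field rankT 64 10 i = field rankT 64 10 j + d + 1 :=
      ⟨field rankT 64 10 i - field rankT 64 10 j - 1, by omega⟩
    rw [hd] at e a1
    exact absurd e.symm (hmono d _ a1).ne

/-- The two permutations. -/
noncomputable def perm2 (g : Fin 2) : Equiv.Perm (Fin 693) :=
  if g = 0 then SporFi22U6.bigPerm 1 else (letters.map SporFi22U6.bigPerm).prod

theorem perm2_apply (g : Fin 2) (i : Fin 693) : (perm2 g i : ℕ) = ptN g i := by
  fin_cases g
  · show (SporFi22U6.bigPerm 1 i : ℕ) = U6Two.tab0.app i 1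
    exact SporFi22U6.bigPerm_apply (by norm_num) i
  · show (((letters.map SporFi22U6.bigPerm).prod i : Fin 693) : ℕ) =
      letters.foldr (fun x a => U6Two.tab0.app a x) (i : ℕ)
    have hl : ∀ x ∈ letters, x < 9 := fun x hx => by simpa using List.all_eq_true.1 letters_lt.1 x hx
    revert hl
    generalize letters = L
    intro hl
    induction L with
    | nil => rfl
    | cons x L ih =>
      rw [List.map_cons, List.prod_cons, Equiv.Perm.mul_apply,
        SporFi22U6.bigPerm_apply (hl x List.mem_cons_self), ih (fun y hy => hl y (List.mem_cons_of_mem _ hy))]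
      rfl

theorem perm2_mem (g : Fin 2) : perm2 g ∈ SporFi22U6.blockHom.range := by
  have hb : ∀ x < 9, SporFi22U6.bigPerm x ∈ SporFi22U6.blockHom.range := fun x hx =>
    ⟨_, SporFi22U6.blockHom_hgen hx⟩
  fin_cases g
  · exact hb 1 (by norm_num)
  · refine list_prod_mem fun p hp => ?_
    obtain ⟨x, hx, rfl⟩ := List.mem_map.1 hp
    exact hb x (by simpa using List.all_eq_true.1 letters_lt.1 x hx)

theorem closure_perm2 : SporFi22U6.blockHom.range ≤ Subgroup.closure (Set.range perm2) := by
  let K := Subgroup.closure (Set.range perm2)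
  rw [MonoidHom.range_eq_map, Subgroup.map_le_iff_le_comap]
  refine (SporFi22U6.le_of_hgen_mem (K.comap SporFi22U6.blockHom) fun x hx => ?_).ge
  rw [Subgroup.mem_comap, SporFi22U6.blockHom_hgen hx]
  cases x with
  | zero =>
    have : SporFi22U6.bigPerm 0 = 1 := Equiv.ext fun i => Fin.ext (by
      rw [SporFi22U6.bigPerm_apply (by norm_num)]
      exact Nat.eq_of_beq_eq_true (upTo_get _ letter_zero i i.2))
    rw [this]; exact one_mem K
  | succ x =>
    let W := wordsU.getD x []
    have hW : ∀ g ∈ W, g < 2 := by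
      intro g hg
      have hl : x < wordsU.length := by
        by_contra h
        rw [show W = [] from List.getD_eq_default _ _ (not_lt.1 h)] at hg
        simp at hg
      rw [show W = wordsU[x] from List.getD_eq_getElem _ _ hl] at hg
      simpa using List.all_eq_true.1 (List.all_eq_true.1 letters_lt.2 _ (List.getElem_mem hl)) g hg
    let p : ℕ → Equiv.Perm (Fin 693) := fun g => perm2 (Fin.ofNat 2 g)
    have hp : ∀ (L : List ℕ), (∀ g ∈ L, g < 2) → ∀ i : Fin 693, ((L.map p).prod i : ℕ) = wordN L i := by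
      intro L hL
      induction L with
      | nil => intro i; rfl
      | cons g L ih =>
        intro i
        rw [List.map_cons, List.prod_cons, Equiv.Perm.mul_apply, perm2_apply,
          ih (fun y hy => hL y (List.mem_cons_of_mem _ hy))]
        show _ = force (wordN L i) (ptN g)
        rw [force_eq, Fin.val_ofNat, Nat.mod_eq_of_lt (hL g List.mem_cons_self)]
    have key : SporFi22U6.bigPerm (x + 1) * (W.map p).prod = (W.map p).prod * SporFi22U6.bigPerm 1 := by
      refine Equiv.ext fun i => Fin.ext ?_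
      rw [Equiv.Perm.mul_apply, Equiv.Perm.mul_apply, SporFi22U6.bigPerm_apply hx, hp W hW, hp W hW,
        SporFi22U6.bigPerm_apply (by norm_num)]
      exact Nat.eq_of_beq_eq_true (upTo_get _ (upTo_get _ words_ok x (by omega)) i i.2)
    rw [eq_mul_inv_of_mul_eq key]
    have hK : (W.map p).prod ∈ K := list_prod_mem fun q hq => by
      obtain ⟨g, -, rfl⟩ := List.mem_map.1 hq
      exact Subgroup.subset_closure ⟨_, rfl⟩
    exact mul_mem (mul_mem hK (Subgroup.subset_closure ⟨0, rfl⟩)) (inv_mem hK)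

theorem smul_pointSet (g : Fin 2) (i : Fin 693) :
    matCo0 (mat g) (mat_ok g g.2) • pointSet i = pointSet (perm2 g i) := by
  have hstep : ∀ k < 891, matFun (mat g) (decV (vecN k)) = decV (vecN (sigN g k)) := by
    intro k hk
    have h : fastStep (colsN g) (vecN k) (vecN (sigN g k)) = true := by
      fin_cases g
      · exact (Bool.and_eq_true _ _ ▸ upTo_get _ step_t k hk).1
      · exact (Bool.and_eq_true _ _ ▸ upTo_get _ step_u k hk).1
    exact fastStep_spec (cols_ok g g.2) h
  have himg : imgMask g i = setMask (perm2 g i : ℕ) := by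
    rw [perm2_apply]
    fin_cases g
    · exact Nat.eq_of_beq_eq_true (upTo_get _ image_t i i.2)
    · exact Nat.eq_of_beq_eq_true (upTo_get _ image_u i i.2)
  ext y
  constructor
  · rintro ⟨x, ⟨k, hk, e⟩, rfl⟩
    refine ⟨sigN g k, ?_, ?_⟩
    · rw [← himg]
      obtain ⟨t, ht, rfl⟩ := (testBit_maskN _ _ _).1 hk
      exact (testBit_maskN _ _ _).2 ⟨t, ht, rfl⟩
    · show ((matCo0 (mat g) _ • x : leechLattice) : GolayPt → ℤ) = _
      rw [matCo0_smul, e, hstep k (mask_mem i.2 hk)]
  · rintro ⟨l, hl, e⟩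
    rw [← himg] at hl
    obtain ⟨t, ht, rfl⟩ := (testBit_maskN _ _ _).1 hl
    refine ⟨⟨_, inLat_mem (upTo_get _ vec_lat (setN i t) (setN_lt i.2 ht))⟩,
      ⟨setN i t, (testBit_maskN _ _ _).2 ⟨t, ht, rfl⟩, rfl⟩, Subtype.ext ?_⟩
    show ((matCo0 (mat g) _ • _ : leechLattice) : GolayPt → ℤ) = _
    rw [matCo0_smul, e, ← hstep _ (setN_lt i.2 ht)]

end StabU62

theorem h62_iso_psu (F : Type) [Field F] [Fintype F] (hF : Fintype.card F = 4) :
    Nonempty (H62 ≃* Cfsg.PSU 6 F 2) := by
  obtain ⟨e₀⟩ := SporFi22U6.psu_iso_range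
  obtain ⟨e₁⟩ := CfsgLib.Classical.nonempty_psu_fieldEquiv
    (FiniteField.ringEquivOfCardEq (K := F) (K' := FQ4) (by rw [hF, FQ4.card_eq])) 6 2
  have hcard : Nat.card H62 = Nat.card ↥SporFi22U6.blockHom.range := by
    rw [card_H62, ← Nat.card_congr (e₁.trans e₀).toEquiv,
      CfsgLib.Trans3.Fi.card_psu_six (show Fintype.card F = 2 ^ 2 by rw [hF]; norm_num)]
  haveI : Finite H62 := Nat.finite_of_card_ne_zero (by rw [card_H62]; norm_num)
  have ha : ∀ g : Fin 2, matCo0 (StabU62.mat g) (StabU62.mat_ok g g.2) ∈ H62 := fun g =>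
    ⟨Subtype.ext (StabU62.fix_pair g g.2).1, Subtype.ext (StabU62.fix_pair g g.2).2⟩
  let b : Fin 2 → ↥SporFi22U6.blockHom.range := fun g => ⟨StabU62.perm2 g, StabU62.perm2_mem g⟩
  have hb : Subgroup.closure (Set.range b) = ⊤ := by
    refine eq_top_iff.2 fun x _ => ?_
    have h := StabU62.closure_perm2 x.2
    rw [show StabU62.perm2 = SporFi22U6.blockHom.range.subtype ∘ b from rfl,
      Set.range_comp, ← MonoidHom.map_closure, Subgroup.mem_map] at h
    obtain ⟨y, hy, e⟩ := h
    exact Subtype.ext e ▸ hy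
  obtain ⟨e⟩ := nonempty_iso_of_perm (G := Co0) (Ω := Set leechLattice) H62 StabU62.pointSet
    StabU62.pointSet_inj (fun g : Fin 2 => matCo0 (StabU62.mat g) (StabU62.mat_ok g g.2)) ha b hb
    SporFi22U6.blockHom.range.subtype (Subgroup.subtype_injective _) StabU62.smul_pointSet hcard
  exact ⟨e.trans (e₁.trans e₀).symm⟩

theorem co2_pair_iso {v w : leechLattice} (hv : sqNorm (v : GolayPt → ℤ) = 32)
    (hw : sqNorm (w : GolayPt → ℤ) = 32) (hd : dotInt (v : GolayPt → ℤ) w = -16) (F : Type) [Field F]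
    [Fintype F] (hF : Fintype.card F = 4) :
    Nonempty (↥(MulAction.stabilizer Co0 v ⊓ MulAction.stabilizer Co0 w) ≃* Cfsg.PSU 6 F 2) := by
  obtain ⟨g, hg⟩ := co0_to_min44 hv
  obtain ⟨k, k1, k2⟩ := co0_trans_m16 min44_norm (w := g • w) ((co0_sq g w).trans hw) w62_spec.1
    (by rw [← hg, co0_dot, hd]) w62_spec.2
  have e : (MulAction.stabilizer Co0 v ⊓ MulAction.stabilizer Co0 w).map (MulAut.conj (k * g)).toMonoidHom =
      H62 := by
    ext a
    simp only [Subgroup.mem_map_equiv, Subgroup.mem_inf, MulAction.mem_stabilizer_iff, MulAut.conj_symm_apply,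
      mul_smul, inv_smul_eq_iff]
    rw [show k • g • v = min44 by rw [hg, k1], k2]
  obtain ⟨e2⟩ := h62_iso_psu F hF
  exact ⟨(((MulAut.conj (k * g)).subgroupMap _).trans (MulEquiv.subgroupCongr e)).trans e2⟩

end CfsgLib.Golay.OrbitTree
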