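import Cfsg.Agent.Lib.Golay.StabU62Data
import Cfsg.Agent.Lib.Golay.FastPerm
import Cfsg.Agent.Lib.Golay.SuborbitGens
import Cfsg.Agent.Lib.InvChar.SporData.U6.Data

/-! The checks on the data of the 891 vectors and of the 693 sets. -/

set_option autoImplicit false
set_option maxRecDepth 100000
set_option Elab.async false

namespace CfsgLib.Golay.OrbitTree.StabU62

open Cfsg CfsgLib.Golay CfsgLib.InvChar.Coset

/-- A bounded check. -/
def upTo (q : ℕ → Bool) : ℕ → Bool
  | 0 => true
  | n + 1 => q n && upTo q n

theorem upTo_get {q : ℕ → Bool} : ∀ n, upTo q n = true → ∀ i < n, q i = true := by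
  intro n
  induction n with
  | zero => intro _ i hi; omega
  | succ n ih =>
    intro h i hi
    rw [upTo, Bool.and_eq_true] at h
    rcases Nat.lt_succ_iff_lt_or_eq.1 hi with hi | rfl
    · exact ih h.2 i hi
    · exact h.1

/-- A vector. -/
noncomputable def vecN (k : ℕ) : ℕ := field vecT 16 96 k

/-- A table on the vectors. -/
noncomputable def sigN (g k : ℕ) : ℕ := bif Nat.beq g 0 then field sigT 64 10 k else field sigU 64 10 k

/-- An index of a set. -/
noncomputable def setN (i t : ℕ) : ℕ := field setT 64 10 (27 * i + t)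

/-- A mask of indices. -/
def maskN (f : ℕ → ℕ) : ℕ → ℕ
  | 0 => 0
  | n + 1 => Nat.lor (Nat.shiftLeft 1 (f n)) (maskN f n)

theorem testBit_maskN (f : ℕ → ℕ) (k : ℕ) : ∀ n, (maskN f n).testBit k = true ↔ ∃ t < n, f t = k
  | 0 => by simp [maskN]
  | n + 1 => by
    show (1 <<< f n ||| maskN f n).testBit k = true ↔ _
    rw [Nat.testBit_or, Bool.or_eq_true, testBit_maskN f k n, Nat.one_shiftLeft, Nat.testBit_two_pow,
      decide_eq_true_iff]
    constructor
    · rintro (h | ⟨t, ht, h⟩)
      · exact ⟨n, Nat.lt_succ_self n, h⟩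
      · exact ⟨t, Nat.lt_succ_of_lt ht, h⟩
    · rintro ⟨t, ht, h⟩
      rcases Nat.lt_succ_iff_lt_or_eq.1 ht with ht | rfl
      · exact Or.inr ⟨t, ht, h⟩
      · exact Or.inl h

/-- The mask of a set. -/
noncomputable def setMask (i : ℕ) : ℕ := maskN (setN i) 27

/-- The mask of an image of a set. -/
noncomputable def imgMask (g i : ℕ) : ℕ := maskN (fun t => sigN g (setN i t)) 27

/-- A permutation of the 693 points. -/
noncomputable def ptN (g i : ℕ) : ℕ :=
  bif Nat.beq g 0 then U6Two.tab0.app i 1 else letters.foldr (fun x a => U6Two.tab0.app a x) i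

/-- The columns of a matrix. -/
def colsN (g : ℕ) : List ℕ := colsList.getD g []

/-- A matrix. -/
def mat (g : ℕ) : GolayPt → GolayPt → ℤ := matOfRows (rowsList.getD g [])

theorem mat_ok : ∀ g < 2, matOK (mat g) = true := by decide +kernel

theorem cols_ok : ∀ g < 2, colsOK (mat g) (colsN g) = true := by decide +kernel

theorem vec_lat : upTo (fun k => inLat (decV (vecN k))) 891 = true := by decide +kernel

theorem vec_incr : upTo (fun k => Nat.blt (vecN k) (vecN (k + 1))) 890 = true := by decide +kernel

theorem step_t : upTo (fun k => fastStep (colsN 0) (vecN k) (vecN (sigN 0 k)) && Nat.blt (sigN 0 k) 891) 891 = true := by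
  decide +kernel

theorem step_u : upTo (fun k => fastStep (colsN 1) (vecN k) (vecN (sigN 1 k)) && Nat.blt (sigN 1 k) 891) 891 = true := by
  decide +kernel

theorem set_lt : upTo (fun j => Nat.blt (field setT 64 10 j) 891) 18711 = true := by decide +kernel

theorem image_t : upTo (fun i => Nat.beq (imgMask 0 i) (setMask (ptN 0 i))) 693 = true := by
  decide +kernel

theorem image_u : upTo (fun i => Nat.beq (imgMask 1 i) (setMask (ptN 1 i))) 693 = true := by
  decide +kernel

theorem ord_incr :
    upTo (fun k => Nat.blt (setMask (field ordT 64 10 k)) (setMask (field ordT 64 10 (k + 1)))) 692 = true := by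
  decide +kernel

theorem ord_rank :
    upTo (fun i => Nat.blt (field rankT 64 10 i) 693 && Nat.beq (field ordT 64 10 (field rankT 64 10 i)) i) 693 = true := by
  decide +kernel

/-- A word of points. -/
noncomputable def wordN (W : List ℕ) (i : ℕ) : ℕ := W.foldr (fun g a => force a (ptN g)) i

theorem words_ok : upTo (fun x => upTo (fun i =>
    Nat.beq (U6Two.tab0.app (wordN (wordsU.getD x []) i) (x + 1)) (wordN (wordsU.getD x []) (U6Two.tab0.app i 1))) 693) 8 = true := by
  decide +kernel

theorem letters_lt : letters.all (fun x => decide (x < 9)) = true ∧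
    wordsU.all (fun W => W.all fun g => decide (g < 2)) = true := by decide +kernel

theorem letter_zero : upTo (fun i => Nat.beq (U6Two.tab0.app i 0) i) 693 = true := by decide +kernel

theorem fix_pair : ∀ g < 2, matFun (mat g) (min44 : GolayPt → ℤ) = (min44 : GolayPt → ℤ) ∧
    matFun (mat g) (decV 42255020007607646716556773444) = decV 42255020007607646716556773444 := by
  decide +kernel

end CfsgLib.Golay.OrbitTree.StabU62
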