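import Cfsg.Agent.Lib.Golay.Steiner12Label
import Cfsg.Agent.Lib.Golay.SteinerIso
import Cfsg.Prelude.Def_SporadicCombinatorics
import Cfsg.Prelude.Def_Sporadic

/-! The groups of an `S(5,6,12)` and of an `S(4,5,11)`. -/

set_option autoImplicit false
set_option maxRecDepth 100000

namespace CfsgLib.Golay

open Cfsg
open scoped Pointwise

section Aut12

variable {α : Type*} [Fintype α] [DecidableEq α] {B : Set (Finset α)}

theorem mem_aut_iff' {σ : Equiv.Perm α} : σ ∈ setSystemAut B ↔ ∀ s, σ • s ∈ B ↔ s ∈ B := by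
  rw [MulAction.mem_stabilizer_iff]
  constructor
  · intro h s
    conv_lhs => rw [← h]
    exact Set.smul_mem_smul_set_iff
  · intro h
    ext s
    rw [Set.mem_smul_set_iff_inv_smul_mem, ← h (σ⁻¹ • s), smul_inv_smul]

theorem aut12_trans (hα : Fintype.card α = 12) (hB : IsSteinerSystem 5 6 B) (x y : Fin 5 ↪ α) :
    ∃ σ : setSystemAut B, σ • x = y := by
  obtain ⟨φ, hφ, hx⟩ := steiner12_label hα hB x
  obtain ⟨χ, hχ, hy⟩ := steiner12_label hα hB y
  have hmem : φ.trans χ.symm ∈ setSystemAut B := by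
    rw [mem_aut_iff']
    intro s
    rw [hχ, hφ s, Finset.smul_finset_def, Finset.image_image]
    refine iff_of_eq (congrArg (fun f : α → Fin 12 => s.image f ∈ B12) (funext fun a => ?_))
    show χ (χ.symm (φ a)) = _
    rw [Equiv.apply_symm_apply]
  refine ⟨⟨_, hmem⟩, DFunLike.ext _ _ fun i => ?_⟩
  show χ.symm (φ (x i)) = y i
  rw [Equiv.symm_apply_eq]
  exact Fin.ext ((hx i).trans (hy i).symm)

theorem aut12_stab (hα : Fintype.card α = 12) (hB : IsSteinerSystem 5 6 B) (x : Fin 5 ↪ α) :
    MulAction.stabilizer (setSystemAut B) x = ⊥ := by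
  rw [eq_bot_iff]
  intro σ hσ
  rw [MulAction.mem_stabilizer_iff] at hσ
  exact Subtype.ext (steiner12_sharp hα hB x σ.1 (mem_aut_iff'.1 σ.2) fun i => DFunLike.congr_fun hσ i)

theorem exists_emb5 (hα : Fintype.card α = 12) (a : α) : ∃ x : Fin 5 ↪ α, x 0 = a := by
  obtain ⟨e⟩ : Nonempty (Fin 5 ↪ α) :=
    Function.Embedding.nonempty_of_card_le (by simp [hα])
  exact ⟨e.trans (Equiv.swap (e 0) a).toEmbedding, Equiv.swap_apply_left _ _⟩

theorem card_aut12 (hα : Fintype.card α = 12) (hB : IsSteinerSystem 5 6 B) :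
    Nat.card (setSystemAut B) = 95040 := by
  obtain ⟨a⟩ : Nonempty α := Fintype.card_pos_iff.1 (by omega)
  obtain ⟨x, -⟩ := exists_emb5 hα a
  have horb : MulAction.orbit (setSystemAut B) x = Set.univ :=
    Set.eq_univ_of_forall fun y => aut12_trans hα hB x y
  have h := (MulAction.stabilizer (setSystemAut B) x).card_mul_index
  rw [MulAction.index_stabilizer] at h
  erw [horb] at h
  rw [Set.ncard_univ, aut12_stab hα hB x, Subgroup.card_bot, one_mul,
    Nat.card_eq_fintype_card (α := Fin 5 ↪ α), Fintype.card_embedding_eq, hα, Fintype.card_fin] at h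
  rw [← h]; decide

theorem card_aut12_point (hα : Fintype.card α = 12) (hB : IsSteinerSystem 5 6 B) (a : α) :
    Nat.card (MulAction.stabilizer (setSystemAut B) a) = 7920 := by
  have horb : MulAction.orbit (setSystemAut B) a = Set.univ := by
    refine Set.eq_univ_of_forall fun b => ?_
    obtain ⟨x, hx⟩ := exists_emb5 hα a
    obtain ⟨y, hy⟩ := exists_emb5 hα b
    obtain ⟨σ, hσ⟩ := aut12_trans hα hB x y
    exact ⟨σ, by rw [← hx, ← hy, ← hσ]; rfl⟩
  have h := (MulAction.stabilizer (setSystemAut B) a).card_mul_index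
  rw [MulAction.index_stabilizer, horb, Set.ncard_univ, Nat.card_eq_fintype_card (α := α), hα,
    card_aut12 hα hB] at h
  omega

end Aut12

section Hexads

variable {d : Finset GolayPt}

/-- The hexads as subsets of the dodecad. -/
def hexSys (d : Finset GolayPt) : Set (Finset {p // p ∈ d}) :=
  {s | s.map (Function.Embedding.subtype _) ∈ hexadsOn d}

theorem hexSys_steiner (hd : d ∈ dodecads) : IsSteinerSystem 5 6 (hexSys d) := by
  refine ⟨fun s hs => by rw [← Finset.card_map]; exact hs.1, fun s hs => ?_⟩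
  let ι : {p // p ∈ d} ↪ GolayPt := Function.Embedding.subtype _
  have hcard : (s.map ι).card = 5 := by rw [Finset.card_map, hs]
  obtain ⟨o, ⟨ho, hso⟩, huniq⟩ := octad_exists_unique hcard
  have hsd : s.map ι ⊆ o ∩ d := fun p hp => Finset.mem_inter.2 ⟨hso hp, by
    obtain ⟨q, -, rfl⟩ := Finset.mem_map.1 hp; exact q.2⟩
  have h6 : (o ∩ d).card = 6 := by
    have h5 := Finset.card_le_card hsd
    have h8 : (o ∩ d).card ≤ 8 := ho.2 ▸ Finset.card_le_card Finset.inter_subset_left
    have heven := supports_inter_even ho.1 hd.1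
    have hsd' := supports_card (symmDiff_mem_supports ho.1 hd.1)
    have hadd := card_symmDiff_add o d
    rw [ho.2, hd.2] at hadd
    rw [hcard] at h5
    omega
  let h : Finset {p // p ∈ d} := Finset.univ.filter fun a => (a : GolayPt) ∈ o
  have hh : h.map ι = o ∩ d := by
    ext p
    simp only [Finset.mem_map, Finset.mem_inter, h, Finset.mem_filter, Finset.mem_univ, true_and, ι,
      Function.Embedding.coe_subtype]
    exact ⟨by rintro ⟨a, ha, rfl⟩; exact ⟨ha, a.2⟩, fun hp => ⟨⟨p, hp.2⟩, hp.1, rfl⟩⟩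
  refine ⟨h, ⟨⟨by rw [hh, h6], o, ho, hh.symm⟩, fun a ha => ?_⟩, fun h' hh' => ?_⟩
  · exact Finset.mem_filter.2 ⟨Finset.mem_univ _, hso (Finset.mem_map_of_mem ι ha)⟩
  · obtain ⟨⟨-, o', ho', e⟩, hsub⟩ := hh'
    have hoo : o' = o := huniq o' ⟨ho', fun p hp => by
      have : p ∈ h'.map ι := Finset.map_subset_map.2 hsub hp
      rw [← e] at this; exact (Finset.mem_inter.1 this).1⟩
    subst hoo
    exact Finset.map_injective ι (e.symm.trans hh.symm)

/-- The stabiliser of the dodecad acts on the hexads. -/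
theorem hex_hom (hd : d ∈ dodecads) :
    ∃ Θ : MulAction.stabilizer M24 d →* setSystemAut (hexSys d), Function.Bijective Θ ∧
      ∀ g a, (((Θ g).1 a : {p // p ∈ d}) : GolayPt) = ((g : M24) : Equiv.Perm GolayPt) a := by
  classical
  have hcd : Fintype.card {p // p ∈ d} = 12 := by rw [Fintype.card_coe]; exact hd.2
  have hinv : ∀ (g : MulAction.stabilizer M24 d) (p : GolayPt),
      ((g : M24) : Equiv.Perm GolayPt) p ∈ d ↔ p ∈ d := by
    intro g p
    have e : (g : M24) • d = d := MulAction.mem_stabilizer_iff.1 g.2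
    exact (iff_of_eq (congrArg (fun s : Finset GolayPt => ((g : M24) : Equiv.Perm GolayPt) p ∈ s) e)).symm.trans
      (Finset.smul_mem_smul_finset_iff _)
  let θ : MulAction.stabilizer M24 d → Equiv.Perm {p // p ∈ d} := fun g =>
    ((g : M24) : Equiv.Perm GolayPt).subtypePerm (hinv g)
  let Θ₀ : MulAction.stabilizer M24 d →* Equiv.Perm {p // p ∈ d} :=
    MonoidHom.mk' θ fun g h => Equiv.ext fun a => rfl
  have hmap : ∀ g (s : Finset {p // p ∈ d}), (Θ₀ g • s).map (Function.Embedding.subtype _) =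
      (g : M24) • s.map (Function.Embedding.subtype _) := by
    intro g s
    rw [Finset.smul_finset_def, Finset.smul_finset_def, Finset.map_eq_image, Finset.map_eq_image,
      Finset.image_image, Finset.image_image]
    rfl
  have hone : ∀ g (s : Finset {p // p ∈ d}), s ∈ hexSys d → Θ₀ g • s ∈ hexSys d := by
    intro g s ⟨h6, o, ho, e⟩
    refine ⟨by rw [hmap, Finset.card_smul_finset]; exact h6, (g : M24) • o,
      M24_smul_octad (g : M24).2 ho, ?_⟩
    rw [hmap, ← e, Finset.smul_finset_inter, MulAction.mem_stabilizer_iff.1 g.2]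
  have hmem : ∀ g, Θ₀ g ∈ setSystemAut (hexSys d) := fun g => mem_aut_iff'.2 fun s =>
    ⟨fun h => by
      have := hone g⁻¹ _ h
      rwa [map_inv, inv_smul_smul] at this, hone g s⟩
  let Θ : MulAction.stabilizer M24 d →* setSystemAut (hexSys d) := Θ₀.codRestrict _ hmem
  have hinj : Function.Injective Θ := by
    intro g k h
    obtain ⟨a⟩ : Nonempty {p // p ∈ d} := Fintype.card_pos_iff.1 (by omega)
    obtain ⟨x, -⟩ := exists_emb5 hcd a
    let x' : Fin 5 ↪ GolayPt := x.trans (Function.Embedding.subtype _)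
    let y' : Fin 5 ↪ GolayPt := x'.trans ((g : M24) : Equiv.Perm GolayPt).toEmbedding
    obtain ⟨u, -, hu⟩ := dodecad_sharp hd x' y' (fun i => (x i).2) fun i =>
      (hinv g _).2 (x i).2
    rw [hu g (fun i => rfl), hu k fun i => ?_]
    exact congrArg (fun f : setSystemAut (hexSys d) => ((f.1 (x i) : {p // p ∈ d}) : GolayPt)) h.symm
  refine ⟨Θ, (Nat.bijective_iff_injective_and_card _).2 ⟨hinj, ?_⟩, fun g a => rfl⟩
  obtain ⟨φ⟩ := stabD_equiv hd
  rw [Nat.card_congr φ.toEquiv, card_fix12, card_aut12 hcd (hexSys_steiner hd)]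

theorem isSimple_aut12 {α : Type*} [Fintype α] [DecidableEq α] {B : Set (Finset α)}
    (hα : Fintype.card α = 12) (hB : IsSteinerSystem 5 6 B) : IsSimpleGroup (setSystemAut B) := by
  classical
  obtain ⟨d, hd⟩ : dodecads.Nonempty := ⟨_, sqMask_mem⟩
  have hcd : Fintype.card {p // p ∈ d} = 12 := by rw [Fintype.card_coe]; exact hd.2
  obtain ⟨a⟩ : Nonempty α := Fintype.card_pos_iff.1 (by omega)
  obtain ⟨p⟩ : Nonempty {p // p ∈ d} := Fintype.card_pos_iff.1 (by omega)
  obtain ⟨x, -⟩ := exists_emb5 hα a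
  obtain ⟨y, -⟩ := exists_emb5 hcd p
  obtain ⟨φ, hφ, -⟩ := steiner12_label hα hB x
  obtain ⟨χ, hχ, -⟩ := steiner12_label hcd (hexSys_steiner hd) y
  have he : ∀ w : Finset {p // p ∈ d}, w.image (χ.trans φ.symm) ∈ B ↔ w ∈ hexSys d := by
    intro w
    rw [hφ, hχ w, Finset.image_image]
    refine iff_of_eq (congrArg (fun f : _ → Fin 12 => w.image f ∈ B12) (funext fun b => ?_))
    show φ (φ.symm (χ b)) = _
    rw [Equiv.apply_symm_apply]
  obtain ⟨ψ, -⟩ := aut_equiv he
  obtain ⟨Θ, hΘ, -⟩ := hex_hom hd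
  obtain ⟨φd⟩ := stabD_equiv hd
  have := isSimple_fix12
  exact (((ψ.symm.trans (MulEquiv.ofBijective Θ hΘ).symm).trans φd)).isSimpleGroup

/-- The stabiliser of a point in the group of an `S(5,6,12)` is simple. -/
theorem isSimple_aut12_point {α : Type*} [Fintype α] [DecidableEq α] {B : Set (Finset α)}
    (hα : Fintype.card α = 12) (hB : IsSteinerSystem 5 6 B) (a : α) :
    IsSimpleGroup (MulAction.stabilizer (setSystemAut B) a) := by
  classical
  obtain ⟨d, hd⟩ : dodecads.Nonempty := ⟨_, sqMask_mem⟩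
  have hcd : Fintype.card {p // p ∈ d} = 12 := by rw [Fintype.card_coe]; exact hd.2
  obtain ⟨p⟩ : Nonempty {p // p ∈ d} := Fintype.card_pos_iff.1 (by omega)
  obtain ⟨x, hxa⟩ := exists_emb5 hα a
  obtain ⟨y, hyp⟩ := exists_emb5 hcd p
  obtain ⟨φ, hφ, hx⟩ := steiner12_label hα hB x
  obtain ⟨χ, hχ, hy⟩ := steiner12_label hcd (hexSys_steiner hd) y
  have he : ∀ w : Finset {p // p ∈ d}, w.image (χ.trans φ.symm) ∈ B ↔ w ∈ hexSys d := by
    intro w
    rw [hφ, hχ w, Finset.image_image]
    refine iff_of_eq (congrArg (fun f : _ → Fin 12 => w.image f ∈ B12) (funext fun b => ?_))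
    show φ (φ.symm (χ b)) = _
    rw [Equiv.apply_symm_apply]
  have hpa : (χ.trans φ.symm) p = a := by
    show φ.symm (χ p) = a
    rw [Equiv.symm_apply_eq, ← hxa, ← hyp]
    exact Fin.ext ((hy 0).trans (hx 0).symm)
  obtain ⟨ψ, hψ⟩ := aut_equiv he
  obtain ⟨Θ, hΘ, hΘa⟩ := hex_hom hd
  let K : Subgroup M24 := MulAction.stabilizer M24 d ⊓ MulAction.stabilizer M24 (p : GolayPt)
  let ι : K →* setSystemAut B :=
    ψ.toMonoidHom.comp (Θ.comp (Subgroup.inclusion (inf_le_left : K ≤ MulAction.stabilizer M24 d)))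
  have hmem : ∀ g : K, ι g ∈ MulAction.stabilizer (setSystemAut B) a := by
    intro g
    rw [MulAction.mem_stabilizer_iff]
    show (ψ (Θ _)).1 a = a
    rw [← hpa, hψ]
    refine congrArg _ (Subtype.ext ?_)
    rw [hΘa]
    exact g.2.2
  let ι' : K →* MulAction.stabilizer (setSystemAut B) a := ι.codRestrict _ hmem
  have hinj : Function.Injective ι' := fun g h e => Subgroup.inclusion_injective _
    (hΘ.1 (ψ.injective (congrArg Subtype.val e)))
  obtain ⟨φd⟩ := stabDP_equiv hd p.2
  have hbij : Function.Bijective ι' := (Nat.bijective_iff_injective_and_card _).2 ⟨hinj, by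
    rw [Nat.card_congr φd.toEquiv, card_fix11, card_aut12_point hα hB]⟩
  have := isSimple_fix11
  exact ((MulEquiv.ofBijective ι' hbij).symm.trans φd).isSimpleGroup

end Hexads

section Eleven

variable {α : Type*} [Fintype α] [DecidableEq α] {B : Set (Finset α)}

/-- The extension of an `S(4,5,11)`. -/
def ext12 (B : Set (Finset α)) : Set (Finset (Option α)) :=
  Finset.insertNone '' B ∪ (fun b => bᶜ.map Function.Embedding.some) '' B

theorem disjoint_count11 (hα : Fintype.card α = 11) (hB : IsSteinerSystem 4 5 B) {u : Finset α}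
    (hu : u.card = 5) :
    interNum (blocks B) u 0 + interNum (blocks B) u 5 = 1 := by
  have hlt : ∀ c ∈ blocks B, (u ∩ c).card < 6 := fun c _ =>
    lt_of_le_of_lt (Finset.card_le_card Finset.inter_subset_left) (by omega)
  have key : ∀ j N, j ≤ 4 → 0 < Nat.choose (5 - j) (4 - j) →
      N * Nat.choose (5 - j) (4 - j) = Nat.choose (11 - j) (4 - j) →
      ∑ i ∈ Finset.range 6, interNum (blocks B) u i * Nat.choose i j = Nat.choose u.card j * N :=
    fun j N hj hp hN =>
      inter_moment _ u 6 j N hlt (fun r _ hrc => steiner_lambda hB j N hrc hj hp (hα ▸ hN))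
  have e0 := key 0 66 (by norm_num) (by decide) (by decide)
  have e1 := key 1 30 (by norm_num) (by decide) (by decide)
  have e2 := key 2 12 (by norm_num) (by decide) (by decide)
  have e3 := key 3 4 (by norm_num) (by decide) (by decide)
  have e4 := key 4 1 (by norm_num) (by decide) (by decide)
  norm_num [Finset.sum_range_succ, Nat.choose, hu] at e0 e1 e2 e3 e4
  omega

theorem ext12_steiner (hα : Fintype.card α = 11) (hB : IsSteinerSystem 4 5 B) :
    IsSteinerSystem 5 6 (ext12 B) := by
  classical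
  refine ⟨?_, fun s hs => ?_⟩
  · rintro _ (⟨b, hb, rfl⟩ | ⟨b, hb, rfl⟩)
    · rw [Finset.card_insertNone, hB.1 b hb]
    · show (bᶜ.map _).card = 6
      rw [Finset.card_map, Finset.card_compl, hα, hB.1 b hb]
  by_cases hn : none ∈ s
  · have hu : (Finset.eraseNone s).card = 4 := by
      rw [Finset.card_eraseNone_eq_card_erase, Finset.card_erase_of_mem hn, hs]
    obtain ⟨b, ⟨hb, hsb⟩, huniq⟩ := hB.2 _ hu
    refine ⟨Finset.insertNone b, ⟨Or.inl ⟨b, hb, rfl⟩, ?_⟩, ?_⟩
    · rintro (_ | x) hx
      · simp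
      · simpa using hsb (Finset.mem_eraseNone.2 hx)
    · rintro _ ⟨⟨c, hc, rfl⟩ | ⟨c, hc, rfl⟩, hsc⟩
      · rw [huniq c ⟨hc, fun x hx => by simpa using hsc (Finset.mem_eraseNone.1 hx)⟩]
      · have := hsc hn
        simp at this
  · let u := Finset.eraseNone s
    have hu : u.card = 5 := by
      rw [Finset.card_eraseNone_eq_card_erase, Finset.erase_eq_of_notMem hn, hs]
    have hmem : ∀ x, x ∈ u ↔ some x ∈ s := fun x => Finset.mem_eraseNone
    have hsub1 : ∀ c : Finset α, s ⊆ Finset.insertNone c ↔ u ⊆ c := fun c =>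
      ⟨fun h x hx => by simpa using h ((hmem x).1 hx),
        fun h x hx => by
          rcases x with _ | x
          · exact absurd hx hn
          · simpa using h ((hmem x).2 hx)⟩
    have hsub2 : ∀ c : Finset α, s ⊆ cᶜ.map Function.Embedding.some ↔ Disjoint u c := by
      intro c
      rw [Finset.disjoint_left]
      exact ⟨fun h x hx => by simpa using h ((hmem x).1 hx),
        fun h x hx => by
          rcases x with _ | x
          · exact absurd hx hn
          · simpa using h ((hmem x).2 hx)⟩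
    have h5 : ∀ c ∈ B, u ⊆ c → c = u := fun c hc h =>
      (Finset.eq_of_subset_of_card_le h (by rw [hB.1 c hc, hu])).symm
    have hcnt := disjoint_count11 hα hB hu
    by_cases huB : u ∈ B
    · have h55 : 0 < interNum (blocks B) u 5 :=
        interNum_pos (mem_blocks.2 huB) (by rw [Finset.inter_self, hu])
      refine ⟨Finset.insertNone u, ⟨Or.inl ⟨u, huB, rfl⟩, (hsub1 u).2 le_rfl⟩, ?_⟩
      rintro _ ⟨⟨c, hc, rfl⟩ | ⟨c, hc, rfl⟩, hsc⟩
      · rw [h5 c hc ((hsub1 c).1 hsc)]
      · have := (hsub2 c).1 hsc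
        have h0 : 0 < interNum (blocks B) u 0 := interNum_pos (mem_blocks.2 hc)
          (by rw [Finset.disjoint_iff_inter_eq_empty.1 this, Finset.card_empty])
        omega
    · have h55 : interNum (blocks B) u 5 = 0 := by
        rw [interNum, Finset.card_eq_zero, Finset.filter_eq_empty_iff]
        intro c hc e
        have hc' := mem_blocks.1 hc
        have h1 : u ∩ c = u :=
          Finset.eq_of_subset_of_card_le Finset.inter_subset_left (by rw [hu, e])
        exact huB (h5 c hc' (Finset.inter_eq_left.1 h1) ▸ hc')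
      have h01 : ((blocks B).filter fun c => (u ∩ c).card = 0).card = 1 := by
        show interNum (blocks B) u 0 = 1; omega
      obtain ⟨c, hc⟩ := Finset.card_eq_one.1 h01
      have hc' : c ∈ (blocks B).filter fun c => (u ∩ c).card = 0 := by rw [hc]; simp
      rw [Finset.mem_filter, mem_blocks, Finset.card_eq_zero,
        ← Finset.disjoint_iff_inter_eq_empty] at hc'
      refine ⟨cᶜ.map Function.Embedding.some, ⟨Or.inr ⟨c, hc'.1, rfl⟩, (hsub2 c).2 hc'.2⟩, ?_⟩
      rintro _ ⟨⟨c', hc1, rfl⟩ | ⟨c', hc1, rfl⟩, hsc⟩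
      · exact absurd (h5 c' hc1 ((hsub1 c').1 hsc) ▸ hc1) huB
      · have : c' ∈ (blocks B).filter fun c => (u ∩ c).card = 0 := by
          rw [Finset.mem_filter, mem_blocks, Finset.card_eq_zero,
            ← Finset.disjoint_iff_inter_eq_empty]
          exact ⟨hc1, (hsub2 c').1 hsc⟩
        rw [hc, Finset.mem_singleton] at this
        rw [this]

theorem ext12_insertNone (c : Finset α) : Finset.insertNone c ∈ ext12 B ↔ c ∈ B := by
  constructor
  · rintro (⟨b, hb, e⟩ | ⟨b, -, e⟩)
    · have := congrArg Finset.eraseNone e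
      simp only [Finset.eraseNone_insertNone] at this
      exact this ▸ hb
    · have := Finset.ext_iff.1 e none
      simp at this
  · exact fun h => Or.inl ⟨c, h, rfl⟩

theorem smul_insertNone (σ : Equiv.Perm α) (c : Finset α) :
    (Equiv.optionCongr σ) • Finset.insertNone c = Finset.insertNone (σ • c) := by
  rw [Finset.smul_finset_def, Finset.smul_finset_def]
  ext (_ | x)
  · simp [Equiv.Perm.smul_def]
  · simp [Equiv.Perm.smul_def]

/-- The group of an `S(4,5,11)` is the point stabiliser in the group of its extension. -/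
theorem aut11_equiv (hα : Fintype.card α = 11) (hB : IsSteinerSystem 4 5 B) :
    ∃ Φ : setSystemAut B ≃* MulAction.stabilizer (setSystemAut (ext12 B)) (none : Option α),
      ∀ σ x, (Φ σ).1.1 x = Equiv.optionCongr σ.1 x := by
  classical
  have hα' : Fintype.card (Option α) = 12 := by simp [hα]
  have hB' := ext12_steiner hα hB
  have hmem : ∀ σ : setSystemAut B, Equiv.optionCongr (σ : Equiv.Perm α) ∈ setSystemAut (ext12 B) := by
    intro σ
    have hσ := mem_aut_iff'.1 σ.2
    rw [MulAction.mem_stabilizer_iff]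
    refine Set.eq_of_subset_of_ncard_le ?_ ?_ (Set.toFinite _)
    · rintro _ ⟨t, ht, rfl⟩
      rcases ht with ⟨b, hb, rfl⟩ | ⟨b, hb, rfl⟩
      · show Equiv.optionCongr (σ : Equiv.Perm α) • Finset.insertNone b ∈ ext12 B
        rw [smul_insertNone]
        exact (ext12_insertNone _).2 ((hσ b).2 hb)
      · show Equiv.optionCongr (σ : Equiv.Perm α) • bᶜ.map Function.Embedding.some ∈ ext12 B
        have h1 := compl_mem12 hα' hB' ((ext12_insertNone _).2 ((hσ b).2 hb))
        have e : ∀ c : Finset α, (Finset.insertNone c)ᶜ = cᶜ.map Function.Embedding.some := fun c => by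
          ext (_ | x) <;> simp
        rw [← e, Finset.smul_finset_def]
        erw [image_compl12]
        rw [show (Finset.insertNone b).image ⇑(Equiv.optionCongr (σ : Equiv.Perm α)) =
            Equiv.optionCongr (σ : Equiv.Perm α) • Finset.insertNone b from rfl, smul_insertNone]
        exact h1
    · exact le_of_eq (Set.ncard_image_of_injective _ (MulAction.injective _)).symm
  let Φ : setSystemAut B →* MulAction.stabilizer (setSystemAut (ext12 B)) (none : Option α) :=
    MonoidHom.mk' (fun σ => ⟨⟨_, hmem σ⟩, rfl⟩) fun σ τ =>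
      Subtype.ext (Subtype.ext (Equiv.ext fun x => by cases x <;> rfl))
  refine ⟨MulEquiv.ofBijective Φ ⟨fun σ τ h => Subtype.ext (Equiv.ext fun x => ?_), ?_⟩,
    fun σ x => rfl⟩
  · have := congrArg (fun f : MulAction.stabilizer (setSystemAut (ext12 B)) (none : Option α) =>
      f.1.1 (some x)) h
    exact Option.some.inj this
  · rintro ⟨⟨τ, hτ⟩, hn⟩
    have hn' : τ none = none := hn
    have hr : Equiv.optionCongr τ.removeNone = τ := by
      refine Equiv.ext fun x => ?_
      rcases x with _ | x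
      · simpa using hn'.symm
      · simp only [Equiv.optionCongr_apply, Option.map_some]
        refine Equiv.removeNone_some τ ?_
        rcases h : τ (some x) with _ | y
        · exact absurd (τ.injective (h.trans hn'.symm)) (by simp)
        · exact ⟨y, rfl⟩
    have hσ : τ.removeNone ∈ setSystemAut B := by
      refine mem_aut_iff'.2 fun s => ?_
      rw [← ext12_insertNone (B := B), ← ext12_insertNone (B := B) s, ← smul_insertNone, hr]
      exact mem_aut_iff'.1 hτ _
    exact ⟨⟨_, hσ⟩, Subtype.ext (Subtype.ext hr)⟩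

/-- Four points of the eleven, with the extra point first. -/
theorem emb_cons (x : Fin 4 ↪ α) : ∃ x' : Fin 5 ↪ Option α, x' 0 = none ∧
    ∀ i, x' i.succ = some (x i) :=
  ⟨⟨Fin.cons none (fun i => some (x i)), Fin.cons_injective_iff.2
    ⟨fun ⟨i, hi⟩ => by simp at hi, fun i j h => x.injective (Option.some.inj h)⟩⟩, rfl, fun _ => rfl⟩

theorem aut11_facts (hα : Fintype.card α = 11) (hB : IsSteinerSystem 4 5 B) :
    Cfsg.IsM11 (setSystemAut B) ∧ MulAction.IsMultiplyPretransitive (setSystemAut B) α 4 ∧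
      ∀ x : Fin 4 ↪ α, MulAction.stabilizer (setSystemAut B) x = ⊥ := by
  classical
  have hα' : Fintype.card (Option α) = 12 := by simp [hα]
  have hB' := ext12_steiner hα hB
  obtain ⟨Φ, hΦ⟩ := aut11_equiv hα hB
  refine ⟨⟨?_, ?_⟩, ⟨fun x y => ?_⟩, fun x => ?_⟩
  · have := isSimple_aut12_point hα' hB' (none : Option α)
    exact Φ.isSimpleGroup
  · rw [Nat.card_congr Φ.toEquiv, card_aut12_point hα' hB']
  · obtain ⟨x', x0, x1⟩ := emb_cons x
    obtain ⟨y', y0, y1⟩ := emb_cons y
    obtain ⟨τ, hτ⟩ := aut12_trans hα' hB' x' y'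
    have hτ' : ∀ i, τ.1 (x' i) = y' i := fun i => DFunLike.congr_fun hτ i
    have hn : τ ∈ MulAction.stabilizer (setSystemAut (ext12 B)) (none : Option α) := by
      show τ.1 none = none
      have := hτ' 0
      rwa [x0, y0] at this
    refine ⟨Φ.symm ⟨τ, hn⟩, DFunLike.ext _ _ fun i => Option.some.inj ?_⟩
    have h1 := hΦ (Φ.symm ⟨τ, hn⟩) (some (x i))
    rw [MulEquiv.apply_symm_apply] at h1
    show some ((Φ.symm ⟨τ, hn⟩).1 (x i)) = some (y i)
    rw [← y1, ← hτ', x1]
    exact h1.symm
  · rw [eq_bot_iff]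
    intro σ hσ
    obtain ⟨x', x0, x1⟩ := emb_cons x
    have hfix : ∀ i, (Φ σ).1.1 (x' i) = x' i := by
      intro i
      rw [hΦ]
      induction i using Fin.cases with
      | zero => rw [x0]; rfl
      | succ j =>
        rw [x1]
        show some (σ.1 (x j)) = some (x j)
        exact congrArg some (DFunLike.congr_fun hσ j)
    have h1 : (Φ σ).1 ∈ MulAction.stabilizer (setSystemAut (ext12 B)) x' :=
      DFunLike.ext _ _ hfix
    rw [aut12_stab hα' hB' x', Subgroup.mem_bot] at h1
    rw [Subgroup.mem_bot]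
    exact Φ.injective (by rw [map_one]; exact Subtype.ext h1)

theorem steiner11_unique {β : Type*} [Fintype β] [DecidableEq β] {B' : Set (Finset β)}
    (hα : Fintype.card α = 11) (hβ : Fintype.card β = 11) (hB : IsSteinerSystem 4 5 B)
    (hB' : IsSteinerSystem 4 5 B') : SetSystemIso B B' := by
  classical
  have hα' : Fintype.card (Option α) = 12 := by simp [hα]
  have hβ' : Fintype.card (Option β) = 12 := by simp [hβ]
  obtain ⟨x, hx0⟩ := exists_emb5 hα' (none : Option α)
  obtain ⟨y, hy0⟩ := exists_emb5 hβ' (none : Option β)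
  obtain ⟨φ, hφ, hx⟩ := steiner12_label hα' (ext12_steiner hα hB) x
  obtain ⟨χ, hχ, hy⟩ := steiner12_label hβ' (ext12_steiner hβ hB') y
  let E : Option α ≃ Option β := φ.trans χ.symm
  have hE : E none = none := by
    show χ.symm (φ none) = none
    rw [Equiv.symm_apply_eq, ← hx0, ← hy0]
    exact Fin.ext ((hx 0).trans (hy 0).symm)
  have hE' : ∀ a, E (some a) = some (E.removeNone a) := by
    intro a
    refine (Equiv.removeNone_some E ?_).symm
    rcases h : E (some a) with _ | y
    · exact absurd (E.injective (h.trans hE.symm)) (by simp)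
    · exact ⟨y, rfl⟩
  refine ⟨E.removeNone, image_family_eq fun w => ?_⟩
  rw [← ext12_insertNone (B := B'), ← ext12_insertNone (B := B) w, hφ, hχ]
  refine iff_of_eq (congrArg (· ∈ B12) ?_)
  have e : Finset.insertNone (w.image E.removeNone) = (Finset.insertNone w).image E := by
    ext (_ | b)
    · simp only [Finset.none_mem_insertNone, Finset.mem_image, true_iff]
      exact ⟨none, Finset.none_mem_insertNone, hE⟩
    · simp only [Finset.some_mem_insertNone, Finset.mem_image]
      constructor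
      · rintro ⟨a, ha, rfl⟩
        exact ⟨some a, Finset.some_mem_insertNone.2 ha, hE' a⟩
      · rintro ⟨(_ | a), ha, h⟩
        · rw [hE] at h; exact absurd h (by simp)
        · rw [hE'] at h
          exact ⟨a, Finset.some_mem_insertNone.1 ha, Option.some.inj h⟩
  rw [e, Finset.image_image]
  exact Finset.image_congr fun a _ => χ.apply_symm_apply _

end Eleven

end CfsgLib.Golay
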