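import Cfsg.Agent.Lib.Golay.Steiner12Search
import Cfsg.Agent.Lib.Golay.Steiner

/-! Every `S(5,6,12)` is the standard one, with five given points in given position. -/

set_option autoImplicit false
set_option maxRecDepth 100000

namespace CfsgLib.Golay

open Cfsg
open scoped Pointwise

/-- The set of a mask. -/
def bset12 (m : ℕ) : Finset (Fin 12) := Finset.univ.filter fun i => m.testBit i.val

/-- The standard system. -/
def B12 : Set (Finset (Fin 12)) :=
  {s | ∃ b ∈ std12, s = bset12 b ∨ s = bset12 (Nat.xor 4095 b)}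

theorem mem_bset12 {m : ℕ} {i : Fin 12} : i ∈ bset12 m ↔ m.testBit i.val = true := by
  simp [bset12]

theorem card_bset12 {m : ℕ} (hm : m < 4096) : (bset12 m).card = pop m := by
  rw [← card_mset m]
  refine Finset.card_nbij (fun i : Fin 12 => pt i.val) (fun i hi => ?_) (fun i _ j _ h => ?_)
    (fun p hp => ?_)
  · rw [Finset.mem_coe, mem_bset12] at hi
    rw [Finset.mem_coe, mem_mset, idx_pt (by omega)]
    exact hi
  · have := congrArg idx h
    simp only [] at this
    rw [idx_pt (by omega), idx_pt (by omega)] at this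
    exact Fin.ext this
  · rw [Finset.mem_coe, mem_mset] at hp
    have h12 : idx p < 12 := by
      by_contra h
      have := Nat.lt_of_lt_of_le hm (Nat.pow_le_pow_right (by norm_num : 0 < 2)
        (Nat.not_lt.1 h) : 2 ^ 12 ≤ 2 ^ idx p)
      rw [Nat.testBit_lt_two_pow this] at hp
      simp at hp
    exact ⟨⟨idx p, h12⟩, by rw [Finset.mem_coe, mem_bset12]; exact hp, pt_idx p⟩

theorem bset12_and (a b : ℕ) : bset12 (Nat.land a b) = bset12 a ∩ bset12 b := by
  ext i
  rw [Finset.mem_inter, mem_bset12, mem_bset12, mem_bset12, show Nat.land a b = a &&& b from rfl,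
    Nat.testBit_and, Bool.and_eq_true]

theorem bset12_compl (m : ℕ) : bset12 (Nat.xor 4095 m) = (bset12 m)ᶜ := by
  ext i
  rw [Finset.mem_compl, mem_bset12, mem_bset12, show Nat.xor 4095 m = 4095 ^^^ m from rfl,
    Nat.testBit_xor, show (4095 : ℕ) = 2 ^ 12 - 1 from rfl, Nat.testBit_two_pow_sub_one]
  simp

theorem exists_bset12 (s : Finset (Fin 12)) : ∃ m < 4096, bset12 m = s := by
  obtain ⟨m, -, hm⟩ := exists_mset (s.image fun i : Fin 12 => pt i.val)
  refine ⟨m % 4096, Nat.mod_lt _ (by norm_num), ?_⟩
  ext i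
  rw [mem_bset12, show (4096 : ℕ) = 2 ^ 12 from rfl, Nat.testBit_mod_two_pow,
    decide_eq_true i.isLt, Bool.true_and]
  have h : m.testBit i.val = true ↔ pt i.val ∈ mset m := by rw [mem_mset, idx_pt (by omega)]
  rw [h, hm, Finset.mem_image]
  constructor
  · rintro ⟨j, hj, e⟩
    have := congrArg idx e
    rw [idx_pt (by omega), idx_pt (by omega)] at this
    rwa [Fin.ext this.symm]
  · exact fun hi => ⟨i, hi, rfl⟩

theorem bset12_img (p : Fin 12 → Fin 12) (b : ℕ) :
    bset12 (imgMask p b) = (bset12 b).image p := by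
  have key : ∀ (l : List (Fin 12)) (j : Fin 12),
      (l.foldr (fun (i : Fin 12) r => if b.testBit i.val then 2 ^ (p i : ℕ) ||| r else r)
        0).testBit j.val = true ↔ ∃ i ∈ l, b.testBit i.val = true ∧ p i = j := by
    intro l j
    induction l with
    | nil => simp
    | cons a l ih =>
      simp only [List.foldr_cons, List.mem_cons, exists_eq_or_imp]
      by_cases h : b.testBit a.val = true
      · rw [if_pos h, Nat.testBit_or, Bool.or_eq_true, ih, Nat.testBit_two_pow, decide_eq_true_eq,
          ← Fin.ext_iff]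
        simp [h]
      · rw [if_neg h, ih]
        simp [h]
  ext j
  rw [mem_bset12, imgMask, key, Finset.mem_image]
  simp [mem_bset12]

theorem rep12_lt {b : ℕ} (hb : b < 4096) : rep12 b < 2048 := by
  unfold rep12
  split_ifs with h
  · exact Nat.le_of_ble_eq_true h
  · have hb' : b.testBit 11 = true := Nat.testBit_of_two_pow_le_and_two_pow_add_one_gt
      (show 2 ^ 11 ≤ b by simpa [Nat.blt_eq] using h) (by simpa using hb)
    refine Nat.lt_pow_two_of_testBit (n := 11) _ fun i hi => ?_
    rw [show Nat.xor 4095 b = 4095 ^^^ b from rfl, Nat.testBit_xor,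
      show (4095 : ℕ) = 2 ^ 12 - 1 from rfl, Nat.testBit_two_pow_sub_one]
    rcases Nat.eq_or_lt_of_le hi with rfl | hi
    · simp [hb']
    · rw [Nat.testBit_lt_two_pow (lt_of_lt_of_le hb (Nat.pow_le_pow_right (by norm_num : 0 < 2) hi : 2 ^ 12 ≤ 2 ^ i))]
      simp; omega

theorem image_compl12 {β γ : Type*} [Fintype β] [DecidableEq β] [Fintype γ] [DecidableEq γ]
    (e : β ≃ γ) (s : Finset β) : sᶜ.image e = (s.image e)ᶜ := by
  ext x; obtain ⟨y, rfl⟩ := e.surjective x; simp

theorem rep12_cases (b : ℕ) :
    bset12 (rep12 b) = bset12 b ∨ bset12 (rep12 b) = (bset12 b)ᶜ := by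
  unfold rep12
  split_ifs
  · exact Or.inl rfl
  · exact Or.inr (bset12_compl b)

section Sys

variable {α : Type*} [Fintype α] [DecidableEq α]

theorem compl_mem12 (hα : Fintype.card α = 12) {B : Set (Finset α)} (hB : IsSteinerSystem 5 6 B)
    {b : Finset α} (hb : b ∈ B) : bᶜ ∈ B := by
  obtain ⟨-, h0, -⟩ := inter_5_6_12 hα hB hb
  obtain ⟨c, hc⟩ : (((blocks B).erase b).filter fun c => (b ∩ c).card = 0).Nonempty :=
    Finset.card_pos.1 (by show 0 < interNum ((blocks B).erase b) b 0; omega)
  rw [Finset.mem_filter, Finset.mem_erase, mem_blocks, Finset.card_eq_zero] at hc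
  have : c = bᶜ := Finset.eq_of_subset_of_card_le
    (fun x hx => Finset.mem_compl.2 fun hxb => by
      have : x ∈ b ∩ c := Finset.mem_inter.2 ⟨hxb, hx⟩
      rw [hc.2] at this; simp at this)
    (by rw [Finset.card_compl, hα, hB.1 b hb, hB.1 c hc.1.2])
  rw [← this]; exact hc.1.2

theorem inter_not_one_five (hα : Fintype.card α = 12) {B : Set (Finset α)}
    (hB : IsSteinerSystem 5 6 B) {b c : Finset α} (hb : b ∈ B) (hc : c ∈ B) :
    (b ∩ c).card ≠ 1 ∧ (b ∩ c).card ≠ 5 := by
  have h5 : ∀ c ∈ B, (b ∩ c).card ≠ 5 := by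
    intro c hc e
    by_cases h : b = c
    · subst h; rw [Finset.inter_self, hB.1 b hb] at e; omega
    · have := (inter_5_6_12 hα hB hb).1 c (Finset.mem_erase.2 ⟨Ne.symm h, mem_blocks.2 hc⟩)
      omega
  refine ⟨fun e => h5 _ (compl_mem12 hα hB hc) ?_, h5 c hc⟩
  have := Finset.card_inter_add_card_sdiff b c
  rw [hB.1 b hb, e] at this
  rw [show b ∩ cᶜ = b \ c by ext x; simp]
  omega

variable {B : Set (Finset α)}

/-- The blocks of `B` in labels. -/
def InB (B : Set (Finset α)) (φ : α ≃ Fin 12) (m : ℕ) : Prop := (bset12 m).image φ.symm ∈ B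

theorem inB_rep (hα : Fintype.card α = 12) (hB : IsSteinerSystem 5 6 B) {φ : α ≃ Fin 12} {m : ℕ}
    (h : InB B φ m) : InB B φ (rep12 m) := by
  rcases rep12_cases m with e | e <;> simp only [InB, e]
  · exact h
  · rw [image_compl12]; exact compl_mem12 hα hB h

theorem inB_of_rep (hα : Fintype.card α = 12) (hB : IsSteinerSystem 5 6 B) {φ : α ≃ Fin 12} {m : ℕ}
    (h : InB B φ (rep12 m)) : InB B φ m := by
  rcases rep12_cases m with e | e <;> simp only [InB, e] at h ⊢
  · exact h
  · rw [image_compl12] at h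
    simpa using compl_mem12 hα hB h

theorem sys12 (hα : Fintype.card α = 12) (hB : IsSteinerSystem 5 6 B) (φ : α ≃ Fin 12) :
    Sys12 (InB B φ) := by
  constructor
  · intro b c hb hc h h'
    have := inter_not_one_five hα hB h h'
    rw [← Finset.image_inter _ _ φ.symm.injective, Finset.card_image_of_injective _ φ.symm.injective,
      ← bset12_and, card_bset12 (show Nat.land b c < 4096 from
        lt_of_le_of_lt (Nat.and_le_left : b &&& c ≤ b) (by omega))] at this
    unfold compat12
    rw [Bool.not_eq_true', Bool.or_eq_false_iff]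
    constructor <;> rw [Bool.eq_false_iff, Ne, Nat.beq_eq] <;> tauto
  · intro s hs hp
    obtain ⟨b, ⟨hb, hsb⟩, -⟩ := hB.2 ((bset12 s).image φ.symm)
      (by rw [Finset.card_image_of_injective _ φ.symm.injective, card_bset12 hs, hp])
    obtain ⟨m, hm, he⟩ := exists_bset12 (b.image φ)
    have hm' : InB B φ m := by simp [InB, he, Finset.image_image, hb]
    have hsub : bset12 s ⊆ bset12 m := by
      intro i hi
      rw [he]
      exact Finset.mem_image.2 ⟨φ.symm i, hsb (Finset.mem_image_of_mem _ hi), φ.apply_symm_apply i⟩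
    have hr := inB_rep hα hB hm'
    have hrl := rep12_lt hm
    have hr6 : (bset12 (rep12 m)).card = 6 := by
      rw [← Finset.card_image_of_injective _ φ.symm.injective]; exact hB.1 _ hr
    refine ⟨rep12 m, ?_, hr, ?_⟩
    · simp only [sixReps, List.mem_filter, List.mem_range, Nat.beq_eq]
      exact ⟨hrl, by rw [← card_bset12 (by omega), hr6]⟩
    · have hland : ∀ t, bset12 s ⊆ bset12 t → Nat.land t s = s := by
        intro t ht
        refine Nat.eq_of_testBit_eq fun i => ?_
        rw [show Nat.land t s = t &&& s from rfl, Nat.testBit_and]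
        by_cases hi : s.testBit i = true
        · have hi12 : i < 12 := by
            by_contra h
            rw [Nat.testBit_lt_two_pow
              (lt_of_lt_of_le hs (Nat.pow_le_pow_right (by norm_num) (Nat.not_lt.1 h) : 2 ^ 12 ≤ _))]
              at hi
            simp at hi
          have := mem_bset12.1 (ht (mem_bset12.2 (show s.testBit (⟨i, hi12⟩ : Fin 12).val = true from hi)))
          rw [hi, Bool.and_true]; exact this
        · simp [hi]
      unfold covers12
      rw [Bool.or_eq_true, Nat.beq_eq, Nat.beq_eq]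
      rcases rep12_cases m with e | e
      · exact Or.inl (hland _ (by rw [e]; exact hsub))
      · exact Or.inr (hland _ (by rw [bset12_compl, e, compl_compl]; exact hsub))

theorem B12_steiner_unique {φ : α ≃ Fin 12} (hα : Fintype.card α = 12)
    (hB : IsSteinerSystem 5 6 B) (h : ∀ b ∈ std12, InB B φ b) (s : Finset α) :
    s ∈ B ↔ s.image φ ∈ B12 := by
  constructor
  · intro hs
    obtain ⟨m, hm, he⟩ := exists_bset12 (s.image φ)
    obtain ⟨t, ht, htc⟩ := Finset.exists_subset_card_eq (show 5 ≤ (s.image φ).card by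
      rw [Finset.card_image_of_injective _ φ.injective, hB.1 s hs]; norm_num)
    obtain ⟨k, hk, hke⟩ := exists_bset12 t
    have hk5 : pop k = 5 := by rw [← card_bset12 hk, hke, htc]
    have hcov := allB_range (d := 12) std12_facts.2 hk
    simp only [show Nat.beq (pop k) 5 = true by rw [Nat.beq_eq, hk5], Bool.not_true, Bool.false_or,
      List.any_eq_true, covers12, Bool.or_eq_true, Nat.beq_eq] at hcov
    obtain ⟨b, hb, hbc⟩ := hcov
    have hmem : ∀ c, (bset12 c).image φ.symm ∈ B → Nat.land c k = k →
        s.image φ = bset12 c := by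
      intro c hc hck
      have h1 : t ⊆ bset12 c := by
        rw [← hke, ← hck, bset12_and]; exact Finset.inter_subset_left
      obtain ⟨u, -, huniq⟩ := hB.2 (t.image φ.symm)
        (by rw [Finset.card_image_of_injective _ φ.symm.injective, htc])
      have e1 := huniq s ⟨hs, fun x hx => by
        obtain ⟨i, hi, rfl⟩ := Finset.mem_image.1 hx
        obtain ⟨y, hy, rfl⟩ := Finset.mem_image.1 (ht hi)
        simpa using hy⟩
      have e2 := huniq _ ⟨hc, Finset.image_subset_image h1⟩
      rw [e1, ← e2, Finset.image_image, Equiv.self_comp_symm, Finset.image_id]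
    rcases hbc with hbc | hbc
    · exact ⟨b, hb, Or.inl (hmem b (h b hb) hbc)⟩
    · refine ⟨b, hb, Or.inr (hmem _ ?_ hbc)⟩
      rw [bset12_compl, image_compl12]
      exact compl_mem12 hα hB (h b hb)
  · rintro ⟨b, hb, e⟩
    have e' : s = (s.image φ).image φ.symm := by simp [Finset.image_image]
    rcases e with e | e <;> rw [e', e]
    · exact h b hb
    · rw [bset12_compl, image_compl12]
      exact compl_mem12 hα hB (h b hb)

end Sys

end CfsgLib.Golay
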