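import Cfsg.Agent.Lib.Golay.Steiner12Iso

/-! Normal labelling of an `S(5,6,12)` and sharp five-fold transitivity of its group. -/

set_option autoImplicit false
set_option maxRecDepth 100000

namespace CfsgLib.Golay

open Cfsg
open scoped Pointwise

/-- The six configurations of two further partners. -/
def pairTab : List (ℕ × ℕ) := [(9, 10), (9, 11), (10, 9), (10, 11), (11, 9), (11, 10)]

theorem tab_bij : ∀ k < 6, Function.Bijective (lamTab.getD k id) ∧
    Function.Bijective (autTab.getD k id) := by
  decide +kernel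

theorem lam_onto : ∀ k < 6, ∀ b ∈ init12 9 10,
    ∃ b' ∈ init12 (pairTab.getD k (0, 0)).1 (pairTab.getD k (0, 0)).2,
      rep12 (imgMask (lamTab.getD k id) b') = b := by
  decide +kernel

theorem bad_targets : ∀ z ∈ [9, 10, 11], ∀ s ∈
    [2 ^ ([9, 10, 11].find? (· != z)).getD 0 + 60, 2 ^ ([9, 10, 11].find? (· != z)).getD 0 + 58],
    s < 4096 ∧ pop s = 5 := by
  decide +kernel

/-- Mask of the block through the first new point at index `i`. -/
def partMask (r y : Fin 12) (i : Fin 5) : ℕ := 2 ^ (r : ℕ) + 2 ^ (y : ℕ) + (62 - 2 ^ (i.val + 1))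

/-- The last four left points at index `i`. -/
def quad12 (i : Fin 5) : Finset (Fin 12) :=
  ((Finset.univ : Finset (Fin 6)) \ {0, i.succ}).image (Fin.castAdd 6)

theorem bset_partMask : ∀ r y : Fin 12, 6 ≤ r.val → 6 ≤ y.val → r ≠ y → ∀ i : Fin 5,
    partMask r y i < 4096 ∧ bset12 (partMask r y i) = insert r (insert y (quad12 i)) := by
  decide +kernel

theorem bset_left : bset12 63 = (Finset.univ : Finset (Fin 6)).image (Fin.castAdd 6) := by
  decide +kernel

theorem init12_eq (z w : Fin 12) : init12 z w = [63, partMask 6 7 0, partMask 6 8 1,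
    partMask 6 9 2, partMask 6 10 3, partMask 6 11 4, partMask 8 z 0, partMask 7 w 1].map rep12 := by
  revert z w; decide +kernel

theorem fixTab_part : ∀ k : Fin 6, ∀ i : Fin 5,
    6 ≤ (fixTab.getD k id ⟨7 + i.val, by omega⟩).val ∧
    (6 + k.val : ℕ) ≠ (fixTab.getD k id ⟨7 + i.val, by omega⟩).val ∧
    rep12 (partMask ⟨6 + k.val, by omega⟩ (fixTab.getD k id ⟨7 + i.val, by omega⟩) i) ∈ std12 := by
  decide +kernel

theorem fixTab_shape : ∀ k : Fin 6, (fixTab.getD k id 6).val = 6 + k.val ∧
    ∀ j : Fin 6, fixTab.getD k id (Fin.castAdd 6 j) = Fin.castAdd 6 j := by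
  decide +kernel

theorem fixTab_zero : fixTab.getD 0 id = id := by decide +kernel

theorem std_partMask : ∀ i : Fin 5, rep12 (partMask 6 (Fin.natAdd 6 i.succ) i) ∈ std12 := by
  decide +kernel

theorem card_quad12 : ∀ i : Fin 5, (quad12 i).card = 4 := by decide +kernel

theorem rep12_compl : allB 12 (fun m => Nat.beq (rep12 (Nat.xor 4095 m)) (rep12 m) &&
    (!Nat.blt m 2048 || Nat.beq (rep12 m) m)) 0 = true := by
  decide +kernel

theorem bset12_inj {m n : ℕ} (hm : m < 4096) (hn : n < 4096) (h : bset12 m = bset12 n) : m = n := by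
  refine Nat.eq_of_testBit_eq fun i => ?_
  by_cases hi : i < 12
  · have := Finset.ext_iff.1 h ⟨i, hi⟩
    rw [mem_bset12, mem_bset12] at this
    exact Bool.eq_iff_iff.2 this
  · have hp : 2 ^ 12 ≤ 2 ^ i := Nat.pow_le_pow_right (by norm_num) (Nat.not_lt.1 hi)
    rw [Nat.testBit_lt_two_pow (lt_of_lt_of_le hm hp), Nat.testBit_lt_two_pow (lt_of_lt_of_le hn hp)]

theorem imgMask_lt (p : Fin 12 → Fin 12) (b : ℕ) : imgMask p b < 4096 := by
  unfold imgMask
  induction List.finRange 12 with
  | nil => simp
  | cons a l ih =>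
    simp only [List.foldr_cons]
    split_ifs
    · exact Nat.or_lt_two_pow (n := 12) (Nat.pow_lt_pow_right (by norm_num) (p a).isLt) ih
    · exact ih

theorem rep_mem_std {m : ℕ} (hm : m < 4096) (h : bset12 m ∈ B12) : rep12 m ∈ std12 := by
  obtain ⟨b, hb, e⟩ := h
  have hb' := (std12_facts.1 b hb).1
  have hr := allB_range (d := 12) rep12_compl (show b < 2 ^ 12 by omega)
  simp only [Bool.and_eq_true, Nat.beq_eq, Bool.or_eq_true, Bool.not_eq_true'] at hr
  have hrb : rep12 b = b := by
    rcases hr.2 with h' | h'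
    · have hlt : Nat.blt b 2048 = true := Nat.ble_eq_true_of_le hb'
      rw [hlt] at h'; simp at h'
    · exact h'
  rcases e with e | e
  · rw [bset12_inj hm (by omega) e, hrb]; exact hb
  · rw [bset12_inj hm (Nat.xor_lt_two_pow (n := 12) (by norm_num) (by omega)) e]
    rw [show Nat.xor 4095 b = 4095 ^^^ b from rfl] at hr
    rw [show rep12 (4095 ^^^ b) = rep12 b from hr.1, hrb]; exact hb

theorem B12_finite : B12.Finite := Set.toFinite _

theorem image_B12 {σ : Equiv.Perm (Fin 12)}
    (h : ∀ b ∈ std12, rep12 (imgMask σ b) ∈ std12) (s : Finset (Fin 12)) :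
    s.image σ ∈ B12 ↔ s ∈ B12 := by
  have hsub : (fun t : Finset (Fin 12) => t.image σ) '' B12 ⊆ B12 := by
    rintro _ ⟨t, ⟨b, hb, e⟩, rfl⟩
    refine ⟨_, h b hb, ?_⟩
    rcases rep12_cases (imgMask σ b) with r | r <;> rcases e with e | e <;> subst e <;>
      simp [show ∀ m, bset12 (4095 ^^^ m) = (bset12 m)ᶜ from bset12_compl, r, bset12_img, image_compl12]
  have heq : (fun t : Finset (Fin 12) => t.image σ) '' B12 = B12 :=
    Set.eq_of_subset_of_ncard_le hsub
      (le_of_eq (Set.ncard_image_of_injective _ (Finset.image_injective σ.injective)).symm)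
      B12_finite
  conv_lhs => rw [← heq]
  exact Function.Injective.mem_set_image (Finset.image_injective σ.injective)

section Label

variable {α : Type*} [Fintype α] [DecidableEq α] {B : Set (Finset α)}

theorem block_eq_of_five (hB : IsSteinerSystem 5 6 B) {b c : Finset α} (hb : b ∈ B) (hc : c ∈ B)
    {t : Finset α} (ht : 5 ≤ t.card) (h1 : t ⊆ b) (h2 : t ⊆ c) : b = c := by
  obtain ⟨r, hr, hrc⟩ := Finset.exists_subset_card_eq ht
  obtain ⟨u, -, hu⟩ := hB.2 r hrc
  rw [hu b ⟨hb, hr.trans h1⟩, hu c ⟨hc, hr.trans h2⟩]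

theorem partner12 (hB : IsSteinerSystem 5 6 B) {b q : Finset α} {r : α} (hb : b ∈ B) (hq : q ⊆ b)
    (hqc : q.card = 4) (hr : r ∉ b) : ∃ y, y ∉ b ∧ y ≠ r ∧ insert r (insert y q) ∈ B := by
  obtain ⟨c, ⟨hc, hsub⟩, -⟩ := hB.2 (insert r q)
    (by rw [Finset.card_insert_of_notMem (fun h => hr (hq h)), hqc])
  obtain ⟨y, hy⟩ : (c \ insert r q).Nonempty := by
    rw [← Finset.card_pos, Finset.card_sdiff_of_subset hsub, hB.1 c hc,
      Finset.card_insert_of_notMem (fun h => hr (hq h)), hqc]
    norm_num
  rw [Finset.mem_sdiff, Finset.mem_insert, not_or] at hy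
  refine ⟨y, fun hyb => ?_, hy.2.1, ?_⟩
  · have := block_eq_of_five hB hb hc (t := insert y q)
      (by rw [Finset.card_insert_of_notMem hy.2.2, hqc]) (Finset.insert_subset hyb hq)
      (Finset.insert_subset hy.1 ((Finset.subset_insert _ _).trans hsub))
    exact hr (this ▸ hsub (Finset.mem_insert_self _ _))
  · convert hc using 1
    refine Finset.eq_of_subset_of_card_le ?_ ?_
    · intro x hx
      simp only [Finset.mem_insert] at hx
      rcases hx with rfl | rfl | hx
      exacts [hsub (Finset.mem_insert_self _ _), hy.1, hsub (Finset.mem_insert_of_mem hx)]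
    · rw [hB.1 c hc, Finset.card_insert_of_notMem, Finset.card_insert_of_notMem hy.2.2, hqc]
      simp only [Finset.mem_insert, not_or]
      exact ⟨Ne.symm hy.2.1, fun h => hr (hq h)⟩

/-- A labelling with the five given points first, for which the eight initial blocks are blocks. -/
theorem exists_norm_label (hα : Fintype.card α = 12) (hB : IsSteinerSystem 5 6 B) (x : Fin 5 ↪ α) :
    ∃ φ : α ≃ Fin 12, (∀ i : Fin 5, (φ (x i)).val = i.val) ∧
      ∃ z w : Fin 12, z ≠ 8 ∧ w ≠ 7 ∧ 6 ≤ z.val ∧ 6 ≤ w.val ∧
        ∀ b ∈ init12 z w, b < 2048 ∧ InB B φ b := by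
  obtain ⟨b₀, ⟨hb₀, hsub⟩, -⟩ := hB.2 (Finset.univ.map x) (by simp)
  obtain ⟨x₅, hx₅⟩ : (b₀ \ Finset.univ.map x).Nonempty := by
    rw [← Finset.card_pos, Finset.card_sdiff_of_subset hsub, hB.1 _ hb₀]; simp
  rw [Finset.mem_sdiff] at hx₅
  let L : Fin 6 → α := Fin.snoc (⇑x) x₅
  have hL : Function.Injective L := Fin.snoc_injective_iff.2 ⟨x.injective, fun ⟨i, hi⟩ =>
    hx₅.2 (Finset.mem_map.2 ⟨i, Finset.mem_univ _, hi⟩)⟩
  have hLim : (Finset.univ : Finset (Fin 6)).image L = b₀ := by
    refine Finset.eq_of_subset_of_card_le (fun a ha => ?_)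
      (by rw [hB.1 _ hb₀, Finset.card_image_of_injective _ hL]; simp)
    obtain ⟨i, -, rfl⟩ := Finset.mem_image.1 ha
    refine Fin.lastCases ?_ (fun j => ?_) i
    · simp only [L, Fin.snoc_last]; exact hx₅.1
    · simp only [L, Fin.snoc_castSucc]; exact hsub (Finset.mem_map_of_mem _ (Finset.mem_univ _))
  obtain ⟨r₀, hr₀⟩ : b₀ᶜ.Nonempty := by
    rw [← Finset.card_pos, Finset.card_compl, hα, hB.1 _ hb₀]; norm_num
  rw [Finset.mem_compl] at hr₀
  let q : Fin 5 → Finset α := fun i => ((Finset.univ : Finset (Fin 6)) \ {0, i.succ}).image L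
  have hq : ∀ i, q i ⊆ b₀ := fun i => by
    rw [← hLim]; exact Finset.image_subset_image Finset.sdiff_subset
  have hqc : ∀ i, (q i).card = 4 := fun i => by
    rw [Finset.card_image_of_injective _ hL, Finset.card_univ_sdiff,
      Finset.card_pair (Fin.succ_ne_zero i).symm]; simp
  choose y hy1 hy2 hy3 using fun i => partner12 hB hb₀ (hq i) (hqc i) hr₀
  have hyinj : Function.Injective y := by
    intro i j hij
    by_contra hne
    have hq3 : 3 ≤ (q i ∩ q j).card := by
      have := Finset.card_inter_add_card_union (q i) (q j)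
      have h5 : (q i ∪ q j).card ≤ 5 := by
        refine (Finset.card_le_card (t := b₀.erase (L 0)) ?_).trans ?_
        · intro a ha
          refine Finset.mem_erase.2 ⟨?_, ?_⟩
          · rintro rfl
            simp [q, hL.eq_iff] at ha
          · rcases Finset.mem_union.1 ha with h | h
            exacts [hq i h, hq j h]
        · rw [Finset.card_erase_of_mem (by rw [← hLim]; exact Finset.mem_image_of_mem _ (Finset.mem_univ _)),
            hB.1 _ hb₀]
      rw [hqc, hqc] at this; omega
    have he := block_eq_of_five hB (hy3 i) (hy3 j) (t := insert r₀ (insert (y i) (q i ∩ q j)))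
      (by
        rw [Finset.card_insert_of_notMem, Finset.card_insert_of_notMem
          (fun h => hy1 i (hq i (Finset.mem_inter.1 h).1))]
        · omega
        · simp only [Finset.mem_insert, not_or]
          exact ⟨(hy2 i).symm, fun h => hr₀ (hq i (Finset.mem_inter.1 h).1)⟩)
      (Finset.insert_subset_insert _ (Finset.insert_subset_insert _ Finset.inter_subset_left))
      (by rw [hij]; exact Finset.insert_subset_insert _
            (Finset.insert_subset_insert _ Finset.inter_subset_right))
    have hqq : q i = q j := by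
      refine Finset.eq_of_subset_of_card_le (fun a ha => ?_) (by rw [hqc, hqc])
      have hm : a ∈ insert r₀ (insert (y j) (q j)) := he ▸ by simp [ha]
      simp only [Finset.mem_insert] at hm
      rcases hm with rfl | rfl | hm
      · exact absurd (hq i ha) hr₀
      · exact absurd (hq i ha) (hy1 j)
      · exact hm
    have hm : L i.succ ∈ q j := by
      refine Finset.mem_image_of_mem _ ?_
      simp [Fin.succ_ne_zero, Fin.succ_inj, hne]
    rw [← hqq] at hm
    simp [q, hL.eq_iff] at hm
  let R : Fin 6 → α := Fin.cons r₀ y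
  have hR : Function.Injective R :=
    Fin.cons_injective_iff.2 ⟨fun ⟨i, hi⟩ => hy2 i hi, hyinj⟩
  have hRn : ∀ j, R j ∉ b₀ := Fin.cases hr₀ hy1
  let F : Fin 12 → α := Fin.append L R
  have hF : Function.Bijective F := by
    rw [Fintype.bijective_iff_injective_and_card, Fintype.card_fin, hα]
    refine ⟨fun a c h => ?_, rfl⟩
    induction a using Fin.addCases (m := 6) (n := 6) with
    | left i =>
      induction c using Fin.addCases (m := 6) (n := 6) with
      | left j => simp only [F, Fin.append_left] at h; rw [hL h]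
      | right j =>
        simp only [F, Fin.append_left, Fin.append_right] at h
        exact absurd (h ▸ (hLim ▸ Finset.mem_image_of_mem _ (Finset.mem_univ i))) (hRn j)
    | right i =>
      induction c using Fin.addCases (m := 6) (n := 6) with
      | left j =>
        simp only [F, Fin.append_left, Fin.append_right] at h
        exact absurd (h.symm ▸ (hLim ▸ Finset.mem_image_of_mem _ (Finset.mem_univ j))) (hRn i)
      | right j => simp only [F, Fin.append_right] at h; rw [hR h]
  let φ : α ≃ Fin 12 := (Equiv.ofBijective F hF).symm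
  have hφs : ∀ a, φ.symm a = F a := fun a => rfl
  have hquad : ∀ i, (quad12 i).image φ.symm = q i := fun i => by
    rw [quad12, Finset.image_image]
    exact Finset.image_congr fun a _ => Fin.append_left L R a
  have hblock : ∀ (r z : Fin 12) (i : Fin 5), 6 ≤ r.val → 6 ≤ z.val → r ≠ z →
      insert (F r) (insert (F z) (q i)) ∈ B → InB B φ (partMask r z i) := by
    intro r z i h1 h2 h3 h4
    rw [InB, (bset_partMask r z h1 h2 h3 i).2, Finset.image_insert, Finset.image_insert, hquad]
    exact h4
  obtain ⟨u, hu1, hu2, hu3⟩ := partner12 hB hb₀ (hq 0) (hqc 0) (r := F 8)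
    (by rw [show F 8 = R 2 from Fin.append_right L R 2]; exact hRn 2)
  obtain ⟨v, hv1, hv2, hv3⟩ := partner12 hB hb₀ (hq 1) (hqc 1) (r := F 7)
    (by rw [show F 7 = R 1 from Fin.append_right L R 1]; exact hRn 1)
  have hout : ∀ a, a ∉ b₀ → 6 ≤ (φ a).val := by
    intro a ha
    by_contra h
    refine ha ?_
    rw [← φ.symm_apply_apply a, hφs,
      show φ a = Fin.castAdd 6 ⟨(φ a).val, by omega⟩ from rfl,
      show F (Fin.castAdd 6 _) = L _ from Fin.append_left L R _, ← hLim]
    exact Finset.mem_image_of_mem _ (Finset.mem_univ _)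
  have hFz : ∀ a, F (φ a) = a := fun a => φ.symm_apply_apply a
  refine ⟨φ, fun i => ?_, φ u, φ v, ?_, ?_, hout u hu1, hout v hv1, ?_⟩
  · have : φ (x i) = Fin.castAdd 6 i.castSucc := by
      rw [← φ.eq_symm_apply, hφs, show F (Fin.castAdd 6 _) = L _ from Fin.append_left L R _]
      simp only [L, Fin.snoc_castSucc]
    rw [this]; rfl
  · exact fun e => hu2 (by rw [← hFz u, e])
  · exact fun e => hv2 (by rw [← hFz v, e])
  · intro b hb
    rw [init12_eq] at hb
    obtain ⟨m, hm, rfl⟩ := List.mem_map.1 hb
    suffices hgoal : m < 4096 ∧ InB B φ m from ⟨rep12_lt hgoal.1, inB_rep hα hB hgoal.2⟩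
    have hfix : ∀ i : Fin 5, InB B φ (partMask 6 (Fin.natAdd 6 i.succ) i) ∧
        partMask 6 (Fin.natAdd 6 i.succ) i < 4096 := by
      intro i
      have hne : (6 : Fin 12) ≠ Fin.natAdd 6 i.succ := fun e => by
        have := congrArg Fin.val e
        simp [Fin.natAdd] at this
      refine ⟨hblock _ _ i le_rfl (Nat.le_add_right _ _) hne ?_,
        (bset_partMask _ _ le_rfl (Nat.le_add_right _ _) hne i).1⟩
      rw [show F 6 = r₀ from Fin.append_right L R 0,
        show F (Fin.natAdd 6 i.succ) = y i from (Fin.append_right L R i.succ).trans (Fin.cons_succ _ _ _)]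
      exact hy3 i
    have hu8 : (8 : Fin 12) ≠ φ u := fun e => hu2 (by rw [← hFz u, ← e])
    have hv7 : (7 : Fin 12) ≠ φ v := fun e => hv2 (by rw [← hFz v, ← e])
    simp only [List.mem_cons, List.not_mem_nil, or_false] at hm
    rcases hm with rfl | rfl | rfl | rfl | rfl | rfl | rfl | rfl
    · refine ⟨by norm_num, ?_⟩
      rw [InB, bset_left, Finset.image_image]
      convert hb₀ using 1
      rw [← hLim]
      exact Finset.image_congr fun a _ => Fin.append_left L R a
    · exact ⟨(hfix 0).2, (hfix 0).1⟩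
    · exact ⟨(hfix 1).2, (hfix 1).1⟩
    · exact ⟨(hfix 2).2, (hfix 2).1⟩
    · exact ⟨(hfix 3).2, (hfix 3).1⟩
    · exact ⟨(hfix 4).2, (hfix 4).1⟩
    · exact ⟨(bset_partMask _ _ (by decide) (hout u hu1) hu8 0).1,
        hblock 8 (φ u) 0 (by decide) (hout u hu1) hu8 (by rw [hFz]; exact hu3)⟩
    · exact ⟨(bset_partMask _ _ (by decide) (hout v hv1) hv7 1).1,
        hblock 7 (φ v) 1 (by decide) (hout v hv1) hv7 (by rw [hFz]; exact hv3)⟩

/-- Every `S(5,6,12)` is the standard one, with five given points in given position. -/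
theorem steiner12_label (hα : Fintype.card α = 12) (hB : IsSteinerSystem 5 6 B) (x : Fin 5 ↪ α) :
    ∃ φ : α ≃ Fin 12, (∀ s, s ∈ B ↔ s.image φ ∈ B12) ∧ ∀ i : Fin 5, (φ (x i)).val = i.val := by
  obtain ⟨φ, hx, z, w, hz8, hw7, hz6, hw6, hall⟩ := exists_norm_label hα hB x
  have hsys := sys12 hα hB φ
  have hC : ∀ c ∈ sixReps, InB B φ c → c ∈ candsFor (init12 z w) := by
    intro c hc h
    refine List.mem_filter.2 ⟨hc, List.all_eq_true.2 fun b hb => ?_⟩
    simp only [sixReps, List.mem_filter, List.mem_range] at hc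
    exact hsys.pair c b hc.1 (hall b hb).1 h (hall b hb).2
  have hzne : (z : ℕ) ≠ 8 := fun e => hz8 (Fin.ext e)
  have hwne : (w : ℕ) ≠ 7 := fun e => hw7 (Fin.ext e)
  have hcases := pair_cases z.isLt w.isLt hzne hwne hz6 hw6
    (List.all_eq_true.2 fun b hb => List.all_eq_true.2 fun c hc =>
      hsys.pair b c (hall b hb).1 (hall c hc).1 (hall b hb).2 (hall c hc).2)
  have hbad : (z : ℕ) = w → (z : ℕ) ∈ [9, 10, 11] → False := by
    intro e hm
    rw [← e] at hall hC
    obtain ⟨ch, h, -⟩ := srch12_sound hsys _ _ _ (bad_targets _ hm) hall hC (srch12_bad _ hm)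
    exact absurd h (by simp)
  obtain ⟨k, hk, hkzw⟩ : ∃ k < 6, pairTab.getD k (0, 0) = ((z : ℕ), (w : ℕ)) := by
    simp only [List.mem_cons, List.not_mem_nil, or_false] at hcases
    rcases hcases with e | e | e | e | e | e | e | e | e
    exacts [⟨0, by norm_num, e.symm⟩, ⟨1, by norm_num, e.symm⟩, ⟨2, by norm_num, e.symm⟩,
      ⟨3, by norm_num, e.symm⟩, ⟨4, by norm_num, e.symm⟩, ⟨5, by norm_num, e.symm⟩,
      (hbad (by simp_all) (by simp_all)).elim, (hbad (by simp_all) (by simp_all)).elim,
      (hbad (by simp_all) (by simp_all)).elim]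
  let lam : Equiv.Perm (Fin 12) := Equiv.ofBijective _ (tab_bij k hk).1
  let au : Equiv.Perm (Fin 12) := Equiv.ofBijective _ (tab_bij k hk).2
  have hlam : ∀ b, InB B φ b → InB B (φ.trans lam) (imgMask (lamTab.getD k id) b) := by
    intro b h
    have e : ⇑(φ.trans lam).symm ∘ lamTab.getD k id = ⇑φ.symm := funext fun a => by
      show φ.symm (lam.symm (lam a)) = _
      rw [Equiv.symm_apply_apply]
    rw [InB, bset12_img, Finset.image_image, e]
    exact h
  have hinit : ∀ b ∈ init12 9 10, b < 2048 ∧ InB B (φ.trans lam) b := by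
    intro b hb
    obtain ⟨b', hb', rfl⟩ := lam_onto k hk b hb
    rw [hkzw] at hb'
    exact ⟨rep12_lt (imgMask_lt _ _), inB_rep hα hB (hlam b' (hall b' hb').2)⟩
  have hsys' := sys12 hα hB (φ.trans lam)
  obtain ⟨ch, hch, hchP⟩ := srch12_sound hsys' _ _ _ targets12_ok hinit (fun c hc h => by
    refine List.mem_filter.2 ⟨hc, List.all_eq_true.2 fun b hb => ?_⟩
    simp only [sixReps, List.mem_filter, List.mem_range] at hc
    exact hsys'.pair c b hc.1 (hinit b hb).1 h (hinit b hb).2) srch12_std
  have hstd : ∀ b ∈ std12, InB B (φ.trans lam) b := fun b hb =>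
    (hchP b (List.contains_iff_mem.1 (List.all_eq_true.1 hch b hb))).2
  refine ⟨(φ.trans lam).trans au, fun s => ?_, fun i => ?_⟩
  · rw [B12_steiner_unique hα hB hstd s, ← image_B12 (σ := au) (autTab_ok k hk), Finset.image_image]
    rfl
  · have hlt : (φ (x i)).val < 6 := by rw [hx]; omega
    show (autTab.getD k id (lamTab.getD k id (φ (x i)))).val = _
    rw [lam_aut_fix k hk _ hlt, hx]

theorem steiner12_sharp (hα : Fintype.card α = 12) (hB : IsSteinerSystem 5 6 B) (x : Fin 5 ↪ α)
    (σ : Equiv.Perm α) (hσ : ∀ s, σ • s ∈ B ↔ s ∈ B) (hfix : ∀ i, σ (x i) = x i) : σ = 1 := by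
  obtain ⟨φ, hφ, hx⟩ := steiner12_label hα hB x
  let F : Fin 12 → α := φ.symm
  have h63 : (bset12 63).image φ.symm ∈ B := by
    rw [hφ, Finset.image_image, Equiv.self_comp_symm, Finset.image_id]
    exact ⟨63, by decide, Or.inl rfl⟩
  have hleft : ∀ j : Fin 6, σ (F (Fin.castAdd 6 j)) = F (Fin.castAdd 6 j) := by
    have h5 : ∀ i : Fin 5, F (Fin.castAdd 6 i.castSucc) = x i := fun i => by
      have : φ (x i) = Fin.castAdd 6 i.castSucc := Fin.ext (hx i)
      rw [← this]; exact φ.symm_apply_apply _
    intro j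
    refine Fin.lastCases ?_ (fun i => by rw [h5, hfix]) j
    have he : σ • (bset12 63).image φ.symm = (bset12 63).image φ.symm := by
      refine block_eq_of_five hB ((hσ _).2 h63) h63 (t := Finset.univ.map x) (by simp) ?_ ?_ <;>
        intro a ha <;> obtain ⟨i, -, rfl⟩ := Finset.mem_map.1 ha
      · rw [← hfix i]
        refine Finset.smul_mem_smul_finset ?_
        rw [← h5 i, bset_left, Finset.image_image]
        exact Finset.mem_image_of_mem _ (Finset.mem_univ _)
      · rw [← h5 i, bset_left, Finset.image_image]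
        exact Finset.mem_image_of_mem _ (Finset.mem_univ _)
    have hm : σ (F (Fin.castAdd 6 (Fin.last 5))) ∈ (bset12 63).image φ.symm := by
      rw [← he]
      refine Finset.smul_mem_smul_finset ?_
      rw [bset_left, Finset.image_image]
      exact Finset.mem_image_of_mem _ (Finset.mem_univ _)
    rw [bset_left, Finset.image_image, Finset.mem_image] at hm
    obtain ⟨j', -, e⟩ := hm
    revert e
    refine Fin.lastCases (fun e => e.symm) (fun i e => ?_) j'
    have e' : σ (F (Fin.castAdd 6 (Fin.last 5))) = σ (x i) :=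
      e.symm.trans ((h5 i).trans (hfix i).symm)
    have := φ.symm.injective ((σ.injective e').trans (h5 i).symm)
    exact absurd (congrArg Fin.val this) (by simp [Fin.castAdd]; omega)
  let τ : Fin 12 → Fin 12 := fun a => φ (σ (F a))
  have hτ : Function.Injective τ := φ.injective.comp (σ.injective.comp φ.symm.injective)
  have hτl : ∀ j : Fin 6, τ (Fin.castAdd 6 j) = Fin.castAdd 6 j := fun j => by
    show φ (σ _) = _
    rw [hleft]; exact φ.apply_symm_apply _
  have hτr : ∀ a : Fin 12, 6 ≤ a.val → 6 ≤ (τ a).val := by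
    intro a ha
    by_contra h
    have := hτ ((show τ a = τ (Fin.castAdd 6 ⟨(τ a).val, by omega⟩) by rw [hτl]; rfl))
    have := congrArg Fin.val this
    simp [Fin.castAdd] at this
    omega
  have hτB : ∀ s : Finset (Fin 12), s ∈ B12 → s.image τ ∈ B12 := by
    intro s hs
    have h1 : s.image φ.symm ∈ B := by
      rw [hφ, Finset.image_image, Equiv.self_comp_symm, Finset.image_id]; exact hs
    have h2 := (hφ _).1 ((hσ _).2 h1)
    rw [Finset.smul_finset_def, Finset.image_image, Finset.image_image] at h2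
    exact h2
  have h6 := hτr 6 le_rfl
  let k : Fin 6 := ⟨(τ 6).val - 6, by omega⟩
  have hk6 : τ 6 = (⟨6 + k.val, by omega⟩ : Fin 12) := Fin.ext (by simp only [k]; omega)
  have hcand : ∀ a, τ a = fixTab.getD k id a := by
    intro a
    obtain ⟨hs1, hs2⟩ := fixTab_shape k
    induction a using Fin.addCases (m := 6) (n := 6) with
    | left j => rw [hτl, hs2]
    | right j =>
      induction j using Fin.cases with
      | zero => rw [show Fin.natAdd 6 (0 : Fin 6) = (6 : Fin 12) from rfl, hk6]; exact Fin.ext hs1.symm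
      | succ i =>
        obtain ⟨hp1, hp2, hp3⟩ := fixTab_part k i
        have hidx : (Fin.natAdd 6 i.succ : Fin 12) = ⟨7 + i.val, by omega⟩ :=
          Fin.ext (by simp [Fin.natAdd]; omega)
        have hne : (6 : Fin 12) ≠ Fin.natAdd 6 i.succ := fun e => by
          have := congrArg Fin.val e
          simp [Fin.natAdd] at this
        have hstd0 := std_partMask i
        have hmemB : ∀ (r y : Fin 12), 6 ≤ r.val → 6 ≤ y.val → r ≠ y →
            rep12 (partMask r y i) ∈ std12 → insert r (insert y (quad12 i)) ∈ B12 := by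
          intro r y a1 a2 a3 a4
          rw [← (bset_partMask r y a1 a2 a3 i).2]
          rcases rep12_cases (partMask r y i) with e | e
          · exact ⟨_, a4, Or.inl e.symm⟩
          · refine ⟨_, a4, Or.inr ?_⟩
            rw [bset12_compl, e, compl_compl]
        have hq : (quad12 i).image τ = quad12 i := by
          rw [quad12, Finset.image_image]
          exact Finset.image_congr fun a _ => hτl a
        have hA := hτB _ (hmemB _ _ le_rfl (Nat.le_add_right _ _) hne hstd0)
        rw [Finset.image_insert, Finset.image_insert, hq, hk6] at hA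
        have hne' : (⟨6 + k.val, by omega⟩ : Fin 12) ≠ fixTab.getD k id ⟨7 + i.val, by omega⟩ :=
          fun e => hp2 (congrArg Fin.val e)
        have hBk := hmemB _ _ (Nat.le_add_right 6 k.val) hp1 hne' hp3
        have hto : ∀ u ∈ B12, u.image φ.symm ∈ B := fun u hu => by
          rw [hφ, Finset.image_image, Equiv.self_comp_symm, Finset.image_id]; exact hu
        have hqout : ∀ c : Fin 12, 6 ≤ c.val → c ∉ quad12 i := by
          intro c hc h
          obtain ⟨d, -, rfl⟩ := Finset.mem_image.1 h
          simp [Fin.castAdd] at hc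
          omega
        have hqc := card_quad12 i
        have heq := block_eq_of_five hB (hto _ hA) (hto _ hBk)
          (t := (insert (⟨6 + k.val, by omega⟩ : Fin 12) (quad12 i)).image φ.symm)
          (by rw [Finset.card_image_of_injective _ φ.symm.injective,
            Finset.card_insert_of_notMem (hqout _ (Nat.le_add_right 6 k.val)), hqc])
          (Finset.image_subset_image (Finset.insert_subset_insert _ (Finset.subset_insert _ _)))
          (Finset.image_subset_image (Finset.insert_subset_insert _ (Finset.subset_insert _ _)))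
        have heq' := Finset.image_injective φ.symm.injective heq
        have hmem : τ (Fin.natAdd 6 i.succ) ∈
            insert (⟨6 + k.val, by omega⟩ : Fin 12)
              (insert (fixTab.getD k id ⟨7 + i.val, by omega⟩) (quad12 i)) := by
          rw [← heq']; simp
        simp only [Finset.mem_insert] at hmem
        rcases hmem with e | e | e
        · exact absurd (hτ (e.trans hk6.symm)) hne.symm
        · rw [e]
          exact congrArg (fixTab.getD k id) hidx.symm
        · exact absurd e (hqout _ (hτr _ (Nat.le_add_right _ _)))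
  have hk0 : k.val = 0 := by
    by_contra h
    have hall : (std12.all fun b => std12.contains (rep12 (imgMask (fixTab.getD k id) b))) = true := by
      rw [List.all_eq_true]
      intro b hb
      rw [List.contains_iff_mem]
      refine rep_mem_std (imgMask_lt _ _) ?_
      rw [bset12_img]
      have := hτB _ ⟨b, hb, Or.inl rfl⟩
      rwa [show τ = fixTab.getD k id from funext hcand] at this
    rw [fixTab_ok k k.isLt h] at hall
    exact Bool.false_ne_true hall
  refine Equiv.ext fun a => φ.injective ?_
  have hz := hcand (φ a)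
  rw [hk0, fixTab_zero] at hz
  simpa [τ, F] using hz

end Label

end CfsgLib.Golay
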