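import Cfsg.Agent.Lib.Golay.Code

/-! A search engine for systems `S(5,6,12)` on bit masks, with a soundness lemma, and its tables. -/

set_option autoImplicit false
set_option maxRecDepth 100000

namespace CfsgLib.Golay

/-- Representative of a mask and its complement. -/
def rep12 (b : ℕ) : ℕ := if Nat.blt b 2048 then b else Nat.xor 4095 b

/-- Two blocks may lie in one system. -/
def compat12 (b c : ℕ) : Bool :=
  !(Nat.beq (pop (Nat.land b c)) 1 || Nat.beq (pop (Nat.land b c)) 5)

/-- The block or its complement contains the set. -/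
def covers12 (c s : ℕ) : Bool :=
  Nat.beq (Nat.land c s) s || Nat.beq (Nat.land (Nat.xor 4095 c) s) s

/-- The 462 representatives of six-sets. -/
def sixReps : List ℕ := (List.range 2048).filter fun c => Nat.beq (pop c) 6

/-- Exhaustive search: every completion of `ch` reaches a leaf. -/
def srch12 (leaf : List ℕ → Bool) : List ℕ → List ℕ → List ℕ → Bool
  | [], _, ch => leaf ch
  | s :: T, C, ch =>
    if ch.any (fun c => covers12 c s) then srch12 leaf T C ch
    else C.all fun c => !covers12 c s || srch12 leaf T (C.filter fun d => compat12 d c) (c :: ch)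

/-- What the search needs of a system. -/
structure Sys12 (P : ℕ → Prop) : Prop where
  pair : ∀ b c, b < 2048 → c < 2048 → P b → P c → compat12 b c = true
  cover : ∀ s < 4096, pop s = 5 → ∃ c ∈ sixReps, P c ∧ covers12 c s = true

theorem srch12_sound {P : ℕ → Prop} (hP : Sys12 P) {leaf : List ℕ → Bool} :
    ∀ (T C ch : List ℕ), (∀ s ∈ T, s < 4096 ∧ pop s = 5) → (∀ b ∈ ch, b < 2048 ∧ P b) →
      (∀ c ∈ sixReps, P c → c ∈ C) → srch12 leaf T C ch = true →
      ∃ ch', leaf ch' = true ∧ ∀ b ∈ ch', b < 2048 ∧ P b := by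
  intro T
  induction T with
  | nil => exact fun C ch _ hch _ h => ⟨ch, h, hch⟩
  | cons s T ih =>
    intro C ch hT hch hC h
    rw [srch12] at h
    split_ifs at h with hcov
    · exact ih C ch (fun x hx => hT x (by simp [hx])) hch hC h
    · obtain ⟨c, hc, hPc, hcs⟩ := hP.cover s (hT s (by simp)).1 (hT s (by simp)).2
      have hc' : c < 2048 := by
        simp only [sixReps, List.mem_filter, List.mem_range] at hc
        exact hc.1
      have h' := List.all_eq_true.1 h c (hC c hc hPc)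
      rw [hcs] at h'
      simp only [Bool.not_true, Bool.false_or] at h'
      refine ih _ _ (fun x hx => hT x (by simp [hx])) ?_ (fun d hd hPd => ?_) h'
      · intro b hb
        rcases List.mem_cons.1 hb with rfl | hb
        · exact ⟨hc', hPc⟩
        · exact hch b hb
      · have hd' : d < 2048 := by
          simp only [sixReps, List.mem_filter, List.mem_range] at hd
          exact hd.1
        exact List.mem_filter.2 ⟨hC d hd hPd, hP.pair d c hd' hc' hPd hPc⟩

/-- The standard system, up to complements. -/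
def std12 : List ℕ :=
  [63, 207, 243, 252, 343, 365, 378, 414, 427, 437, 473, 486, 605, 619, 630, 663, 686, 697, 730,
  741, 795, 807, 828, 846, 881, 909, 946, 963, 980, 1000, 1115, 1134, 1141, 1181, 1191, 1210,
  1238, 1257, 1295, 1334, 1337, 1372, 1379, 1427, 1452, 1477, 1482, 1520, 1566, 1581, 1587, 1607,
  1656, 1675, 1716, 1740, 1745, 1762, 1813, 1834, 1865, 1874, 1892, 1926, 1944, 1953]

/-- The targets driving the search to the standard system. -/
def targets12 : List ℕ :=
  [570, 805, 1084, 1187, 2119, 2497, 2825, 3217, 158, 182, 218, 242, 302, 348, 364, 440, 558, 604,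
  620, 696, 789, 817, 852, 868, 901, 944, 1078, 1114, 1163, 1193, 1226, 1250, 1336, 1448, 2435,
  2644, 3146, 79, 87, 107, 117, 121, 230, 613, 692, 793, 936, 1123, 1177, 1322, 1456, 1580, 1586,
  173, 307, 409, 535, 752]

/-- The six blocks of the normal labelling, with two more depending on two partners. -/
def init12 (z w : ℕ) : List ℕ :=
  [63, 3 * 2 ^ 6 + 60, 2 ^ 6 + 2 ^ 8 + 58, 2 ^ 6 + 2 ^ 9 + 54, 2 ^ 6 + 2 ^ 10 + 46,
    2 ^ 6 + 2 ^ 11 + 30, 2 ^ 8 + 2 ^ z + 60, 2 ^ 7 + 2 ^ w + 58].map rep12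

/-- Relabellings bringing the six possible configurations to the standard one. -/
def lamTab : List (Fin 12 → Fin 12) :=
  [![0, 1, 2, 3, 4, 5, 6, 7, 8, 9, 10, 11],
   ![0, 1, 2, 3, 5, 4, 6, 7, 8, 9, 11, 10],
   ![0, 1, 2, 4, 3, 5, 6, 7, 8, 10, 9, 11],
   ![0, 1, 2, 5, 3, 4, 6, 7, 8, 11, 9, 10],
   ![0, 1, 2, 4, 5, 3, 6, 7, 8, 10, 11, 9],
   ![0, 1, 2, 5, 4, 3, 6, 7, 8, 11, 10, 9]]

/-- Automorphisms of the standard system undoing the relabellings on the first block. -/
def autTab : List (Fin 12 → Fin 12) :=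
  [![0, 1, 2, 3, 4, 5, 6, 7, 8, 9, 10, 11],
   ![0, 1, 2, 3, 5, 4, 7, 6, 10, 11, 8, 9],
   ![0, 1, 2, 4, 3, 5, 11, 10, 9, 8, 7, 6],
   ![0, 1, 2, 4, 5, 3, 10, 11, 7, 6, 9, 8],
   ![0, 1, 2, 5, 3, 4, 9, 8, 11, 10, 6, 7],
   ![0, 1, 2, 5, 4, 3, 8, 9, 6, 7, 11, 10]]

/-- The six candidates fixing a block pointwise. -/
def fixTab : List (Fin 12 → Fin 12) :=
  [![0, 1, 2, 3, 4, 5, 6, 7, 8, 9, 10, 11],
   ![0, 1, 2, 3, 4, 5, 7, 6, 10, 11, 9, 8],
   ![0, 1, 2, 3, 4, 5, 8, 9, 6, 10, 11, 7],
   ![0, 1, 2, 3, 4, 5, 9, 8, 11, 6, 7, 10],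
   ![0, 1, 2, 3, 4, 5, 10, 11, 7, 8, 6, 9],
   ![0, 1, 2, 3, 4, 5, 11, 10, 9, 7, 8, 6]]

/-- The image of a mask under a relabelling. -/
def imgMask (p : Fin 12 → Fin 12) (b : ℕ) : ℕ :=
  (List.finRange 12).foldr (fun (i : Fin 12) r => if b.testBit i.val then 2 ^ (p i : ℕ) ||| r else r) 0

/-- The candidates compatible with a list of blocks. -/
def candsFor (l : List ℕ) : List ℕ := sixReps.filter fun c => l.all fun b => compat12 c b

theorem targets12_ok : ∀ s ∈ targets12, s < 4096 ∧ pop s = 5 := by decide +kernel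

theorem srch12_std : srch12 (fun ch => std12.all fun b => ch.contains b) targets12
    (candsFor (init12 9 10)) (init12 9 10) = true := by
  decide +kernel

theorem srch12_bad : ∀ z ∈ [9, 10, 11], srch12 (fun _ => false)
    [2 ^ ([9, 10, 11].find? (· != z)).getD 0 + 60, 2 ^ ([9, 10, 11].find? (· != z)).getD 0 + 58]
    (candsFor (init12 z z)) (init12 z z) = true := by
  decide +kernel

theorem lam_ok : ∀ k < 6, ∀ b ∈ init12 ([(9, 10), (9, 11), (10, 9), (10, 11), (11, 9), (11, 10)].getD k (0, 0)).1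
      ([(9, 10), (9, 11), (10, 9), (10, 11), (11, 9), (11, 10)].getD k (0, 0)).2,
    rep12 (imgMask (lamTab.getD k id) b) ∈ init12 9 10 := by
  decide +kernel

theorem pair_table : ((List.range 6).all fun z' => (List.range 6).all fun w' =>
    !(!Nat.beq z' 2 && !Nat.beq w' 1 &&
      (init12 (6 + z') (6 + w')).all fun b => (init12 (6 + z') (6 + w')).all fun c => compat12 b c) ||
    [(9, 10), (9, 11), (10, 9), (10, 11), (11, 9), (11, 10), (9, 9), (10, 10), (11, 11)].contains
      (6 + z', 6 + w')) = true := by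
  decide +kernel

theorem pair_cases {z w : ℕ} (hz : z < 12) (hw : w < 12) (h8 : z ≠ 8) (h7 : w ≠ 7) (z6 : 6 ≤ z)
    (w6 : 6 ≤ w)
    (h : ((init12 z w).all fun b => (init12 z w).all fun c => compat12 b c) = true) :
    (z, w) ∈ [(9, 10), (9, 11), (10, 9), (10, 11), (11, 9), (11, 10), (9, 9), (10, 10), (11, 11)] := by
  obtain ⟨z, rfl⟩ := Nat.exists_eq_add_of_le z6
  obtain ⟨w, rfl⟩ := Nat.exists_eq_add_of_le w6
  have h' := List.all_eq_true.1 (List.all_eq_true.1 pair_table z (List.mem_range.2 (by omega))) w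
    (List.mem_range.2 (by omega))
  have e1 : Nat.beq z 2 = false := by
    cases e : Nat.beq z 2
    · rfl
    · rw [Nat.beq_eq] at e; omega
  have e2 : Nat.beq w 1 = false := by
    cases e : Nat.beq w 1
    · rfl
    · rw [Nat.beq_eq] at e; omega
  rw [e1, e2, h] at h'
  exact List.contains_iff_mem.1 (by simpa using h')

theorem autTab_ok : ∀ k < 6, ∀ b ∈ std12, rep12 (imgMask (autTab.getD k id) b) ∈ std12 := by
  decide +kernel

theorem lam_aut_fix : ∀ k < 6, ∀ i : Fin 12, i.val < 6 →
    autTab.getD k id (lamTab.getD k id i) = i := by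
  decide +kernel

theorem fixTab_ok : ∀ k < 6, k ≠ 0 →
    (std12.all fun b => std12.contains (rep12 (imgMask (fixTab.getD k id) b))) = false := by
  decide +kernel

theorem std12_facts : (∀ b ∈ std12, b < 2048 ∧ pop b = 6) ∧
    (allB 12 (fun s => !Nat.beq (pop s) 5 ||
      std12.any fun b => covers12 b s) 0 = true) := by
  decide +kernel

end CfsgLib.Golay
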