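import Cfsg.Agent.Lib.Golay.Steiner

/-! Blocks disjoint from a given block in `S(3,6,22)`. -/

set_option autoImplicit false

namespace CfsgLib.Golay

open Cfsg

variable {α : Type*} [Fintype α] [DecidableEq α] {B : Set (Finset α)}

/-- The blocks disjoint from `b`. -/
noncomputable def offBlocks (B : Set (Finset α)) (b : Finset α) : Finset (Finset α) :=
  (blocks B).filter fun c => Disjoint b c

theorem mem_offBlocks {b c : Finset α} : c ∈ offBlocks B b ↔ c ∈ B ∧ Disjoint b c := by
  simp [offBlocks, mem_blocks]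

theorem inter_cases22 (hα : Fintype.card α = 22) (hB : IsSteinerSystem 3 6 B) {b c : Finset α}
    (hb : b ∈ B) (hc : c ∈ B) (hne : b ≠ c) : (b ∩ c).card = 0 ∨ (b ∩ c).card = 2 := by
  obtain ⟨hlt, h0, h1, h2⟩ := inter_3_6_22 hα hB hb
  have hc' : c ∈ (blocks B).erase b := Finset.mem_erase.2 ⟨Ne.symm hne, mem_blocks.2 hc⟩
  have := hlt c hc'
  rcases (show (b ∩ c).card = 0 ∨ (b ∩ c).card = 1 ∨ (b ∩ c).card = 2 by omega) with e | e | e
  · exact Or.inl e
  · have := interNum_pos hc' e; omega
  · exact Or.inr e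

theorem card_offBlocks (hα : Fintype.card α = 22) (hB : IsSteinerSystem 3 6 B) {b : Finset α}
    (hb : b ∈ B) : (offBlocks B b).card = 16 := by
  rw [← (inter_3_6_22 hα hB hb).2.1, interNum, offBlocks]
  congr 1
  ext c
  simp only [Finset.mem_filter, Finset.mem_erase, Finset.card_eq_zero,
    ← Finset.disjoint_iff_inter_eq_empty]
  constructor
  · rintro ⟨h1, h2⟩
    refine ⟨⟨?_, h1⟩, h2⟩
    rintro rfl
    rw [disjoint_self, Finset.bot_eq_empty] at h2
    have := hB.1 _ hb
    simp [h2] at this
  · rintro ⟨⟨-, h1⟩, h2⟩; exact ⟨h1, h2⟩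

theorem card_pair_blocks22 (hα : Fintype.card α = 22) (hB : IsSteinerSystem 3 6 B) {p q : α}
    (h : p ≠ q) : ((blocks B).filter fun c => p ∈ c ∧ q ∈ c).card = 5 := by
  rw [← steiner_lambda hB (s := {p, q}) 2 5 (Finset.card_pair h) (by norm_num) (by decide)
    (by rw [hα]; decide)]
  congr 1
  ext c; simp [Finset.insert_subset_iff]

theorem card_point_blocks22 (hα : Fintype.card α = 22) (hB : IsSteinerSystem 3 6 B) (p : α) :
    ((blocks B).filter fun c => p ∈ c).card = 21 := by
  rw [← steiner_lambda hB (s := {p}) 1 21 (Finset.card_singleton p) (by norm_num) (by decide)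
    (by rw [hα]; decide)]
  congr 1
  ext c; simp

theorem offBlocks_degree (hα : Fintype.card α = 22) (hB : IsSteinerSystem 3 6 B) {b : Finset α}
    (hb : b ∈ B) {p : α} (hp : p ∉ b) : ((offBlocks B b).filter fun c => p ∈ c).card = 6 := by
  classical
  let F := (blocks B).filter fun c => p ∈ c
  have hsum : ∑ c ∈ F, (b ∩ c).card = 30 := by
    have := sum_choose_inter_const F b 1 5 fun r hr hrc => by
      obtain ⟨a, rfl⟩ := Finset.card_eq_one.1 hrc
      have hab : a ∈ b := Finset.singleton_subset_iff.1 hr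
      rw [← card_pair_blocks22 hα hB (p := p) (q := a) (fun e => hp (e ▸ hab))]
      congr 1
      ext c; simp [F, and_assoc]
    simpa [Nat.choose_one_right, hB.1 b hb] using this
  have hsplit : ∑ c ∈ F, (b ∩ c).card = 2 * (F.filter fun c => ¬ Disjoint b c).card := by
    rw [Finset.card_filter, Finset.mul_sum]
    refine Finset.sum_congr rfl fun c hc => ?_
    simp only [F, Finset.mem_filter, mem_blocks] at hc
    have hne : b ≠ c := fun e => hp (e ▸ hc.2)
    rcases inter_cases22 hα hB hb hc.1 hne with e | e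
    · rw [e, if_neg (not_not.2 (Finset.disjoint_iff_inter_eq_empty.2 (Finset.card_eq_zero.1 e))), mul_zero]
    · rw [e, if_pos fun hd => by
        rw [Finset.disjoint_iff_inter_eq_empty.1 hd] at e; simp at e, mul_one]
  have h21 : (F.filter fun c => Disjoint b c).card + (F.filter fun c => ¬ Disjoint b c).card = 21 := by
    rw [Finset.card_filter_add_card_filter_not]
    exact card_point_blocks22 hα hB p
  have e : ((offBlocks B b).filter fun c => p ∈ c) = F.filter fun c => Disjoint b c := by
    simp only [offBlocks, F, Finset.filter_filter]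
    exact Finset.filter_congr fun c _ => and_comm
  rw [e]; omega

theorem common_off_of_disjoint (hα : Fintype.card α = 22) (hB : IsSteinerSystem 3 6 B)
    {b c : Finset α} (hb : b ∈ B) (hc : c ∈ B) (hd : Disjoint b c) :
    ((offBlocks B b).filter fun d => Disjoint c d) = ∅ := by
  classical
  let F := (offBlocks B b).erase c
  have hcF : c ∈ offBlocks B b := mem_offBlocks.2 ⟨hc, hd⟩
  have hF : F.card = 15 := by rw [Finset.card_erase_of_mem hcF, card_offBlocks hα hB hb]
  have hsum : ∑ d ∈ F, (c ∩ d).card = 30 := by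
    have := sum_choose_inter_const F c 1 5 fun r hr hrc => by
      obtain ⟨a, rfl⟩ := Finset.card_eq_one.1 hrc
      have hac : a ∈ c := Finset.singleton_subset_iff.1 hr
      have h6 := offBlocks_degree hα hB hb (p := a) (Finset.disjoint_right.1 hd hac)
      rw [Finset.filter_erase, Finset.card_erase_of_mem (Finset.mem_filter.2 ⟨hcF, hr⟩)]
      simp only [Finset.singleton_subset_iff]
      omega
    simpa [Nat.choose_one_right, hB.1 c hc] using this
  rw [Finset.filter_eq_empty_iff]
  intro d hdB hcd
  have hdc : d ≠ c := by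
    rintro rfl
    rw [disjoint_self, Finset.bot_eq_empty] at hcd
    have := hB.1 _ hc
    simp [hcd] at this
  have hle : ∀ e ∈ F, (c ∩ e).card ≤ 2 := fun e he => by
    simp only [F, Finset.mem_erase, mem_offBlocks] at he
    rcases inter_cases22 hα hB hc he.2.1 (Ne.symm he.1) with h | h <;> omega
  have hlt : ∑ e ∈ F, (c ∩ e).card < ∑ _e ∈ F, 2 :=
    Finset.sum_lt_sum hle ⟨d, Finset.mem_erase.2 ⟨hdc, hdB⟩,
      by rw [Finset.disjoint_iff_inter_eq_empty.1 hcd]; simp⟩
  rw [Finset.sum_const, hF, hsum] at hlt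
  simp at hlt

theorem common_off_of_meet (hα : Fintype.card α = 22) (hB : IsSteinerSystem 3 6 B)
    {b c : Finset α} (hb : b ∈ B) (hc : c ∈ B) (hd : (b ∩ c).card = 2) :
    ((offBlocks B b).filter fun d => Disjoint c d).card = 4 := by
  classical
  let F := offBlocks B b
  have hsum : ∑ d ∈ F, (c ∩ d).card = 24 := by
    have e : ∑ d ∈ F, (c ∩ d).card = ∑ d ∈ F, ((c \ b) ∩ d).card := by
      refine Finset.sum_congr rfl fun d hdF => ?_
      congr 1
      ext x
      simp only [Finset.mem_inter, Finset.mem_sdiff]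
      exact ⟨fun h => ⟨⟨h.1, fun hx => Finset.disjoint_left.1 (mem_offBlocks.1 hdF).2 hx h.2⟩, h.2⟩,
        fun h => ⟨h.1.1, h.2⟩⟩
    have := sum_choose_inter_const F (c \ b) 1 6 fun r hr hrc => by
      obtain ⟨a, rfl⟩ := Finset.card_eq_one.1 hrc
      simp only [Finset.singleton_subset_iff] at hr ⊢
      exact offBlocks_degree hα hB hb (Finset.mem_sdiff.1 hr).2
    rw [e]
    simpa [Nat.choose_one_right, Finset.card_sdiff, hB.1 c hc, hd] using this
  have hsplit : ∑ d ∈ F, (c ∩ d).card = 2 * (F.filter fun d => ¬ Disjoint c d).card := by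
    rw [Finset.card_filter, Finset.mul_sum]
    refine Finset.sum_congr rfl fun d hdF => ?_
    obtain ⟨hdB, hbd⟩ := mem_offBlocks.1 hdF
    have hne : c ≠ d := by
      rintro rfl
      rw [Finset.disjoint_iff_inter_eq_empty.1 hbd] at hd
      simp at hd
    rcases inter_cases22 hα hB hc hdB hne with h | h
    · rw [h, if_neg (not_not.2 (Finset.disjoint_iff_inter_eq_empty.2 (Finset.card_eq_zero.1 h))), mul_zero]
    · rw [h, if_pos fun hh => by rw [Finset.disjoint_iff_inter_eq_empty.1 hh] at h; simp at h, mul_one]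
  have htot : (F.filter fun d => Disjoint c d).card + (F.filter fun d => ¬ Disjoint c d).card = 16 := by
    rw [Finset.card_filter_add_card_filter_not]
    exact card_offBlocks hα hB hb
  show (F.filter fun d => Disjoint c d).card = 4
  omega

end CfsgLib.Golay
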