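import Cfsg.Agent.Lib.Golay.Steiner22Iso
import Cfsg.Agent.Lib.Golay.Co0HSSimple
import Cfsg.Prelude.Def_Sporadic

/-! The automorphism group of an `S(3,6,22)`: the setwise stabiliser of two points in `M24`. -/

set_option autoImplicit false
set_option maxRecDepth 100000

namespace CfsgLib.Golay

open Cfsg
open scoped Pointwise

theorem mem_supports_of_even {s : Finset GolayPt} (hs : s.card % 2 = 0)
    (h : ∀ g ∈ gens, (s ∩ mset g).card % 2 = 0) :
    s ∈ supports (golayCode : Set (GolayPt → ZMod 2)) := by
  rw [← support_indWord s, mem_supports_word]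
  refine mem_of_orth (C := golayCode) (by rw [golay_golayLike.dim]; simp) golay_golayLike.orth
    (fun w hw => ?_) ?_
  · have := golayCode_le_perp_of_gens (u := indWord s) (fun x hx => by
      rw [dot_eq_card, support_indWord, support_mword, ZMod.natCast_eq_zero_iff]
      have := h x hx
      omega) hw
    rw [mem_perpOne] at this
    simpa [mul_comm] using this
  · rw [dot_eq_card, support_indWord, Finset.inter_self, ZMod.natCast_eq_zero_iff]
    omega

/-- An octad through the first base point only. -/
def oneMask : ℕ := 8394986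

/-- The code is spanned by the octads through two points and one more octad. -/
def comb22 : List (List ℕ) :=
  [[8391797, 8471941, 8524371, 8657159, 12587685], [8421811, 8471941, 8922769, 12587685],
  [8391797, 8394986, 8398155, 8421811, 8657159, 9440193, 12587685],
  [8391797, 8524371, 8657159, 8922769, 10486557, 12587685],
  [8391797, 8394986, 8412681, 8471941, 8524371, 8922769, 9440193],
  [8394986, 8398155, 8412681, 8524371, 8657159, 9440193, 10486557],
  [8391797, 8394986, 8398155, 8412681, 8421811, 8657159, 8922769, 10486557, 12587685],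
  [8391797, 8398155, 8412681, 8421811, 8524371, 8657159, 8922769, 9440193],
  [8391797, 8412681, 8421811, 8471941, 8657159, 8922769, 9440193, 10486557],
  [8391797, 8398155, 8471941, 8524371, 8922769, 9440193, 10486557, 12587685],
  [8394986, 8421811, 8471941, 9440193, 10486557],
  [8391797, 8394986, 8398155, 8412681, 8421811, 8471941, 8524371, 10486557, 12587685]]

theorem comb22_eq : comb22.map (fun l => l.foldr (fun m r => Nat.xor m r) 0) = gens ∧
    (∀ l ∈ comb22, ∀ m ∈ l,
      m = oneMask ∨ (isCode m = true ∧ pop m = 8 ∧ m.testBit 23 = true ∧ m.testBit 0 = true)) ∧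
    (isCode oneMask = true ∧ pop oneMask = 8 ∧ oneMask.testBit 23 = true ∧
      oneMask.testBit 0 = false) := by
  decide +kernel

theorem oneMask_octad : mset oneMask ∈ octads ∧ pt 23 ∈ mset oneMask ∧ pt 0 ∉ mset oneMask := by
  obtain ⟨-, -, h1, h2, h3, h4⟩ := comb22_eq
  refine ⟨mem_octads_iff.2 ⟨_, mem_octList.2 ⟨h1, h2⟩, rfl⟩, ?_, ?_⟩
  · rw [mem_mset, idx_pt (by norm_num), h3]
  · rw [mem_mset, idx_pt (by norm_num), h4]; simp

/-- The octads through both base points. -/
def pairOctads : Set (Finset GolayPt) := {o | o ∈ octads ∧ pt 23 ∈ o ∧ pt 0 ∈ o}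

theorem mem_pairOctads_mask {m : ℕ} (h : isCode m = true ∧ pop m = 8 ∧ m.testBit 23 = true ∧
    m.testBit 0 = true) : mset m ∈ pairOctads := by
  obtain ⟨h1, h2, h3, h4⟩ := h
  refine ⟨mem_octads_iff.2 ⟨_, mem_octList.2 ⟨h1, h2⟩, rfl⟩, ?_, ?_⟩
  · rw [mem_mset, idx_pt (by norm_num), h3]
  · rw [mem_mset, idx_pt (by norm_num), h4]

theorem mem_M24_of_pairOctads {τ : Equiv.Perm GolayPt}
    (hmap : ∀ o ∈ pairOctads, τ • o ∈ pairOctads)
    (hone : (τ • mset oneMask ∩ mset oneMask).card % 2 = 0) : τ ∈ M24 := by
  classical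
  have hsurj : ∀ o ∈ pairOctads, ∃ o' ∈ pairOctads, τ • o' = o := by
    intro o ho
    have he := Finset.eq_of_subset_of_card_le
      (s := pairOctads.toFinite.toFinset.image fun o => τ • o) (t := pairOctads.toFinite.toFinset)
      (fun a ha => by
        obtain ⟨b, hb, rfl⟩ := Finset.mem_image.1 ha
        rw [Set.Finite.mem_toFinset] at hb ⊢
        exact hmap b hb)
      (by rw [Finset.card_image_of_injective _ (MulAction.injective τ)])
    have : o ∈ pairOctads.toFinite.toFinset := by rw [Set.Finite.mem_toFinset]; exact ho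
    rw [← he, Finset.mem_image] at this
    obtain ⟨b, hb, rfl⟩ := this
    exact ⟨b, (Set.Finite.mem_toFinset _).1 hb, rfl⟩
  obtain ⟨hO, hO1, hO2⟩ := oneMask_octad
  set U := mset oneMask with hU
  have hsub : ∀ m, (m = oneMask ∨ (isCode m = true ∧ pop m = 8 ∧ m.testBit 23 = true ∧
      m.testBit 0 = true)) → (τ • U ∩ mset m).card % 2 = 0 := by
    rintro m (rfl | h)
    · exact hone
    · obtain ⟨o', ho', e⟩ := hsurj _ (mem_pairOctads_mask h)
      rw [← e, ← Finset.smul_finset_inter, Finset.card_smul_finset]
      have := supports_inter_even hO.1 ho'.1.1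
      omega
  have hfold : ∀ (s : Finset GolayPt) (l : List ℕ), (∀ m ∈ l, (s ∩ mset m).card % 2 = 0) →
      (s ∩ mset (l.foldr (fun m r => Nat.xor m r) 0)).card % 2 = 0 := by
    intro s l
    induction l with
    | nil => intro _; simp [mset_zero]
    | cons m l ih =>
      intro h
      simp only [List.foldr_cons]
      rw [show Nat.xor m _ = m ^^^ _ from rfl, mset_xor,
        show s ∩ symmDiff (mset m) _ = symmDiff (s ∩ mset m) _ from inf_symmDiff_distrib_left _ _ _]
      have h1 := card_symmDiff_add (s ∩ mset m) (s ∩ mset (l.foldr (fun m r => Nat.xor m r) 0))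
      have h2 := h m (by simp)
      have h3 := ih fun y hy => h y (by simp [hy])
      have h4 : ((s ∩ mset m) ⊓ (s ∩ mset (l.foldr (fun m r => Nat.xor m r) 0))).card ≤
          (s ∩ mset m).card := Finset.card_le_card inf_le_left
      simp only [Finset.inf_eq_inter] at *
      omega
  have hτU : τ • U ∈ supports (golayCode : Set (GolayPt → ZMod 2)) := by
    refine mem_supports_of_even (by rw [Finset.card_smul_finset, hO.2]) fun g hg => ?_
    rw [← comb22_eq.1, List.mem_map] at hg
    obtain ⟨l, hl, rfl⟩ := hg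
    exact hfold _ l fun m hm => hsub m (comb22_eq.2.1 l hl m hm)
  refine mem_M24_of_words fun x hx => ?_
  rw [← comb22_eq.1, List.mem_map] at hx
  obtain ⟨l, hl, rfl⟩ := hx
  have hl' := comb22_eq.2.1 l hl
  clear hl
  induction l with
  | nil =>
    simp only [List.foldr_nil, mset_zero, Finset.smul_finset_empty]
    exact mem_supports_iff.2 ⟨0, isCode_zero, mset_zero⟩
  | cons m l ih =>
    simp only [List.foldr_cons]
    rw [show Nat.xor m _ = m ^^^ _ from rfl, mset_xor, Finset.smul_finset_symmDiff]
    refine symmDiff_mem_supports ?_ (ih fun y hy => hl' y (by simp [hy]))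
    rcases hl' m (by simp) with rfl | h
    · exact hτU
    · exact (hmap _ (mem_pairOctads_mask h)).1.1

theorem mem_M24_or_swap {σ : Equiv.Perm GolayPt} (h1 : σ (pt 23) = pt 23) (h2 : σ (pt 0) = pt 0)
    (h : ∀ o ∈ pairOctads, σ • o ∈ octads) :
    σ ∈ M24 ∨ Equiv.swap (pt 23) (pt 0) * σ ∈ M24 := by
  classical
  have hmem : ∀ {o}, o ∈ pairOctads → σ • o ∈ pairOctads := fun {o} ho =>
    ⟨h o ho, by rw [← h1]; exact Finset.smul_mem_smul_finset ho.2.1,
      by rw [← h2]; exact Finset.smul_mem_smul_finset ho.2.2⟩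
  obtain ⟨hO, hO1, hO2⟩ := oneMask_octad
  set U := mset oneMask with hU
  by_cases he : (σ • U ∩ U).card % 2 = 0
  · exact Or.inl (mem_M24_of_pairOctads (fun o ho => hmem ho) he)
  right
  set sw := Equiv.swap (pt 23) (pt 0) with hsw
  have hfix : ∀ {o : Finset GolayPt}, pt 23 ∈ o → pt 0 ∈ o → sw • o = o := by
    intro o a b
    ext x
    rw [Finset.mem_smul_finset]
    constructor
    · rintro ⟨y, hy, rfl⟩
      show sw y ∈ o
      rw [hsw, Equiv.swap_apply_def]
      split_ifs <;> assumption
    · intro hx
      refine ⟨sw x, ?_, Equiv.swap_apply_self _ _ x⟩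
      rw [hsw, Equiv.swap_apply_def]
      split_ifs <;> assumption
  refine mem_M24_of_pairOctads (fun o ho => ?_) ?_
  · rw [mul_smul, hfix (hmem ho).2.1 (hmem ho).2.2]; exact hmem ho
  · have hp : pt 23 ∈ σ • U := by rw [← h1]; exact Finset.smul_mem_smul_finset hO1
    have hz : pt 0 ∉ σ • U := by
      rw [← h2]; exact fun hh => hO2 ((Finset.smul_mem_smul_finset_iff _).1 hh)
    have e : sw • (σ • U) = insert (pt 0) ((σ • U).erase (pt 23)) := by
      ext x
      rw [Finset.mem_smul_finset]
      simp only [Finset.mem_insert, Finset.mem_erase]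
      constructor
      · rintro ⟨y, hy, rfl⟩
        show sw y = _ ∨ (sw y ≠ _ ∧ sw y ∈ _)
        rw [hsw, Equiv.swap_apply_def]
        split_ifs with a b
        · exact Or.inl rfl
        · exact absurd (b ▸ hy) hz
        · exact Or.inr ⟨a, hy⟩
      · rintro (rfl | ⟨a, hx⟩)
        · exact ⟨pt 23, hp, Equiv.swap_apply_left _ _⟩
        · exact ⟨x, hx, Equiv.swap_apply_of_ne_of_ne a (fun hb => hz (hb ▸ hx))⟩
    rw [mul_smul, e, Finset.insert_inter_of_notMem hO2, Finset.erase_inter,
      Finset.card_erase_of_mem (Finset.mem_inter.2 ⟨hp, hO1⟩)]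
    omega

/-- The setwise stabiliser of the two base points. -/
abbrev pairStab : Subgroup M24 :=
  MulAction.stabilizer M24 ({pt 23, pt 0} : Finset GolayPt)

theorem card_pairStab : Nat.card pairStab = 887040 := by
  classical
  have hne : pt 23 ≠ pt 0 := by decide +kernel
  have horb : MulAction.orbit M24 ({pt 23, pt 0} : Finset GolayPt) =
      ↑((Finset.univ : Finset GolayPt).powersetCard 2) := by
    ext s
    rw [Finset.mem_coe, Finset.mem_powersetCard]
    constructor
    · rintro ⟨g, rfl⟩
      exact ⟨Finset.subset_univ _, by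
        show (g • ({pt 23, pt 0} : Finset GolayPt)).card = 2
        rw [Finset.card_smul_finset, Finset.card_pair hne]⟩
    · rintro ⟨-, hs⟩
      obtain ⟨a, b, hab, rfl⟩ := Finset.card_eq_two.1 hs
      obtain ⟨g, ga, gb⟩ := M24_two hne hab
      refine ⟨g, ?_⟩
      show g • ({pt 23, pt 0} : Finset GolayPt) = _
      rw [Finset.smul_finset_insert, Finset.smul_finset_singleton, ga, gb]
  have h := pairStab.card_mul_index
  rw [MulAction.index_stabilizer, horb, Set.ncard_coe_finset, Finset.card_powersetCard,
    Finset.card_univ, card_M24] at h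
  rw [show Fintype.card GolayPt = 24 from by simp,
    show Nat.choose 24 2 = 276 by decide +kernel] at h
  omega

theorem card_twoPts : Nat.card twoPts = 443520 := by
  obtain ⟨φ⟩ := stab2_equiv pinf_ne_pz
  rw [Nat.card_congr φ.toEquiv, card_fix22]

section Aut

variable {α : Type*} [Fintype α] [DecidableEq α]

/-- The group of an `S(3,6,22)` has order 887040, is 3-transitive, and has a simple subgroup of
index 2. -/
theorem steiner22_aut (hα : Fintype.card α = 22) {B : Set (Finset α)}
    (hB : IsSteinerSystem 3 6 B) :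
    Nat.card (setSystemAut B) = 887040 ∧
      MulAction.IsMultiplyPretransitive (setSystemAut B) α 3 ∧
      ∃ H : Subgroup (setSystemAut B), H.index = 2 ∧ Cfsg.IsM22 H := by
  classical
  obtain ⟨e, e1, e2, he⟩ := steiner22_iso hα hB
  let f : α → GolayPt := fun a => e (some (some a))
  have hf : Function.Injective f := fun a b h => by simpa [f] using h
  have hne : pt 23 ≠ pt 0 := by decide +kernel
  have hfn : ∀ a, f a ∉ ({pt 23, pt 0} : Finset GolayPt) := fun a => by simp [f, ← e1, ← e2]
  let E : α ≃ {x : GolayPt // x ∉ ({pt 23, pt 0} : Finset GolayPt)} :=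
    Equiv.ofBijective (fun a => ⟨f a, hfn a⟩) ⟨fun a b h => hf (congrArg Subtype.val h), by
      rintro ⟨x, hx⟩
      obtain ⟨y, rfl⟩ := e.surjective x
      rcases y with _ | _ | a
      · simp [e1] at hx
      · simp [e2] at hx
      · exact ⟨a, rfl⟩⟩
  have hinv : ∀ (g : pairStab) (x : GolayPt),
      ((g : M24) : Equiv.Perm GolayPt) x ∉ ({pt 23, pt 0} : Finset GolayPt) ↔
        x ∉ ({pt 23, pt 0} : Finset GolayPt) := by
    intro g x
    refine not_congr ?_
    conv_lhs => rw [← MulAction.mem_stabilizer_iff.1 g.2]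
    exact Finset.smul_mem_smul_finset_iff _
  let Φf : pairStab → Equiv.Perm α := fun g =>
    E.symm.permCongr (((g : M24) : Equiv.Perm GolayPt).subtypePerm (hinv g))
  have key : ∀ g a, f (Φf g a) = ((g : M24) : Equiv.Perm GolayPt) (f a) := by
    intro g a
    show ((E (E.symm.permCongr _ a)) : GolayPt) = _
    simp only [Equiv.permCongr_apply, Equiv.symm_symm, Equiv.apply_symm_apply,
      Equiv.Perm.subtypePerm_apply]
    rfl
  let Φ : pairStab →* Equiv.Perm α :=
    MonoidHom.mk' Φf fun g h => Equiv.ext fun a => hf (by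
      rw [key, Equiv.Perm.mul_apply, key, key]; rfl)
  have hblk : ∀ (g : pairStab) (b : Finset α),
      (ins22 (Φ g • b)).image e = (g : M24) • (ins22 b).image e := by
    intro g b
    have hpair : ∀ c : Finset α, (ins22 c).image e = {pt 23, pt 0} ∪ c.image f := by
      intro c
      ext x
      obtain ⟨y, rfl⟩ := e.surjective x
      rcases y with _ | _ | a <;> simp [ins22, f, ← e1, ← e2]
    have hg : (g : M24) • ({pt 23, pt 0} : Finset GolayPt) = {pt 23, pt 0} :=
      MulAction.mem_stabilizer_iff.1 g.2
    rw [hpair, hpair, Finset.smul_finset_union, hg]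
    congr 1
    rw [Finset.smul_finset_def, Finset.smul_finset_def, Finset.image_image, Finset.image_image]
    exact Finset.image_congr fun a _ => key g a
  have hiff : ∀ (g : pairStab) (b : Finset α), Φ g • b ∈ B ↔ b ∈ B := by
    intro g b
    rw [← he, ← he, hblk]
    exact ⟨fun h => by
      have := M24_smul_octad ((g : M24)⁻¹).2 h
      rwa [Subgroup.coe_inv, Subgroup.smul_def, inv_smul_smul] at this,
      fun h => M24_smul_octad (g : M24).2 h⟩
  have hmemaut : ∀ g, Φ g ∈ setSystemAut B := by
    intro g
    rw [MulAction.mem_stabilizer_iff]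
    ext b
    rw [Set.mem_smul_set_iff_inv_smul_mem, ← hiff g ((Φ g)⁻¹ • b), smul_inv_smul]
  have hinj : Function.Injective Φ := by
    rw [injective_iff_map_eq_one]
    intro g hg
    have hfix : ∀ a, ((g : M24) : Equiv.Perm GolayPt) (f a) = f a := fun a => by
      rw [← key]; show f (Φ g a) = f a; rw [hg]; rfl
    have hg' : (g : M24) • ({pt 23, pt 0} : Finset GolayPt) = {pt 23, pt 0} :=
      MulAction.mem_stabilizer_iff.1 g.2
    have hp : ((g : M24) : Equiv.Perm GolayPt) (pt 23) ∈ ({pt 23, pt 0} : Finset GolayPt) :=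
      hg' ▸ Finset.smul_mem_smul_finset (a := (g : M24)) (by simp : pt 23 ∈ _)
    have hq : ((g : M24) : Equiv.Perm GolayPt) (pt 0) ∈ ({pt 23, pt 0} : Finset GolayPt) :=
      hg' ▸ Finset.smul_mem_smul_finset (a := (g : M24)) (by simp : pt 0 ∈ _)
    simp only [Finset.mem_insert, Finset.mem_singleton] at hp hq
    rcases hp with hp | hp
    · have hq' : ((g : M24) : Equiv.Perm GolayPt) (pt 0) = pt 0 :=
        hq.resolve_left fun h => hne (Equiv.injective _ (hp.trans h.symm))
      refine Subtype.ext (Subtype.ext (Equiv.ext fun x => ?_))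
      obtain ⟨y, rfl⟩ := e.surjective x
      rcases y with _ | _ | a
      · rw [e1]; exact hp
      · rw [e2]; exact hq'
      · exact hfix a
    · exfalso
      obtain ⟨hO, hO1, hO2⟩ := oneMask_octad
      have himg : (g : M24) • mset oneMask = insert (pt 0) ((mset oneMask).erase (pt 23)) := by
        refine (Finset.eq_of_subset_of_card_le (fun x hx => ?_) ?_).symm
        · rw [Finset.mem_insert, Finset.mem_erase] at hx
          rcases hx with rfl | ⟨hx1, hx2⟩
          · rw [← hp]; exact Finset.smul_mem_smul_finset hO1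
          · obtain ⟨y, rfl⟩ := e.surjective x
            rcases y with _ | _ | a
            · exact absurd e1 hx1
            · exact absurd (e2 ▸ hx2) hO2
            · rw [show e (some (some a)) = f a from rfl, ← hfix a]
              exact Finset.smul_mem_smul_finset hx2
        · rw [Finset.card_smul_finset, Finset.card_insert_of_notMem (by simp [hO2]),
            Finset.card_erase_of_mem hO1, hO.2]
      have h2 := supports_inter_even (M24_smul_octad (g : M24).2 hO).1 hO.1
      rw [← Subgroup.smul_def, himg, Finset.insert_inter_of_notMem hO2, Finset.erase_inter,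
        Finset.inter_self, Finset.card_erase_of_mem hO1, hO.2] at h2
      norm_num at h2
  have hrange : Φ.range = setSystemAut B := by
    refine le_antisymm (by rintro _ ⟨g, rfl⟩; exact hmemaut g) fun σ hσ => ?_
    let σ' : Equiv.Perm GolayPt := e.permCongr (Equiv.optionCongr (Equiv.optionCongr σ))
    have s1 : σ' (pt 23) = pt 23 := by simp [σ', ← e1, Equiv.permCongr_apply]
    have s2 : σ' (pt 0) = pt 0 := by simp [σ', ← e2, Equiv.permCongr_apply]
    have s3 : ∀ a, σ' (f a) = f (σ a) := fun a => by simp [σ', f, Equiv.permCongr_apply]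
    have hmap : ∀ o ∈ pairOctads, σ' • o ∈ octads := by
      intro o ⟨ho, o1, o2⟩
      let x := o.image e.symm
      have hx : x.image e = o := by simp [x, Finset.image_image]
      have hx1 : none ∈ x := Finset.mem_image.2 ⟨_, o1, by simp [← e1]⟩
      have hx2 : some none ∈ x := Finset.mem_image.2 ⟨_, o2, by simp [← e2]⟩
      have hw : core22 x ∈ B := (he _).1 (by rw [ins22_core22 hx1 hx2, hx]; exact ho)
      have hσw : σ • core22 x ∈ B :=
        MulAction.mem_stabilizer_iff.1 hσ ▸ Set.smul_mem_smul_set (a := σ) hw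
      convert (he _).2 hσw using 1
      conv_lhs => rw [← hx, ← ins22_core22 hx1 hx2]
      rw [Finset.smul_finset_def, Finset.image_image]
      ext z
      simp only [Finset.mem_image, Function.comp_apply]
      constructor
      · rintro ⟨(_ | _ | a), hy, rfl⟩
        · exact ⟨none, by simp [ins22], by show _ = σ' (e none); rw [e1, s1]⟩
        · exact ⟨some none, by simp [ins22], by show _ = σ' (e (some none)); rw [e2, s2]⟩
        · refine ⟨some (some (σ a)), ?_, (s3 a).symm⟩
          simp only [ins22, Finset.some_mem_insertNone] at hy ⊢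
          exact Finset.smul_mem_smul_finset (a := σ) hy
      · rintro ⟨(_ | _ | a), hy, rfl⟩
        · exact ⟨none, by simp [ins22], by show σ' (e none) = _; rw [e1, s1]⟩
        · exact ⟨some none, by simp [ins22], by show σ' (e (some none)) = _; rw [e2, s2]⟩
        · refine ⟨some (some (σ⁻¹ a)), ?_, ?_⟩
          · simp only [ins22, Finset.some_mem_insertNone] at hy ⊢
            exact (Finset.inv_smul_mem_iff).2 hy
          · show σ' (f _) = f a
            rw [s3]; simp
    obtain ⟨τ, hτ, t1, t2, t3⟩ : ∃ τ, τ ∈ M24 ∧ τ (pt 23) ∈ ({pt 23, pt 0} : Finset GolayPt) ∧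
        τ (pt 0) ∈ ({pt 23, pt 0} : Finset GolayPt) ∧ ∀ a, τ (f a) = f (σ a) := by
      rcases mem_M24_or_swap s1 s2 hmap with h | h
      · exact ⟨_, h, by simp [s1], by simp [s2], s3⟩
      · refine ⟨_, h, by simp [s1], by simp [s2], fun a => ?_⟩
        rw [Equiv.Perm.mul_apply, s3]
        have := hfn (σ a)
        simp only [Finset.mem_insert, Finset.mem_singleton, not_or] at this
        exact Equiv.swap_apply_of_ne_of_ne this.1 this.2
    have hK : (⟨τ, hτ⟩ : M24) ∈ pairStab := by
      rw [MulAction.mem_stabilizer_iff]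
      refine Finset.eq_of_subset_of_card_le (fun x hx => ?_) (by rw [Finset.card_smul_finset])
      obtain ⟨y, hy, rfl⟩ := Finset.mem_smul_finset.1 hx
      rcases Finset.mem_insert.1 hy with rfl | hy
      · exact t1
      · rw [Finset.mem_singleton] at hy; subst hy; exact t2
    exact ⟨⟨_, hK⟩, Equiv.ext fun a => hf ((key _ a).trans (t3 a))⟩
  let Ψ : pairStab ≃* setSystemAut B :=
    (MonoidHom.ofInjective hinj).trans (MulEquiv.subgroupCongr hrange)
  have hΨ : ∀ g, ((Ψ g : setSystemAut B) : Equiv.Perm α) = Φ g := fun g => rfl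
  have hcard : Nat.card (setSystemAut B) = 887040 := by
    rw [← Nat.card_congr Ψ.toEquiv, card_pairStab]
  refine ⟨hcard, ⟨fun x y => ?_⟩, ?_⟩
  · have hemb : ∀ z : Fin 3 ↪ α,
        Function.Injective ![pt 23, pt 0, f (z 0), f (z 1), f (z 2)] := by
      intro z
      have h01 : f (z 0) ≠ f (z 1) := fun h => absurd (z.injective (hf h)) (by decide)
      have h02 : f (z 0) ≠ f (z 2) := fun h => absurd (z.injective (hf h)) (by decide)
      have h12 : f (z 1) ≠ f (z 2) := fun h => absurd (z.injective (hf h)) (by decide)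
      have n0 := hfn (z 0)
      have n1 := hfn (z 1)
      have n2 := hfn (z 2)
      simp only [Finset.mem_insert, Finset.mem_singleton, not_or] at n0 n1 n2
      rw [Matrix.vecCons, Fin.cons_injective_iff, Matrix.vecCons, Fin.cons_injective_iff,
        Matrix.vecCons, Fin.cons_injective_iff, Matrix.vecCons, Fin.cons_injective_iff]
      simp [hne, h01, h02, h12, Ne.symm n0.1, Ne.symm n0.2, Ne.symm n1.1, Ne.symm n1.2, Ne.symm n2.1,
        Ne.symm n2.2]
      exact Function.injective_of_subsingleton _
    obtain ⟨g, hg⟩ := M24_five_trans ⟨_, hemb x⟩ ⟨_, hemb y⟩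
    have hgi : ∀ i, g • ![pt 23, pt 0, f (x 0), f (x 1), f (x 2)] i =
        ![pt 23, pt 0, f (y 0), f (y 1), f (y 2)] i := fun i => DFunLike.congr_fun hg i
    have hK : g ∈ pairStab := by
      rw [MulAction.mem_stabilizer_iff, Finset.smul_finset_insert, Finset.smul_finset_singleton]
      rw [show g • pt 23 = pt 23 from hgi 0, show g • pt 0 = pt 0 from hgi 1]
    refine ⟨Ψ ⟨g, hK⟩, DFunLike.ext _ _ fun i => hf ?_⟩
    show f (Φ ⟨g, hK⟩ (x i)) = f (y i)
    refine (key _ _).trans ?_
    fin_cases i
    · exact hgi 2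
    · exact hgi 3
    · exact hgi 4
  · have hle : twoPts ≤ pairStab := fun g hg => by
      obtain ⟨h1, h2⟩ := Subgroup.mem_inf.1 hg
      rw [MulAction.mem_stabilizer_iff] at h1 h2 ⊢
      rw [Finset.smul_finset_insert, Finset.smul_finset_singleton]
      rw [show g • pt 23 = pt 23 from h1, show g • pt 0 = pt 0 from h2]
    let ι : twoPts →* setSystemAut B := Ψ.toMonoidHom.comp (Subgroup.inclusion hle)
    have hι : Function.Injective ι := Ψ.injective.comp (Subgroup.inclusion_injective hle)
    let φ := MonoidHom.ofInjective hι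
    have hc : Nat.card ι.range = 443520 := by rw [← Nat.card_congr φ.toEquiv, card_twoPts]
    refine ⟨ι.range, ?_, ?_, hc⟩
    · have := ι.range.card_mul_index
      rw [hc, hcard] at this
      omega
    · have := isSimple_twoPts
      exact φ.symm.isSimpleGroup

end Aut

end CfsgLib.Golay
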