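import Cfsg.Agent.Lib.Golay.Steiner22Small
import Cfsg.Agent.Lib.Golay.Frame

/-! Every `S(3,6,22)` is the system of octads through two points, with those points removed. -/

set_option autoImplicit false
set_option maxRecDepth 100000

namespace CfsgLib.Golay

open Cfsg
open scoped Pointwise

section Opt

variable {α : Type*} [Fintype α] [DecidableEq α]

/-- The old part of a set in the twice extended point set. -/
def core22 (x : Finset (Option (Option α))) : Finset α :=
  Finset.univ.filter fun a => some (some a) ∈ x

/-- The set `b` with both new points added. -/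
def ins22 (b : Finset α) : Finset (Option (Option α)) := Finset.insertNone (Finset.insertNone b)

theorem card22 (x : Finset (Option (Option α))) :
    x.card = (if none ∈ x then 1 else 0) + ((if some none ∈ x then 1 else 0) + (core22 x).card) := by
  have h1 : x.card = ∑ i, if i ∈ x then 1 else 0 := by
    rw [Finset.sum_ite_mem, Finset.univ_inter, Finset.card_eq_sum_ones]
  rw [h1, Fintype.sum_option, Fintype.sum_option, core22, Finset.card_filter]

theorem inter_ins22 (x : Finset (Option (Option α))) (c : Finset α) :
    (x ∩ ins22 c).card =
      (if none ∈ x then 1 else 0) + ((if some none ∈ x then 1 else 0) + (core22 x ∩ c).card) := by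
  rw [card22 (x ∩ ins22 c)]
  have e : core22 (x ∩ ins22 c) = core22 x ∩ c := by ext a; simp [core22, ins22]
  rw [e]
  simp [ins22]

theorem card_ins22 (b : Finset α) : (ins22 b).card = b.card + 2 := by
  rw [ins22, Finset.card_insertNone, Finset.card_insertNone]

theorem core22_ins22 (b : Finset α) : core22 (ins22 b) = b := by ext a; simp [core22, ins22]

theorem ins22_core22 {x : Finset (Option (Option α))} (h1 : none ∈ x) (h2 : some none ∈ x) :
    ins22 (core22 x) = x := by
  ext (_ | _ | a) <;> simp [core22, ins22, h1, h2]

theorem inter_even_3_6_22 (hα : Fintype.card α = 22) {B : Set (Finset α)}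
    (hB : IsSteinerSystem 3 6 B) {b c : Finset α} (hb : b ∈ B) (hc : c ∈ B) :
    (b ∩ c).card % 2 = 0 := by
  by_cases h : b = c
  · subst h; rw [Finset.inter_self, hB.1 b hb]
  · rcases inter_cases22 hα hB hb hc h with e | e <;> omega

/-- Every `S(3,6,22)` is the system of octads through two points, with those points removed. -/
theorem steiner22_iso (hα : Fintype.card α = 22) {B : Set (Finset α)}
    (hB : IsSteinerSystem 3 6 B) :
    ∃ e : Option (Option α) ≃ GolayPt, e none = pt 23 ∧ e (some none) = pt 0 ∧
      ∀ w : Finset α, (ins22 w).image e ∈ octads ↔ w ∈ B := by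
  classical
  let F : Set (Finset (Option (Option α))) := ins22 '' B
  have hX : Fintype.card (Option (Option α)) = 24 := by simp [hα]
  have h4 : ∀ b ∈ F, 4 ∣ b.card := by
    rintro _ ⟨b, hb, rfl⟩; rw [card_ins22, hB.1 b hb]; norm_num
  have hev : ∀ b ∈ F, ∀ c ∈ F, (b ∩ c).card % 2 = 0 := by
    rintro _ ⟨b, hb, rfl⟩ _ ⟨c, hc, rfl⟩
    rw [inter_ins22, core22_ins22]
    have := inter_even_3_6_22 hα hB hb hc
    simp [ins22]; omega
  obtain ⟨u, u4, up, uq, uev⟩ := exists_doubly_even hX F h4 hev
    (p := none) (q := some none) (by simp) (by
      rintro _ ⟨c, hc, rfl⟩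
      rw [inter_ins22]
      simp [core22])
  have hu_odd : ∀ c ∈ B, (core22 u ∩ c).card % 2 = 1 := by
    intro c hc
    have := uev _ ⟨c, hc, rfl⟩
    rw [inter_ins22, if_pos up, if_neg uq] at this
    omega
  obtain ⟨e₀, he₀⟩ := exists_code_of_family hX (insert u F)
    (by rintro b (rfl | hb); exacts [u4, h4 b hb])
    (by
      rintro b (rfl | hb) c (rfl | hc)
      · rw [Finset.inter_self]; omega
      · exact uev c hc
      · rw [Finset.inter_comm]; exact uev b hb
      · exact hev b hb c hc)
    (fun x hx hxev => by
      have hxF : ∀ c ∈ B, (x ∩ ins22 c).card % 2 = 0 := fun c hc => hxev _ (Or.inr ⟨c, hc, rfl⟩)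
      have hxu := hxev u (Or.inl rfl)
      rw [card22 x] at hx
      by_cases a : none ∈ x <;> by_cases b : some none ∈ x
      · exfalso
        rw [if_pos a, if_pos b] at hx
        rcases small22_even hα hB (t := core22 x) (by omega) (fun c hc => by
            have := hxF c hc
            rw [inter_ins22, if_pos a, if_pos b] at this
            omega) with h | h
        · have e : x = {none, some none} := by
            rw [← ins22_core22 a b, h]; ext (_ | _ | i) <;> simp [ins22]
          rw [e, show ({none, some none} : Finset (Option (Option α))) ∩ u = {none} by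
            ext (_ | _ | i) <;> simp [up, uq]] at hxu
          simp at hxu
        · have := hB.1 _ h; omega
      · refine (small22_odd hα hB (t := core22 x) (by rw [if_pos a, if_neg b] at hx; omega)
          fun c hc => ?_).elim
        have := hxF c hc
        rw [inter_ins22, if_pos a, if_neg b] at this
        omega
      · refine (small22_odd hα hB (t := core22 x) (by rw [if_neg a, if_pos b] at hx; omega)
          fun c hc => ?_).elim
        have := hxF c hc
        rw [inter_ins22, if_neg a, if_pos b] at this
        omega
      · rw [if_neg a, if_neg b] at hx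
        rcases small22_even hα hB (t := core22 x) (by omega) (fun c hc => by
            have := hxF c hc
            rw [inter_ins22, if_neg a, if_neg b] at this
            omega) with h | h
        · ext (_ | _ | i)
          · simp [a]
          · simp [b]
          · have : i ∉ core22 x := by rw [h]; simp
            simpa [core22] using this
        · exfalso
          have e : x = (core22 x).map (Function.Embedding.some.trans Function.Embedding.some) := by
            ext (_ | _ | i) <;> simp [a, b, core22]
          have h1 := hu_odd _ h
          rw [Finset.inter_comm] at hxu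
          rw [card22 (u ∩ x)] at hxu
          have e2 : core22 (u ∩ x) = core22 u ∩ core22 x := by ext i; simp [core22]
          simp [a, b, e2] at hxu
          omega)
  obtain ⟨g, hg1, hg2⟩ := M24_two (show e₀ none ≠ e₀ (some none) by simp)
    (show pt 23 ≠ pt 0 by decide +kernel)
  let e : Option (Option α) ≃ GolayPt := e₀.trans (g : Equiv.Perm GolayPt)
  refine ⟨e, hg1, hg2, fun w => ?_⟩
  have himg : (ins22 w).image e = (g : Equiv.Perm GolayPt) • (ins22 w).image e₀ := by
    rw [Finset.smul_finset_def, Finset.image_image]; rfl
  have hcard : ((ins22 w).image e₀).card = w.card + 2 := by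
    rw [Finset.card_image_of_injective _ e₀.injective, card_ins22]
  constructor
  · intro h
    rw [himg] at h
    have := M24_smul_octad (g⁻¹).2 h
    rw [Subgroup.coe_inv, inv_smul_smul] at this
    have hw : w.card = 6 := by have := this.2; omega
    have hev' := (he₀ _).2 this.1
    rcases small22_even hα hB (t := w) (by omega) (fun c hc => by
        have := hev' _ (Or.inr ⟨c, hc, rfl⟩)
        rw [inter_ins22, core22_ins22] at this
        simp [ins22] at this
        omega) with h' | h'
    · rw [h'] at hw; simp at hw
    · exact h'
  · intro h
    rw [himg]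
    refine M24_smul_octad g.2 ⟨(he₀ _).1 ?_, by rw [hcard, hB.1 w h]⟩
    rintro c (rfl | hc)
    · rw [Finset.inter_comm]; exact uev _ ⟨w, h, rfl⟩
    · exact hev _ ⟨w, h, rfl⟩ c hc

end Opt

end CfsgLib.Golay
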