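import Cfsg.Agent.Lib.Golay.SteinerIso
import Cfsg.Agent.Lib.Golay.Steiner22
import Mathlib.NumberTheory.Zsqrtd.GaussianInt

/-! Small sets against the blocks of an `S(3,6,22)`, and a quartic Gauss sum producing the word
that extends the 77 blocks to the code of length 24. -/

set_option autoImplicit false

namespace CfsgLib.Golay

open Cfsg

section Small

variable {α : Type*} [Fintype α] [DecidableEq α] {B : Set (Finset α)}

theorem moments22 (hα : Fintype.card α = 22) (hB : IsSteinerSystem 3 6 B) (t : Finset α) :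
    ∑ i ∈ Finset.range 7, interNum (blocks B) t i = 77 ∧
    ∑ i ∈ Finset.range 7, interNum (blocks B) t i * i = t.card * 21 ∧
    ∑ i ∈ Finset.range 7, interNum (blocks B) t i * i.choose 2 = t.card.choose 2 * 5 ∧
    ∑ i ∈ Finset.range 7, interNum (blocks B) t i * i.choose 3 = t.card.choose 3 := by
  have hlt : ∀ c ∈ blocks B, (t ∩ c).card < 7 := fun c hc => by
    have := Finset.card_le_card (Finset.inter_subset_right : t ∩ c ⊆ c)
    rw [hB.1 c (mem_blocks.1 hc)] at this
    omega
  have key : ∀ j N, j ≤ 3 → 0 < Nat.choose (6 - j) (3 - j) →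
      N * Nat.choose (6 - j) (3 - j) = Nat.choose (22 - j) (3 - j) →
      ∑ i ∈ Finset.range 7, interNum (blocks B) t i * Nat.choose i j = Nat.choose t.card j * N :=
    fun j N hj hp hN =>
      inter_moment _ t 7 j N hlt (fun r _ hrc => steiner_lambda hB j N hrc hj hp (hα ▸ hN))
  have e0 := key 0 77 (by norm_num) (by decide) (by decide)
  have e1 := key 1 21 (by norm_num) (by decide) (by decide)
  have e2 := key 2 5 (by norm_num) (by decide) (by decide)
  have e3 := key 3 1 (by norm_num) (by decide) (by decide)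
  simp only [Nat.choose_zero_right, Nat.choose_one_right, mul_one, one_mul] at e0 e1 e3
  exact ⟨e0, e1, e2, e3⟩

theorem small_even_arith {m n0 n2 n4 n6 : ℕ} (hm : m ≤ 6) (e1 : n2 * 2 + n4 * 4 + n6 * 6 = m * 21)
    (e2 : n2 + n4 * 6 + n6 * 15 = m.choose 2 * 5) (e3 : n4 * 4 + n6 * 20 = m.choose 3)
    (e0 : n0 + n2 + n4 + n6 = 77) : m = 0 ∨ (m = 6 ∧ n6 = 1) := by
  interval_cases m <;> norm_num [Nat.choose] at e1 e2 e3 ⊢ <;> omega

theorem small_odd_arith {m n1 n3 n5 : ℕ} (hm : m ≤ 5) (e0 : n1 + n3 + n5 = 77)
    (e1 : n1 + n3 * 3 + n5 * 5 = m * 21) (e2 : n3 * 3 + n5 * 10 = m.choose 2 * 5)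
    (e3 : n3 + n5 * 10 = m.choose 3) : False := by
  interval_cases m <;> norm_num [Nat.choose] at e1 e2 e3 ⊢ <;> omega

/-- A set of at most six points meeting all blocks evenly is empty or a block. -/
theorem small22_even (hα : Fintype.card α = 22) (hB : IsSteinerSystem 3 6 B) {t : Finset α}
    (ht : t.card ≤ 6) (h : ∀ c ∈ B, (t ∩ c).card % 2 = 0) : t = ∅ ∨ t ∈ B := by
  classical
  obtain ⟨e0, e1, e2, e3⟩ := moments22 hα hB t
  have hne : ∀ i, i % 2 = 1 → interNum (blocks B) t i = 0 := by
    intro i hi
    rw [interNum, Finset.card_eq_zero, Finset.filter_eq_empty_iff]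
    intro c hc e
    have := h c (mem_blocks.1 hc)
    omega
  norm_num [Finset.sum_range_succ, Nat.choose, hne 1 rfl, hne 3 rfl, hne 5 rfl] at e0 e1 e2 e3
  rcases small_even_arith ht e1 e2 e3 e0 with h0 | ⟨h6, h1⟩
  · exact Or.inl (Finset.card_eq_zero.1 h0)
  · right
    obtain ⟨c, hc⟩ : ((blocks B).filter fun c => (t ∩ c).card = 6).Nonempty :=
      Finset.card_pos.1 (by show 0 < interNum (blocks B) t 6; omega)
    rw [Finset.mem_filter, mem_blocks] at hc
    have hsub : t ⊆ c := by
      rw [← Finset.eq_of_subset_of_card_le (Finset.inter_subset_left : t ∩ c ⊆ t) (by omega)]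
      exact Finset.inter_subset_right
    rw [Finset.eq_of_subset_of_card_le hsub (by rw [hB.1 c hc.1]; omega)]
    exact hc.1

/-- No set of at most five points meets all blocks oddly. -/
theorem small22_odd (hα : Fintype.card α = 22) (hB : IsSteinerSystem 3 6 B) {t : Finset α}
    (ht : t.card ≤ 5) (h : ∀ c ∈ B, (t ∩ c).card % 2 = 1) : False := by
  classical
  obtain ⟨e0, e1, e2, e3⟩ := moments22 hα hB t
  have hne : ∀ i, i % 2 = 0 → interNum (blocks B) t i = 0 := by
    intro i hi
    rw [interNum, Finset.card_eq_zero, Finset.filter_eq_empty_iff]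
    intro c hc e
    have := h c (mem_blocks.1 hc)
    omega
  norm_num [Finset.sum_range_succ, Nat.choose, hne 0 rfl, hne 2 rfl, hne 4 rfl, hne 6 rfl]
    at e0 e1 e2 e3
  exact small_odd_arith ht e0 e1 e2 e3

end Small

section Gauss

variable {X : Type*} [Fintype X] [DecidableEq X]

/-- `i ^ |x|`. -/
noncomputable def gWt (x : X → ZMod 2) : GaussianInt :=
  ∏ i, if x i = 1 then ⟨0, 1⟩ else 1

/-- `(-1) ^ |x ∩ y|`. -/
noncomputable def gSgn (y x : X → ZMod 2) : GaussianInt :=
  ∏ i, if x i = 1 ∧ y i = 1 then -1 else 1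

theorem gWt_eq (x : X → ZMod 2) : gWt x = (⟨0, 1⟩ : GaussianInt) ^ (support₂ x).card := by
  classical
  rw [gWt, Finset.prod_ite, Finset.prod_const, Finset.prod_const_one, mul_one]
  congr 2
  ext i; simp [mem_support₂']

theorem gSgn_eq (y x : X → ZMod 2) :
    gSgn y x = (-1 : GaussianInt) ^ (support₂ x ∩ support₂ y).card := by
  classical
  rw [gSgn, Finset.prod_ite, Finset.prod_const, Finset.prod_const_one, mul_one]
  congr 2
  ext i; simp [mem_support₂']

theorem gSgn_add (y y' x : X → ZMod 2) : gSgn (y + y') x = gSgn y x * gSgn y' x := by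
  rw [gSgn, gSgn, gSgn, ← Finset.prod_mul_distrib]
  refine Finset.prod_congr rfl fun i _ => ?_
  rcases (show ∀ b : ZMod 2, b = 0 ∨ b = 1 by decide) (x i) with a | a <;>
    rcases (show ∀ b : ZMod 2, b = 0 ∨ b = 1 by decide) (y i) with b | b <;>
    rcases (show ∀ b : ZMod 2, b = 0 ∨ b = 1 by decide) (y' i) with c | c <;>
    simp [a, b, c, show (1 : ZMod 2) + 1 = 0 by decide]

theorem gauss_inner (hX : Fintype.card X = 24) {y : X → ZMod 2} (hy : 4 ∣ (support₂ y).card) :
    ∑ x : X → ZMod 2, gWt x * gSgn y x = 4096 := by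
  classical
  have h1 : ∀ x : X → ZMod 2, gWt x * gSgn y x =
      ∏ i, (fun (i : X) (b : ZMod 2) => ((if b = 1 then ⟨0, 1⟩ else 1 : GaussianInt)) *
        if b = 1 ∧ y i = 1 then -1 else 1) i (x i) := fun x => by
    rw [gWt, gSgn, ← Finset.prod_mul_distrib]
  rw [Finset.sum_congr rfl fun x _ => h1 x, ← Fintype.prod_sum
    (fun (i : X) (b : ZMod 2) => ((if b = 1 then ⟨0, 1⟩ else 1 : GaussianInt)) *
        if b = 1 ∧ y i = 1 then -1 else 1)]
  have h2 : ∀ i, ∑ b : ZMod 2, ((if b = 1 then ⟨0, 1⟩ else 1 : GaussianInt)) *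
        (if b = 1 ∧ y i = 1 then -1 else 1) =
      if i ∈ support₂ y then (⟨1, -1⟩ : GaussianInt) else ⟨1, 1⟩ := by
    intro i
    rw [show (Finset.univ : Finset (ZMod 2)) = {0, 1} by decide, Finset.sum_pair (by decide)]
    by_cases h : y i = 1
    · simp only [mem_support₂', h, and_true, if_true, show ((0 : ZMod 2) = 1) = False by decide,
        if_false, if_true]
      decide
    · simp only [mem_support₂', h, and_false, if_false, if_true,
        show ((0 : ZMod 2) = 1) = False by decide]
      decide
  rw [Finset.prod_congr rfl fun i _ => h2 i, Finset.prod_ite, Finset.prod_const, Finset.prod_const,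
    Finset.filter_mem_eq_inter, Finset.univ_inter]
  obtain ⟨k, hk⟩ := hy
  have hc : (Finset.univ.filter fun i => i ∉ support₂ y).card = 4 * (6 - k) := by
    rw [Finset.filter_notMem_eq_sdiff, Finset.card_univ_sdiff, hX, hk]; omega
  have hk6 : k ≤ 6 := by
    have := Finset.card_le_univ (support₂ y)
    omega
  rw [hk, hc, pow_mul, pow_mul, show (⟨1, -1⟩ : GaussianInt) ^ 4 = -4 by decide,
    show (⟨1, 1⟩ : GaussianInt) ^ 4 = -4 by decide, ← pow_add, show k + (6 - k) = 6 by omega]
  norm_num

/-- If a pair meets every member of a doubly even family evenly, some word orthogonal to the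
family has weight divisible by 4 and separates the pair. -/
theorem exists_doubly_even (hX : Fintype.card X = 24) (F : Set (Finset X))
    (h4 : ∀ b ∈ F, 4 ∣ b.card) (hev : ∀ b ∈ F, ∀ c ∈ F, (b ∩ c).card % 2 = 0)
    {p q : X} (hpq : p ≠ q) (hp : ∀ c ∈ F, ({p, q} ∩ c : Finset X).card % 2 = 0) :
    ∃ u : Finset X, 4 ∣ u.card ∧ p ∈ u ∧ q ∉ u ∧ ∀ c ∈ F, (u ∩ c).card % 2 = 0 := by
  classical
  set C : Submodule (ZMod 2) (X → ZMod 2) := Submodule.span (ZMod 2) (indWord '' F) with hC
  have horth : ∀ v ∈ C, ∀ c ∈ F, (support₂ v ∩ c).card % 2 = 0 := by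
    intro v hv c hc
    rw [← dot_indWord]
    induction hv using Submodule.span_induction with
    | mem x hx =>
      obtain ⟨b, hb, rfl⟩ := hx
      rw [dot_indWord, support_indWord]; exact hev b hb c hc
    | zero => simp
    | add x y _ _ hx hy =>
      simp only [Pi.add_apply, add_mul, Finset.sum_add_distrib, hx, hy, add_zero]
    | smul a x _ hx =>
      simp only [Pi.smul_apply, smul_eq_mul, mul_assoc, ← Finset.mul_sum, hx, mul_zero]
  have hdot : ∀ x : X → ZMod 2, (∀ c ∈ F, (support₂ x ∩ c).card % 2 = 0) → ∀ y ∈ C,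
      (support₂ x ∩ support₂ y).card % 2 = 0 := by
    intro x hx y hy
    have he : ∑ i, x i * y i = 0 := by
      induction hy using Submodule.span_induction with
      | mem z hz => obtain ⟨c, hc, rfl⟩ := hz; exact (dot_indWord x c).2 (hx c hc)
      | zero => simp
      | add z w _ _ hz hw =>
        simp only [Pi.add_apply, mul_add, Finset.sum_add_distrib, hz, hw, add_zero]
      | smul a z _ hz =>
        simp only [Pi.smul_apply, smul_eq_mul, mul_left_comm _ a, ← Finset.mul_sum, hz, mul_zero]
    rw [dot_eq_card, ZMod.natCast_eq_zero_iff] at he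
    omega
  have hfour : ∀ v ∈ C, 4 ∣ (support₂ v).card := by
    intro v hv
    induction hv using Submodule.span_induction with
    | mem x hx => obtain ⟨b, hb, rfl⟩ := hx; rw [support_indWord]; exact h4 b hb
    | zero => simp [support₂_zero']
    | add x y hx' hy' hx hy =>
      rw [support₂_add']
      have h2 := card_symmDiff_add (support₂ x) (support₂ y)
      have := hdot x (horth x hx') y hy'
      omega
    | smul a x _ hx =>
      rcases (show ∀ a : ZMod 2, a = 0 ∨ a = 1 by decide) a with rfl | rfl
      · simp [support₂_zero']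
      · simpa using hx
  let P : Finset (X → ZMod 2) :=
    Finset.univ.filter fun x => ∀ c ∈ F, (support₂ x ∩ c).card % 2 = 0
  let _ : Fintype C := Fintype.ofFinite _
  -- character sums
  have hchar : ∀ x, ∑ y : C, gSgn (y : X → ZMod 2) x =
      if x ∈ P then (Fintype.card C : GaussianInt) else 0 := by
    intro x
    split_ifs with hx
    · have : ∀ y : C, gSgn (y : X → ZMod 2) x = 1 := by
        intro y
        simp only [P, Finset.mem_filter, Finset.mem_univ, true_and] at hx
        rw [gSgn_eq, (Nat.even_iff.2 (hdot x hx _ y.2)).neg_one_pow]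
      rw [Finset.sum_congr rfl fun y _ => this y]
      simp
    · simp only [P, Finset.mem_filter, Finset.mem_univ, true_and] at hx
      push Not at hx
      obtain ⟨c, hc, hodd⟩ := hx
      let y0 : C := ⟨indWord c, Submodule.subset_span ⟨c, hc, rfl⟩⟩
      have h0 : gSgn (y0 : X → ZMod 2) x = -1 := by
        rw [gSgn_eq, support_indWord, (Nat.odd_iff.2 (by omega)).neg_one_pow]
      have hs : ∑ y : C, gSgn (y : X → ZMod 2) x = -∑ y : C, gSgn (y : X → ZMod 2) x := by
        conv_lhs => rw [← Equiv.sum_comp (Equiv.addRight y0)]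
        rw [← Finset.sum_neg_distrib]
        refine Finset.sum_congr rfl fun y _ => ?_
        simp only [Equiv.coe_addRight, Submodule.coe_add, gSgn_add, h0]
        ring
      have h2 : (2 : GaussianInt) * ∑ y : C, gSgn (y : X → ZMod 2) x = 0 := by
        rw [two_mul]
        nth_rw 2 [hs]
        rw [add_neg_cancel]
      exact (mul_eq_zero.1 h2).resolve_left (by decide)
  have htot : (Fintype.card C : GaussianInt) * ∑ x ∈ P, gWt x = Fintype.card C * 4096 := by
    calc (Fintype.card C : GaussianInt) * ∑ x ∈ P, gWt x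
        = ∑ x, gWt x * ∑ y : C, gSgn (y : X → ZMod 2) x := by
          simp only [hchar, mul_ite, mul_zero, Finset.sum_ite_mem, Finset.univ_inter]
          rw [Finset.mul_sum]
          exact Finset.sum_congr rfl fun x _ => mul_comm _ _
      _ = ∑ y : C, ∑ x, gWt x * gSgn (y : X → ZMod 2) x := by
          rw [Finset.sum_comm]
          exact Finset.sum_congr rfl fun x _ => Finset.mul_sum _ _ _
      _ = Fintype.card C * 4096 := by
          rw [Finset.sum_congr rfl fun (y : C) _ => gauss_inner hX (hfour _ y.2)]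
          simp
  have hP : ∑ x ∈ P, gWt x = 4096 :=
    mul_left_cancel₀ (Nat.cast_ne_zero.2 Fintype.card_ne_zero) htot
  -- the words equal on the pair cancel
  let π : X → ZMod 2 := indWord {p, q}
  have hcancel : ∑ x ∈ P.filter (fun x => x p = x q), gWt x = 0 := by
    refine Finset.sum_involution (fun x _ => x + π) ?_ ?_ ?_ ?_
    · intro x hx
      rw [Finset.mem_filter] at hx
      have hrest : ∀ i ∈ Finset.univ \ ({p, q} : Finset X),
          (if (x + π) i = 1 then (⟨0, 1⟩ : GaussianInt) else 1) =
            if x i = 1 then ⟨0, 1⟩ else 1 := by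
        intro i hi
        rw [Finset.mem_sdiff] at hi
        simp [π, indWord, hi.2]
      rw [gWt, gWt, ← Finset.prod_sdiff (Finset.subset_univ ({p, q} : Finset X)),
        ← Finset.prod_sdiff (Finset.subset_univ ({p, q} : Finset X))
          (f := fun i => if (x + π) i = 1 then (⟨0, 1⟩ : GaussianInt) else 1),
        Finset.prod_congr rfl hrest, Finset.prod_pair hpq, Finset.prod_pair hpq, ← mul_add]
      convert mul_zero _
      simp only [π, Pi.add_apply, indWord, Finset.mem_insert, Finset.mem_singleton, true_or, or_true,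
        if_true, hx.2]
      rcases (show ∀ b : ZMod 2, b = 0 ∨ b = 1 by decide) (x q) with a | a <;> rw [a] <;> decide
    · intro x _ _ he
      have := congrFun he p
      simp [π, indWord] at this
    · intro x hx
      simp only [P, Finset.mem_filter, Finset.mem_univ, true_and] at hx ⊢
      refine ⟨fun c hc => ?_, ?_⟩
      · rw [← dot_indWord]
        simp only [Pi.add_apply, add_mul, Finset.sum_add_distrib, (dot_indWord x c).2 (hx.1 c hc)]
        rw [(dot_indWord π c).2 (by rw [support_indWord]; exact hp c hc), add_zero]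
      · simp only [π, Pi.add_apply, indWord, Finset.mem_insert, Finset.mem_singleton, true_or,
          or_true, if_true, hx.2]
    · intro x _
      funext i
      rw [Pi.add_apply, Pi.add_apply, add_assoc,
        (show ∀ b : ZMod 2, b + b = 0 by decide) (π i), add_zero]
  have hneq : ∑ x ∈ P.filter (fun x => ¬ x p = x q), gWt x = 4096 := by
    rw [← Finset.sum_filter_add_sum_filter_not P (fun x => x p = x q), hcancel, zero_add] at hP
    exact hP
  obtain ⟨x, hx, hx4⟩ : ∃ x : X → ZMod 2,
      x ∈ P.filter (fun y : X → ZMod 2 => ¬ y p = y q) ∧ 4 ∣ (support₂ x).card := by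
    by_contra hno
    push Not at hno
    have hre : ∀ x ∈ P.filter (fun x => ¬ x p = x q), (gWt x).re ≤ 0 := by
      intro x hx
      have h := hno x hx
      rw [gWt_eq, ← Nat.div_add_mod (support₂ x).card 4, pow_add, pow_mul,
        show (⟨0, 1⟩ : GaussianInt) ^ 4 = 1 by decide, one_pow, one_mul]
      rcases (show (support₂ x).card % 4 = 1 ∨ (support₂ x).card % 4 = 2 ∨
        (support₂ x).card % 4 = 3 by omega) with e | e | e <;> rw [e] <;> decide
    have hsum : (∑ x ∈ P.filter (fun x => ¬ x p = x q), gWt x).re =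
        ∑ x ∈ P.filter (fun x => ¬ x p = x q), (gWt x).re :=
      map_sum ({ toFun := Zsqrtd.re, map_zero' := rfl, map_add' := fun _ _ => rfl } :
        GaussianInt →+ ℤ) _ _
    have h4096 : ((4096 : GaussianInt)).re = 4096 := by decide
    rw [hneq, h4096] at hsum
    have := Finset.sum_nonpos hre
    omega
  simp only [P, Finset.mem_filter, Finset.mem_univ, true_and] at hx
  obtain ⟨hxP, hxne⟩ := hx
  by_cases h1 : x p = 1
  · refine ⟨support₂ x, hx4, mem_support₂'.2 h1, fun h => hxne ?_, hxP⟩
    rw [h1, mem_support₂'.1 h]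
  · have h0 : x q = 1 := by
      rcases (show ∀ b : ZMod 2, b = 0 ∨ b = 1 by decide) (x q) with a | a
      · rcases (show ∀ b : ZMod 2, b = 0 ∨ b = 1 by decide) (x p) with b | b
        · exact absurd (b.trans a.symm) hxne
        · exact absurd b h1
      · exact a
    have hq' : q ∈ support₂ x := mem_support₂'.2 h0
    have hp' : p ∉ support₂ x := fun h => h1 (mem_support₂'.1 h)
    refine ⟨insert p ((support₂ x).erase q), ?_, Finset.mem_insert_self _ _, ?_, fun c hc => ?_⟩
    · have hpos := Finset.card_pos.2 ⟨q, hq'⟩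
      rw [Finset.card_insert_of_notMem (fun h => hp' (Finset.mem_of_mem_erase h)),
        Finset.card_erase_of_mem hq', Nat.sub_add_cancel hpos]
      exact hx4
    · simp [hpq.symm]
    · have e : insert p ((support₂ x).erase q) = symmDiff (support₂ x) {p, q} := by
        ext i
        by_cases a : i = p
        · subst a; simp [Finset.mem_symmDiff, hp']
        · by_cases b : i = q
          · subst b; simp [Finset.mem_symmDiff, hq', a]
          · simp [Finset.mem_symmDiff, a, b]
      rw [e]
      have h3 := card_symmDiff_add (support₂ x ∩ c) ({p, q} ∩ c)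
      have e2 : symmDiff (support₂ x ∩ c) ({p, q} ∩ c) = symmDiff (support₂ x) {p, q} ∩ c :=
        (inf_symmDiff_distrib_right (support₂ x) {p, q} c).symm
      rw [e2] at h3
      have := hxP c hc
      have := hp c hc
      omega

end Gauss

end CfsgLib.Golay
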