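import Cfsg.Agent.Lib.Golay.Co0McLGroup
import Cfsg.Agent.Lib.Golay.SuborbitCoA
import Cfsg.Agent.Lib.Golay.SuborbitCoB
import Cfsg.Agent.Lib.Golay.SuborbitCoC
import Cfsg.Agent.Lib.Golay.SuborbitCoD
import Cfsg.Agent.Lib.Golay.SuborbitMcT
import Cfsg.Agent.Lib.Golay.SuborbitMcA
import Cfsg.Agent.Lib.Golay.SuborbitMcB
import Cfsg.Agent.Lib.Golay.SuborbitMcC

/-!
The suborbits of the stabiliser of a vector of sum of squares 48 on 11178 minimal vectors, and of the
stabiliser of a pair of minimal vectors on 2025 minimal vectors.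
-/

set_option autoImplicit false
set_option maxRecDepth 100000

namespace CfsgLib.Golay.OrbitTree

open Cfsg CfsgLib.Golay
open scoped Pointwise

/-- The vector of a packed number known to be in the lattice. -/
def rootV (n : ℕ) (h : inLat (decV n) = true) : leechLattice := ⟨decV n, inLat_mem h⟩

theorem rootV_coe (n : ℕ) (h : inLat (decV n) = true) : (rootV n h : GolayPt → ℤ) = decV n := rfl

def coARootV : leechLattice := rootV coARoot (by decide +kernel)
def coBRootV : leechLattice := rootV coBRoot (by decide +kernel)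
def coCRootV : leechLattice := rootV coCRoot (by decide +kernel)
def coDRootV : leechLattice := rootV coDRoot (by decide +kernel)
def mcARootV : leechLattice := rootV mcARoot (by decide +kernel)
def mcBRootV : leechLattice := rootV mcBRoot (by decide +kernel)
def mcCRootV : leechLattice := rootV mcCRoot (by decide +kernel)

/-- The pair stabiliser on the 11178 points. -/
def coH : Subgroup Co0 := MulAction.stabilizer Co0 fiveV ⊓ MulAction.stabilizer Co0 xhs

/-- The 11178 points. -/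
def coS : Set leechLattice :=
  {y | sqNorm (y : GolayPt → ℤ) = 32 ∧ dotInt (fiveV : GolayPt → ℤ) y = -16}

theorem mem_coH {g : Co0} : g ∈ coH ↔ g • fiveV = fiveV ∧ g • xhs = xhs := by
  rw [coH, Subgroup.mem_inf, MulAction.mem_stabilizer_iff, MulAction.mem_stabilizer_iff]

theorem coH_perm (σ : M24) (h1 : σ • pinf = pinf) (h2 : σ • pz = pz) :
    monoCo0 σ σ.2 ∅ empty_code ∈ coH :=
  mem_coH.2 ⟨(perm_fix_hs h1 h2).1, (perm_fix_hs h1 h2).2.1⟩

theorem matHS_fix : matFun matHS (fiveV : GolayPt → ℤ) = (fiveV : GolayPt → ℤ) ∧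
    matFun matHS (xhs : GolayPt → ℤ) = (xhs : GolayPt → ℤ) := by decide +kernel

theorem matHS_mem : matCo0 matHS matHS_ok ∈ coH :=
  mem_coH.2 ⟨Subtype.ext matHS_fix.1, Subtype.ext matHS_fix.2⟩

theorem coS_finite : coS.Finite := shell_finite _

theorem coH_orbit {R : leechLattice} {k : ℤ} (hR : sqNorm (R : GolayPt → ℤ) = 32 ∧
    dotInt (fiveV : GolayPt → ℤ) R = -16 ∧ dotInt (xhs : GolayPt → ℤ) R = k) :
    MulAction.orbit coH R ⊆ coS ∧ ∀ y ∈ MulAction.orbit coH R, dotInt (xhs : GolayPt → ℤ) y = k := by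
  have key : ∀ h ∈ coH, dotInt (fiveV : GolayPt → ℤ) (h • R : leechLattice) = -16 ∧
      dotInt (xhs : GolayPt → ℤ) (h • R : leechLattice) = k := fun h hh => by
    obtain ⟨h1, h2⟩ := mem_coH.1 hh
    refine ⟨?_, ?_⟩
    · rw [← h1, co0_dot]; exact hR.2.1
    · rw [← h2, co0_dot]; exact hR.2.2
  refine ⟨?_, ?_⟩
  · rintro _ ⟨⟨h, hh⟩, rfl⟩
    exact ⟨(co0_sq h R).trans hR.1, (key h hh).1⟩
  · rintro _ ⟨⟨h, hh⟩, rfl⟩
    exact (key h hh).2

theorem co_roots :
    (sqNorm (coARootV : GolayPt → ℤ) = 32 ∧ dotInt (fiveV : GolayPt → ℤ) coARootV = -16 ∧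
      dotInt (xhs : GolayPt → ℤ) coARootV = -8) ∧
    (sqNorm (coBRootV : GolayPt → ℤ) = 32 ∧ dotInt (fiveV : GolayPt → ℤ) coBRootV = -16 ∧
      dotInt (xhs : GolayPt → ℤ) coBRootV = 16) ∧
    (sqNorm (coCRootV : GolayPt → ℤ) = 32 ∧ dotInt (fiveV : GolayPt → ℤ) coCRootV = -16 ∧
      dotInt (xhs : GolayPt → ℤ) coCRootV = 0) ∧
    (sqNorm (coDRootV : GolayPt → ℤ) = 32 ∧ dotInt (fiveV : GolayPt → ℤ) coDRootV = -16 ∧
      dotInt (xhs : GolayPt → ℤ) coDRootV = 8) := by decide +kernel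

/-- The five suborbits. -/
theorem co_suborbits :
    (MulAction.orbit coH coARootV).ncard = 352 ∧ (MulAction.orbit coH coBRootV).ncard = 1100 ∧
    (MulAction.orbit coH coCRootV).ncard = 4125 ∧ (MulAction.orbit coH coDRootV).ncard = 5600 ∧
    coS = {xhs} ∪ MulAction.orbit coH coARootV ∪ MulAction.orbit coH coBRootV ∪
      MulAction.orbit coH coCRootV ∪ MulAction.orbit coH coDRootV := by
  classical
  obtain ⟨rA, rB, rC, rD⟩ := co_roots
  obtain ⟨sA, dA⟩ := coH_orbit rA
  obtain ⟨sB, dB⟩ := coH_orbit rB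
  obtain ⟨sC, dC⟩ := coH_orbit rC
  obtain ⟨sD, dD⟩ := coH_orbit rD
  have hx : xhs ∈ coS := ⟨xhs_norm, xhs_five⟩
  have hxx : dotInt (xhs : GolayPt → ℤ) xhs = 32 := by rw [dotInt_self]; exact xhs_norm
  have fA := coS_finite.subset sA
  have fB := coS_finite.subset sB
  have fC := coS_finite.subset sC
  have fD := coS_finite.subset sD
  have nA := size_le_orbit m22Gens_ok coH coH_perm matHS_mem (matCo0_smul matHS matHS_ok)
    coA0_ok coA_incr.1 (rootV_coe coARoot _) fA
  have nB := size_le_orbit m22Gens_ok coH coH_perm matHS_mem (matCo0_smul matHS matHS_ok)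
    coB0_ok coB_incr.1 (rootV_coe coBRoot _) fB
  have nC := size_le_orbit m22Gens_ok coH coH_perm matHS_mem (matCo0_smul matHS matHS_ok)
    coC0_ok coC_incr.1 (rootV_coe coCRoot _) fC
  have nD := size_le_orbit m22Gens_ok coH coH_perm matHS_mem (matCo0_smul matHS matHS_ok)
    coD0_ok coD_incr.1 (rootV_coe coDRoot _) fD
  rw [coA_incr.2] at nA
  rw [coB_incr.2] at nB
  rw [coC_incr.2] at nC
  rw [coD_incr.2] at nD
  change 352 ≤ (MulAction.orbit coH coARootV).ncard at nA
  change 1100 ≤ (MulAction.orbit coH coBRootV).ncard at nB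
  change 4125 ≤ (MulAction.orbit coH coCRootV).ncard at nC
  change 5600 ≤ (MulAction.orbit coH coDRootV).ncard at nD
  have f0 : ({xhs} : Set leechLattice).Finite := Set.finite_singleton _
  have e1 : Disjoint ({xhs} : Set leechLattice) (MulAction.orbit coH coARootV) := by
    rw [Set.disjoint_singleton_left]; intro h; have := dA _ h; omega
  have e2 : Disjoint ({xhs} ∪ MulAction.orbit coH coARootV) (MulAction.orbit coH coBRootV) := by
    rw [Set.disjoint_left]
    rintro y (rfl | h) h' <;> have := dB _ h'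
    · omega
    · have := dA _ h; omega
  have e3 : Disjoint ({xhs} ∪ MulAction.orbit coH coARootV ∪ MulAction.orbit coH coBRootV)
      (MulAction.orbit coH coCRootV) := by
    rw [Set.disjoint_left]
    rintro y ((rfl | h) | h) h' <;> have := dC _ h'
    · omega
    · have := dA _ h; omega
    · have := dB _ h; omega
  have e4 : Disjoint ({xhs} ∪ MulAction.orbit coH coARootV ∪ MulAction.orbit coH coBRootV ∪
      MulAction.orbit coH coCRootV) (MulAction.orbit coH coDRootV) := by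
    rw [Set.disjoint_left]
    rintro y (((rfl | h) | h) | h) h' <;> have := dD _ h'
    · omega
    · have := dA _ h; omega
    · have := dB _ h; omega
    · have := dC _ h; omega
  have hcard : ({xhs} ∪ MulAction.orbit coH coARootV ∪ MulAction.orbit coH coBRootV ∪
      MulAction.orbit coH coCRootV ∪ MulAction.orbit coH coDRootV).ncard =
      1 + (MulAction.orbit coH coARootV).ncard + (MulAction.orbit coH coBRootV).ncard +
      (MulAction.orbit coH coCRootV).ncard + (MulAction.orbit coH coDRootV).ncard := by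
    rw [Set.ncard_union_eq e4 (((f0.union fA).union fB).union fC) fD,
      Set.ncard_union_eq e3 ((f0.union fA).union fB) fC,
      Set.ncard_union_eq e2 (f0.union fA) fB, Set.ncard_union_eq e1 f0 fA, Set.ncard_singleton]
  have hsub : ({xhs} ∪ MulAction.orbit coH coARootV ∪ MulAction.orbit coH coBRootV ∪
      MulAction.orbit coH coCRootV ∪ MulAction.orbit coH coDRootV) ⊆ coS :=
    Set.union_subset (Set.union_subset (Set.union_subset (Set.union_subset
      (Set.singleton_subset_iff.2 hx) sA) sB) sC) sD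
  have htot : coS.ncard = 11178 := (census48 fiveV_norm).2
  have hle := Set.ncard_le_ncard hsub coS_finite
  rw [hcard, htot] at hle
  refine ⟨by omega, by omega, by omega, by omega, ?_⟩
  exact (Set.eq_of_subset_of_ncard_le hsub (by rw [hcard, htot]; omega) coS_finite).symm

/-- The vector `-xhs`. -/
def mcX : leechLattice := -xhs

/-- The pair stabiliser on the 2025 points. -/
def mcH2 : Subgroup Co0 := MulAction.stabilizer Co0 fiveV ⊓ MulAction.stabilizer Co0 min44

/-- The triple stabiliser. -/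
def mcH3 : Subgroup Co0 := mcH2 ⊓ MulAction.stabilizer Co0 mcX

theorem mem_mcH2 {g : Co0} : g ∈ mcH2 ↔ g • fiveV = fiveV ∧ g • min44 = min44 := by
  rw [mcH2, Subgroup.mem_inf, MulAction.mem_stabilizer_iff, MulAction.mem_stabilizer_iff]

theorem mem_mcH3 {g : Co0} : g ∈ mcH3 ↔ (g • fiveV = fiveV ∧ g • min44 = min44) ∧ g • mcX = mcX := by
  rw [mcH3, Subgroup.mem_inf, mem_mcH2, MulAction.mem_stabilizer_iff]

theorem mcH2_perm (σ : M24) (h1 : σ • pinf = pinf) (h2 : σ • pz = pz) :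
    monoCo0 σ σ.2 ∅ empty_code ∈ mcH2 :=
  mem_mcH2.2 ⟨(perm_fix_hs h1 h2).1, (perm_fix_hs h1 h2).2.2⟩

theorem mcH3_perm (σ : M24) (h1 : σ • pinf = pinf) (h2 : σ • pz = pz) :
    monoCo0 σ σ.2 ∅ empty_code ∈ mcH3 :=
  mem_mcH3.2 ⟨mem_mcH2.1 (mcH2_perm σ h1 h2), by rw [mcX, co0_neg, (perm_fix_hs h1 h2).2.1]⟩

theorem matMcL_fix : matFun matMcL (fiveV : GolayPt → ℤ) = (fiveV : GolayPt → ℤ) ∧
    matFun matMcL (min44 : GolayPt → ℤ) = (min44 : GolayPt → ℤ) := by decide +kernel

theorem matMcL_mem : matCo0 matMcL matMcL_ok ∈ mcH2 :=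
  mem_mcH2.2 ⟨Subtype.ext matMcL_fix.1, Subtype.ext matMcL_fix.2⟩

theorem matOne_apply (x : GolayPt → ℤ) : matFun matOne x = x := by
  funext i
  have h : ∀ p q : GolayPt, matOne p q = if p = q then 8 else 0 := by decide +kernel
  show dotInt (matOne i) x / 8 = x i
  rw [dotInt, Finset.sum_congr rfl fun j _ => by rw [h i j]]
  simp

/-- The 2025 points. -/
def mcT : Set leechLattice :=
  {y | sqNorm (y : GolayPt → ℤ) = 32 ∧ dotInt (fiveV : GolayPt → ℤ) y = 16 ∧
    dotInt (min44 : GolayPt → ℤ) y = 0}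

theorem mcT_finite : mcT.Finite := shell_finite _

theorem mcT_count :
    (∑ s ∈ Finset.Icc (-5 : ℤ) 5, markCase [(23, s), (0, -s)] 8 (16 - 4 * s)) = 2025 := by
  decide +kernel

theorem ncard_mcT : mcT.ncard = 2025 := by
  classical
  rw [Set.ncard_eq_toFinset_card _ mcT_finite,
    Finset.card_eq_sum_card_fiberwise (f := fun y : leechLattice => (y : GolayPt → ℤ) pinf)
      (t := Finset.Icc (-5) 5) (fun y hy => by
        rw [Finset.mem_coe, Set.Finite.mem_toFinset] at hy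
        show (y : GolayPt → ℤ) pinf ∈ Finset.Icc (-5 : ℤ) 5
        exact Finset.mem_Icc.2 (abs_entry_le (B := 5) (by norm_num) (by norm_num) hy.1 pinf))]
  refine (Finset.sum_congr rfl fun t ht => ?_).trans mcT_count
  rw [Finset.mem_Icc] at ht
  rw [← ncard_two t (-t) (Finset.mem_Icc.2 ht)
    (Finset.mem_Icc.2 ⟨by omega, by omega⟩) (by omega) 8 (by norm_num), ← Set.ncard_coe_finset,
    ← ncard_subtype_leech fun y => sqNorm y = 4 * ((8 : ℕ) : ℤ) ∧ y pinf = t ∧
      y (pt 0) = -t ∧ ∑ i, y i = 16 - 4 * t]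
  congr 1
  ext y
  simp only [Finset.coe_filter, Set.Finite.mem_toFinset, Set.mem_setOf_eq, mcT, dot_five, dot_min44]
  constructor
  · rintro ⟨⟨a, b, c⟩, d⟩
    exact ⟨by rw [a]; norm_num, d, show (y : GolayPt → ℤ) pz = -t by omega, by omega⟩
  · rintro ⟨a, b, c, d⟩
    have c' : (y : GolayPt → ℤ) pz = -t := c
    exact ⟨⟨by rw [a]; norm_num, by omega, by omega⟩, b⟩

theorem mcH2_orbit : MulAction.orbit mcH2 mcX ⊆ mcT := by
  rintro _ ⟨⟨h, hh⟩, rfl⟩
  obtain ⟨h1, h2⟩ := mem_mcH2.1 hh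
  have e : sqNorm (mcX : GolayPt → ℤ) = 32 ∧ dotInt (fiveV : GolayPt → ℤ) mcX = 16 ∧
      dotInt (min44 : GolayPt → ℤ) mcX = 0 := by decide +kernel
  show h • mcX ∈ mcT
  refine ⟨(co0_sq h mcX).trans e.1, ?_, ?_⟩
  · rw [← h1, co0_dot]; exact e.2.1
  · rw [← h2, co0_dot]; exact e.2.2

/-- The pair stabiliser is transitive on the 2025 points. -/
theorem mc_transitive : MulAction.orbit mcH2 mcX = mcT := by
  have hfin := mcT_finite.subset mcH2_orbit
  have n := size_le_orbit m22Gens_ok mcH2 mcH2_perm matMcL_mem (matCo0_smul matMcL matMcL_ok)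
    mcT0_ok mcT_incr.1 (R := mcX) (by decide +kernel) hfin
  rw [mcT_incr.2] at n
  exact Set.eq_of_subset_of_ncard_le mcH2_orbit (by rw [ncard_mcT]; exact n) mcT_finite

theorem mcH3_orbit {R : leechLattice} {k : ℤ} (hR : R ∈ mcT ∧ dotInt (mcX : GolayPt → ℤ) R = k) :
    MulAction.orbit mcH3 R ⊆ mcT ∧
      ∀ y ∈ MulAction.orbit mcH3 R, dotInt (mcX : GolayPt → ℤ) y = k := by
  refine ⟨?_, ?_⟩
  · rintro _ ⟨⟨h, hh⟩, rfl⟩
    obtain ⟨⟨h1, h2⟩, h3⟩ := mem_mcH3.1 hh
    obtain ⟨a, b, c⟩ := hR.1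
    show h • R ∈ mcT
    refine ⟨(co0_sq h R).trans a, ?_, ?_⟩
    · rw [← h1, co0_dot]; exact b
    · rw [← h2, co0_dot]; exact c
  · rintro _ ⟨⟨h, hh⟩, rfl⟩
    obtain ⟨⟨h1, h2⟩, h3⟩ := mem_mcH3.1 hh
    show dotInt (mcX : GolayPt → ℤ) (h • R : leechLattice) = k
    rw [← h3, co0_dot]; exact hR.2

theorem mc_roots :
    ((sqNorm (mcARootV : GolayPt → ℤ) = 32 ∧ dotInt (fiveV : GolayPt → ℤ) mcARootV = 16 ∧
      dotInt (min44 : GolayPt → ℤ) mcARootV = 0) ∧ dotInt (mcX : GolayPt → ℤ) mcARootV = 0) ∧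
    ((sqNorm (mcBRootV : GolayPt → ℤ) = 32 ∧ dotInt (fiveV : GolayPt → ℤ) mcBRootV = 16 ∧
      dotInt (min44 : GolayPt → ℤ) mcBRootV = 0) ∧ dotInt (mcX : GolayPt → ℤ) mcBRootV = 16) ∧
    ((sqNorm (mcCRootV : GolayPt → ℤ) = 32 ∧ dotInt (fiveV : GolayPt → ℤ) mcCRootV = 16 ∧
      dotInt (min44 : GolayPt → ℤ) mcCRootV = 0) ∧ dotInt (mcX : GolayPt → ℤ) mcCRootV = 8) := by
  decide +kernel

/-- The subdegrees on the 2025 points. -/
theorem mc_suborbits :
    (MulAction.orbit mcH3 mcARootV).ncard = 330 ∧ (MulAction.orbit mcH3 mcBRootV).ncard = 462 ∧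
    (MulAction.orbit mcH3 mcCRootV).ncard = 1232 := by
  classical
  obtain ⟨rA, rB, rC⟩ := mc_roots
  obtain ⟨sA, dA⟩ := mcH3_orbit (R := mcARootV) ⟨rA.1, rA.2⟩
  obtain ⟨sB, dB⟩ := mcH3_orbit (R := mcBRootV) ⟨rB.1, rB.2⟩
  obtain ⟨sC, dC⟩ := mcH3_orbit (R := mcCRootV) ⟨rC.1, rC.2⟩
  have hX : mcX ∈ mcT := mcH2_orbit (MulAction.mem_orbit_self _)
  have hXX : dotInt (mcX : GolayPt → ℤ) mcX = 32 := by rw [dotInt_self]; exact hX.1
  have fA := mcT_finite.subset sA
  have fB := mcT_finite.subset sB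
  have fC := mcT_finite.subset sC
  have hone : ∀ v : leechLattice, (((1 : Co0) • v : leechLattice) : GolayPt → ℤ) = matFun matOne v :=
    fun v => by rw [one_smul, matOne_apply]
  have nA := size_le_orbit m22Gens_ok mcH3 mcH3_perm (one_mem _) hone
    mcA0_ok mcA_incr.1 (rootV_coe mcARoot _) fA
  have nB := size_le_orbit m22Gens_ok mcH3 mcH3_perm (one_mem _) hone
    mcB0_ok mcB_incr.1 (rootV_coe mcBRoot _) fB
  have nC := size_le_orbit m22Gens_ok mcH3 mcH3_perm (one_mem _) hone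
    mcC0_ok mcC_incr.1 (rootV_coe mcCRoot _) fC
  rw [mcA_incr.2] at nA
  rw [mcB_incr.2] at nB
  rw [mcC_incr.2] at nC
  change 330 ≤ (MulAction.orbit mcH3 mcARootV).ncard at nA
  change 462 ≤ (MulAction.orbit mcH3 mcBRootV).ncard at nB
  change 1232 ≤ (MulAction.orbit mcH3 mcCRootV).ncard at nC
  have f0 : ({mcX} : Set leechLattice).Finite := Set.finite_singleton _
  have e1 : Disjoint ({mcX} : Set leechLattice) (MulAction.orbit mcH3 mcARootV) := by
    rw [Set.disjoint_singleton_left]; intro h; have := dA _ h; omega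
  have e2 : Disjoint ({mcX} ∪ MulAction.orbit mcH3 mcARootV) (MulAction.orbit mcH3 mcBRootV) := by
    rw [Set.disjoint_left]
    rintro y (rfl | h) h' <;> have := dB _ h'
    · omega
    · have := dA _ h; omega
  have e3 : Disjoint ({mcX} ∪ MulAction.orbit mcH3 mcARootV ∪ MulAction.orbit mcH3 mcBRootV)
      (MulAction.orbit mcH3 mcCRootV) := by
    rw [Set.disjoint_left]
    rintro y ((rfl | h) | h) h' <;> have := dC _ h'
    · omega
    · have := dA _ h; omega
    · have := dB _ h; omega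
  have hcard : ({mcX} ∪ MulAction.orbit mcH3 mcARootV ∪ MulAction.orbit mcH3 mcBRootV ∪
      MulAction.orbit mcH3 mcCRootV).ncard = 1 + (MulAction.orbit mcH3 mcARootV).ncard +
      (MulAction.orbit mcH3 mcBRootV).ncard + (MulAction.orbit mcH3 mcCRootV).ncard := by
    rw [Set.ncard_union_eq e3 ((f0.union fA).union fB) fC,
      Set.ncard_union_eq e2 (f0.union fA) fB, Set.ncard_union_eq e1 f0 fA, Set.ncard_singleton]
  have hle := Set.ncard_le_ncard (Set.union_subset (Set.union_subset (Set.union_subset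
    (Set.singleton_subset_iff.2 hX) sA) sB) sC) mcT_finite
  rw [hcard, ncard_mcT] at hle
  exact ⟨by omega, by omega, by omega⟩

end CfsgLib.Golay.OrbitTree
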