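import Cfsg.Agent.Lib.Golay.TernaryFacts
import Cfsg.Agent.Lib.Golay.Steiner12Aut

/-!
The monomial automorphisms of the ternary code of length 12.
-/

set_option autoImplicit false
set_option maxRecDepth 100000

namespace CfsgLib.Golay.Ternary

open Cfsg
open scoped Pointwise

/-- Fifty monomial automorphisms: images, inverse images, negated positions. -/
def autTab : List (List ℕ × List ℕ × ℕ) :=
  [([0, 1, 2, 3, 4, 5, 6, 7, 8, 9, 10, 11], [0, 1, 2, 3, 4, 5, 6, 7, 8, 9, 10, 11], 0),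
   ([1, 0, 2, 3, 4, 5, 11, 9, 10, 7, 8, 6], [1, 0, 2, 3, 4, 5, 11, 9, 10, 7, 8, 6], 0),
   ([2, 0, 1, 3, 4, 5, 8, 6, 7, 10, 11, 9], [1, 2, 0, 3, 4, 5, 7, 8, 6, 11, 9, 10], 0),
   ([3, 0, 1, 2, 4, 5, 10, 7, 6, 8, 9, 11], [1, 2, 3, 0, 4, 5, 8, 7, 9, 10, 6, 11], 2764),
   ([4, 0, 1, 2, 3, 5, 6, 9, 10, 11, 7, 8], [1, 2, 3, 4, 0, 5, 6, 10, 11, 7, 8, 9], 1940),
   ([5, 0, 1, 2, 3, 4, 9, 6, 8, 7, 11, 10], [1, 2, 3, 4, 5, 0, 7, 9, 8, 6, 11, 10], 3428),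
   ([6, 0, 1, 2, 3, 9, 5, 4, 7, 10, 8, 11], [1, 2, 3, 4, 7, 6, 0, 8, 10, 5, 9, 11], 2514),
   ([7, 0, 1, 2, 3, 11, 10, 8, 9, 4, 5, 6], [1, 2, 3, 4, 9, 10, 11, 0, 7, 8, 6, 5], 3102),
   ([8, 0, 1, 2, 3, 10, 7, 11, 4, 6, 9, 5], [1, 2, 3, 4, 8, 11, 9, 6, 0, 10, 5, 7], 1224),
   ([9, 0, 1, 2, 3, 6, 4, 5, 11, 8, 10, 7], [1, 2, 3, 4, 6, 7, 5, 11, 9, 0, 10, 8], 3746),
   ([10, 0, 1, 2, 3, 8, 11, 7, 5, 9, 6, 4], [1, 2, 3, 4, 11, 8, 10, 7, 5, 9, 0, 6], 2824),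
   ([11, 0, 1, 2, 3, 7, 8, 10, 6, 5, 4, 9], [1, 2, 3, 4, 10, 9, 8, 5, 6, 11, 7, 0], 430),
   ([0, 1, 2, 3, 4, 5, 6, 7, 8, 9, 10, 11], [0, 1, 2, 3, 4, 5, 6, 7, 8, 9, 10, 11], 0),
   ([0, 2, 1, 3, 4, 5, 9, 10, 11, 6, 7, 8], [0, 2, 1, 3, 4, 5, 9, 10, 11, 6, 7, 8], 0),
   ([0, 3, 1, 2, 4, 5, 11, 8, 9, 7, 6, 10], [0, 2, 3, 1, 4, 5, 10, 9, 7, 8, 11, 6], 2764),
   ([0, 4, 1, 2, 3, 5, 8, 11, 7, 9, 10, 6], [0, 2, 3, 4, 1, 5, 11, 8, 6, 9, 10, 7], 1940),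
   ([0, 5, 1, 2, 3, 4, 10, 7, 11, 6, 8, 9], [0, 2, 3, 4, 5, 1, 9, 7, 10, 11, 6, 8], 3428),
   ([0, 6, 1, 2, 3, 9, 11, 10, 8, 4, 7, 5], [0, 2, 3, 4, 9, 11, 1, 10, 8, 5, 7, 6], 2514),
   ([0, 7, 1, 2, 3, 11, 6, 4, 5, 8, 9, 10], [0, 2, 3, 4, 7, 8, 6, 1, 9, 10, 11, 5], 3102),
   ([0, 8, 1, 2, 3, 10, 5, 6, 9, 11, 4, 7], [0, 2, 3, 4, 10, 6, 7, 11, 1, 8, 5, 9], 1224),
   ([0, 9, 1, 2, 3, 6, 7, 8, 10, 5, 11, 4], [0, 2, 3, 4, 11, 9, 5, 6, 7, 1, 8, 10], 3746),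
   ([0, 10, 1, 2, 3, 8, 4, 9, 6, 7, 5, 11], [0, 2, 3, 4, 6, 10, 8, 9, 5, 7, 1, 11], 2824),
   ([0, 11, 1, 2, 3, 7, 9, 5, 4, 10, 6, 8], [0, 2, 3, 4, 8, 7, 10, 5, 11, 6, 9, 1], 430),
   ([0, 1, 2, 3, 4, 5, 6, 7, 8, 9, 10, 11], [0, 1, 2, 3, 4, 5, 6, 7, 8, 9, 10, 11], 0),
   ([0, 1, 3, 2, 4, 5, 7, 6, 10, 11, 8, 9], [0, 1, 3, 2, 4, 5, 7, 6, 10, 11, 8, 9], 2764),
   ([0, 1, 4, 2, 3, 5, 9, 10, 6, 8, 11, 7], [0, 1, 3, 4, 2, 5, 8, 11, 9, 6, 7, 10], 1940),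
   ([0, 1, 5, 2, 3, 4, 6, 8, 9, 10, 7, 11], [0, 1, 3, 4, 5, 2, 6, 10, 7, 8, 9, 11], 3428),
   ([0, 1, 6, 2, 3, 9, 4, 7, 5, 11, 10, 8], [0, 1, 3, 4, 6, 8, 2, 7, 11, 5, 10, 9], 2514),
   ([0, 1, 7, 2, 3, 11, 8, 9, 10, 6, 4, 5], [0, 1, 3, 4, 10, 11, 9, 2, 6, 7, 8, 5], 3102),
   ([0, 1, 8, 2, 3, 10, 11, 4, 7, 5, 6, 9], [0, 1, 3, 4, 7, 9, 10, 8, 2, 11, 5, 6], 1224),
   ([0, 1, 9, 2, 3, 6, 5, 11, 4, 7, 8, 10], [0, 1, 3, 4, 8, 6, 5, 9, 10, 2, 11, 7], 3746),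
   ([0, 1, 10, 2, 3, 8, 7, 5, 11, 4, 9, 6], [0, 1, 3, 4, 9, 7, 11, 6, 5, 10, 2, 8], 2824),
   ([0, 1, 11, 2, 3, 7, 10, 6, 8, 9, 5, 4], [0, 1, 3, 4, 11, 10, 7, 5, 8, 9, 6, 2], 430),
   ([0, 1, 2, 3, 4, 5, 6, 7, 8, 9, 10, 11], [0, 1, 2, 3, 4, 5, 6, 7, 8, 9, 10, 11], 0),
   ([0, 1, 2, 4, 3, 5, 10, 9, 11, 7, 6, 8], [0, 1, 2, 4, 3, 5, 10, 9, 11, 7, 6, 8], 0),
   ([0, 1, 2, 5, 3, 4, 8, 6, 7, 11, 9, 10], [0, 1, 2, 4, 5, 3, 7, 8, 6, 10, 11, 9], 0),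
   ([0, 1, 2, 6, 3, 9, 7, 4, 10, 8, 5, 11], [0, 1, 2, 4, 7, 10, 3, 6, 9, 5, 8, 11], 6),
   ([0, 1, 2, 7, 3, 11, 9, 8, 4, 5, 10, 6], [0, 1, 2, 4, 8, 9, 11, 3, 7, 6, 10, 5], 4090),
   ([0, 1, 2, 8, 3, 10, 4, 11, 6, 9, 7, 5], [0, 1, 2, 4, 6, 11, 8, 10, 3, 9, 5, 7], 4092),
   ([0, 1, 2, 9, 3, 6, 11, 5, 8, 10, 4, 7], [0, 1, 2, 4, 10, 7, 5, 11, 8, 3, 9, 6], 6),
   ([0, 1, 2, 10, 3, 8, 5, 7, 9, 6, 11, 4], [0, 1, 2, 4, 11, 6, 9, 7, 5, 8, 3, 10], 4092),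
   ([0, 1, 2, 11, 3, 7, 6, 10, 5, 4, 8, 9], [0, 1, 2, 4, 9, 8, 6, 5, 10, 11, 7, 3], 4090),
   ([0, 1, 2, 3, 4, 5, 6, 7, 8, 9, 10, 11], [0, 1, 2, 3, 4, 5, 6, 7, 8, 9, 10, 11], 0),
   ([0, 1, 2, 3, 5, 4, 9, 11, 10, 6, 8, 7], [0, 1, 2, 3, 5, 4, 9, 11, 10, 6, 8, 7], 0),
   ([0, 1, 2, 3, 6, 9, 5, 8, 11, 4, 7, 10], [0, 1, 2, 3, 9, 6, 4, 10, 7, 5, 11, 8], 6),
   ([0, 1, 2, 3, 7, 11, 10, 5, 6, 8, 9, 4], [0, 1, 2, 3, 11, 7, 8, 4, 9, 10, 6, 5], 4090),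
   ([0, 1, 2, 3, 8, 10, 7, 9, 5, 11, 4, 6], [0, 1, 2, 3, 10, 8, 11, 6, 4, 7, 5, 9], 4092),
   ([0, 1, 2, 3, 9, 6, 4, 10, 7, 5, 11, 8], [0, 1, 2, 3, 6, 9, 5, 8, 11, 4, 7, 10], 6),
   ([0, 1, 2, 3, 10, 8, 11, 6, 4, 7, 5, 9], [0, 1, 2, 3, 8, 10, 7, 9, 5, 11, 4, 6], 4092),
   ([0, 1, 2, 3, 11, 7, 8, 4, 9, 10, 6, 5], [0, 1, 2, 3, 7, 11, 10, 5, 6, 8, 9, 4], 4090)]

/-- An entry of the table. -/
def entry (n : ℕ) : List ℕ × List ℕ × ℕ := autTab.getD n ([], [], 0)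

/-- The map of an entry on positions. -/
def fwd (n : ℕ) (q : ArrayPt) : ArrayPt := pos ((entry n).1.getD (col q) 0)

/-- The inverse map of an entry on positions. -/
def bwd (n : ℕ) (q : ArrayPt) : ArrayPt := pos ((entry n).2.1.getD (col q) 0)

/-- The sign of an entry at a position. -/
def sgn (n : ℕ) (q : ArrayPt) : ZMod 3 := if (entry n).2.2.testBit (col q) then 2 else 1

theorem tab_inverse : ∀ n < 50, ∀ q : ArrayPt, bwd n (fwd n q) = q ∧ fwd n (bwd n q) = q := by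
  decide +kernel

theorem tab_preserves : ∀ n < 50, ∀ j : Fin 6, IsWord fun q => sgn n q * gen j (bwd n q) := by
  decide +kernel

/-- The start of the entries fixing the first `i` base points. -/
def offset (i : ℕ) : ℕ := [0, 12, 23, 33, 42].getD i 0

theorem tab_base : ∀ i < 5, ∀ t < 12, i ≤ t →
    fwd (offset i + (t - i)) (pos i) = pos t ∧ ∀ j < i, fwd (offset i + (t - i)) (pos j) = pos j := by
  decide +kernel

theorem offset_lt : ∀ i < 5, ∀ t < 12, i ≤ t → offset i + (t - i) < 50 := by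
  decide +kernel

/-- The permutation of an entry. -/
def tabPerm (n : ℕ) (hn : n < 50) : Equiv.Perm ArrayPt :=
  ⟨fwd n, bwd n, fun q => (tab_inverse n hn q).1, fun q => (tab_inverse n hn q).2⟩

/-- A monomial map preserving the code. -/
def Pres12 (σ : Equiv.Perm ArrayPt) (c : ArrayPt → (ZMod 3)ˣ) : Prop :=
  ∀ x ∈ ternaryGolayCode, monomialMap σ c x ∈ ternaryGolayCode

theorem monomial_comp12 (σ τ : Equiv.Perm ArrayPt) (c d : ArrayPt → (ZMod 3)ˣ) (x : ArrayPt → ZMod 3) :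
    monomialMap σ c (monomialMap τ d x) = monomialMap (σ * τ) (fun i => c i * d (σ.symm i)) x := by
  funext i
  simp only [monomialMap, Units.val_mul, mul_assoc]
  rfl

theorem pres12_surj (σ : Equiv.Perm ArrayPt) (c : ArrayPt → (ZMod 3)ˣ) (h : Pres12 σ c) {y : ArrayPt → ZMod 3}
    (hy : y ∈ ternaryGolayCode) : ∃ x ∈ ternaryGolayCode, monomialMap σ c x = y := by
  have hinj : Function.Injective fun x : ternaryGolayCode =>
      (⟨monomialMap σ c x, h x x.2⟩ : ternaryGolayCode) := by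
    intro a b e
    apply Subtype.ext
    funext i
    have h1 := congrFun (congrArg Subtype.val e) (σ i)
    simpa [monomialMap] using h1
  obtain ⟨x, hx⟩ := Finite.surjective_of_injective hinj ⟨y, hy⟩
  exact ⟨x, x.2, congrArg Subtype.val hx⟩

/-- The permutation parts of the monomial automorphisms. -/
def permPart12 : Subgroup (Equiv.Perm ArrayPt) where
  carrier := {σ | ∃ c : ArrayPt → (ZMod 3)ˣ, Pres12 σ c}
  one_mem' := ⟨1, fun x hx => by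
    have : monomialMap 1 (1 : ArrayPt → (ZMod 3)ˣ) x = x := funext fun i => one_mul (x i)
    rwa [this]⟩
  mul_mem' := fun ⟨c, hc⟩ ⟨d, hd⟩ => ⟨_, fun x hx => by rw [← monomial_comp12]; exact hc _ (hd x hx)⟩
  inv_mem' := by
    rintro σ ⟨c, hc⟩
    refine ⟨fun i => (c (σ i))⁻¹, fun y hy => ?_⟩
    obtain ⟨x, hx, rfl⟩ := pres12_surj σ c hc hy
    have e : monomialMap σ⁻¹ (fun i => (c (σ i))⁻¹) (monomialMap σ c x) = x := funext fun i => by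
      change ((c (σ i))⁻¹ : (ZMod 3)ˣ).val * ((c (σ i)).val * x (σ.symm (σ i))) = x i
      rw [← mul_assoc, Units.inv_mul, one_mul, Equiv.symm_apply_apply]
    rwa [e]

theorem tabPerm_mem (n : ℕ) (hn : n < 50) : tabPerm n hn ∈ permPart12 := by
  have hu : ∀ n < 50, ∀ q, sgn n q ≠ 0 := by
    intro n _ q
    unfold sgn
    split <;> decide
  refine ⟨fun q => Units.mk0 (sgn n q) (hu n hn q), fun x hx => ?_⟩
  obtain ⟨m, -, rfl⟩ := mem_iff.1 hx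
  have e : monomialMap (tabPerm n hn) (fun q => Units.mk0 (sgn n q) (hu n hn q)) (word m) =
      ∑ j, digits m j • fun q => sgn n q * gen j (bwd n q) := by
    funext q
    simp only [monomialMap, word, enc, Finset.sum_apply, Pi.smul_apply, smul_eq_mul, Finset.mul_sum,
      Units.val_mk0]
    exact Finset.sum_congr rfl fun j _ => mul_left_comm _ _ _
  rw [e]
  exact Submodule.sum_mem _ fun j _ => Submodule.smul_mem _ _ (mem_code_iff.2 (tab_preserves n hn j))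

theorem perm_le : permPart12 ≤ setSystemAut hexads := by
  rintro σ ⟨c, hc⟩
  have hsupp : ∀ x : ArrayPt → ZMod 3, ternarySupport (monomialMap σ c x) = σ • ternarySupport x := by
    intro x
    ext q
    rw [Finset.smul_finset_def, Finset.mem_image]
    simp only [ternarySupport, monomialMap, Finset.mem_filter, Finset.mem_univ, true_and, mul_ne_zero_iff]
    refine ⟨fun h => ⟨σ.symm q, h.2, σ.apply_symm_apply q⟩, ?_⟩
    rintro ⟨a, ha, rfl⟩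
    exact ⟨(c _).ne_zero, by rw [Equiv.Perm.smul_def, Equiv.symm_apply_apply]; exact ha⟩
  rw [mem_aut_iff']
  intro s
  constructor
  · rintro ⟨y, hy, hys, h6⟩
    obtain ⟨x, hx, rfl⟩ := pres12_surj σ c hc hy
    rw [hsupp, smul_left_cancel_iff] at hys
    exact ⟨x, hx, hys, by rwa [Finset.card_smul_finset] at h6⟩
  · rintro ⟨x, hx, rfl, h6⟩
    exact ⟨_, hc x hx, hsupp x, by rw [Finset.card_smul_finset]; exact h6⟩

theorem perm_eq : permPart12 = setSystemAut hexads := by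
  refine le_antisymm perm_le fun σ hσ => ?_
  have key : ∀ i ≤ 5, ∃ τ ∈ permPart12, ∀ j < i, (τ * σ) (pos j) = pos j := by
    intro i
    induction i with
    | zero => exact fun _ => ⟨1, permPart12.one_mem, fun j hj => absurd hj (Nat.not_lt_zero j)⟩
    | succ i ih =>
      intro hi
      obtain ⟨τ, hτ, hfix⟩ := ih (by omega)
      obtain ⟨t, ht⟩ : ∃ t, t = col ((τ * σ) (pos i)) := ⟨_, rfl⟩
      have ht12 : t < 12 := ht ▸ col_lt _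
      have hit : i ≤ t := by
        by_contra hc
        have h1 := hfix t (by omega)
        rw [ht, pos_col] at h1
        have h2 := congrArg col ((τ * σ).injective h1)
        rw [col_pos i (by omega), ← ht] at h2
        omega
      have hn := offset_lt i (by omega) t ht12 hit
      obtain ⟨hb1, hb2⟩ := tab_base i (by omega) t ht12 hit
      refine ⟨(tabPerm _ hn)⁻¹ * τ, mul_mem (inv_mem (tabPerm_mem _ hn)) hτ, fun j hj => ?_⟩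
      rw [mul_assoc, Equiv.Perm.mul_apply, Equiv.Perm.inv_eq_iff_eq]
      rcases (Nat.lt_succ_iff_lt_or_eq.1 hj) with h | rfl
      · rw [hfix j h]; exact (hb2 j h).symm
      · rw [← pos_col ((τ * σ) (pos j)), ← ht]; exact hb1.symm
  obtain ⟨τ, hτ, hfix⟩ := key 5 le_rfl
  let x : Fin 5 ↪ ArrayPt := ⟨fun i => pos i.val, fun a b h => Fin.ext (by
    have := congrArg col h
    rwa [col_pos _ (by omega), col_pos _ (by omega)] at this)⟩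
  have hmem : τ * σ ∈ setSystemAut hexads := mul_mem (perm_le hτ) hσ
  have h1 : (⟨τ * σ, hmem⟩ : setSystemAut hexads) ∈ MulAction.stabilizer (setSystemAut hexads) x :=
    Function.Embedding.ext fun i => hfix i.val i.isLt
  rw [aut12_stab (by simp [ArrayPt]) steiner x, Subgroup.mem_bot] at h1
  have h2 : σ = τ⁻¹ := eq_inv_of_mul_eq_one_right (congrArg Subtype.val h1)
  rw [h2]
  exact inv_mem hτ

theorem card_monomial :
    Nat.card {f : Equiv.Perm ArrayPt × (ArrayPt → (ZMod 3)ˣ) // Pres12 f.1 f.2} = 190080 := by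
  classical
  have hex : ∀ σ : setSystemAut hexads, ∃ c : ArrayPt → (ZMod 3)ˣ, Pres12 (σ : Equiv.Perm ArrayPt) c := by
    intro σ
    have h := σ.2
    rw [SetLike.ext_iff.1 perm_eq.symm] at h
    exact h
  choose c hc using hex
  have hscal : ∀ (u : (ZMod 3)ˣ) (σ : Equiv.Perm ArrayPt) (d : ArrayPt → (ZMod 3)ˣ), Pres12 σ d →
      Pres12 σ (fun i => u * d i) := by
    intro u σ d hd x hx
    have : monomialMap σ (fun i => u * d i) x = (u : ZMod 3) • monomialMap σ d x := funext fun i => by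
      simp [monomialMap, mul_assoc]
    rw [this]
    exact Submodule.smul_mem _ _ (hd x hx)
  have hb : Function.Bijective (fun z : setSystemAut hexads × (ZMod 3)ˣ =>
      (⟨((z.1 : Equiv.Perm ArrayPt), fun i => z.2 * c z.1 i), hscal z.2 _ _ (hc z.1)⟩ :
        {f : Equiv.Perm ArrayPt × (ArrayPt → (ZMod 3)ˣ) // Pres12 f.1 f.2})) := by
    constructor
    · rintro ⟨σ, u⟩ ⟨τ, v⟩ h
      have h1 := congrArg (fun z : {f : Equiv.Perm ArrayPt × (ArrayPt → (ZMod 3)ˣ) // Pres12 f.1 f.2} => z.1) h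
      simp only [Prod.mk.injEq] at h1
      obtain ⟨e1, e2⟩ := h1
      obtain rfl := Subtype.ext e1
      exact Prod.ext rfl (mul_right_cancel (congrFun e2 (0, 0)))
    · rintro ⟨⟨σ, d⟩, hd⟩
      have hσ : σ ∈ setSystemAut hexads := perm_le ⟨d, hd⟩
      have hdiag : Pres12 1 (fun i => d i * (c ⟨σ, hσ⟩ i)⁻¹) := by
        intro y hy
        obtain ⟨x, hx, rfl⟩ := pres12_surj σ _ (hc ⟨σ, hσ⟩) hy
        rw [monomial_comp12, one_mul]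
        have e : (fun i => d i * (c ⟨σ, hσ⟩ i)⁻¹ * c ⟨σ, hσ⟩ ((1 : Equiv.Perm ArrayPt).symm i)) = d :=
          funext fun i => by
            change d i * (c ⟨σ, hσ⟩ i)⁻¹ * c ⟨σ, hσ⟩ i = d i
            rw [inv_mul_cancel_right]
        rw [e]
        exact hd x hx
      obtain ⟨u, hu⟩ : ∃ u, ∀ i, d i * (c ⟨σ, hσ⟩ i)⁻¹ = u :=
        (sign_const _ hdiag).elim (fun h => ⟨1, h⟩) fun h => ⟨-1, h⟩
      exact ⟨(⟨σ, hσ⟩, u), Subtype.ext (Prod.ext rfl (funext fun i => (mul_inv_eq_iff_eq_mul.1 (hu i)).symm))⟩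
  rw [← Nat.card_congr (Equiv.ofBijective _ hb), Nat.card_prod, card_aut12 (by simp [ArrayPt]) steiner,
    Nat.card_units, Nat.card_zmod]

end CfsgLib.Golay.Ternary
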