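import Cfsg.Agent.Lib.Golay.TernaryWords
import Cfsg.Prelude.Def_Sporadic_a

/-!
Weight distribution, self-orthogonality and the hexad system of the ternary code of length 12.
-/

set_option autoImplicit false
set_option maxRecDepth 100000

namespace CfsgLib.Golay.Ternary

open Cfsg

theorem card_code : Nat.card ↥ternaryGolayCode = 729 := by
  have e : (ternaryGolayCode : Set (ArrayPt → ZMod 3)) = {x | x ∈ ternaryGolayCode ∧ True} := by simp
  rw [← SetLike.coe_sort_coe, Nat.card_coe_set_eq, e, ncard_words]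
  simp

theorem weight_check : ∀ n < 729, n ≠ 0 → (ternarySupport (word n)).card = 6 ∨
    (ternarySupport (word n)).card = 9 ∨ (ternarySupport (word n)).card = 12 := by
  decide +kernel

theorem weight_six : ((Finset.range 729).filter fun n => (ternarySupport (word n)).card = 6).card = 264 := by
  decide +kernel

theorem weight_nine : ((Finset.range 729).filter fun n => (ternarySupport (word n)).card = 9).card = 440 := by
  decide +kernel

theorem weight_twelve : ((Finset.range 729).filter fun n => (ternarySupport (word n)).card = 12).card = 24 := by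
  decide +kernel

theorem word_zero : word 0 = 0 := by
  funext q; simp [word, enc, digits]

theorem weights {x : ArrayPt → ZMod 3} (hx : x ∈ ternaryGolayCode) (h0 : x ≠ 0) :
    (ternarySupport x).card = 6 ∨ (ternarySupport x).card = 9 ∨ (ternarySupport x).card = 12 := by
  obtain ⟨n, hn, rfl⟩ := mem_iff.1 hx
  exact weight_check n hn fun e => h0 (e ▸ word_zero)

theorem gen_dot : ∀ i j, ∑ q, gen i q * gen j q = 0 := by
  decide +kernel

theorem dot_zero {x y : ArrayPt → ZMod 3} (hx : x ∈ ternaryGolayCode) (hy : y ∈ ternaryGolayCode) :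
    ∑ q, x q * y q = 0 := by
  obtain ⟨m, -, rfl⟩ := mem_iff.1 hx
  obtain ⟨n, -, rfl⟩ := mem_iff.1 hy
  simp only [word, enc, Finset.sum_mul, Finset.mul_sum]
  rw [Finset.sum_comm]
  refine Finset.sum_eq_zero fun i _ => ?_
  rw [Finset.sum_comm]
  refine Finset.sum_eq_zero fun j _ => ?_
  simp only [mul_mul_mul_comm, ← Finset.mul_sum, gen_dot, mul_zero]

/-- The position with a given index. -/
def pos (k : ℕ) : ArrayPt := (Fin.ofNat 4 (k / 3), ((k % 3 : ℕ) : ZMod 3))

theorem col_lt : ∀ q : ArrayPt, col q < 12 := by decide +kernel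

theorem pos_col : ∀ q : ArrayPt, pos (col q) = q := by decide +kernel

theorem col_pos : ∀ k < 12, col (pos k) = k := by decide +kernel

/-- The set of positions of a mask. -/
def mset12 (m : ℕ) : Finset ArrayPt := Finset.univ.filter fun q => m.testBit (col q)

/-- The mask of a set of positions. -/
def mask12 (s : Finset ArrayPt) : ℕ := Nat.ofBits fun k : Fin 12 => decide (pos k.val ∈ s)

theorem mem_mset12 {m : ℕ} {q : ArrayPt} : q ∈ mset12 m ↔ m.testBit (col q) = true := by
  simp [mset12]

theorem mask12_lt (s : Finset ArrayPt) : mask12 s < 4096 :=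
  Nat.lt_of_lt_of_eq (Nat.ofBits_lt_two_pow _) (by norm_num)

theorem mset12_mask12 (s : Finset ArrayPt) : mset12 (mask12 s) = s := by
  ext q
  rw [mem_mset12, mask12]
  rw [Nat.testBit_ofBits_lt _ _ (col_lt q)]
  simp [pos_col]

theorem mask12_mset12 {m : ℕ} (hm : m < 4096) : mask12 (mset12 m) = m := by
  apply Nat.eq_of_testBit_eq
  intro i
  by_cases hi : i < 12
  · rw [mask12, Nat.testBit_ofBits_lt _ _ hi]
    simp [mem_mset12, col_pos i hi]
  · have e : 4096 ≤ 2 ^ i := by
      calc 4096 = 2 ^ 12 := by norm_num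
        _ ≤ 2 ^ i := Nat.pow_le_pow_right (by norm_num) (by omega)
    rw [Nat.testBit_lt_two_pow (lt_of_lt_of_le (mask12_lt _) e), Nat.testBit_lt_two_pow (lt_of_lt_of_le hm e)]

theorem subset_iff_land {s : Finset ArrayPt} {b : ℕ} :
    s ⊆ mset12 b ↔ mask12 s &&& b = mask12 s := by
  constructor
  · intro h
    apply Nat.eq_of_testBit_eq
    intro i
    rw [Nat.testBit_and]
    by_cases hi : i < 12
    · rw [mask12, Nat.testBit_ofBits_lt _ _ hi]
      by_cases hs : pos i ∈ s
      · have := h hs
        simp [mem_mset12, col_pos i hi] at this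
        simp [hs, this]
      · simp [hs]
    · rw [mask12, Nat.testBit_ofBits_ge _ _ (by omega)]
      simp
  · intro h q hq
    have := congrArg (fun m => m.testBit (col q)) h
    rw [Nat.testBit_and, mask12, Nat.testBit_ofBits_lt _ _ (col_lt q)] at this
    simp [pos_col, hq] at this
    simp [mem_mset12, this]

/-- The masks of the 132 hexads. -/
def hexMasks : List ℕ := [63, 222, 237, 243, 347, 366, 373, 413, 427, 438, 455, 504, 591, 630, 633, 667, 679, 700, 725, 746, 791, 813, 826, 860, 867, 910, 945, 969, 978, 996, 1117, 1127, 1146, 1175, 1198, 1209, 1227, 1268, 1295, 1331, 1340, 1366, 1385, 1434, 1445, 1484, 1489, 1506, 1566, 1579, 1589, 1619, 1644, 1677, 1714, 1734, 1752, 1761, 1817, 1830, 1861, 1866, 1904, 1923, 1940, 1960, 2135, 2155, 2172, 2191, 2229, 2234, 2265, 2278, 2334, 2343, 2361, 2381, 2418, 2451, 2476, 2506, 2516, 2529, 2589, 2606, 2611, 2650, 2661, 2710, 2729, 2755, 2764, 2800, 2827, 2868, 2886, 2897, 2920, 2949, 2968, 2978, 3099, 3117, 3126, 3150, 3185, 3228, 3235, 3269, 3282, 3304,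 3349, 3370, 3395, 3416, 3428, 3462, 3465, 3504, 3591, 3640, 3657, 3668, 3682, 3722, 3729, 3748, 3852, 3858, 3873, 4032]

/-- Numbers of code words with these supports. -/
def hexWords : List ℕ := [134, 393, 289, 410, 439, 318, 335, 154, 32, 102, 269, 459, 284, 429, 379, 112, 17, 117, 415, 276, 97, 37, 141, 369, 247, 51, 83, 299, 327, 252, 479, 259, 354, 95, 39, 137, 301, 342, 49, 85, 144, 417, 272, 114, 10, 279, 325, 249, 156, 34, 100, 332, 306, 47, 87, 264, 432, 245, 110, 12, 262, 303, 405, 5, 90, 27, 346, 305, 441, 43, 91, 138, 353, 255, 120, 14, 109, 307, 330, 89, 45, 273, 423, 244, 146, 48, 86, 462, 263, 105, 29, 250, 315, 324, 35, 99, 258, 407, 270, 11, 135, 3, 142, 38, 96, 294, 406, 126, 4, 254, 411, 297, 101, 33, 248, 378, 261, 15, 28, 81, 13, 108, 271, 333, 246, 30, 82, 9, 36, 84, 1, 243]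

theorem hexWords_spec : hexWords.map (fun n => mask12 (ternarySupport (word n))) = hexMasks := by
  decide +kernel

theorem hexWords_lt : ∀ n ∈ hexWords, n < 729 := by decide +kernel

theorem hexMasks_spec : hexMasks.Nodup ∧ hexMasks.length = 132 ∧ ∀ b ∈ hexMasks, b < 4096 ∧ (mset12 b).card = 6 := by
  decide +kernel

theorem hex_complete : ∀ n < 729, (ternarySupport (word n)).card = 6 →
    mask12 (ternarySupport (word n)) ∈ hexMasks := by
  decide +kernel

theorem steiner_check : ∀ m < 4096, (mset12 m).card = 5 →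
    (hexMasks.filter fun b => m &&& b == m).length = 1 := by
  decide +kernel

/-- The hexads. -/
abbrev hexads : Set (Finset ArrayPt) :=
  {h | ∃ x ∈ ternaryGolayCode, ternarySupport x = h ∧ h.card = 6}

theorem hexads_eq : hexads = ↑((hexMasks.map mset12).toFinset) := by
  ext h
  simp only [Set.mem_setOf_eq, Finset.mem_coe, List.mem_toFinset, List.mem_map]
  constructor
  · rintro ⟨x, hx, rfl, h6⟩
    obtain ⟨n, hn, rfl⟩ := mem_iff.1 hx
    exact ⟨_, hex_complete n hn h6, mset12_mask12 _⟩
  · rintro ⟨b, hb, rfl⟩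
    rw [← hexWords_spec, List.mem_map] at hb
    obtain ⟨n, hn, rfl⟩ := hb
    refine ⟨word n, mem_iff.2 ⟨n, hexWords_lt n hn, rfl⟩, (mset12_mask12 _).symm, ?_⟩
    exact (hexMasks_spec.2.2 _ (hexWords_spec ▸ List.mem_map.2 ⟨n, hn, rfl⟩)).2

theorem ncard_hexads : hexads.ncard = 132 := by
  rw [hexads_eq, Set.ncard_coe_finset, List.toFinset_card_of_nodup, List.length_map, hexMasks_spec.2.1]
  refine hexMasks_spec.1.map_on ?_
  intro a ha b hb e
  rw [← mask12_mset12 (hexMasks_spec.2.2 a ha).1, e, mask12_mset12 (hexMasks_spec.2.2 b hb).1]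

theorem steiner : IsSteinerSystem 5 6 hexads := by
  refine ⟨fun b ⟨x, _, _, h6⟩ => h6, fun s hs => ?_⟩
  have h1 := steiner_check (mask12 s) (mask12_lt s) (by rw [mset12_mask12, hs])
  obtain ⟨b, hb⟩ := List.length_eq_one_iff.1 h1
  have hbm : b ∈ hexMasks.filter fun b => mask12 s &&& b == mask12 s := by rw [hb]; simp
  rw [List.mem_filter, beq_iff_eq] at hbm
  refine ⟨mset12 b, ⟨?_, subset_iff_land.2 hbm.2⟩, ?_⟩
  · rw [hexads_eq]
    exact List.mem_toFinset.2 (List.mem_map.2 ⟨b, hbm.1, rfl⟩)
  · rintro c ⟨hc, hsc⟩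
    rw [hexads_eq, Finset.mem_coe, List.mem_toFinset, List.mem_map] at hc
    obtain ⟨b', hb', rfl⟩ := hc
    have : b' ∈ hexMasks.filter fun b => mask12 s &&& b == mask12 s :=
      List.mem_filter.2 ⟨hb', beq_iff_eq.2 (subset_iff_land.1 hsc)⟩
    rw [hb, List.mem_singleton] at this
    rw [this]

/-- Sign changes preserving the code are constant. -/
theorem sign_const (c : ArrayPt → (ZMod 3)ˣ)
    (h : ∀ x ∈ ternaryGolayCode, monomialMap 1 c x ∈ ternaryGolayCode) :
    (∀ q, c q = 1) ∨ ∀ q, c q = -1 := by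
  have hu : ∀ u : (ZMod 3)ˣ, u = 1 ∨ u = -1 := by decide +kernel
  have key : ∀ x ∈ ternaryGolayCode, (ternarySupport x).card = 6 →
      ∀ p ∈ ternarySupport x, ∀ q ∈ ternarySupport x, c p = c q := by
    intro x hx h6 p hp q hq
    by_contra hne
    obtain ⟨y, hy, hyval⟩ : ∃ y ∈ ternaryGolayCode, ∀ r, y r = (1 + (c r : ZMod 3)) * x r :=
      ⟨x + monomialMap 1 c x, add_mem hx (h x hx), fun r => by
        change x r + (c r : ZMod 3) * x r = _
        rw [add_mul, one_mul]⟩
    have hsub : ternarySupport y ⊆ (ternarySupport x).filter fun r => c r = 1 := by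
      intro r hr
      simp only [ternarySupport, Finset.mem_filter, Finset.mem_univ, true_and, hyval] at hr ⊢
      rcases hu (c r) with e | e
      · exact ⟨fun e0 => hr (by rw [e0, mul_zero]), e⟩
      · exact absurd (by rw [e]; simp) hr
    have hsup : (ternarySupport x).filter (fun r => c r = 1) ⊆ ternarySupport y := by
      intro r hr
      simp only [ternarySupport, Finset.mem_filter, Finset.mem_univ, true_and, hyval] at hr ⊢
      rw [hr.2, Units.val_one, one_add_one_eq_two]
      exact mul_ne_zero (by decide) hr.1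
    have hy' := Finset.Subset.antisymm hsub hsup
    by_cases hy0 : y = 0
    · have h0 : ∀ r ∈ ternarySupport x, c r = -1 := by
        intro r hr
        refine (hu (c r)).resolve_left fun e => ?_
        have : r ∈ ternarySupport y := hy' ▸ Finset.mem_filter.2 ⟨hr, e⟩
        simp [ternarySupport, hy0] at this
      exact hne (by rw [h0 p hp, h0 q hq])
    · have h1 : ternarySupport y = ternarySupport x := by
        refine Finset.eq_of_subset_of_card_le (hsub.trans (Finset.filter_subset _ _)) ?_
        rcases weights hy hy0 with e | e | e <;> omega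
      have h0 : ∀ r ∈ ternarySupport x, c r = 1 := fun r hr => by
        have := hy' ▸ h1.symm ▸ hr
        exact (Finset.mem_filter.1 this).2
      exact hne (by rw [h0 p hp, h0 q hq])
  have hconst : ∀ p q, c p = c q := by
    intro p q
    obtain ⟨s, hps, hs⟩ := Finset.exists_superset_card_eq (s := ({p, q} : Finset ArrayPt)) (n := 5)
      ((Finset.card_insert_le _ _).trans (by simp)) (by simp [ArrayPt])
    obtain ⟨b, ⟨⟨x, hx, hxb, h6⟩, hsb⟩, -⟩ := steiner.2 s hs
    subst hxb
    exact key x hx h6 p (hsb (hps (by simp))) q (hsb (hps (by simp)))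
  rcases hu (c (0, 0)) with e | e
  · exact Or.inl fun q => (hconst q (0, 0)).trans e
  · exact Or.inr fun q => (hconst q (0, 0)).trans e

end CfsgLib.Golay.Ternary
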