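import Cfsg.Prelude.Def_SporadicCombinatorics

/-!
The ternary code of length 12 of `Def_SporadicCombinatorics` as an explicit list of 729 words.
-/

set_option autoImplicit false
set_option maxRecDepth 100000

namespace CfsgLib.Golay.Ternary

open Cfsg

/-- Position `k` of the array. -/
def col : ArrayPt → ℕ := fun q => 3 * q.1.val + q.2.val

/-- Entry table of the six generators (reduced echelon form, pivots 0, 1, 2, 3, 4, 6). -/
def rowTab : List (List ℕ) :=
  [[1, 0, 0, 0, 0, 1, 0, 0, 1, 1, 1, 2], [0, 1, 0, 0, 0, 1, 0, 2, 2, 2, 0, 2],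
   [0, 0, 1, 0, 0, 1, 0, 1, 0, 2, 1, 1], [0, 0, 0, 1, 0, 2, 0, 2, 1, 2, 1, 0],
   [0, 0, 0, 0, 1, 2, 0, 1, 2, 0, 1, 2], [0, 0, 0, 0, 0, 0, 1, 1, 1, 2, 2, 2]]

/-- The generators. -/
def gen (i : Fin 6) : ArrayPt → ZMod 3 := fun q => ((rowTab.getD i.val []).getD (col q) 0 : ℕ)

/-- The pivot positions. -/
def piv : Fin 6 → ArrayPt := ![(0, 0), (0, 1), (0, 2), (1, 0), (1, 1), (2, 0)]

/-- The positions which are no pivots. -/
def free : Fin 6 → ArrayPt := ![(1, 2), (2, 1), (2, 2), (3, 0), (3, 1), (3, 2)]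

/-- Encoding of six scalars. -/
def enc (a : Fin 6 → ZMod 3) : ArrayPt → ZMod 3 := fun q => ∑ i, a i * gen i q

/-- The digits of a number below 729. -/
def digits (n : ℕ) : Fin 6 → ZMod 3 := fun i => ((n / 3 ^ i.val % 3 : ℕ) : ZMod 3)

/-- The word with number `n`. -/
def word (n : ℕ) : ArrayPt → ZMod 3 := enc (digits n)

theorem exists_digits (a : Fin 6 → ZMod 3) : ∃ n < 729, digits n = a := by
  refine ⟨(a 0).val + 3 * (a 1).val + 9 * (a 2).val + 27 * (a 3).val + 81 * (a 4).val + 243 * (a 5).val,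
    ?_, ?_⟩
  · have := (a 0).val_lt; have := (a 1).val_lt; have := (a 2).val_lt
    have := (a 3).val_lt; have := (a 4).val_lt; have := (a 5).val_lt
    omega
  · funext i
    have := (a 0).val_lt; have := (a 1).val_lt; have := (a 2).val_lt
    have := (a 3).val_lt; have := (a 4).val_lt; have := (a 5).val_lt
    conv_rhs => rw [← ZMod.natCast_zmod_val (a i)]
    unfold digits
    congr 1
    fin_cases i <;> simp <;> omega

theorem mem_tetracode {t : Fin 4 → ZMod 3} :
    t ∈ tetracode ↔ ∃ a b : ZMod 3, a • ![0, 1, 1, 1] + b • ![1, 0, 1, 2] = t :=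
  Submodule.mem_span_pair

/-- The defining conditions, decidably. -/
def IsWord (x : ArrayPt → ZMod 3) : Prop :=
  ∃ s : ZMod 3, (∀ i : Fin 4, ∑ r : ZMod 3, x (i, r) = -s) ∧
    ∀ a b : ZMod 3, ∑ i : Fin 4, x (i, a * ![0, 1, 1, 1] i + b * ![1, 0, 1, 2] i) = s

instance (x : ArrayPt → ZMod 3) : Decidable (IsWord x) := by unfold IsWord; infer_instance

theorem mem_code_iff {x : ArrayPt → ZMod 3} : x ∈ ternaryGolayCode ↔ IsWord x := by
  change IsTernaryGolayWord x ↔ _
  constructor
  · rintro ⟨s, h1, h2⟩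
    exact ⟨s, h1, fun a b => h2 (a • ![0, 1, 1, 1] + b • ![1, 0, 1, 2]) (mem_tetracode.2 ⟨a, b, rfl⟩)⟩
  · rintro ⟨s, h1, h2⟩
    refine ⟨s, h1, fun t ht => ?_⟩
    obtain ⟨a, b, rfl⟩ := mem_tetracode.1 ht
    exact h2 a b

theorem gen_mem (i : Fin 6) : gen i ∈ ternaryGolayCode := by
  rw [mem_code_iff]
  revert i
  decide +kernel

theorem enc_mem (a : Fin 6 → ZMod 3) : enc a ∈ ternaryGolayCode := by
  have e : enc a = ∑ i, a i • gen i := by
    funext q; simp [enc, Finset.sum_apply]
  rw [e]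
  exact Submodule.sum_mem _ fun i _ => Submodule.smul_mem _ _ (gen_mem i)

theorem enc_piv (a : Fin 6 → ZMod 3) (i : Fin 6) : enc a (piv i) = a i := by
  have h : ∀ j, gen j (piv i) = if j = i then 1 else 0 := by revert i; decide +kernel
  simp [enc, h]

/-- A word on the free positions, zero on the pivots. -/
def ext0 (r : Fin 6 → ZMod 3) : ArrayPt → ZMod 3 := fun q => ∑ i, if free i = q then r i else 0

theorem ext0_kernel : ∀ n < 729, IsWord (ext0 (digits n)) → n = 0 := by
  decide +kernel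

theorem piv_or_free : ∀ q : ArrayPt, (∃ i, piv i = q) ∨ ∃ i, free i = q := by
  decide +kernel

/-- A code word is determined by its pivot entries. -/
theorem eq_zero_of_piv {x : ArrayPt → ZMod 3} (hx : x ∈ ternaryGolayCode) (h : ∀ i, x (piv i) = 0) :
    x = 0 := by
  obtain ⟨n, hn, hd⟩ := exists_digits fun i => x (free i)
  have hinj : ∀ i j, free i = free j → i = j := by decide +kernel
  have hne : ∀ i j, free i ≠ piv j := by decide +kernel
  have e : ext0 (digits n) = x := by
    funext q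
    rcases piv_or_free q with ⟨i, rfl⟩ | ⟨i, rfl⟩
    · rw [h]
      exact Finset.sum_eq_zero fun j _ => if_neg (hne j i)
    · rw [ext0, Finset.sum_eq_single i (fun j _ hj => if_neg fun he => hj (hinj _ _ he))
        (fun hi => absurd (Finset.mem_univ i) hi), if_pos rfl, hd]
  have := ext0_kernel n hn (by rw [e]; exact mem_code_iff.1 hx)
  subst this
  rw [← e]
  funext q
  simp [ext0, digits]

theorem mem_iff {x : ArrayPt → ZMod 3} : x ∈ ternaryGolayCode ↔ ∃ n < 729, word n = x := by
  constructor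
  · intro hx
    obtain ⟨n, hn, hd⟩ := exists_digits fun i => x (piv i)
    refine ⟨n, hn, ?_⟩
    have h0 : x - word n = 0 := eq_zero_of_piv (sub_mem hx (enc_mem _)) fun i => by
      rw [Pi.sub_apply, word, enc_piv, hd, sub_self]
    exact (sub_eq_zero.1 h0).symm
  · rintro ⟨n, -, rfl⟩
    exact enc_mem _

theorem word_inj {m n : ℕ} (hm : m < 729) (hn : n < 729) (h : word m = word n) : m = n := by
  have hd : ∀ i, digits m i = digits n i := fun i => by rw [← enc_piv (digits m), ← enc_piv (digits n)]; exact congrFun h _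
  have hv : ∀ i : Fin 6, m / 3 ^ i.val % 3 = n / 3 ^ i.val % 3 := fun i => by
    have := congrArg ZMod.val (hd i)
    simpa [digits, ZMod.val_natCast] using this
  have := hv 0; have := hv 1; have := hv 2; have := hv 3; have := hv 4; have := hv 5
  simp at *
  omega

/-- Counting code words by a decidable property. -/
theorem ncard_words {P : (ArrayPt → ZMod 3) → Prop} [DecidablePred P] :
    {x : ArrayPt → ZMod 3 | x ∈ ternaryGolayCode ∧ P x}.ncard =
      ((Finset.range 729).filter fun n => P (word n)).card := by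
  have e : {x : ArrayPt → ZMod 3 | x ∈ ternaryGolayCode ∧ P x} =
      word '' ↑((Finset.range 729).filter fun n => P (word n)) := by
    ext x
    simp only [Set.mem_setOf_eq, Set.mem_image, Finset.coe_filter, Finset.mem_range]
    rw [mem_iff]
    constructor
    · rintro ⟨⟨n, hn, rfl⟩, hP⟩
      exact ⟨n, ⟨hn, hP⟩, rfl⟩
    · rintro ⟨n, ⟨hn, hP⟩, rfl⟩
      exact ⟨⟨n, hn, rfl⟩, hP⟩
  rw [e, Set.InjOn.ncard_image, Set.ncard_coe_finset]
  intro a ha b hb
  exact word_inj (Finset.mem_range.1 (Finset.mem_filter.1 ha).1) (Finset.mem_range.1 (Finset.mem_filter.1 hb).1)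

end CfsgLib.Golay.Ternary
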