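import Cfsg.Agent.Lib.Golay.Biplane
import Cfsg.Agent.Lib.Golay.Octads
import Cfsg.Agent.S0358

/-! A doubly even self-dual binary code of length 24 without words of weight 4 is the length-24
code built from the squares modulo 23. -/

set_option autoImplicit false
set_option maxRecDepth 100000

namespace CfsgLib.Golay

open Cfsg

section General

variable {α : Type*} [Fintype α] [DecidableEq α]

theorem mem_support₂' {w : α → ZMod 2} {i : α} : i ∈ support₂ w ↔ w i = 1 := by
  simp only [support₂, Finset.mem_filter, Finset.mem_univ, true_and, ne_eq]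
  generalize w i = a
  revert a; decide

theorem support₂_inj' {v w : α → ZMod 2} (h : support₂ v = support₂ w) : v = w := by
  funext i
  have hi := Finset.ext_iff.1 h i
  rw [mem_support₂', mem_support₂'] at hi
  generalize v i = a at hi
  generalize w i = b at hi
  revert hi a b; decide

theorem support₂_add' (v w : α → ZMod 2) :
    support₂ (v + w) = symmDiff (support₂ v) (support₂ w) := by
  ext i
  simp only [Finset.mem_symmDiff, mem_support₂', Pi.add_apply]
  generalize v i = a
  generalize w i = b
  revert a b; decide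

theorem support₂_zero' : support₂ (0 : α → ZMod 2) = ∅ := by
  ext i; simp [mem_support₂']

theorem support₂_one' : support₂ (1 : α → ZMod 2) = Finset.univ := by
  ext i; simp [mem_support₂']

theorem dot_eq_card (v w : α → ZMod 2) :
    ∑ i, v i * w i = ((support₂ v ∩ support₂ w).card : ZMod 2) := by
  rw [Finset.card_eq_sum_ones, Nat.cast_sum, ← Finset.sum_subset (Finset.subset_univ (support₂ v ∩ support₂ w))]
  · refine Finset.sum_congr rfl fun i hi => ?_
    rw [Finset.mem_inter, mem_support₂', mem_support₂'] at hi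
    simp [hi.1, hi.2]
  · intro i _ hi
    rw [Finset.mem_inter, mem_support₂', mem_support₂'] at hi
    generalize v i = a at hi
    generalize w i = b at hi
    revert hi a b; decide

/-- The pairing of words. -/
def dotMap : (α → ZMod 2) →ₗ[ZMod 2] Module.Dual (ZMod 2) (α → ZMod 2) :=
  LinearMap.mk₂ (ZMod 2) (fun x y => ∑ i, x i * y i)
    (fun a b c => by simp [add_mul, Finset.sum_add_distrib])
    (fun r a b => by simp [Finset.mul_sum, mul_assoc])
    (fun a b c => by simp [mul_add, Finset.sum_add_distrib])
    (fun r a b => by simp [Finset.mul_sum, mul_left_comm])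

theorem dotMap_apply (x y : α → ZMod 2) : dotMap x y = ∑ i, x i * y i := rfl

theorem dotMap_injective : Function.Injective (dotMap : (α → ZMod 2) →ₗ[ZMod 2] _) := by
  intro x y h
  funext i
  have := LinearMap.congr_fun h (Pi.single i 1)
  simpa [dotMap_apply, Pi.single_apply] using this

theorem isotropic_finrank_le {W : Submodule (ZMod 2) (α → ZMod 2)}
    (h : ∀ v ∈ W, ∀ w ∈ W, ∑ i, v i * w i = 0) :
    2 * Module.finrank (ZMod 2) W ≤ Fintype.card α := by
  have hle : W.map dotMap ≤ W.dualAnnihilator := by
    rintro _ ⟨x, hx, rfl⟩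
    rw [Submodule.mem_dualAnnihilator]
    exact fun y hy => h x hx y hy
  have h1 := Submodule.finrank_mono hle
  rw [← (Submodule.equivMapOfInjective dotMap dotMap_injective W).finrank_eq] at h1
  have h2 := Subspace.finrank_add_finrank_dualAnnihilator_eq W
  rw [Module.finrank_pi] at h2
  omega

/-- An isotropic subspace of half the dimension contains every isotropic word orthogonal to it. -/
theorem mem_of_orth {C : Submodule (ZMod 2) (α → ZMod 2)}
    (hdim : 2 * Module.finrank (ZMod 2) C = Fintype.card α)
    (horth : ∀ v ∈ C, ∀ w ∈ C, ∑ i, v i * w i = 0) {x : α → ZMod 2}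
    (hx : ∀ v ∈ C, ∑ i, v i * x i = 0) (hxx : ∑ i, x i * x i = 0) : x ∈ C := by
  by_contra hxC
  have hlt : C < C ⊔ Submodule.span (ZMod 2) {x} := by
    refine lt_of_le_of_ne le_sup_left fun e => hxC ?_
    rw [e]; exact Submodule.mem_sup_right (Submodule.mem_span_singleton_self x)
  have h1 := Submodule.finrank_lt_finrank_of_lt hlt
  have h2 : 2 * Module.finrank (ZMod 2) ↥(C ⊔ Submodule.span (ZMod 2) {x}) ≤ Fintype.card α := by
    apply isotropic_finrank_le
    intro v hv w hw
    rw [Submodule.mem_sup] at hv hw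
    obtain ⟨v₁, hv₁, v₂, hv₂, rfl⟩ := hv
    obtain ⟨w₁, hw₁, w₂, hw₂, rfl⟩ := hw
    rw [Submodule.mem_span_singleton] at hv₂ hw₂
    obtain ⟨a, rfl⟩ := hv₂
    obtain ⟨b, rfl⟩ := hw₂
    have e1 := horth v₁ hv₁ w₁ hw₁
    have e2 := hx v₁ hv₁
    have e3 : ∑ i, x i * w₁ i = 0 := by rw [← hx w₁ hw₁]; simp [mul_comm]
    simp only [Pi.add_apply, Pi.smul_apply, smul_eq_mul, add_mul, mul_add, Finset.sum_add_distrib,
      mul_assoc, mul_left_comm _ b, ← Finset.mul_sum, e1, e2, e3, hxx, mul_zero, add_zero]
  omega

variable {C : Submodule (ZMod 2) (α → ZMod 2)}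

/-- The hypotheses on the code, in terms of supports. -/
structure GolayLike (C : Submodule (ZMod 2) (α → ZMod 2)) : Prop where
  card : Fintype.card α = 24
  dim : Module.finrank (ZMod 2) C = 12
  orth : ∀ v ∈ C, ∀ w ∈ C, ∑ i, v i * w i = 0
  four : ∀ w ∈ C, 4 ∣ (support₂ w).card
  no4 : ∀ w ∈ C, (support₂ w).card ≠ 4

namespace GolayLike

theorem one_mem (h : GolayLike C) : (1 : α → ZMod 2) ∈ C := by
  refine mem_of_orth (by rw [h.dim, h.card]) h.orth (fun v hv => ?_) ?_
  · rw [dot_eq_card, support₂_one', Finset.inter_univ, ZMod.natCast_eq_zero_iff]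
    exact dvd_trans (by norm_num) (h.four v hv)
  · simp [h.card]; rfl

theorem inter_even (h : GolayLike C) {v w : α → ZMod 2} (hv : v ∈ C) (hw : w ∈ C) :
    2 ∣ (support₂ v ∩ support₂ w).card := by
  rw [← ZMod.natCast_eq_zero_iff, ← dot_eq_card]; exact h.orth v hv w hw

theorem compl_card (h : GolayLike C) (v : α → ZMod 2) :
    (support₂ (v + 1)).card = 24 - (support₂ v).card := by
  rw [support₂_add', support₂_one', ← h.card, ← Finset.card_compl]
  congr 1
  ext i; simp [Finset.mem_symmDiff]

theorem weight (h : GolayLike C) {v : α → ZMod 2} (hv : v ∈ C) :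
    (support₂ v).card ∈ ({0, 8, 12, 16, 24} : Finset ℕ) := by
  have h1 := h.four v hv
  have h2 := h.no4 v hv
  have h3 := h.no4 _ (Submodule.add_mem _ hv h.one_mem)
  rw [h.compl_card] at h3
  have h4 : (support₂ v).card ≤ 24 := h.card ▸ Finset.card_le_univ _
  generalize (support₂ v).card = n at *
  interval_cases n <;> simp_all

theorem natCard (h : GolayLike C) : Nat.card C = 4096 := by
  rw [Module.natCard_eq_pow_finrank (K := ZMod 2), h.dim]; simp

/-- There is a word of weight 12. -/
theorem exists_twelve (h : GolayLike C) : ∃ v ∈ C, (support₂ v).card = 12 := by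
  classical
  by_contra hno
  push Not at hno
  have hw : ∀ v ∈ C, 8 ∣ (support₂ v).card := fun v hv => by
    have := h.weight hv
    have := hno v hv
    simp only [Finset.mem_insert, Finset.mem_singleton] at *
    omega
  have h4 : ∀ u ∈ C, ∀ v ∈ C, 4 ∣ (support₂ u ∩ support₂ v).card := fun u hu v hv => by
    have e := Finset.card_union_add_card_inter (support₂ u) (support₂ v)
    have e' : (support₂ (u + v)).card + (support₂ u ∩ support₂ v).card =
        (support₂ u ∪ support₂ v).card := by
      rw [support₂_add', ← Finset.card_union_of_disjoint]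
      · congr 1
        ext i; simp only [Finset.mem_union, Finset.mem_symmDiff, Finset.mem_inter]; tauto
      · rw [Finset.disjoint_left]
        intro i; simp only [Finset.mem_symmDiff, Finset.mem_inter]; tauto
    have := hw u hu
    have := hw v hv
    have := hw _ (Submodule.add_mem _ hu hv)
    omega
  have hmul : ∀ u ∈ C, ∀ v ∈ C, u * v ∈ C := by
    intro u hu v hv
    have e : ∀ a b : α → ZMod 2, support₂ (a * b) = support₂ a ∩ support₂ b := fun a b => by
      ext i
      simp only [Finset.mem_inter, mem_support₂', Pi.mul_apply]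
      generalize a i = x
      generalize b i = y
      revert x y; decide
    refine mem_of_orth (by rw [h.dim, h.card]) h.orth (fun w hw' => ?_) ?_
    · -- the triple intersection is even
      rw [dot_eq_card, e, ZMod.natCast_eq_zero_iff]
      have h5 := h4 _ (Submodule.add_mem _ hu hv) w hw'
      have e2 : (support₂ (u + v) ∩ support₂ w).card +
          2 * (support₂ w ∩ (support₂ u ∩ support₂ v)).card =
          (support₂ u ∩ support₂ w).card + (support₂ v ∩ support₂ w).card := by
        rw [support₂_add']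
        have hc : ∀ s : Finset α, s.card = ∑ i, if i ∈ s then 1 else 0 := fun s => by simp
        simp only [hc, Finset.mul_sum, ← Finset.sum_add_distrib]
        refine Finset.sum_congr rfl fun i _ => ?_
        simp only [Finset.mem_inter, Finset.mem_symmDiff]
        by_cases a : i ∈ support₂ u <;> by_cases b : i ∈ support₂ v <;>
          by_cases c : i ∈ support₂ w <;> simp [a, b, c]
      have := h4 u hu w hw'
      have := h4 v hv w hw'
      omega
    · rw [dot_eq_card, Finset.inter_self, e, ZMod.natCast_eq_zero_iff]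
      exact dvd_trans (by norm_num) (h4 u hu v hv)
  -- the supports are closed under intersection and differences
  let F : Finset (Finset α) := (Finset.univ.filter fun v => v ∈ C).image support₂
  have memF : ∀ s, s ∈ F ↔ ∃ v ∈ C, support₂ v = s := fun s => by simp [F]
  have hint : ∀ s ∈ F, ∀ t ∈ F, s ∩ t ∈ F ∧ s \ t ∈ F := by
    intro s hs t ht
    obtain ⟨u, hu, rfl⟩ := (memF s).1 hs
    obtain ⟨v, hv, rfl⟩ := (memF t).1 ht
    refine ⟨(memF _).2 ⟨u * v, hmul u hu v hv, ?_⟩,
      (memF _).2 ⟨u + u * v, Submodule.add_mem _ hu (hmul u hu v hv), ?_⟩⟩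
    · ext i
      simp only [Finset.mem_inter, mem_support₂', Pi.mul_apply]
      generalize u i = x; generalize v i = y
      revert x y; decide
    · ext i
      simp only [Finset.mem_sdiff, mem_support₂', Pi.add_apply, Pi.mul_apply]
      generalize u i = x; generalize v i = y
      revert x y; decide
  let atoms : Finset (Finset α) := F.filter fun s => s ≠ ∅ ∧ ∀ t ∈ F, s ⊆ t ∨ Disjoint s t
  have hatom : ∀ i : α, ∃ s ∈ atoms, i ∈ s := by
    intro i
    obtain ⟨s, hs, hmin⟩ := (F.filter fun s => i ∈ s).exists_min_image Finset.card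
      ⟨Finset.univ, Finset.mem_filter.2 ⟨(memF _).2 ⟨1, h.one_mem, support₂_one'⟩, by simp⟩⟩
    rw [Finset.mem_filter] at hs
    refine ⟨s, Finset.mem_filter.2 ⟨hs.1, Finset.ne_empty_of_mem hs.2, fun t ht => ?_⟩, hs.2⟩
    by_cases hit : i ∈ t
    · left
      have := Finset.eq_of_subset_of_card_le (Finset.inter_subset_left (s₂ := t))
        (hmin _ (Finset.mem_filter.2 ⟨(hint s hs.1 t ht).1, by simp [hs.2, hit]⟩))
      exact Finset.inter_eq_left.1 this
    · right
      have := Finset.eq_of_subset_of_card_le (Finset.sdiff_subset (t := t))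
        (hmin _ (Finset.mem_filter.2 ⟨(hint s hs.1 t ht).2, by simp [hs.2, hit]⟩))
      exact Finset.sdiff_eq_self_iff_disjoint.1 this
  have hle : atoms.card * 8 ≤ 24 := by
    have hd : (atoms : Set (Finset α)).PairwiseDisjoint id := by
      intro s hs t ht hst
      simp only [atoms, Finset.coe_filter, Set.mem_setOf_eq] at hs ht
      rcases hs.2.2 t ht.1 with hsub | hdis
      · rcases ht.2.2 s hs.1 with hsub' | hdis'
        · exact absurd (hsub.antisymm hsub') hst
        · exact hdis'.symm
      · exact hdis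
    have h8 : ∀ s ∈ atoms, 8 ≤ s.card := fun s hs => by
      simp only [atoms, Finset.mem_filter] at hs
      obtain ⟨v, hv, rfl⟩ := (memF s).1 hs.1
      have := Finset.card_pos.2 (Finset.nonempty_iff_ne_empty.2 hs.2.1)
      have := hw v hv
      omega
    calc atoms.card * 8 ≤ ∑ s ∈ atoms, s.card := by
          rw [← smul_eq_mul, ← Finset.sum_const]; exact Finset.sum_le_sum h8
      _ = (atoms.biUnion id).card := (Finset.card_biUnion hd).symm
      _ ≤ 24 := h.card ▸ Finset.card_le_univ _
  have hF : F.card ≤ 2 ^ atoms.card := by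
    rw [← Finset.card_powerset]
    refine Finset.card_le_card_of_injOn (fun t => atoms.filter fun s => s ⊆ t)
      (fun t _ => Finset.mem_powerset.2 (Finset.filter_subset _ _)) ?_
    intro s hs t ht e
    have key : ∀ u ∈ F, ∀ i, i ∈ u ↔ ∃ a ∈ atoms.filter (fun a => a ⊆ u), i ∈ a := by
      intro u hu i
      constructor
      · intro hi
        obtain ⟨a, ha, hia⟩ := hatom i
        refine ⟨a, Finset.mem_filter.2 ⟨ha, ?_⟩, hia⟩
        rcases (Finset.mem_filter.1 ha).2.2 u hu with hsub | hdis
        · exact hsub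
        · exact absurd hi (Finset.disjoint_left.1 hdis hia)
      · rintro ⟨a, ha, hia⟩; exact (Finset.mem_filter.1 ha).2 hia
    ext i
    rw [key s hs i, key t ht i]
    simp only at e
    rw [e]
  have hcard : F.card = 4096 := by
    rw [Finset.card_image_of_injOn (fun v _ w _ e => support₂_inj' e), ← h.natCard,
      Nat.card_eq_fintype_card, ← Fintype.card_subtype]
  have : atoms.card ≤ 3 := by omega
  have := Nat.pow_le_pow_right (show 1 ≤ 2 by norm_num) this
  omega

end GolayLike

end General

/-- A dodecad of the standard code. -/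
def uqD : ℕ := 8245261

/-- The labels of the points of `uqD`. -/
def uqIn : List ℕ := [0, 2, 3, 12, 14, 15, 16, 18, 19, 20, 21, 22]

/-- The labels of the points outside `uqD`. -/
def uqOut : List ℕ := [1, 4, 5, 6, 7, 8, 9, 10, 11, 13, 17, 23]

/-- Words meeting `uqD` in the first point and one further point. -/
def uqW : List ℕ := [140167, 8398155, 8524371, 18147, 8421811, 69395, 272595, 657763, 1188915,
  10496547, 12717187]

/-- The generators in terms of `uqD`, the full word and `uqW`. -/
def uqComb : List (List ℕ) := [[0, 2, 3, 6, 9, 10, 11], [0, 2, 3, 8, 10, 11], [1, 3, 5, 7, 9, 11],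
  [1, 2, 5, 6, 7, 10], [4, 7, 9, 10], [5, 8, 10, 11], [1, 2, 3, 4, 7, 10], [4, 5, 6, 8, 9, 10],
  [6, 7, 8, 9, 10, 11], [1, 2, 3, 4, 6, 8], [4, 5, 6, 7, 10, 11], [1, 2, 3, 4, 5, 8, 9, 10]]

/-- The labelling of the two halves. -/
def uqPt : Fin 12 ⊕ Fin 12 → GolayPt
  | Sum.inl a => pt (uqIn.getD a.val 0)
  | Sum.inr b => pt (uqOut.getD b.val 0)

theorem uqPt_bijective : Function.Bijective uqPt := by decide +kernel

theorem uq_D : ∀ x, (uqD.testBit (idx (uqPt x))) = x.isLeft := by decide +kernel

theorem uq_W_in : ∀ k : Fin 11, ∀ a : Fin 12,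
    (uqW.getD k.val 0).testBit (idx (uqPt (Sum.inl a))) = decide (a = 0 ∨ a = k.succ) := by
  decide +kernel

theorem uq_W_out_zero : ∀ k : Fin 11,
    (uqW.getD k.val 0).testBit (idx (uqPt (Sum.inr 0))) = true := by decide +kernel

theorem uq_W_out : ∀ k : Fin 11, ∀ b : Fin 11,
    (uqW.getD k.val 0).testBit (idx (uqPt (Sum.inr b.succ))) =
      decide (b ∈ Biplane.bset (Biplane.model.getD k.val 0)) := by decide +kernel

theorem uqComb_eq : uqComb.map (fun l => l.foldr
    (fun i r => Nat.xor ((uqD :: 16777215 :: uqW).getD i 0) r) 0) = gens ∧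
    ∀ l ∈ uqComb, ∀ i ∈ l, i < 13 := by decide +kernel

section Main

variable {α : Type*} [Fintype α] [DecidableEq α]

/-- Uniqueness of the length-24 code. -/
theorem golay_unique {C : Submodule (ZMod 2) (α → ZMod 2)} (h : GolayLike C) :
    ∃ e : α ≃ GolayPt, ∀ w : GolayPt → ZMod 2, w ∈ golayCode ↔ (fun i => w (e i)) ∈ C := by
  classical
  obtain ⟨d, hd, hd12⟩ := h.exists_twelve
  set D := support₂ d with hD
  -- numbering of the two halves
  have hDc : Dᶜ.card = 12 := by rw [Finset.card_compl, h.card, hd12]
  let ed : Fin 12 ≃ D := (D.equivFinOfCardEq hd12).symm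
  let eo : Fin 12 ≃ ↥(Dᶜ) := (Dᶜ.equivFinOfCardEq hDc).symm
  let g : Fin 12 ⊕ Fin 12 → α := Sum.elim (fun a => (ed a).1) (fun b => (eo b).1)
  have hg : Function.Bijective g := by
    rw [Fintype.bijective_iff_injective_and_card]
    refine ⟨?_, by simp [h.card]⟩
    refine Function.Injective.sumElim (fun a b e => ed.injective (Subtype.ext e))
      (fun a b e => eo.injective (Subtype.ext e)) fun a b e => ?_
    have := (eo b).2
    rw [Finset.mem_compl, ← e] at this
    exact this (ed a).2
  -- words meeting `D` twice meet the other half in six points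
  have hsix : ∀ v ∈ C, (support₂ v ∩ D).card = 2 → (support₂ v \ D).card = 6 := by
    intro v hv h2
    have e := Finset.card_sdiff_add_card_inter (support₂ v) D
    have hb : (support₂ v \ D).card ≤ 12 := hDc ▸ Finset.card_le_card (fun x hx => by
      simp only [Finset.mem_sdiff, Finset.mem_compl] at hx ⊢; exact hx.2)
    have hw := h.weight hv
    have hw' := h.weight (Submodule.add_mem _ hv (Submodule.add_mem _ hd h.one_mem))
    have e' : (support₂ (v + (d + 1))).card =
        (support₂ v ∩ D).card + (12 - (support₂ v \ D).card) := by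
      have hsub : support₂ v \ D ⊆ Dᶜ := fun x hx => by
        simp only [Finset.mem_sdiff, Finset.mem_compl] at hx ⊢; exact hx.2
      rw [← hDc, ← Finset.card_sdiff_of_subset hsub, ← Finset.card_union_of_disjoint]
      · congr 1
        rw [support₂_add', support₂_add', support₂_one', ← hD]
        ext x
        simp only [Finset.mem_symmDiff, Finset.mem_union, Finset.mem_inter, Finset.mem_sdiff,
          Finset.mem_compl, Finset.mem_univ]
        tauto
      · rw [Finset.disjoint_left]
        intro x hx hx'
        simp only [Finset.mem_inter, Finset.mem_sdiff, Finset.mem_compl] at hx hx'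
        exact hx'.1 hx.2
    rw [e', h2] at hw'
    simp only [Finset.mem_insert, Finset.mem_singleton] at hw hw'
    omega
  -- every pattern on `D` minus a point occurs
  let res : C →ₗ[ZMod 2] (Fin 11 → ZMod 2) :=
    (LinearMap.funLeft (ZMod 2) (ZMod 2) fun i : Fin 11 => (ed i.succ).1).comp C.subtype
  have hker : LinearMap.ker res ≤
      Submodule.span (ZMod 2) {(⟨d + 1, Submodule.add_mem _ hd h.one_mem⟩ : C)} := by
    rintro ⟨v, hv⟩ hz
    rw [LinearMap.mem_ker] at hz
    have hz' : ∀ i : Fin 11, v (ed i.succ).1 = 0 := fun i => congrFun hz i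
    have hsub : support₂ v ∩ D ⊆ {(ed 0).1} := by
      intro x hx
      rw [Finset.mem_inter, mem_support₂'] at hx
      obtain ⟨a, ha⟩ := ed.surjective ⟨x, hx.2⟩
      rcases Fin.eq_zero_or_eq_succ a with rfl | ⟨i, rfl⟩
      · simp [ha]
      · exfalso
        have := hz' i
        rw [ha] at this
        exact one_ne_zero (hx.1.symm.trans this)
    have h0 : support₂ v ∩ D = ∅ := by
      have := Finset.card_le_card hsub
      have h2 := h.inter_even hv hd
      rw [Finset.card_singleton] at this
      rw [← hD] at h2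
      rw [← Finset.card_eq_zero]; omega
    rw [Submodule.mem_span_singleton]
    by_cases hv0 : v = 0
    · exact ⟨0, by simp [Subtype.ext_iff, hv0]⟩
    refine ⟨1, Subtype.ext ?_⟩
    rw [one_smul]
    refine support₂_inj' ?_
    have hc : support₂ (d + 1) = Dᶜ := by
      rw [support₂_add', support₂_one', ← hD]; ext x; simp [Finset.mem_symmDiff]
    have hsub' : support₂ v ⊆ Dᶜ := fun x hx => by
      rw [Finset.mem_compl]; intro hxD
      exact Finset.eq_empty_iff_forall_notMem.1 h0 x (Finset.mem_inter.2 ⟨hx, hxD⟩)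
    have hpos : (support₂ v).card ≠ 0 := fun e => hv0 (support₂_inj'
      (by rw [support₂_zero', Finset.card_eq_zero.1 e]))
    have hw := h.weight hv
    have hw' := h.weight (Submodule.add_mem _ hv (Submodule.add_mem _ hd h.one_mem))
    have hsd : (support₂ (v + (d + 1))).card = 12 - (support₂ v).card := by
      rw [support₂_add', hc, ← hDc, ← Finset.card_sdiff_of_subset hsub']
      congr 1
      ext x
      have := @hsub' x
      simp only [Finset.mem_symmDiff, Finset.mem_sdiff]
      tauto
    rw [hsd] at hw'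
    have := hDc ▸ Finset.card_le_card hsub'
    simp only [Finset.mem_insert, Finset.mem_singleton] at hw hw'
    show support₂ (d + 1) = support₂ v
    rw [hc]
    exact (Finset.eq_of_subset_of_card_le hsub' (by omega)).symm
  have hsurj : Function.Surjective res := by
    rw [← LinearMap.range_eq_top]
    apply Submodule.eq_top_of_finrank_eq
    have e := LinearMap.finrank_range_add_finrank_ker res
    have hk := (Submodule.finrank_mono hker).trans (finrank_span_le_card _)
    simp at hk
    have hr := Submodule.finrank_le (LinearMap.range res)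
    rw [h.dim] at e
    rw [Module.finrank_fin_fun] at hr ⊢
    omega
  -- a word for each point of `D` other than the first
  have hW : ∀ i : Fin 11, ∃ v ∈ C, (∀ a, v (ed a).1 = 1 ↔ a = 0 ∨ a = i.succ) ∧
      v (eo 0).1 = 1 := by
    intro i
    obtain ⟨⟨v, hv⟩, hres⟩ := hsurj (Pi.single i 1)
    have hsucc : ∀ j : Fin 11, v (ed j.succ).1 = if j = i then 1 else 0 := fun j => by
      have := congrFun hres j
      simpa [res, Pi.single_apply, LinearMap.funLeft_apply] using this
    have h0 : v (ed 0).1 = 1 := by
      by_contra hne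
      have heq : support₂ v ∩ D = {(ed i.succ).1} := by
        ext x
        rw [Finset.mem_inter, mem_support₂', Finset.mem_singleton]
        constructor
        · rintro ⟨hx, hxD⟩
          obtain ⟨a, ha⟩ := ed.surjective ⟨x, hxD⟩
          rcases Fin.eq_zero_or_eq_succ a with rfl | ⟨j, rfl⟩
          · rw [ha] at hne; exact absurd hx hne
          · have := hsucc j
            rw [ha] at this
            by_cases hji : j = i
            · rw [← hji, ha]
            · rw [if_neg hji] at this
              exact absurd (hx.symm.trans this) one_ne_zero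
        · rintro rfl
          exact ⟨by simp [hsucc], (ed _).2⟩
      have h2 := h.inter_even hv hd
      rw [← hD, heq, Finset.card_singleton] at h2
      omega
    have hin : ∀ a, v (ed a).1 = 1 ↔ a = 0 ∨ a = i.succ := by
      intro a
      rcases Fin.eq_zero_or_eq_succ a with rfl | ⟨j, rfl⟩
      · simp [h0]
      · simp [hsucc, Fin.succ_ne_zero]
    by_cases hq : v (eo 0).1 = 1
    · exact ⟨v, hv, hin, hq⟩
    refine ⟨v + (d + 1), Submodule.add_mem _ hv (Submodule.add_mem _ hd h.one_mem), fun a => ?_, ?_⟩
    · have : d (ed a).1 = 1 := mem_support₂'.1 (ed a).2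
      simp only [Pi.add_apply, Pi.one_apply, this]
      rw [show (1 : ZMod 2) + 1 = 0 from rfl, add_zero]
      exact hin a
    · have hnd : ¬ d (eo 0).1 = 1 := fun e => Finset.mem_compl.1 (eo 0).2 (mem_support₂'.2 e)
      simp only [Pi.add_apply, Pi.one_apply]
      generalize v (eo 0).1 = a at hq ⊢
      generalize d (eo 0).1 = b at hnd ⊢
      revert a b; decide
  choose w hwC hwin hwout using hW
  let R : Fin 11 → Finset (Fin 11) := fun i =>
    Finset.univ.filter fun x => w i (eo x.succ).1 = 1
  have hout : ∀ v : α → ZMod 2, (support₂ v \ D).card =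
      (if v (eo 0).1 = 1 then 1 else 0) +
        (Finset.univ.filter fun x : Fin 11 => v (eo x.succ).1 = 1).card := by
    intro v
    have e : (support₂ v \ D).card = (Finset.univ.filter fun b : Fin 12 => v (eo b).1 = 1).card := by
      symm
      refine Finset.card_bij (fun b _ => (eo b).1) ?_ ?_ ?_
      · intro b hb
        simp only [Finset.mem_filter, Finset.mem_univ, true_and] at hb
        exact Finset.mem_sdiff.2 ⟨mem_support₂'.2 hb, Finset.mem_compl.1 (eo b).2⟩
      · intro a _ b _ e; exact eo.injective (Subtype.ext e)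
      · intro x hx
        rw [Finset.mem_sdiff] at hx
        obtain ⟨b, hb⟩ := eo.surjective ⟨x, Finset.mem_compl.2 hx.2⟩
        exact ⟨b, by simp [hb, mem_support₂'.1 hx.1], by rw [hb]⟩
    rw [e, Finset.card_filter, Finset.card_filter, Fin.sum_univ_succ]
  have hin2 : ∀ (v : α → ZMod 2) (a b : Fin 12), a ≠ b →
      (∀ c, v (ed c).1 = 1 ↔ c = a ∨ c = b) → (support₂ v ∩ D).card = 2 := by
    intro v a b hab hc
    have : support₂ v ∩ D = {(ed a).1, (ed b).1} := by
      ext x
      rw [Finset.mem_inter, mem_support₂', Finset.mem_insert, Finset.mem_singleton]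
      constructor
      · rintro ⟨hx, hxD⟩
        obtain ⟨c, hc'⟩ := ed.surjective ⟨x, hxD⟩
        have hx' : v (ed c).1 = 1 := by rw [hc']; exact hx
        rcases (hc c).1 hx' with rfl | rfl <;> simp [hc']
      · rintro (rfl | rfl)
        · exact ⟨(hc a).2 (Or.inl rfl), (ed a).2⟩
        · exact ⟨(hc b).2 (Or.inr rfl), (ed b).2⟩
    rw [this, Finset.card_pair fun e => hab (ed.injective (Subtype.ext e))]
  have hR5 : ∀ i, (R i).card = 5 := fun i => by
    have := hsix _ (hwC i) (hin2 _ 0 i.succ (Fin.succ_ne_zero i).symm (hwin i))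
    rw [hout, if_pos (hwout i)] at this
    simp only [R]; omega
  have hR2 : ∀ i j, i ≠ j → (R i ∩ R j).card = 2 := by
    intro i j hij
    have hc : ∀ c, (w i + w j) (ed c).1 = 1 ↔ c = i.succ ∨ c = j.succ := by
      intro c
      have e1 := hwin i c
      have e2 := hwin j c
      have key : ∀ a b : ZMod 2, (a + b = 1) ↔ ¬ (a = 1 ↔ b = 1) := by decide
      rw [Pi.add_apply, key, e1, e2]
      rcases Fin.eq_zero_or_eq_succ c with rfl | ⟨k, rfl⟩
      · simp [(Fin.succ_ne_zero _).symm]
      · simp only [Fin.succ_ne_zero, false_or, Fin.succ_inj]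
        by_cases hki : k = i
        · subst hki; simp [hij]
        · simp [hki]
    have h6 := hsix _ (Submodule.add_mem _ (hwC i) (hwC j))
      (hin2 _ i.succ j.succ (fun e => hij (Fin.succ_injective _ e)) hc)
    rw [hout] at h6
    have hz : ¬ (w i + w j) (eo 0).1 = 1 := by
      simp only [Pi.add_apply, hwout]; decide
    rw [if_neg hz] at h6
    have e : (Finset.univ.filter fun x : Fin 11 => (w i + w j) (eo x.succ).1 = 1).card +
        2 * (R i ∩ R j).card = (R i).card + (R j).card := by
      simp only [R, ← Finset.filter_and, Finset.card_filter, Finset.mul_sum,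
        ← Finset.sum_add_distrib]
      refine Finset.sum_congr rfl fun x _ => ?_
      simp only [Pi.add_apply]
      rcases (show ∀ a : ZMod 2, a = 0 ∨ a = 1 by decide) (w i (eo x.succ).1) with ha | ha <;>
        rcases (show ∀ a : ZMod 2, a = 0 ∨ a = 1 by decide) (w j (eo x.succ).1) with hb | hb <;>
        simp [ha, hb] <;> decide
    rw [hR5, hR5] at e
    omega
  obtain ⟨σ, τ, hστ⟩ := Biplane.unique hR5 hR2
  let σ' : Equiv.Perm (Fin 12) := Equiv.Perm.decomposeFin.symm (0, σ)
  let τ' : Equiv.Perm (Fin 12) := Equiv.Perm.decomposeFin.symm (0, τ)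
  have hσ0 : σ' 0 = 0 := Equiv.Perm.decomposeFin_symm_apply_zero 0 σ
  have hτ0 : τ' 0 = 0 := Equiv.Perm.decomposeFin_symm_apply_zero 0 τ
  have hσs : ∀ i, σ' i.succ = (σ i).succ := fun i => by
    simp [σ', Equiv.Perm.decomposeFin_symm_apply_succ]
  have hτs : ∀ i, τ' i.succ = (τ i).succ := fun i => by
    simp [τ', Equiv.Perm.decomposeFin_symm_apply_succ]
  let e : α ≃ GolayPt := (Equiv.ofBijective g hg).symm.trans
    ((Equiv.sumCongr σ' τ').trans (Equiv.ofBijective uqPt uqPt_bijective))
  have heg : ∀ x, e (g x) = uqPt (Sum.map σ' τ' x) := fun x => by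
    simp only [e, Equiv.trans_apply, Equiv.ofBijective_symm_apply_apply, Equiv.ofBijective_apply,
      Equiv.sumCongr_apply]
  let Φ : (GolayPt → ZMod 2) ≃ₗ[ZMod 2] (α → ZMod 2) := LinearEquiv.funCongrLeft (ZMod 2) (ZMod 2) e
  have hΦ : ∀ v i, Φ v i = v (e i) := fun v i => rfl
  have hbit : ∀ (m : ℕ) (p : GolayPt), (mword m p = 1) ↔ m.testBit (idx p) = true := fun m p => by
    unfold mword; split_ifs with hb <;> simp [hb]
  have hDw : Φ (mword uqD) = d := by
    refine support₂_inj' (Finset.ext fun i => ?_)
    obtain ⟨x, rfl⟩ := hg.2 i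
    rw [mem_support₂', mem_support₂', hΦ, heg, hbit, uq_D]
    rcases x with a | b
    · simp [g, mem_support₂'.1 (ed a).2]
    · simp only [Sum.map_inr, Sum.isLeft_inr, Bool.false_eq_true, false_iff, g, Sum.elim_inr]
      exact fun e => Finset.mem_compl.1 (eo b).2 (mem_support₂'.2 e)
  have hWw : ∀ i : Fin 11, Φ (mword (uqW.getD (σ i).val 0)) = w i := by
    intro i
    refine support₂_inj' (Finset.ext fun y => ?_)
    obtain ⟨x, rfl⟩ := hg.2 y
    rw [mem_support₂', mem_support₂', hΦ, heg, hbit]
    rcases x with a | b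
    · simp only [Sum.map_inl, uq_W_in, decide_eq_true_eq, g, Sum.elim_inl, hwin]
      rw [← σ'.injective.eq_iff (a := a), hσ0, ← σ'.injective.eq_iff (a := a), hσs]
    · rcases Fin.eq_zero_or_eq_succ b with rfl | ⟨x, rfl⟩
      · simp only [Sum.map_inr, hτ0, uq_W_out_zero, g, Sum.elim_inr, hwout]
      · simp only [Sum.map_inr, hτs, uq_W_out, decide_eq_true_eq, g, Sum.elim_inr, ← hστ]
        rw [Finset.mem_image]
        simp [R]
  have hgen : ∀ k, k < 13 → Φ (mword ((uqD :: 16777215 :: uqW).getD k 0)) ∈ C := by
    intro k hk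
    rcases k with _ | _ | k
    · simpa [hDw] using hd
    · have : Φ (mword 16777215) = 1 := by rw [mword_full]; rfl
      simpa [this] using h.one_mem
    · obtain ⟨i, hi⟩ := σ.surjective ⟨k, by omega⟩
      have := hWw i
      rw [hi] at this
      show Φ (mword (uqW.getD k 0)) ∈ C
      rw [show Φ (mword (uqW.getD k 0)) = w i from this]
      exact hwC i
  have hcomb : ∀ l : List ℕ, (∀ i ∈ l, i < 13) →
      Φ (mword (l.foldr (fun i r => Nat.xor ((uqD :: 16777215 :: uqW).getD i 0) r) 0)) ∈ C := by
    intro l
    induction l with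
    | nil => intro _; simp [mword_zero]
    | cons i l ih =>
      intro hl
      simp only [List.foldr_cons]
      rw [show ∀ x y : ℕ, Nat.xor x y = x ^^^ y from fun _ _ => rfl, mword_xor, map_add]
      exact Submodule.add_mem _ (hgen i (hl i (by simp))) (ih fun j hj => hl j (by simp [hj]))
  have hsel : ∀ g ∈ gens, ∀ i k, Φ (mword (sel g i k)) ∈ C := by
    intro g hg i k
    rw [sel_eq]
    split_ifs
    · rw [← uqComb_eq.1, List.mem_map] at hg
      obtain ⟨l, hl, rfl⟩ := hg
      exact hcomb l (uqComb_eq.2 l hl)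
    · simp [mword_zero]
  have henc : ∀ k, Φ (mword (enc k)) ∈ C := by
    intro k
    simp only [enc, show ∀ x y : ℕ, Nat.xor x y = x ^^^ y from fun _ _ => rfl, mword_xor, map_add]
    repeat' apply Submodule.add_mem
    all_goals exact hsel _ (by decide) _ _
  have hle : golayCode.map (Φ : (GolayPt → ZMod 2) →ₗ[ZMod 2] (α → ZMod 2)) ≤ C := by
    rintro _ ⟨v, hv, rfl⟩
    obtain ⟨m, hm, rfl⟩ := mem_golayCode_iff.1 hv
    rw [isCode_iff] at hm
    rw [← hm]
    exact henc _
  have heq : golayCode.map (Φ : (GolayPt → ZMod 2) →ₗ[ZMod 2] (α → ZMod 2)) = C := by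
    refine Submodule.eq_of_le_of_finrank_eq hle ?_
    rw [LinearEquiv.finrank_map_eq, h.dim, Cfsg.Agent.S0358.result]
  refine ⟨e, fun v => ?_⟩
  rw [show (fun i => v (e i)) = Φ v from funext fun i => (hΦ v i).symm, ← heq,
    Submodule.mem_map_equiv, LinearEquiv.symm_apply_apply]

end Main

end CfsgLib.Golay
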